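import Mathlib.GroupTheory.Commutator.Basic
import Mathlib.GroupTheory.PGroup
import Mathlib.GroupTheory.Nilpotent

set_option autoImplicit false

open scoped commutatorElement

namespace CfsgLib.OddOrder.Stabilize

variable {G : Type*} [Group G]

theorem conj_pow_eq_mul_pow {a h c : G} (h1 : a * h * a⁻¹ = h * c) (hac : Commute a c) (n : ℕ) :
    a ^ n * h * (a ^ n)⁻¹ = h * c ^ n := by
  induction n with
  | zero => simp
  | succ n ih =>
    have e : a ^ (n + 1) * h * (a ^ (n + 1))⁻¹ = a * (a ^ n * h * (a ^ n)⁻¹) * a⁻¹ := by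
      rw [pow_succ']; group
    have e2 : a * c ^ n * a⁻¹ = c ^ n := by
      rw [(hac.pow_right n).eq]; simp
    rw [e, ih]
    calc a * (h * c ^ n) * a⁻¹ = a * h * a⁻¹ * (a * c ^ n * a⁻¹) := by group
      _ = h * c ^ (n + 1) := by rw [h1, e2, mul_assoc, ← pow_succ']

/-- An element centralizing `c` that moves `h` to `h * c` centralizes `h` if the orders are coprime. -/
theorem eq_one_of_conj_eq_mul {a h c : G} (h1 : a * h * a⁻¹ = h * c) (hac : Commute a c)
    (hcop : Nat.Coprime (orderOf a) (orderOf c)) : c = 1 := by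
  have h2 := conj_pow_eq_mul_pow h1 hac (orderOf a)
  rw [pow_orderOf_eq_one] at h2
  simp at h2
  have h3 : orderOf c ∣ orderOf a := orderOf_dvd_of_pow_eq_one h2
  exact orderOf_eq_one_iff.mp (Nat.eq_one_of_dvd_coprimes hcop h3 dvd_rfl)

theorem orderOf_dvd_card_of_mem [Finite G] {H : Subgroup G} {x : G} (hx : x ∈ H) :
    orderOf x ∣ Nat.card H := by
  simpa using (Subgroup.orderOf_coe (⟨x, hx⟩ : H)) ▸ orderOf_dvd_natCard (⟨x, hx⟩ : H)

/-- Coprime action: acting trivially on the commutator with the group implies acting trivially. -/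
theorem commutator_eq_bot_of_commutator_commutator [Finite G] {H A : Subgroup G}
    (hA : A ≤ Subgroup.normalizer (H : Set G)) (hcop : (Nat.card A).Coprime (Nat.card H))
    (h2 : ⁅⁅H, A⁆, A⁆ = ⊥) : ⁅H, A⁆ = ⊥ := by
  rw [eq_bot_iff, Subgroup.commutator_le]
  intro x hx a ha
  have hmem : ⁅x, a⁆ ∈ ⁅H, A⁆ := Subgroup.commutator_mem_commutator hx ha
  have hinH : ⁅x, a⁆ ∈ H := (Subgroup.le_normalizer_iff_commutator_le_left.mp hA) hmem
  have hc : Commute a ⁅x, a⁆ :=
    Subgroup.mem_centralizer_iff.mp ((Subgroup.commutator_eq_bot_iff_le_centralizer.mp h2) hmem) a ha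
  have h3 : a * x⁻¹ * a⁻¹ = x⁻¹ * ⁅x, a⁆ := by simp [commutatorElement_def, mul_assoc]
  have := eq_one_of_conj_eq_mul h3 hc
    ((hcop.coprime_dvd_left (orderOf_dvd_card_of_mem ha)).coprime_dvd_right (orderOf_dvd_card_of_mem hinH))
  simpa using this

/-- Thompson's P × Q lemma in coprime form: centralizing `C` with `C_H(C) ≤ C` gives centralizing `H`. -/
theorem le_centralizer_of_selfcentralizing [Finite G] {H A C : Subgroup G} [Group.IsNilpotent H]
    (hA : A ≤ Subgroup.normalizer (H : Set G)) (hcop : (Nat.card A).Coprime (Nat.card H))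
    (hCH : C ≤ H) (hCA : A ≤ Subgroup.centralizer (C : Set G))
    (hCC : H ⊓ Subgroup.centralizer (C : Set G) ≤ C) :
    A ≤ Subgroup.centralizer (H : Set G) := by
  set C' : Subgroup G := H ⊓ Subgroup.centralizer (A : Set G) with hC'
  have hCC' : C ≤ C' := le_inf hCH (Subgroup.le_centralizer_iff.mp hCA)
  have hC'C : H ⊓ Subgroup.centralizer (C' : Set G) ≤ C' :=
    le_trans (le_trans (inf_le_inf_left H (Subgroup.centralizer_le (by exact hCC'))) hCC) hCC'
  -- the normalizer of `C'` in `H` equals `C'`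
  have key : H ⊓ Subgroup.normalizer (C' : Set G) ≤ C' := by
    set N := H ⊓ Subgroup.normalizer (C' : Set G) with hN
    have hAC' : ⁅C', A⁆ = ⊥ :=
      Subgroup.commutator_eq_bot_iff_le_centralizer.mpr inf_le_right
    have hNC' : ⁅N, C'⁆ ≤ C' := Subgroup.le_normalizer_iff_commutator_le_right.mp inf_le_right
    have hAN : A ≤ Subgroup.normalizer (N : Set G) := by
      intro a ha
      have h1 := hA ha
      have h2 : a ∈ Subgroup.normalizer (C' : Set G) := by
        apply Subgroup.centralizer_le_normalizer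
        exact (Subgroup.le_centralizer_iff.mp inf_le_right : A ≤ Subgroup.centralizer (C' : Set G)) ha
      rw [Subgroup.mem_normalizer_iff] at h1 ⊢
      intro x
      simp only [hN, Subgroup.mem_inf, ← h1 x, and_congr_right_iff]
      intro _
      constructor
      · intro hx; exact mul_mem (mul_mem h2 hx) (inv_mem h2)
      · intro hx
        have := mul_mem (mul_mem (inv_mem h2) hx) h2
        simpa [mul_assoc] using this
    have e1 : ⁅⁅N, C'⁆, A⁆ = ⊥ := le_bot_iff.mp (le_trans (Subgroup.commutator_mono hNC' le_rfl) hAC'.le)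
    have e2 : ⁅⁅C', A⁆, N⁆ = ⊥ := by rw [hAC']; simp
    have e3 : ⁅⁅A, N⁆, C'⁆ = ⊥ := Subgroup.commutator_commutator_eq_bot_of_rotate e1 e2
    have hNA : ⁅N, A⁆ ≤ C' := by
      refine le_trans (le_inf ?_ ?_) hC'C
      · exact le_trans (Subgroup.le_normalizer_iff_commutator_le_left.mp hAN) inf_le_left
      · rw [Subgroup.commutator_comm]; exact Subgroup.commutator_eq_bot_iff_le_centralizer.mp e3
    have hcop' : (Nat.card A).Coprime (Nat.card N) :=
      hcop.coprime_dvd_right (Subgroup.card_dvd_of_le inf_le_left)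
    have := commutator_eq_bot_of_commutator_commutator hAN hcop'
      (le_bot_iff.mp (le_trans (Subgroup.commutator_mono hNA le_rfl) hAC'.le))
    exact le_inf inf_le_left (Subgroup.commutator_eq_bot_iff_le_centralizer.mp this)
  -- normalizer condition
  by_contra hne
  have hlt : C'.subgroupOf H < ⊤ := by
    rw [lt_top_iff_ne_top, Ne, Subgroup.subgroupOf_eq_top]
    intro hle
    exact hne (Subgroup.le_centralizer_iff.mp (le_trans hle inf_le_right))
  obtain ⟨x, hx1, hx2⟩ := SetLike.exists_of_lt (normalizerCondition_of_isNilpotent _ hlt)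
  apply hx2
  rw [Subgroup.mem_subgroupOf]
  apply key
  refine ⟨x.2, ?_⟩
  show (x : G) ∈ Subgroup.normalizer (C' : Set G)
  rw [Subgroup.mem_normalizer_iff]
  intro y
  rw [Subgroup.mem_normalizer_iff] at hx1
  constructor
  · intro hy
    exact (hx1 ⟨y, hy.1⟩).mp hy
  · intro hy
    have hyH : y ∈ H := by
      have : (x : G) * y * (x : G)⁻¹ ∈ H := hy.1
      exact (Subgroup.mul_mem_cancel_left H x.2).mp ((Subgroup.mul_mem_cancel_right H (inv_mem x.2)).mp this)
    exact (hx1 ⟨y, hyH⟩).mpr hy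

end CfsgLib.OddOrder.Stabilize
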