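import Cfsg.Prelude.Def_OddOrderLocal
import Cfsg.Agent.Lib.Solvable.Cores
import Cfsg.Agent.Lib.OddOrder.Stabilize
import Mathlib.GroupTheory.Complement
import Mathlib.GroupTheory.NoncommCoprod

set_option autoImplicit false

open scoped commutatorElement

namespace CfsgLib.OddOrder.Basic

variable {G : Type*} [Group G]

theorem orderOf_dvd_of_mk [Finite G] {N : Subgroup G} [N.Normal] {B : Subgroup G} (h : N ⊓ B = ⊥)
    {x : G} (hx : x ∈ B) : orderOf x ∣ N.index := by
  refine dvd_trans ?_ (orderOf_dvd_natCard (QuotientGroup.mk' N x))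
  apply orderOf_dvd_of_pow_eq_one
  rw [← Subgroup.mem_bot, ← h]
  refine ⟨?_, pow_mem hx _⟩
  show x ^ orderOf (QuotientGroup.mk' N x) ∈ N
  rw [← QuotientGroup.eq_one_iff]
  exact (map_pow (QuotientGroup.mk' N) x _).trans (pow_orderOf_eq_one _)

theorem commute_of_coprime_orderOf_aux (G : Type*) [Group G] [Group.IsNilpotent G] :
    ∀ a b : G, (orderOf a).Coprime (orderOf b) → Commute a b := by
  refine Group.nilpotent_center_quotient_ind
    (P := fun G _ _ => ∀ a b : G, (orderOf a).Coprime (orderOf b) → Commute a b) G ?_ ?_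
  · intro G _ _ a b _; exact Subsingleton.elim _ _
  · intro G _ _ ih a b h
    set q := QuotientGroup.mk' (Subgroup.center G) with hq
    have h1 := ih (q a) (q b) ((h.coprime_dvd_left (orderOf_map_dvd q a)).coprime_dvd_right (orderOf_map_dvd q b))
    set z := b⁻¹ * (a * b * a⁻¹) with hzdef
    have hz : z ∈ Subgroup.center G := by
      rw [← QuotientGroup.eq_one_iff]
      show q z = 1
      simp only [hzdef, map_mul, map_inv]
      rw [h1.eq]; group
    have e : a * b * a⁻¹ = b * z := by rw [hzdef]; group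
    have hc : ∀ y, Commute y z := fun y => Subgroup.mem_center_iff.mp hz y
    have hb : z ^ orderOf b = 1 := by
      have : (a * b * a⁻¹) ^ orderOf b = 1 := by simp [conj_pow, pow_orderOf_eq_one]
      rwa [e, (hc b).mul_pow, pow_orderOf_eq_one, one_mul] at this
    have := Stabilize.eq_one_of_conj_eq_mul e (hc a) (h.coprime_dvd_right (orderOf_dvd_of_pow_eq_one hb))
    rw [this, mul_one] at e
    exact mul_inv_eq_iff_eq_mul.mp e

/-- In a nilpotent group elements of coprime orders commute. -/
theorem commute_of_coprime_orderOf [Group.IsNilpotent G] {a b : G}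
    (h : (orderOf a).Coprime (orderOf b)) : Commute a b :=
  commute_of_coprime_orderOf_aux G a b h

theorem le_fittingHall {N : Subgroup G} [hn : N.Normal] (h1 : Group.IsNilpotent N)
    (h2 : (Nat.card N).Coprime N.index) : N ≤ Cfsg.fittingHall G :=
  le_sSup ⟨hn, h1, h2⟩

theorem fittingHall_le_fitting : Cfsg.fittingHall G ≤ Cfsg.fittingSubgroup G :=
  sSup_le fun _ hN => le_sSup ⟨hN.1, hN.2.1⟩

theorem fittingHall_isNilpotent [Finite G] : Group.IsNilpotent (Cfsg.fittingHall G) :=
  Group.nilpotent_of_mulEquiv (G := (Cfsg.fittingHall G).subgroupOf (Cfsg.fittingSubgroup G))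
    (Subgroup.subgroupOfEquivOfLe fittingHall_le_fitting)

theorem fittingHall_coprime [Finite G] :
    (Nat.card (Cfsg.fittingHall G)).Coprime (Cfsg.fittingHall G).index := by
  by_contra hn
  obtain ⟨p, hp, h1, h2⟩ := Nat.Prime.not_coprime_iff_dvd.mp hn
  haveI := Fact.mk hp
  apply hp.coprime_iff_not_dvd.mp ?_ h1
  refine (CfsgLib.Solvable.Cores.coprime_card_sSup p _ (fun N hN => hN.1) fun N hN => ?_).symm
  rw [Nat.coprime_comm, hp.coprime_iff_not_dvd]
  intro hd
  refine Nat.not_coprime_of_dvd_of_dvd hp.one_lt hd ?_ hN.2.2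
  exact h2.trans (Subgroup.index_dvd_of_le (le_sSup hN))

variable {M : Subgroup G}

theorem fittingHallOf_le : Cfsg.fittingHallOf M ≤ M := Subgroup.map_subtype_le _

theorem fittingOf_le : Cfsg.fittingOf M ≤ M := Subgroup.map_subtype_le _

theorem subgroupOf_fittingHallOf : (Cfsg.fittingHallOf M).subgroupOf M = Cfsg.fittingHall M :=
  Subgroup.comap_map_eq_self_of_injective M.subtype_injective _

theorem subgroupOf_fittingOf : (Cfsg.fittingOf M).subgroupOf M = Cfsg.fittingSubgroup M :=
  Subgroup.comap_map_eq_self_of_injective M.subtype_injective _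

theorem fittingHallOf_le_fittingOf : Cfsg.fittingHallOf M ≤ Cfsg.fittingOf M :=
  Subgroup.map_mono fittingHall_le_fitting

theorem fittingHallOf_isNilpotent [Finite G] : Group.IsNilpotent (Cfsg.fittingHallOf M) :=
  haveI := fittingHall_isNilpotent (G := M)
  Group.nilpotent_of_mulEquiv
    ((Cfsg.fittingHall M).equivMapOfInjective M.subtype M.subtype_injective)

theorem fittingOf_isNilpotent [Finite G] : Group.IsNilpotent (Cfsg.fittingOf M) :=
  haveI := CfsgLib.Solvable.Cores.fittingSubgroup_isNilpotent (G := M)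
  Group.nilpotent_of_mulEquiv
    ((Cfsg.fittingSubgroup M).equivMapOfInjective M.subtype M.subtype_injective)

theorem fittingHallOf_coprime [Finite G] :
    (Nat.card (Cfsg.fittingHallOf M)).Coprime ((Cfsg.fittingHallOf M).relIndex M) := by
  rw [Subgroup.relIndex, subgroupOf_fittingHallOf, Cfsg.fittingHallOf,
    Subgroup.card_map_of_injective M.subtype_injective]
  exact fittingHall_coprime

theorem le_normalizer_fittingHallOf :
    M ≤ Subgroup.normalizer (Cfsg.fittingHallOf M : Set G) := by
  refine (Subgroup.normal_subgroupOf_iff_le_normalizer fittingHallOf_le).mp ?_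
  rw [subgroupOf_fittingHallOf]; infer_instance

theorem le_normalizer_fittingOf [Finite G] :
    M ≤ Subgroup.normalizer (Cfsg.fittingOf M : Set G) := by
  refine (Subgroup.normal_subgroupOf_iff_le_normalizer fittingOf_le).mp ?_
  rw [subgroupOf_fittingOf]
  exact Subgroup.sSup_normal _ fun _ h => h.1

theorem commute_of_mem_nilpotent {K : Subgroup G} [Group.IsNilpotent K] {a b : G} (ha : a ∈ K)
    (hb : b ∈ K) (h : (orderOf a).Coprime (orderOf b)) : Commute a b :=
  congrArg Subtype.val (commute_of_coprime_orderOf (a := (⟨a, ha⟩ : K)) (b := ⟨b, hb⟩)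
    (by rwa [Subgroup.orderOf_mk, Subgroup.orderOf_mk])).eq

theorem le_fittingHallOf {N : Subgroup G} (hNM : N ≤ M) (hn : M ≤ Subgroup.normalizer (N : Set G))
    (h1 : Group.IsNilpotent N) (h2 : (Nat.card N).Coprime (N.relIndex M)) :
    N ≤ Cfsg.fittingHallOf M := by
  haveI := Subgroup.normal_subgroupOf_of_le_normalizer hn
  rw [← Subgroup.map_subgroupOf_eq_of_le hNM]
  refine Subgroup.map_mono (le_fittingHall (Group.nilpotent_of_mulEquiv (Subgroup.subgroupOfEquivOfLe hNM).symm) ?_)
  rwa [Nat.card_congr (Subgroup.subgroupOfEquivOfLe hNM).toEquiv]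

theorem isNilpotent_sup_of_commute {A B : Subgroup G} [Group.IsNilpotent A] [Group.IsNilpotent B]
    (h : ∀ a ∈ A, ∀ b ∈ B, a * b = b * a) : Group.IsNilpotent (A ⊔ B : Subgroup G) := by
  have hc : ∀ (a : A) (b : B), Commute (A.subtype a) (B.subtype b) := fun a b => h _ a.2 _ b.2
  let f := MonoidHom.noncommCoprod A.subtype B.subtype hc
  have hr : f.range = A ⊔ B := by
    rw [MonoidHom.noncommCoprod_range, Subgroup.range_subtype, Subgroup.range_subtype]
  rw [← hr]
  exact Group.nilpotent_of_surjective f.rangeRestrict f.rangeRestrict_surjective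

/-- `IsComplIn` gives a complement inside the subgroup. -/
theorem IsComplIn.isComplement' {A B : Subgroup G} (h : Cfsg.IsComplIn A B M) :
    Subgroup.IsComplement' (A.subgroupOf M) (B.subgroupOf M) := by
  obtain ⟨hA, hB, hd, hdec⟩ := h
  apply Subgroup.isComplement'_of_disjoint_and_mul_eq_univ
  · rw [disjoint_iff, eq_bot_iff]
    intro x hx
    have : (x : G) ∈ A ⊓ B := ⟨hx.1, hx.2⟩
    rw [hd, Subgroup.mem_bot] at this
    exact Subgroup.mem_bot.mpr (Subtype.ext this)
  · rw [Set.eq_univ_iff_forall]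
    intro x
    obtain ⟨a, ha, b, hb, e⟩ := hdec x x.2
    exact ⟨⟨a, hA ha⟩, ha, ⟨b, hB hb⟩, hb, Subtype.ext e.symm⟩

theorem IsComplIn.relIndex_right {A B : Subgroup G} (h : Cfsg.IsComplIn A B M) :
    B.relIndex M = Nat.card A := by
  rw [Subgroup.relIndex, (IsComplIn.isComplement' h).index_eq_card,
    Nat.card_congr (Subgroup.subgroupOfEquivOfLe h.1).toEquiv]

theorem IsComplIn.relIndex_left {A B : Subgroup G} (h : Cfsg.IsComplIn A B M) :
    A.relIndex M = Nat.card B := by
  rw [Subgroup.relIndex, (IsComplIn.isComplement' h).symm.index_eq_card,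
    Nat.card_congr (Subgroup.subgroupOfEquivOfLe h.2.1).toEquiv]

theorem IsComplIn.eq_sup {A B : Subgroup G} (h : Cfsg.IsComplIn A B M) : M = A ⊔ B := by
  refine le_antisymm (fun x hx => ?_) (sup_le h.1 h.2.1)
  obtain ⟨a, ha, b, hb, rfl⟩ := h.2.2.2 x hx
  exact Subgroup.mul_mem_sup ha hb

end CfsgLib.OddOrder.Basic
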