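import Cfsg.Agent.Lib.OddOrder.PLengthConfig
import Cfsg.Agent.Lib.Coprime.Hall
import Cfsg.Agent.Lib.Fusion.PSolvable
import Cfsg.Agent.Lib.PGroup.Frattini
import Cfsg.Prelude.Def_Local
import Mathlib

set_option autoImplicit false

/-!
`[H, R]` has `p`-length one when `R` is a complement of the normal Hall subgroup `H` in a solvable group of odd order
and a subgroup of prime order of `R` has a `Z`-group as centraliser in `H`.
-/

namespace CfsgLib.OddOrder.PLengthComplement

open scoped commutatorElement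

variable {G : Type*} [Group G] [Finite G] {p r : ℕ}

theorem of_coprime_index (h : (Cfsg.pPrimePCore p G).index.Coprime p) : Cfsg.PLengthLE p 1 G := by
  set U1 := (Cfsg.upperPSeries p G 1).1 with hU1
  haveI : U1.Normal := (Cfsg.upperPSeries p G 1).2
  have hO : U1 = Cfsg.pPrimeCore p G := by
    rw [hU1, Cfsg.upperPSeries]
    simp only [show Even 0 from ⟨0, rfl⟩, if_true]
    haveI : ((Cfsg.upperPSeries p G 0).1).Normal := (Cfsg.upperPSeries p G 0).2
    set q := QuotientGroup.mk' (Cfsg.upperPSeries p G 0).1 with hq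
    have hqs : Function.Surjective q := QuotientGroup.mk'_surjective _
    have hqi : Function.Injective q := (MonoidHom.ker_eq_bot_iff _).mp (QuotientGroup.ker_mk' _)
    refine le_antisymm (Solvable.Cores.le_pPrimeCore ?_) (Subgroup.map_le_iff_le_comap.mp ?_)
    · rw [← Subgroup.card_map_of_injective hqi, Subgroup.map_comap_eq_self_of_surjective hqs]
      exact Solvable.Cores.coprime_card_pPrimeCore p
    · haveI := (inferInstance : (Cfsg.pPrimeCore p G).Normal).map q hqs
      refine Solvable.Cores.le_pPrimeCore ?_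
      rw [Subgroup.card_map_of_injective hqi]
      exact Solvable.Cores.coprime_card_pPrimeCore p
  have key : ∀ (A B : Subgroup G) [A.Normal] [B.Normal], A = B →
      (Cfsg.pCore p (G ⧸ A)).comap (QuotientGroup.mk' A) = (Cfsg.pCore p (G ⧸ B)).comap (QuotientGroup.mk' B) := by
    intro A B _ _ h; subst h; rfl
  set U2 := (Cfsg.upperPSeries p G 2).1 with hU2
  haveI : U2.Normal := (Cfsg.upperPSeries p G 2).2
  have hU2e : U2 = Cfsg.pPrimePCore p G := by
    rw [hU2, Cfsg.upperPSeries]
    simp only [show ¬ Even 1 from Nat.not_even_one, if_false]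
    exact key _ _ hO
  show (Cfsg.upperPSeries p G 3).1 = ⊤
  rw [Cfsg.upperPSeries]
  simp only [show Even 2 from even_two, if_true]
  have htop : Cfsg.pPrimeCore p (G ⧸ U2) = ⊤ := top_le_iff.mp (Solvable.Cores.le_pPrimeCore (by
    rw [Subgroup.card_top, ← Subgroup.index_eq_card, hU2e]; exact h))
  rw [htop, Subgroup.comap_top]

theorem card_comap {H : Type*} [Group H] [Finite H] (f : G →* H) (hf : Function.Surjective f) (B : Subgroup H) :
    Nat.card (B.comap f) = Nat.card f.ker * Nat.card B := by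
  have hle : f.ker ≤ B.comap f := fun a ha => by
    rw [Subgroup.mem_comap, MonoidHom.mem_ker.mp ha]; exact one_mem _
  have h := Subgroup.relIndex_ker (K := B.comap f) f
  rw [Subgroup.map_comap_eq_self_of_surjective hf] at h
  rw [← h, Coprime.card_mul_relIndex' hle]

theorem zgroup_map {H : Type*} [Group H] [Finite H] (f : G →* H) (hf : Function.Surjective f) {K : Subgroup G}
    (hker : f.ker ≤ K) {x : G} (hcop : (orderOf x).Coprime (Nat.card f.ker))
    (hZ : IsZGroup ↥(K ⊓ Subgroup.centralizer ({x} : Set G))) :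
    IsZGroup ↥(K.map f ⊓ Subgroup.centralizer ({f x} : Set H)) := by
  have hle : K.map f ⊓ Subgroup.centralizer ({f x} : Set H) ≤ (K ⊓ Subgroup.centralizer ({x} : Set G)).map f := by
    rintro _ ⟨⟨k, hk, rfl⟩, hc⟩
    have hc' : Commute (f k) (f x) := Subgroup.mem_centralizer_singleton_iff.mp hc
    obtain ⟨n, hn, hnk⟩ := Coprime.exists_mul_mem_centralizer (A := Subgroup.zpowers x) (N := f.ker)
      (by rw [Subgroup.normalizer_eq_top]; exact le_top) (by rw [Nat.card_zpowers]; exact hcop)
      (Or.inl (Coprime.isSolvable_zpowers x)) (k := k) fun b hb => by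
        obtain ⟨i, rfl⟩ := Subgroup.mem_zpowers_iff.mp hb
        rw [MonoidHom.mem_ker, map_commutatorElement, map_zpow, commutatorElement_eq_one_iff_commute]
        exact hc'.symm.zpow_left i
    exact ⟨n * k, ⟨mul_mem (hker hn) hk, Subgroup.mem_centralizer_singleton_iff.mpr
      (Subgroup.mem_centralizer_iff.mp hnk x (Subgroup.mem_zpowers x)).symm⟩,
      by rw [map_mul, MonoidHom.mem_ker.mp hn, one_mul]⟩
  haveI := hZ
  haveI : IsZGroup ↥((K ⊓ Subgroup.centralizer ({x} : Set G)).map f) :=
    IsZGroup.of_surjective (f.subgroupMap_surjective _)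
  exact IsZGroup.of_injective (Subgroup.inclusion_injective hle)

variable [hp : Fact p.Prime] [hr : Fact r.Prime]

theorem core [Group.IsSolvable G] (hodd : Odd (Nat.card G)) (hp2 : p ≠ 2) (hr2 : r ≠ 2) (hpr : p ≠ r)
    {K R V : Subgroup G} [K.Normal] [V.Normal] {x : G} (hcop : (Nat.card R).Coprime (Nat.card K))
    (hrK : (Nat.card K).Coprime r) (hKR : ⁅K, R⁆ = K) (hxR : x ∈ R) (hxr : x ^ r = 1)
    (hZ : IsZGroup ↥(K ⊓ Subgroup.centralizer ({x} : Set G))) (hVK : V ≤ K)
    (hVe : Cfsg.IsElementaryAbelian p V) (hVC : K ⊓ Subgroup.centralizer (V : Set G) ≤ V)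
    (hVmax : ∀ N : Subgroup G, N.Normal → N ≤ K → IsPGroup p N → N ≤ V) :
    (V.relIndex K).Coprime p := by
  classical
  haveI := hVe.1
  have hVp := Fusion.Thompson.isPGroup_isEA hVe
  set f := QuotientGroup.mk' V with hf
  have hfs : Function.Surjective f := QuotientGroup.mk'_surjective V
  have hfk : f.ker = V := QuotientGroup.ker_mk' V
  haveI hKb : (K.map f).Normal := (inferInstance : K.Normal).map f hfs
  set Kb := K.map f with hKbdef
  set Ub := (Cfsg.pPrimeCore p Kb).map Kb.subtype with hUb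
  haveI hUbn : Ub.Normal := inferInstance
  have hUbK : Ub ≤ Kb := Subgroup.map_subtype_le _
  have hUbc : (Nat.card Ub).Coprime p := by
    rw [hUb, Subgroup.card_map_of_injective Kb.subtype_injective]
    exact Solvable.Cores.coprime_card_pPrimeCore p
  have hKbc : Kb.comap f = K := by rw [hKbdef, Subgroup.comap_map_eq, hfk, sup_eq_left.mpr hVK]
  set U1 := Ub.comap f with hU1
  haveI : U1.Normal := Subgroup.normal_comap f
  have hU1K : U1 ≤ K := (Subgroup.comap_mono hUbK).trans hKbc.le
  have hVU1 : V ≤ U1 := fun a ha => by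
    rw [← hfk, MonoidHom.mem_ker] at ha
    rw [hU1, Subgroup.mem_comap, ha]; exact one_mem _
  -- `O_p(K/V) = 1` and `O_{p'}(K/V)` contains its centraliser
  have hOp : Cfsg.pCore p Kb = ⊥ := by
    set B := (Cfsg.pCore p Kb).map Kb.subtype with hB
    haveI : B.Normal := inferInstance
    have hBp : IsPGroup p B := (Solvable.Cores.isPGroup_pCore p).map _
    have hM : B.comap f ≤ V := by
      refine hVmax _ (Subgroup.normal_comap f) ((Subgroup.comap_mono (Subgroup.map_subtype_le _)).trans hKbc.le) ?_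
      exact hBp.comap_of_ker_isPGroup f (by rw [hfk]; exact hVp)
    have hBbot : B = ⊥ := by
      rw [← Subgroup.map_comap_eq_self_of_surjective hfs B, Subgroup.map_eq_bot_iff, hfk]
      exact hM
    exact (Subgroup.map_eq_bot_iff_of_injective _ Kb.subtype_injective).mp hBbot
  have hUC : Kb ⊓ Subgroup.centralizer (Ub : Set (G ⧸ V)) ≤ Ub := by
    rintro k ⟨hk, hkc⟩
    have hfit : Cfsg.fittingSubgroup Kb ≤ Cfsg.pPrimeCore p Kb := by
      rw [Solvable.Cores.fittingSubgroup_eq_iSup_pCore]
      refine iSup_le fun l => ?_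
      rcases eq_or_ne (l : ℕ) p with h | h
      · rw [h, hOp]; exact bot_le
      · haveI := Fact.mk l.2
        exact Solvable.Cores.pCore_le_pPrimeCore hp.out h
    have h1 : (⟨k, hk⟩ : Kb) ∈ Subgroup.centralizer (Cfsg.fittingSubgroup Kb : Set Kb) := by
      refine Subgroup.mem_centralizer_iff.mpr fun y hy => Subtype.ext ?_
      exact Subgroup.mem_centralizer_iff.mp hkc y ⟨y, hfit hy, rfl⟩
    exact ⟨⟨k, hk⟩, hfit (Solvable.Cores.centralizer_fittingSubgroup_le h1), rfl⟩
  -- the goal, once `K ≤ U1`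
  suffices hKU : K ≤ U1 by
    have h := Subgroup.relIndex_ker (K := K) f
    rw [hfk] at h
    rw [h]
    exact hUbc.coprime_dvd_left (Subgroup.card_dvd_of_le (Subgroup.map_le_iff_le_comap.mpr hKU))
  set g := QuotientGroup.mk' U1 with hg
  have hgs : Function.Surjective g := QuotientGroup.mk'_surjective U1
  have hgk : g.ker = U1 := QuotientGroup.ker_mk' U1
  haveI hKc : (K.map g).Normal := (inferInstance : K.Normal).map g hgs
  set Kc := K.map g with hKcdef
  have hKcc : Kc.comap g = K := by rw [hKcdef, Subgroup.comap_map_eq, hgk, sup_eq_left.mpr hU1K]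
  have hOc : Cfsg.pPrimeCore p Kc = ⊥ := by
    set B := (Cfsg.pPrimeCore p Kc).map Kc.subtype with hB
    haveI : B.Normal := inferInstance
    haveI : (B.comap g).Normal := Subgroup.normal_comap g
    haveI : ((B.comap g).map f).Normal := (inferInstance : (B.comap g).Normal).map f hfs
    have hMK : B.comap g ≤ K := (Subgroup.comap_mono (Subgroup.map_subtype_le _)).trans hKcc.le
    have hU1M : U1 ≤ B.comap g := fun a ha => by
      rw [← hgk, MonoidHom.mem_ker] at ha
      rw [Subgroup.mem_comap, ha]; exact one_mem _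
    have hc : (Nat.card ((B.comap g).map f)).Coprime p := by
      have e1 := Subgroup.relIndex_ker (K := B.comap g) f
      rw [hfk] at e1
      rw [← e1, ← Subgroup.relIndex_mul_relIndex V U1 _ hVU1 hU1M]
      refine Nat.Coprime.mul_left ?_ ?_
      · have e2 := Subgroup.relIndex_ker (K := U1) f
        rw [hfk, Subgroup.map_comap_eq_self_of_surjective hfs] at e2
        rw [e2]; exact hUbc
      · have e3 := Subgroup.relIndex_ker (K := B.comap g) g
        rw [hgk, Subgroup.map_comap_eq_self_of_surjective hgs] at e3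
        rw [e3, hB, Subgroup.card_map_of_injective Kc.subtype_injective]
        exact Solvable.Cores.coprime_card_pPrimeCore p
    have hle : (B.comap g).map f ≤ Ub := by
      haveI : (((B.comap g).map f).subgroupOf Kb).Normal := inferInstance
      intro a ha
      refine ⟨⟨a, Subgroup.map_mono hMK ha⟩, Solvable.Cores.le_pPrimeCore
        (N := ((B.comap g).map f).subgroupOf Kb) ?_ ha, rfl⟩
      rwa [Nat.card_congr (Subgroup.subgroupOfEquivOfLe (Subgroup.map_mono hMK)).toEquiv]
    have hBbot : B = ⊥ := by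
      rw [← Subgroup.map_comap_eq_self_of_surjective hgs B, Subgroup.map_eq_bot_iff, hgk]
      exact Subgroup.map_le_iff_le_comap.mp hle
    exact (Subgroup.map_eq_bot_iff_of_injective _ Kc.subtype_injective).mp hBbot
  set Lc := (Cfsg.pCore p Kc).map Kc.subtype with hLc
  haveI : Lc.Normal := inferInstance
  have hLcK : Lc ≤ Kc := Subgroup.map_subtype_le _
  have hLcp : IsPGroup p Lc := (Solvable.Cores.isPGroup_pCore p).map _
  have hLcC : Kc ⊓ Subgroup.centralizer (Lc : Set (G ⧸ U1)) ≤ Lc := by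
    rintro k ⟨hk, hkc⟩
    refine ⟨⟨k, hk⟩, Fusion.PSolvable.centralizer_pCore_le Fusion.PSolvable.psolvable_of_solvable hOc
      (Subgroup.mem_centralizer_iff.mpr fun y hy => Subtype.ext ?_), rfl⟩
    exact Subgroup.mem_centralizer_iff.mp hkc y ⟨y, hy, rfl⟩
  set L1 := Lc.comap g with hL1
  haveI : L1.Normal := Subgroup.normal_comap g
  have hL1K : L1 ≤ K := (Subgroup.comap_mono hLcK).trans hKcc.le
  have hU1L : U1 ≤ L1 := fun a ha => by
    rw [← hgk, MonoidHom.mem_ker] at ha
    rw [hL1, Subgroup.mem_comap, ha]; exact one_mem _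
  by_cases hLR : ⁅L1, R⁆ ≤ U1
  · -- `R` centralises `O_p(K/U1)`
    have hRL : ⁅Lc, R.map g⁆ = ⊥ := by
      rw [← Subgroup.map_comap_eq_self_of_surjective hgs Lc, ← Subgroup.map_commutator, Subgroup.map_eq_bot_iff, hgk]
      exact hLR
    have h1 : ⁅⁅R.map g, Lc⁆, Kc⁆ = ⊥ := by
      rw [Subgroup.commutator_comm (R.map g) Lc, hRL, Subgroup.commutator_bot_left]
    have h2 : ⁅⁅Lc, Kc⁆, R.map g⁆ = ⊥ :=
      eq_bot_iff.mpr ((Subgroup.commutator_mono (Subgroup.commutator_le_left Lc Kc) le_rfl).trans hRL.le)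
    have h3 := Subgroup.commutator_commutator_eq_bot_of_rotate h1 h2
    rw [hKcdef, ← Subgroup.map_commutator, hKR] at h3
    have hKL : Kc ≤ Lc := (le_inf le_rfl (Subgroup.commutator_eq_bot_iff_le_centralizer.mp h3)).trans hLcC
    have hK1 : K ≤ L1 := hKcc.ge.trans (Subgroup.comap_mono hKL)
    exact hKR.ge.trans ((Subgroup.commutator_mono hK1 le_rfl).trans hLR)
  exfalso
  -- an invariant complement of `V` in `U1`
  have hRn : ∀ N : Subgroup G, N.Normal → R ≤ Subgroup.normalizer (N : Set G) := fun N hN => by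
    rw [Subgroup.normalizer_eq_top]; exact le_top
  have hcopU1 : (Nat.card R).Coprime (Nat.card U1) := hcop.coprime_dvd_right (Subgroup.card_dvd_of_le hU1K)
  obtain ⟨U0, ⟨hU0U1, hU0π, hU0i⟩, hRU0⟩ :=
    Coprime.exists_invariant_hall {l : ℕ | l ≠ p} (hRn U1 inferInstance) hcopU1 inferInstance
  have hU0p : (Nat.card U0).Coprime p := ((hp.out.coprime_iff_not_dvd).mpr fun h => hU0π p hp.out h rfl).symm
  have hVU0 : V ⊓ U0 = ⊥ := by
    refine (Subgroup.disjoint_of_coprime_natCard ?_).eq_bot
    obtain ⟨j, hj⟩ := hVp.exists_card_eq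
    rw [hj]; exact (hU0p.symm).pow_left j
  have hcardU1 : Nat.card U1 = Nat.card V * Nat.card Ub := by rw [hU1, card_comap f hfs, hfk]
  have hU0V : U1 = V ⊔ U0 := by
    refine (Subgroup.eq_of_le_of_card_ge (sup_le hVU1 hU0U1) ?_).symm
    have h := Fusion.Thompson.card_sup_mul_card_inf (N := V) (K := U0)
      (by rw [Subgroup.normalizer_eq_top]; exact le_top)
    rw [hVU0, Subgroup.card_bot, mul_one] at h
    rw [h, hcardU1]
    refine Nat.mul_le_mul_left _ (Nat.le_of_dvd Nat.card_pos ?_)
    have h0 := Coprime.card_mul_relIndex' hU0U1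
    rw [hcardU1] at h0
    have hcr : (Nat.card Ub).Coprime (U0.relIndex U1) := by
      refine Nat.coprime_of_dvd fun l hl h1 h2 => hU0i l hl (fun he => ?_) h2
      exact hp.out.not_dvd_one (by
        have := Nat.dvd_gcd (he ▸ h1) (dvd_refl p)
        rwa [hUbc.gcd_eq_one] at this)
    exact hcr.dvd_of_dvd_mul_right ⟨Nat.card V, by rw [h0, mul_comm]⟩
  have hfU0 : U0.map f = Ub := by
    have h1 : U1.map f = Ub := Subgroup.map_comap_eq_self_of_surjective hfs Ub
    rw [hU0V, Subgroup.map_sup] at h1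
    rwa [(Subgroup.map_eq_bot_iff V).mpr (by rw [hfk]), bot_sup_eq] at h1
  set C0 := L1 ⊓ Subgroup.normalizer (U0 : Set G) with hC0
  have hL1C : L1 ≤ V ⊔ C0 := by
    intro a ha
    have hH : U0.map (MulAut.conj a).toMonoidHom ≤ U1 := by
      rintro _ ⟨u, hu, rfl⟩
      exact (inferInstance : U1.Normal).conj_mem u (hU0U1 hu) a
    obtain ⟨n, hn, he⟩ := Coprime.exists_conj_eq (N := V) (H := U0.map (MulAut.conj a).toMonoidHom) (K := U0)
      (Or.inl inferInstance) (by rw [Subgroup.normalizer_eq_top]; exact le_top)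
      (by rw [Subgroup.normalizer_eq_top]; exact le_top) (hU0V ▸ hH) (Coprime.card_conj_map U0 a) (by
        rw [Coprime.card_conj_map]
        obtain ⟨j, hj⟩ := hVp.exists_card_eq
        rw [hj]; exact (hU0p.symm).pow_left j)
    rw [Coprime.conj_map_map] at he
    have hna : n * a ∈ C0 := Subgroup.mem_inf.mpr ⟨mul_mem (hU1L (hVU1 hn)) ha,
      Subgroup.mem_normalizer_iff_map_conj_eq.mpr he⟩
    have := Subgroup.mul_mem_sup (inv_mem hn) hna
    simpa using this
  have hC0K : C0 ≤ K := inf_le_left.trans hL1K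
  have hRC0 : R ≤ Subgroup.normalizer (C0 : Set G) :=
    PLengthConfig.normalizes_inf (hRn L1 inferInstance) (hRU0.trans Subgroup.le_normalizer)
  obtain ⟨S, hS⟩ := Coprime.exists_invariant_sylow hRC0 (hcop.coprime_dvd_right (Subgroup.card_dvd_of_le hC0K))
    (Or.inr inferInstance) p
  set P0 := (S : Subgroup C0).map C0.subtype with hP0
  have hP0C : P0 ≤ C0 := Subgroup.map_subtype_le _
  have hP0p : IsPGroup p P0 := S.isPGroup'.map _
  have hgP0 : P0.map g = Lc := by
    refine le_antisymm ((Subgroup.map_mono (hP0C.trans inf_le_left)).trans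
      (Subgroup.map_comap_eq_self_of_surjective hgs Lc).le) ?_
    have hLC0 : Lc ≤ C0.map g := by
      rw [← Subgroup.map_comap_eq_self_of_surjective hgs Lc]
      refine (Subgroup.map_mono hL1C).trans ?_
      rw [Subgroup.map_sup, (Subgroup.map_eq_bot_iff V).mpr (by rw [hgk]; exact hVU1), bot_sup_eq]
    have hC0p : IsPGroup p (C0.map g) := hLcp.to_le ((Subgroup.map_mono inf_le_left).trans
      (Subgroup.map_comap_eq_self_of_surjective hgs Lc).le)
    have hsurj : Function.Surjective (g.subgroupMap C0) := g.subgroupMap_surjective C0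
    have htop : ((S.mapSurjective hsurj : Sylow p (C0.map g)) : Subgroup (C0.map g)) = ⊤ :=
      ((S.mapSurjective hsurj).is_maximal' (hC0p.to_subgroup ⊤) le_top).symm
    rw [Sylow.coe_mapSurjective] at htop
    intro a ha
    obtain ⟨y, hy, hye⟩ := htop.ge (Subgroup.mem_top (⟨a, hLC0 ha⟩ : C0.map g))
    exact ⟨y, ⟨y, hy, rfl⟩, congrArg Subtype.val hye⟩
  set P := ⁅P0, R⁆ with hP
  have hPP0 : P ≤ P0 := Subgroup.le_normalizer_iff_commutator_le_left.mp hS
  have hPU1 : ¬ P ≤ U1 := by
    intro h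
    refine hLR (hgk ▸ (Subgroup.map_eq_bot_iff ⁅L1, R⁆).mp ?_)
    rw [Subgroup.map_commutator, hL1, Subgroup.map_comap_eq_self_of_surjective hgs, ← hgP0, ← Subgroup.map_commutator,
      Subgroup.map_eq_bot_iff, hgk]
    exact h
  have hPK : P ≤ K := hPP0.trans (hP0C.trans hC0K)
  have hPn : P ≤ Subgroup.normalizer (U0 : Set G) := hPP0.trans (hP0C.trans inf_le_right)
  set W := ⁅V, U0⁆ with hW
  have hU0V' : U0 ≤ Subgroup.normalizer (V : Set G) := by rw [Subgroup.normalizer_eq_top]; exact le_top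
  have hWV : W ≤ V := Subgroup.le_normalizer_iff_commutator_le_left.mp hU0V'
  have hWe : Cfsg.IsElementaryAbelian p W :=
    ⟨Subgroup.le_centralizer_iff_isMulCommutative.mp
      ((hWV.trans V.le_centralizer).trans (Subgroup.centralizer_le hWV)), fun k hk => hVe.2 k (hWV hk)⟩
  have hcopU0 : (Nat.card U0).Coprime (Nat.card V) := by
    obtain ⟨j, hj⟩ := hVp.exists_card_eq
    rw [hj]; exact hU0p.pow_right j
  have hWC : (V ⊓ Subgroup.centralizer (U0 : Set G)) ⊓ W = ⊥ :=
    Coprime.centralizer_inf_commutator_eq_bot hU0V' hcopU0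
  have hVn : ∀ A : Subgroup G, A ≤ Subgroup.normalizer (V : Set G) := fun A => by
    rw [Subgroup.normalizer_eq_top]; exact le_top
  have hWP : W ⊓ P = ⊥ := by
    refine eq_bot_iff.mpr ((le_inf (le_inf (inf_le_left.trans hWV) ?_) inf_le_left).trans hWC.le)
    rintro v ⟨hv, hvP⟩
    refine Subgroup.mem_centralizer_iff.mpr fun u hu => ?_
    have h1 : ⁅v, u⁆ ∈ U0 := by
      rw [commutatorElement_def]
      exact mul_mem ((Subgroup.mem_normalizer_iff.mp (hPn hvP) u).mp hu) (inv_mem hu)
    have h2 : ⁅v, u⁆ ∈ V := by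
      rw [commutatorElement_def, show v * u * v⁻¹ * u⁻¹ = v * (u * v⁻¹ * u⁻¹) by group]
      exact mul_mem (hWV hv) ((inferInstance : V.Normal).conj_mem _ (inv_mem (hWV hv)) u)
    have h3 : ⁅v, u⁆ ∈ V ⊓ U0 := ⟨h2, h1⟩
    rw [hVU0, Subgroup.mem_bot] at h3
    exact (commutatorElement_eq_one_iff_commute.mp h3).eq.symm
  have hcopP0 : (Nat.card R).Coprime (Nat.card P0) :=
    hcop.coprime_dvd_right (Subgroup.card_dvd_of_le (hP0C.trans hC0K))
  have c : PLengthConfig.Config p r K W P R x := by
    refine ⟨hp2, hr2, hpr, hWe, hWV.trans hVK, hPK, PLengthConfig.normalizes_commutator (hVn P) hPn,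
      PLengthConfig.normalizes_commutator (hVn R) hRU0,
      PLengthConfig.normalizes_commutator hS Subgroup.le_normalizer, hP0p.to_le hPP0, ?_, hWP, hxR, hxr, hcop, hrK, hZ⟩
    exact Coprime.commutator_commutator_self hS hcopP0 (Or.inr inferInstance)
  refine c.false_of_faithful hodd (hU0U1.trans hU1K)
    (PLengthConfig.normalizes_commutator (hVn U0) Subgroup.le_normalizer) hPn hRU0 hU0p ?_ ?_
  · refine eq_bot_iff.mpr fun u hu => ?_
    have hsup := Coprime.commutator_sup_centralizer hU0V' hcopU0 (Or.inr inferInstance)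
    have hV : V ≤ Subgroup.centralizer ({u} : Set G) := by
      rw [← hsup]
      exact sup_le (fun v hv => Subgroup.mem_centralizer_singleton_iff.mpr (Subgroup.mem_centralizer_iff.mp hu.2 v hv))
        fun v hv => Subgroup.mem_centralizer_singleton_iff.mpr (Subgroup.mem_centralizer_iff.mp hv.2 u hu.1).symm
    rw [← hVU0]
    exact ⟨hVC ⟨hU1K (hU0U1 hu.1), Subgroup.mem_centralizer_iff.mpr fun v hv =>
      Subgroup.mem_centralizer_singleton_iff.mp (hV hv)⟩, hu.1⟩
  · intro h
    refine hPU1 fun a ha => ?_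
    refine Subgroup.mem_comap.mpr (hUC ⟨Subgroup.mem_map_of_mem f (hPK ha), Subgroup.mem_centralizer_iff.mpr ?_⟩)
    rw [← hfU0]
    rintro _ ⟨u, hu, rfl⟩
    rw [← map_mul, ← map_mul, Subgroup.mem_centralizer_iff.mp (h ha) u hu]

theorem reduced [Group.IsSolvable G] (hodd : Odd (Nat.card G)) (hp2 : p ≠ 2) (hr2 : r ≠ 2) (hpr : p ≠ r)
    {K R : Subgroup G} [K.Normal] {x : G} (hcop : (Nat.card R).Coprime (Nat.card K))
    (hrK : (Nat.card K).Coprime r) (hKR : ⁅K, R⁆ = K) (hxR : x ∈ R) (hxr : x ^ r = 1)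
    (hZ : IsZGroup ↥(K ⊓ Subgroup.centralizer ({x} : Set G))) (hO : Cfsg.pPrimeCore p K = ⊥) :
    (Cfsg.pCore p K).index.Coprime p := by
  set V0 := (Cfsg.pCore p K).map K.subtype with hV0
  haveI : V0.Normal := inferInstance
  have hV0K : V0 ≤ K := Subgroup.map_subtype_le _
  have hV0p : IsPGroup p V0 := (Solvable.Cores.isPGroup_pCore p).map _
  haveI : (frattini V0).Characteristic := inferInstance
  set F := (frattini V0).map V0.subtype with hF
  haveI : F.Normal := inferInstance
  have hFV : F ≤ V0 := Subgroup.map_subtype_le _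
  have hFK : F ≤ K := hFV.trans hV0K
  set f := QuotientGroup.mk' F with hf
  have hfs : Function.Surjective f := QuotientGroup.mk'_surjective F
  have hfk : f.ker = F := QuotientGroup.ker_mk' F
  haveI : (K.map f).Normal := (inferInstance : K.Normal).map f hfs
  haveI : (V0.map f).Normal := (inferInstance : V0.Normal).map f hfs
  haveI : Group.IsSolvable (G ⧸ F) := Group.isSolvable_of_surjective hfs
  have hkerF : ∀ a : V0, a ∈ frattini V0 → f a = 1 := fun a ha => (QuotientGroup.eq_one_iff _).mpr ⟨a, ha, rfl⟩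
  have hVe : Cfsg.IsElementaryAbelian p (V0.map f) := by
    refine ⟨Solvable.Basic.isMulCommutative_subgroup_iff.mpr ?_, ?_⟩
    · rintro _ ⟨a, ha, rfl⟩ _ ⟨b, hb, rfl⟩
      refine (commutatorElement_eq_one_iff_commute.mp ?_).eq
      rw [← map_commutatorElement]
      have := hkerF _ (PGroup.Frattini.commutatorElement_mem_frattini hV0p ⟨a, ha⟩ ⟨b, hb⟩)
      simpa [commutatorElement_def] using this
    · rintro _ ⟨a, ha, rfl⟩
      rw [← map_pow]
      exact hkerF _ (PGroup.Frattini.pow_mem_frattini hV0p ⟨a, ha⟩)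
  have hFker : IsPGroup p f.ker := by rw [hfk]; exact hV0p.to_le hFV
  have hmaxG : ∀ N : Subgroup G, N.Normal → N ≤ K → IsPGroup p N → N ≤ V0 := by
    intro N hN hNK hNp a ha
    exact ⟨⟨a, hNK ha⟩, Solvable.Cores.le_pCore (N := N.subgroupOf K)
      (hNp.comap_of_injective K.subtype K.subtype_injective) ha, rfl⟩
  have hKc : (K.map f).comap f = K := by rw [Subgroup.comap_map_eq, hfk, sup_eq_left.mpr hFK]
  have hVC : K.map f ⊓ Subgroup.centralizer (V0.map f : Set (G ⧸ F)) ≤ V0.map f := by
    set M := (K.map f ⊓ Subgroup.centralizer (V0.map f : Set (G ⧸ F))).comap f with hM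
    have hMn : M.Normal := Subgroup.normal_comap f
    have hMK : M ≤ K := (Subgroup.comap_mono inf_le_left).trans hKc.le
    suffices hMp : IsPGroup p M by
      rw [← Subgroup.map_comap_eq_self_of_surjective hfs (K.map f ⊓ _)]
      exact Subgroup.map_mono (hmaxG M hMn hMK hMp)
    refine IsPGroup.of_card (Nat.eq_prime_pow_of_unique_prime_dvd Nat.card_pos.ne' fun {l} hl hld => ?_)
    by_contra hlp
    haveI := Fact.mk hl
    obtain ⟨y, hy⟩ := exists_prime_orderOf_dvd_card' (G := M) l hld
    rw [← Subgroup.orderOf_coe] at hy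
    have hyK : (y : G) ∈ K := hMK y.2
    have hco : ∀ {n : ℕ}, (orderOf (y : G)).Coprime (p ^ n) := fun {n} => by
      rw [hy]; exact ((Nat.coprime_primes hl hp.out).mpr hlp).pow_right n
    have hcen : Subgroup.zpowers (y : G) ≤ Subgroup.centralizer (V0 : Set G) := by
      refine Coprime.le_centralizer_of_frattini (by rw [Subgroup.normalizer_eq_top]; exact le_top) ?_ ?_
      · obtain ⟨n, hn⟩ := (hV0p.to_subgroup (frattini V0)).exists_card_eq
        rw [Nat.card_zpowers, hn]; exact hco
      · intro a ha k hk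
        obtain ⟨i, rfl⟩ := Subgroup.mem_zpowers_iff.mp ha
        show ⁅(y : G) ^ i, k⁆ ∈ F
        rw [← hfk, MonoidHom.mem_ker, map_commutatorElement, map_zpow, commutatorElement_eq_one_iff_commute]
        exact (show Commute (f y) (f k) from
          (Subgroup.mem_centralizer_iff.mp (Subgroup.mem_comap.mp y.2).2 (f k) ⟨k, hk, rfl⟩).symm).zpow_left i
    have hyp : (⟨y, hyK⟩ : K) ∈ Cfsg.pCore p K :=
      Fusion.PSolvable.centralizer_pCore_le Fusion.PSolvable.psolvable_of_solvable hO
        (Subgroup.mem_centralizer_iff.mpr fun k hk => Subtype.ext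
          (Subgroup.mem_centralizer_iff.mp (hcen (Subgroup.mem_zpowers _)) k ⟨k, hk, rfl⟩))
    obtain ⟨n, hn⟩ := IsPGroup.iff_orderOf.mp (Solvable.Cores.isPGroup_pCore (G := K) p) ⟨_, hyp⟩
    rw [Subgroup.orderOf_mk, Subgroup.orderOf_mk] at hn
    have := hco (n := n)
    rw [← hn, Nat.coprime_self, hy] at this
    exact hl.ne_one this
  have hcopF : (orderOf x).Coprime (Nat.card f.ker) := by
    rw [hfk]
    exact (hcop.coprime_dvd_left (Subgroup.orderOf_dvd_natCard R hxR)).coprime_dvd_right (Subgroup.card_dvd_of_le hFK)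
  have hoddF : Odd (Nat.card (G ⧸ F)) := hodd.of_dvd_nat (Subgroup.card_quotient_dvd_card F)
  have h := core (G := G ⧸ F) hoddF hp2 hr2 hpr (K := K.map f) (R := R.map f) (V := V0.map f) (x := f x)
    ((hcop.coprime_dvd_left (Subgroup.card_map_dvd _ f)).coprime_dvd_right (Subgroup.card_map_dvd _ f))
    (hrK.coprime_dvd_left (Subgroup.card_map_dvd _ f)) (by rw [← Subgroup.map_commutator, hKR])
    (Subgroup.mem_map_of_mem f hxR) (by rw [← map_pow, hxr, map_one]) (zgroup_map f hfs (hfk.trans_le hFK) hcopF hZ)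
    (Subgroup.map_mono hV0K) hVe hVC fun N hN hNK hNp => by
      rw [← Subgroup.map_comap_eq_self_of_surjective hfs N]
      exact Subgroup.map_mono (hmaxG _ (hN.comap f) ((Subgroup.comap_mono hNK).trans hKc.le)
        (hNp.comap_of_ker_isPGroup f hFker))
  rw [← Subgroup.relIndex_comap, Subgroup.comap_map_eq, hfk, sup_eq_left.mpr hFV] at h
  rwa [Subgroup.relIndex, hV0, Subgroup.subgroupOf, Subgroup.comap_map_eq_self_of_injective K.subtype_injective] at h

omit hp hr in
theorem main [Group.IsSolvable G] (hodd : Odd (Nat.card G)) (H R R₀ : Subgroup G) [H.Normal]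
    (hHall : (Nat.card H).Coprime H.index) (hR : Subgroup.IsComplement' H R) (hR₀ : R₀ ≤ R)
    (hR₀p : (Nat.card R₀).Prime) (hZ : IsZGroup ↥(H ⊓ Subgroup.centralizer (R₀ : Set G))) [hp : Fact p.Prime] :
    Cfsg.PLengthLE p 1 ↥⁅H, R⁆ := by
  refine of_coprime_index ?_
  set K := ⁅H, R⁆ with hK
  by_cases hpK : p ∣ Nat.card K
  swap
  · exact ((hp.out.coprime_iff_not_dvd.mpr fun h => hpK (h.trans (Subgroup.index_dvd_card _)))).symm
  haveI hKn : K.Normal := by
    refine Subgroup.normalizer_eq_top_iff.mp (top_le_iff.mp ?_)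
    rw [← hR.sup_eq_top]
    exact sup_le (Subgroup.normalizer_commutator_ge_left H R) (Subgroup.normalizer_commutator_ge_right H R)
  have hKH : K ≤ H := Subgroup.commutator_le_left H R
  have hcopH : (Nat.card R).Coprime (Nat.card H) := by
    rw [← hR.symm.index_eq_card]; exact hHall.symm
  have hcop : (Nat.card R).Coprime (Nat.card K) := hcopH.coprime_dvd_right (Subgroup.card_dvd_of_le hKH)
  haveI hrF : Fact (Nat.card R₀).Prime := ⟨hR₀p⟩
  have hrK : (Nat.card K).Coprime (Nat.card R₀) :=
    (hcop.coprime_dvd_left (Subgroup.card_dvd_of_le hR₀)).symm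
  haveI := isCyclic_of_prime_card (α := R₀) (p := Nat.card R₀) rfl
  obtain ⟨g, hg⟩ := IsCyclic.exists_generator (α := R₀)
  have hxr : (g : G) ^ Nat.card R₀ = 1 := by
    rw [← SubmonoidClass.coe_pow, pow_card_eq_one', Subgroup.coe_one]
  have hZK : IsZGroup ↥(K ⊓ Subgroup.centralizer ({(g : G)} : Set G)) := by
    haveI := hZ
    have hle : K ⊓ Subgroup.centralizer ({(g : G)} : Set G) ≤ H ⊓ Subgroup.centralizer (R₀ : Set G) := by
      refine inf_le_inf hKH fun a ha => ?_
      refine Subgroup.mem_centralizer_iff.mpr fun b hb => ?_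
      obtain ⟨i, hi⟩ := Subgroup.mem_zpowers_iff.mp (hg ⟨b, hb⟩)
      have hb' : (g : G) ^ i = b := congrArg Subtype.val hi
      rw [← hb']
      have hc : Commute (g : G) a := (Subgroup.mem_centralizer_singleton_iff.mp ha).symm
      exact hc.zpow_left i
    exact IsZGroup.of_injective (Subgroup.inclusion_injective hle)
  have hKR : ⁅K, R⁆ = K :=
    Coprime.commutator_commutator_self (by rw [Subgroup.normalizer_eq_top]; exact le_top) hcopH (Or.inr inferInstance)
  have hp2 : p ≠ 2 := fun h => by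
    have := hodd.of_dvd_nat (hpK.trans (Subgroup.card_subgroup_dvd_card K))
    rw [h] at this; exact absurd this (by decide)
  have hr2 : Nat.card R₀ ≠ 2 := fun h => by
    have := hodd.of_dvd_nat (Subgroup.card_subgroup_dvd_card R₀)
    rw [h] at this; exact absurd this (by decide)
  have hpr : p ≠ Nat.card R₀ := fun h => hp.out.ne_one (Nat.dvd_one.mp (by
    rw [← hrK.gcd_eq_one]; exact Nat.dvd_gcd hpK (h ▸ dvd_rfl)))
  -- reduce modulo `O_{p'}(K)`
  set N := (Cfsg.pPrimeCore p K).map K.subtype with hN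
  haveI : N.Normal := inferInstance
  have hNK : N ≤ K := Subgroup.map_subtype_le _
  set f := QuotientGroup.mk' N with hf
  have hfs : Function.Surjective f := QuotientGroup.mk'_surjective N
  have hfk : f.ker = N := QuotientGroup.ker_mk' N
  haveI : (K.map f).Normal := hKn.map f hfs
  haveI : Group.IsSolvable (G ⧸ N) := Group.isSolvable_of_surjective hfs
  have hOb : Cfsg.pPrimeCore p (K.map f) = ⊥ := by
    set B := (Cfsg.pPrimeCore p (K.map f)).map (K.map f).subtype with hB
    haveI : B.Normal := inferInstance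
    haveI : (B.comap f).Normal := Subgroup.normal_comap f
    have hMK : B.comap f ≤ K := (Subgroup.comap_mono (Subgroup.map_subtype_le _)).trans (le_of_eq (by
      rw [Subgroup.comap_map_eq, hfk, sup_eq_left.mpr hNK]))
    have hc : (Nat.card (B.comap f)).Coprime p := by
      have cN : Nat.card f.ker = Nat.card (Cfsg.pPrimeCore p K) :=
        (congrArg (fun S : Subgroup G => Nat.card S) hfk).trans (Subgroup.card_map_of_injective K.subtype_injective)
      have cB : Nat.card B = Nat.card (Cfsg.pPrimeCore p (K.map f)) :=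
        Subgroup.card_map_of_injective (K.map f).subtype_injective
      rw [card_comap f hfs, cN, cB]
      exact Nat.Coprime.mul_left (Solvable.Cores.coprime_card_pPrimeCore p) (Solvable.Cores.coprime_card_pPrimeCore p)
    have hle : B.comap f ≤ N := fun a ha =>
      ⟨⟨a, hMK ha⟩, Solvable.Cores.le_pPrimeCore (N := (B.comap f).subgroupOf K) (by
        rwa [Nat.card_congr (Subgroup.subgroupOfEquivOfLe hMK).toEquiv]) ha, rfl⟩
    have hBbot : B = ⊥ := by
      rw [← Subgroup.map_comap_eq_self_of_surjective hfs B, Subgroup.map_eq_bot_iff, hfk]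
      exact hle
    exact (Subgroup.map_eq_bot_iff_of_injective _ (K.map f).subtype_injective).mp hBbot
  have hcopN : (orderOf (g : G)).Coprime (Nat.card f.ker) := by
    rw [hfk]
    exact (hcop.coprime_dvd_left (Subgroup.orderOf_dvd_natCard R (hR₀ g.2))).coprime_dvd_right
      (Subgroup.card_dvd_of_le hNK)
  have h := reduced (G := G ⧸ N) (r := Nat.card R₀) (hodd.of_dvd_nat (Subgroup.card_quotient_dvd_card N)) hp2 hr2 hpr
    (K := K.map f) (R := R.map f) (x := f g)
    ((hcop.coprime_dvd_left (Subgroup.card_map_dvd _ f)).coprime_dvd_right (Subgroup.card_map_dvd _ f))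
    (hrK.coprime_dvd_left (Subgroup.card_map_dvd _ f)) (by rw [← Subgroup.map_commutator, hKR])
    (Subgroup.mem_map_of_mem f (hR₀ g.2)) (by rw [← map_pow, hxr, map_one])
    (zgroup_map f hfs (hfk.trans_le hNK) hcopN hZK) hOb
  have hkerK : (f.subgroupMap K).ker = Cfsg.pPrimeCore p K := by
    ext a
    rw [MonoidHom.mem_ker, ← Subgroup.mem_map_iff_mem K.subtype_injective (K := Cfsg.pPrimeCore p K)]
    have e2 : f (a : G) = 1 ↔ (a : G) ∈ N := QuotientGroup.eq_one_iff _
    exact Subtype.ext_iff.trans e2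
  let e : (↥K ⧸ Cfsg.pPrimeCore p K) ≃* ↥(K.map f) :=
    (QuotientGroup.quotientMulEquivOfEq hkerK.symm).trans
      (QuotientGroup.quotientKerEquivOfSurjective _ (f.subgroupMap_surjective K))
  rw [Cfsg.pPrimePCore, Subgroup.index_comap_of_surjective _ (QuotientGroup.mk'_surjective _)]
  rw [← Solvable.Cores.map_pCore e p] at h
  rwa [show ((Cfsg.pCore p (↥K ⧸ Cfsg.pPrimeCore p K)).map e.toMonoidHom).index =
    (Cfsg.pCore p (↥K ⧸ Cfsg.pPrimeCore p K)).index from Subgroup.index_map_equiv _ e] at h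

end CfsgLib.OddOrder.PLengthComplement
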