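import Cfsg.Agent.Lib.Fusion.PSolvable
import Cfsg.Agent.Lib.Solvable.Cores
import Cfsg.Agent.Lib.Components.PComponents

set_option autoImplicit false

/-!
Groups of `p`-length at most one.
-/

namespace CfsgLib.OddOrder.PLengthOne

open scoped Pointwise

variable {G : Type*} [Group G] [Finite G] {p : ℕ} [Fact p.Prime]

theorem coprime_index_of_pLength (h : Cfsg.PLengthLE p 1 G) :
    ((Cfsg.upperPSeries p G 2).1.index).Coprime p := by
  have h2 : (Cfsg.upperPSeries p G 3).1 = ⊤ := h
  rw [Cfsg.upperPSeries] at h2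
  simp only [show Even 2 from even_two, if_true] at h2
  set U := (Cfsg.upperPSeries p G 2).1 with hU
  haveI : U.Normal := (Cfsg.upperPSeries p G 2).2
  have h3 := congrArg (Subgroup.map (QuotientGroup.mk' U)) h2
  rw [Subgroup.map_comap_eq_self_of_surjective (QuotientGroup.mk'_surjective U),
    Subgroup.map_top_of_surjective _ (QuotientGroup.mk'_surjective U)] at h3
  have hc := Solvable.Cores.coprime_card_pPrimeCore (G := G ⧸ U) p
  rwa [h3, Subgroup.card_top, ← Subgroup.index_eq_card] at hc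

theorem upper_two_eq (S : Sylow p G) (h : Cfsg.PLengthLE p 1 G) :
    (Cfsg.upperPSeries p G 2).1 = Cfsg.pPrimeCore p G ⊔ (S : Subgroup G) := by
  set U1 := (Cfsg.upperPSeries p G 1).1 with hU1
  haveI : U1.Normal := (Cfsg.upperPSeries p G 1).2
  have hO : U1 = Cfsg.pPrimeCore p G := by
    rw [hU1, Cfsg.upperPSeries]
    simp only [show Even 0 from ⟨0, rfl⟩, if_true]
    haveI : ((Cfsg.upperPSeries p G 0).1).Normal := (Cfsg.upperPSeries p G 0).2
    set q := QuotientGroup.mk' (Cfsg.upperPSeries p G 0).1 with hq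
    have hqs : Function.Surjective q := QuotientGroup.mk'_surjective _
    have hqi : Function.Injective q := (MonoidHom.ker_eq_bot_iff _).mp (QuotientGroup.ker_mk' _)
    refine le_antisymm (Solvable.Cores.le_pPrimeCore ?_) (Subgroup.map_le_iff_le_comap.mp ?_)
    · rw [← Subgroup.card_map_of_injective hqi, Subgroup.map_comap_eq_self_of_surjective hqs]
      exact Solvable.Cores.coprime_card_pPrimeCore p
    · haveI := (inferInstance : (Cfsg.pPrimeCore p G).Normal).map q hqs
      refine Solvable.Cores.le_pPrimeCore ?_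
      rw [Subgroup.card_map_of_injective hqi]
      exact Solvable.Cores.coprime_card_pPrimeCore p
  set U2 := (Cfsg.upperPSeries p G 2).1 with hU2
  haveI : U2.Normal := (Cfsg.upperPSeries p G 2).2
  have hU2e : U2 = (Cfsg.pCore p (G ⧸ U1)).comap (QuotientGroup.mk' U1) := by
    rw [hU2, Cfsg.upperPSeries]
    simp only [show ¬ Even 1 from Nat.not_even_one, if_false]
    rfl
  have hSU : (S : Subgroup G) ≤ U2 := by
    intro s hs
    obtain ⟨k, hk⟩ := S.isPGroup' ⟨s, hs⟩
    have h1 : orderOf (QuotientGroup.mk' U2 s) ∣ p ^ k := by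
      refine orderOf_dvd_of_pow_eq_one ?_
      rw [← map_pow, show s ^ p ^ k = 1 from congrArg Subtype.val hk, map_one]
    have h2 : orderOf (QuotientGroup.mk' U2 s) ∣ U2.index := by
      rw [Subgroup.index_eq_card]; exact orderOf_dvd_natCard _
    exact (QuotientGroup.eq_one_iff s).mp (orderOf_eq_one_iff.mp
      (Nat.eq_one_of_dvd_coprimes (((coprime_index_of_pLength h).symm).pow_left k) h1 h2))
  have hOU : Cfsg.pPrimeCore p G ≤ U2 := by
    rw [hU2e, ← hO]
    exact fun x hx => by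
      rw [Subgroup.mem_comap, QuotientGroup.mk'_apply, (QuotientGroup.eq_one_iff x).mpr hx]
      exact one_mem _
  refine le_antisymm ?_ (sup_le hOU hSU)
  have hqs := QuotientGroup.mk'_surjective U1
  have hle : Cfsg.pCore p (G ⧸ U1) ≤ (S : Subgroup G).map (QuotientGroup.mk' U1) := by
    have := Solvable.Cores.pCore_le_sylow (S.mapSurjective hqs)
    rwa [Sylow.coe_mapSurjective] at this
  rw [hU2e]
  refine (Subgroup.comap_mono hle).trans ?_
  rw [Subgroup.comap_map_eq, QuotientGroup.ker_mk', hO, sup_comm]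

theorem normal_sup (S : Sylow p G) (h : Cfsg.PLengthLE p 1 G) :
    (Cfsg.pPrimeCore p G ⊔ (S : Subgroup G)).Normal := by
  rw [← upper_two_eq S h]; exact (Cfsg.upperPSeries p G 2).2

theorem le_sup_of_isPGroup (S : Sylow p G) (h : Cfsg.PLengthLE p 1 G) {Q : Subgroup G}
    (hQ : IsPGroup p Q) : Q ≤ Cfsg.pPrimeCore p G ⊔ (S : Subgroup G) := by
  obtain ⟨T, hT⟩ := hQ.exists_le_sylow
  obtain ⟨g, hg⟩ := MulAction.exists_smul_eq G S T
  intro x hx
  have hxT : x ∈ ((g • S : Sylow p G) : Subgroup G) := by rw [hg]; exact hT hx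
  rw [Sylow.coe_subgroup_smul] at hxT
  obtain ⟨y, hy, rfl⟩ := hxT
  exact (normal_sup S h).conj_mem y (Subgroup.mem_sup_right hy) g

/-- The Frattini factorisation `G = N_G(S) O_{p'}(G)`. -/
theorem exists_decomp (S : Sylow p G) (h : Cfsg.PLengthLE p 1 G) (x : G) :
    ∃ n ∈ Subgroup.normalizer ((S : Subgroup G) : Set G), ∃ o ∈ Cfsg.pPrimeCore p G, n * o = x := by
  haveI := normal_sup S h
  have hle : (S : Subgroup G) ≤ Cfsg.pPrimeCore p G ⊔ (S : Subgroup G) := le_sup_right
  have hFr := Sylow.normalizer_sup_eq_top' S hle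
  have : Subgroup.normalizer ((S : Subgroup G) : Set G) ⊔ Cfsg.pPrimeCore p G = ⊤ := by
    refine eq_top_iff.mpr ?_
    rw [← hFr]
    exact sup_le le_sup_left (sup_le le_sup_right (Subgroup.le_normalizer.trans le_sup_left))
  have hx : x ∈ ((Subgroup.normalizer ((S : Subgroup G) : Set G) ⊔ Cfsg.pPrimeCore p G : Subgroup G) : Set G) := by
    rw [this]; exact Subgroup.mem_top x
  rw [Subgroup.mul_normal] at hx
  obtain ⟨n, hn, o, ho, rfl⟩ := Set.mem_mul.mp hx
  exact ⟨n, hn, o, ho, rfl⟩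

theorem eq_one_of_mem (S : Sylow p G) {x : G} (hx : x ∈ (S : Subgroup G))
    (hxO : x ∈ Cfsg.pPrimeCore p G) : x = 1 := by
  obtain ⟨k, hk⟩ := S.isPGroup' ⟨x, hx⟩
  exact orderOf_eq_one_iff.mp (Nat.eq_one_of_dvd_coprimes
    (((Solvable.Cores.coprime_card_pPrimeCore (G := G) p).symm).pow_left k)
    (orderOf_dvd_of_pow_eq_one (congrArg Subtype.val hk)) (Subgroup.orderOf_dvd_natCard _ hxO))

/-- An element of `O_{p'}` conjugating `y ∈ S` into `S` centralises it. -/
theorem commute_of_conj_mem (S : Sylow p G) {o y : G} (ho : o ∈ Cfsg.pPrimeCore p G)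
    (hy : y ∈ (S : Subgroup G)) (hoy : o * y * o⁻¹ ∈ (S : Subgroup G)) : o * y = y * o := by
  have h1 : o * y * o⁻¹ * y⁻¹ ∈ Cfsg.pPrimeCore p G := by
    have := mul_mem ho ((inferInstance : (Cfsg.pPrimeCore p G).Normal).conj_mem o⁻¹ (inv_mem ho) y)
    simpa [mul_assoc] using this
  have := eq_one_of_mem S (mul_mem hoy (inv_mem hy)) h1
  rwa [mul_inv_eq_one, mul_inv_eq_iff_eq_mul] at this

end CfsgLib.OddOrder.PLengthOne
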