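import Cfsg.Agent.Lib.OddOrder.Stabilize
import Cfsg.Agent.Lib.Coprime.SchurZassenhaus
import Mathlib.GroupTheory.Sylow
import Mathlib.Data.Nat.Choose.Dvd

set_option autoImplicit false

open scoped commutatorElement

namespace CfsgLib.OddOrder.OmegaLemma

variable {G : Type*} [Group G]

theorem pow_mul_comm_central {u v z : G} (h : v * u = z * (u * v)) (hzv : Commute z v) (hzu : Commute z u)
    (n : ℕ) : v ^ n * u = z ^ n * (u * v ^ n) := by
  induction n with
  | zero => simp
  | succ n ih =>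
    calc v ^ (n + 1) * u = v * (v ^ n * u) := by rw [pow_succ']; group
      _ = v * (z ^ n * (u * v ^ n)) := by rw [ih]
      _ = z ^ n * ((v * u) * v ^ n) := by rw [← mul_assoc, (hzv.symm.pow_right n).eq]; group
      _ = z ^ n * (z * (u * v) * v ^ n) := by rw [h]
      _ = z ^ (n + 1) * (u * v ^ (n + 1)) := by rw [pow_succ z, pow_succ' v]; group

theorem mul_pow_central {u v z : G} (h : v * u = z * (u * v)) (hzv : Commute z v) (hzu : Commute z u)
    (n : ℕ) : (u * v) ^ n = z ^ n.choose 2 * (u ^ n * v ^ n) := by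
  induction n with
  | zero => simp
  | succ n ih =>
    have e : (n + 1).choose 2 = n.choose 2 + n := by
      rw [Nat.choose_succ_succ', Nat.choose_one_right]; ring
    calc (u * v) ^ (n + 1) = z ^ n.choose 2 * (u ^ n * v ^ n) * (u * v) := by rw [pow_succ, ih]
      _ = z ^ n.choose 2 * (u ^ n * (v ^ n * u) * v) := by group
      _ = z ^ n.choose 2 * (u ^ n * (z ^ n * (u * v ^ n)) * v) := by rw [pow_mul_comm_central h hzv hzu]
      _ = z ^ n.choose 2 * ((u ^ n * z ^ n) * u * v ^ n * v) := by group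
      _ = z ^ n.choose 2 * ((z ^ n * u ^ n) * u * v ^ n * v) := by rw [((hzu.pow_left n).pow_right n).eq]
      _ = z ^ (n.choose 2 + n) * (u ^ (n + 1) * v ^ (n + 1)) := by
          rw [pow_add, pow_succ u, pow_succ v]; group
      _ = z ^ (n + 1).choose 2 * (u ^ (n + 1) * v ^ (n + 1)) := by rw [e]

theorem exists_normal_proper {H : Type*} [Group H] [Finite H] [Nontrivial H] {p : ℕ} [Fact p.Prime]
    (hH : IsPGroup p H) :
    ∃ M : Subgroup H, M ≠ ⊤ ∧ M.Normal ∧ (∀ x : H, x ^ p ∈ M) ∧ commutator H ≤ M := by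
  obtain ⟨M, hM, -⟩ := (eq_top_or_exists_le_coatom (⊥ : Subgroup H)).resolve_left bot_ne_top
  haveI := hH.isNilpotent
  haveI hn : M.Normal := Subgroup.NormalizerCondition.normal_of_coatom M Group.normalizerCondition_of_isNilpotent hM
  have hQ := hH.to_quotient M
  have hindex : Nat.card (H ⧸ M) = p := by
    haveI : Nontrivial (H ⧸ M) := QuotientGroup.nontrivial_iff.mpr hM.1
    obtain ⟨y, hy⟩ := exists_prime_orderOf_dvd_card' (G := H ⧸ M) p
      (hQ.card_eq_or_dvd.resolve_left (Finite.one_lt_card (α := H ⧸ M)).ne')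
    have htop : Subgroup.zpowers y = ⊤ := by
      have h1 := (hM.2 ((Subgroup.zpowers y).comap (QuotientGroup.mk' M)))
      by_contra hne
      have hle : M ≤ (Subgroup.zpowers y).comap (QuotientGroup.mk' M) := QuotientGroup.le_comap_mk' M _
      rcases eq_or_lt_of_le hle with he | hlt
      · have hy1 : y ≠ 1 := fun h => (Fact.out : p.Prime).ne_one (by rw [← hy, h, orderOf_one])
        obtain ⟨x, rfl⟩ := QuotientGroup.mk'_surjective M y
        exact hy1 ((QuotientGroup.eq_one_iff x).mpr (he ▸ Subgroup.mem_zpowers _))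
      · apply hne
        rw [← Subgroup.map_comap_eq_self_of_surjective (QuotientGroup.mk'_surjective M) (Subgroup.zpowers y),
          h1 hlt, Subgroup.map_top_of_surjective _ (QuotientGroup.mk'_surjective M)]
    rw [← hy, ← Nat.card_zpowers, htop, Subgroup.card_top]
  refine ⟨M, hM.1, hn, fun x => ?_, ?_⟩
  · rw [← QuotientGroup.eq_one_iff, QuotientGroup.mk_pow, ← hindex]
    exact pow_card_eq_one'
  · haveI := isCyclic_of_prime_card hindex
    letI := IsCyclic.commGroup (α := H ⧸ M)
    exact Subgroup.Normal.quotient_commutative_iff_commutator_le.mp inferInstance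

/-- For odd `p`, a coprime group fixing all elements of order `p` of a `p`-group centralizes it. -/
theorem le_centralizer_of_fix_orderP [Finite G] {p : ℕ} [Fact p.Prime] (hp : p ≠ 2) {H A : Subgroup G}
    (hR : IsPGroup p H) (hA : A ≤ Subgroup.normalizer (H : Set G)) (hcop : (Nat.card A).Coprime p)
    (hfix : ∀ x ∈ H, x ^ p = 1 → A ≤ Subgroup.centralizer ({x} : Set G)) :
    A ≤ Subgroup.centralizer (H : Set G) := by
  induction hk : Nat.card H using Nat.strong_induction_on generalizing H with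
  | _ k ih =>
    subst hk
    have hcopH : (Nat.card A).Coprime (Nat.card H) := by
      obtain ⟨n, hn⟩ := IsPGroup.iff_card.mp hR
      rw [hn]; exact Nat.Coprime.pow_right _ hcop
    rcases eq_or_ne H ⊥ with rfl | hH1
    · intro a _
      rw [Subgroup.mem_centralizer_iff]
      intro x hx
      rw [Subgroup.coe_bot, Set.mem_singleton_iff] at hx
      simp [hx]
    have hA' : ∀ a ∈ A, ∀ x ∈ H, a * x * a⁻¹ ∈ H := Subgroup.le_normalizer_iff.mp hA
    have IH : ∀ D : Subgroup G, D ≤ H → D ≠ H → A ≤ Subgroup.normalizer (D : Set G) → ⁅D, A⁆ = ⊥ := by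
      intro D hD hne hAD
      rw [Subgroup.commutator_comm, Subgroup.commutator_eq_bot_iff_le_centralizer]
      exact ih _ (lt_of_not_ge fun h => hne (Subgroup.eq_of_le_of_card_ge hD h)) (hR.to_le hD) hAD
        (fun x hx => hfix x (hD hx)) rfl
    have fin : ⁅⁅H, A⁆, A⁆ = ⊥ → A ≤ Subgroup.centralizer (H : Set G) := fun h2 => by
      rw [← Subgroup.commutator_eq_bot_iff_le_centralizer, Subgroup.commutator_comm]
      exact Stabilize.commutator_eq_bot_of_commutator_commutator hA hcopH h2
    have hKH : ⁅H, A⁆ ≤ H := Subgroup.le_normalizer_iff_commutator_le_left.mp hA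
    by_cases hK : ⁅H, A⁆ = H
    swap
    · exact fin (IH _ hKH hK (Subgroup.normalizer_commutator_ge_right H A))
    haveI : Nontrivial H := (Subgroup.nontrivial_iff_ne_bot H).mpr hH1
    obtain ⟨M, hMtop, hMn, hMp, hMc⟩ := exists_normal_proper hR
    set D := ⁅H, H⁆ with hD
    set P1 : Subgroup G := D ⊔ Subgroup.closure ((fun x => x ^ p) '' (H : Set G)) with hP1
    have hP1M : P1 ≤ M.map H.subtype := by
      refine sup_le ?_ ((Subgroup.closure_le _).mpr ?_)
      · rw [hD, ← Subgroup.map_subtype_commutator]; exact Subgroup.map_mono hMc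
      · rintro _ ⟨x, hx, rfl⟩
        exact ⟨⟨x, hx⟩ ^ p, hMp _, rfl⟩
    have hP1H : P1 ≤ H := le_trans hP1M (Subgroup.map_subtype_le M)
    have hP1ne : P1 ≠ H := fun h => hMtop (by
      apply Subgroup.map_injective H.subtype_injective
      refine le_antisymm (Subgroup.map_mono le_top) ?_
      rw [← MonoidHom.range_eq_map, Subgroup.range_subtype]
      exact le_trans h.ge hP1M)
    have hmapH : ∀ a ∈ A, H.map (MulAut.conj a).toMonoidHom = H := fun a ha =>
      Coprime.conj_map_eq_self_of_mem_normalizer (hA ha)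
    have hAP1 : A ≤ Subgroup.normalizer (P1 : Set G) := by
      intro a ha
      rw [Subgroup.mem_normalizer_iff_map_conj_eq, hP1, Subgroup.map_sup, hD, Subgroup.map_commutator]
      erw [hmapH a ha]
      rw [MonoidHom.map_closure, Set.image_image]
      congr 2
      ext y
      constructor
      · rintro ⟨x, hx, rfl⟩
        exact ⟨a * x * a⁻¹, hA' a ha x hx, by simp [conj_pow]⟩
      · rintro ⟨x, hx, rfl⟩
        refine ⟨a⁻¹ * x * a, by simpa using hA' a⁻¹ (inv_mem ha) x hx, ?_⟩
        show a * (a⁻¹ * x * a) ^ p * a⁻¹ = x ^ p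
        rw [← conj_pow]
        congr 1
        group
    have hP1A : ⁅P1, A⁆ = ⊥ := IH P1 hP1H hP1ne hAP1
    have hcen : ⁅H, P1⁆ = ⊥ := by
      have h1 : ⁅⁅A, P1⁆, H⁆ = ⊥ := by rw [Subgroup.commutator_comm A, hP1A]; simp
      have h2 : ⁅⁅P1, H⁆, A⁆ = ⊥ := le_bot_iff.mp (le_trans (Subgroup.commutator_mono
        (le_trans (Subgroup.commutator_mono hP1H le_rfl) le_sup_left) le_rfl) hP1A.le)
      have := Subgroup.commutator_commutator_eq_bot_of_rotate h1 h2
      rwa [hK] at this
    have hcen' : ∀ z ∈ P1, ∀ x ∈ H, Commute z x := fun z hz x hx =>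
      (Subgroup.mem_centralizer_iff.mp (Subgroup.commutator_eq_bot_iff_le_centralizer.mp hcen hx) z hz)
    have hfixP1 : ∀ z ∈ P1, ∀ a ∈ A, Commute a z := fun z hz a ha =>
      (Subgroup.mem_centralizer_iff.mp (Subgroup.commutator_eq_bot_iff_le_centralizer.mp hP1A hz) a ha)
    apply fin
    rw [Subgroup.commutator_eq_bot_iff_le_centralizer, Subgroup.commutator_def, Subgroup.closure_le]
    rintro _ ⟨x, hx, a, ha, rfl⟩
    show ⁅x, a⁆ ∈ Subgroup.centralizer (A : Set G)
    have hu : x ∈ H := hx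
    have hv : a * x⁻¹ * a⁻¹ ∈ H := hA' a ha _ (inv_mem hx)
    set v := a * x⁻¹ * a⁻¹ with hvdef
    have hz : ⁅v, x⁆ ∈ P1 := Subgroup.mem_sup_left (Subgroup.commutator_mem_commutator hv hu)
    have hz1 : v * x = ⁅v, x⁆ * (x * v) := by simp [commutatorElement_def, mul_assoc]
    have hzv := hcen' _ hz v hv
    have hzu := hcen' _ hz x hu
    have hvp : v ^ p ∈ P1 := Subgroup.mem_sup_right (Subgroup.subset_closure ⟨v, hv, rfl⟩)
    have hxp : x ^ p ∈ P1 := Subgroup.mem_sup_right (Subgroup.subset_closure ⟨x, hx, rfl⟩)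
    have hzp : ⁅v, x⁆ ^ p = 1 := by
      have h1 := pow_mul_comm_central hz1 hzv hzu p
      rw [(hcen' _ hvp x hu).eq] at h1
      exact (mul_eq_right.mp h1.symm)
    have hcp : ⁅x, a⁆ ^ p = 1 := by
      have e : ⁅x, a⁆ = x * v := by simp [hvdef, commutatorElement_def, mul_assoc]
      rw [e, mul_pow_central hz1 hzv hzu]
      have h2 : p ∣ p.choose 2 :=
        (Fact.out : p.Prime).dvd_choose_self (by norm_num) (lt_of_le_of_ne (Fact.out : p.Prime).two_le hp.symm)
      rw [orderOf_dvd_iff_pow_eq_one.mp ((orderOf_dvd_of_pow_eq_one hzp).trans h2), one_mul, hvdef, conj_pow,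
        inv_pow, (hfixP1 _ (inv_mem hxp) a ha).eq, mul_inv_cancel_right, mul_inv_cancel]
    have hcH : ⁅x, a⁆ ∈ H := hKH (Subgroup.commutator_mem_commutator hx ha)
    rw [Subgroup.mem_centralizer_iff]
    intro b hb
    exact Subgroup.mem_centralizer_singleton_iff.mp (hfix _ hcH hcp hb)

end CfsgLib.OddOrder.OmegaLemma
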