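import Cfsg.Agent.Lib.OddOrder.SigmaFusion
import Mathlib

set_option autoImplicit false

/-!
First properties of `σ(M)`, `α(M)` and `M_α`.
-/

namespace CfsgLib.OddOrder.SigmaBasics

open scoped commutatorElement

variable {G : Type*} [Group G] [Finite G]

/-- The prime divisors of `O_π(G)` lie in `π`. -/
theorem mem_of_dvd_piCore {H : Type*} [Group H] [Finite H] {π : Set ℕ} {t : ℕ} (ht : t.Prime)
    (h : t ∣ Nat.card (Cfsg.piCore π H)) : t ∈ π := by
  by_contra hn
  have hc : (Nat.card (Cfsg.piCore π H)).Coprime t := by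
    rw [Cfsg.piCore]
    refine Solvable.Cores.coprime_card_sSup t _ (fun N hN => hN.1) fun N hN => ?_
    exact (ht.coprime_iff_not_dvd.mpr fun h' => hn (hN.2 t ht h')).symm
  exact ht.ne_one (Nat.eq_one_of_dvd_coprimes hc h dvd_rfl)

theorem le_piCore {H : Type*} [Group H] [Finite H] {π : Set ℕ} {N : Subgroup H} [hn : N.Normal]
    (h : ∀ t : ℕ, t.Prime → t ∣ Nat.card N → t ∈ π) : N ≤ Cfsg.piCore π H :=
  le_sSup (show N ∈ {N : Subgroup H | N.Normal ∧ ∀ p : ℕ, p.Prime → p ∣ Nat.card N → p ∈ π} from ⟨hn, h⟩)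

theorem piCore_mono {H : Type*} [Group H] [Finite H] {π π' : Set ℕ}
    (h : ∀ t : ℕ, t.Prime → t ∈ π → t ∈ π') : Cfsg.piCore π H ≤ Cfsg.piCore π' H :=
  le_piCore fun t ht htd => h t ht (mem_of_dvd_piCore ht htd)

variable {p : ℕ} [hp : Fact p.Prime] {M : Subgroup G}

theorem not_dvd_index (hp' : p ∈ Cfsg.sigma M) : ¬ p ∣ M.index := by
  obtain ⟨P, hPM, -⟩ := SigmaFusion.exists_sylow_sigma hp'
  exact fun h => P.not_dvd_index (h.trans (Subgroup.index_dvd_of_le hPM))

/-- `M` controls fusion in its Sylow `p`-subgroups, `p ∈ σ(M)`. -/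
theorem controls (hG : Cfsg.IsMinSimpleOddOrder G) (hM : IsCoatom M) (hp' : p ∈ Cfsg.sigma M) (P : Sylow p G)
    (hPM : (P : Subgroup G) ≤ M) : Fusion.Transfer.Controls (P : Subgroup G) M := by
  intro x hx g hg
  by_cases hx1 : x = 1
  · exact ⟨1, one_mem _, by subst hx1; simp⟩
  obtain ⟨m, hm, c, hc, rfl⟩ := (SigmaFusion.main hG hM hp' (X := Subgroup.zpowers x)
    (P.isPGroup'.to_le (Subgroup.zpowers_le.mpr hx)) (Subgroup.zpowers_ne_bot.mpr hx1)
    ((Subgroup.zpowers_le.mpr hx).trans hPM)).1 g (by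
      rw [MonoidHom.map_zpowers, Subgroup.zpowers_le]
      exact hPM hg)
  refine ⟨m, hm, ?_⟩
  have h := Subgroup.mem_centralizer_iff.mp hc x (Subgroup.mem_zpowers x)
  calc m * x * m⁻¹ = m * (x * c) * c⁻¹ * m⁻¹ := by group
    _ = m * (c * x) * c⁻¹ * m⁻¹ := by rw [h]
    _ = _ := by group

/-- A Sylow `p`-subgroup of `M` lies in `M'`, `p ∈ σ(M)`. -/
theorem sylow_le_derived (hG : Cfsg.IsMinSimpleOddOrder G) (hM : IsCoatom M) (hp' : p ∈ Cfsg.sigma M)
    (P : Sylow p G) (hPM : (P : Subgroup G) ≤ M) : (P : Subgroup G) ≤ ⁅M, M⁆ := by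
  haveI := hG.2.1
  have heq := Fusion.Transfer.commutator_inf_eq_of_controls P hPM (controls hG hM hp' P hPM)
  have htop : _root_.commutator G = ⊤ := by
    rcases (inferInstance : (_root_.commutator G).Normal).eq_bot_or_eq_top with hb | ht
    · refine absurd (⟨⟨fun a b => commutatorElement_eq_one_iff_commute.mp (Subgroup.mem_bot.mp (hb ▸ ?_))⟩⟩ :
        IsMulCommutative G) hG.2.2.1
      exact Subgroup.commutator_mem_commutator (Subgroup.mem_top a) (Subgroup.mem_top b)
    · exact ht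
  rw [htop, top_inf_eq] at heq
  exact heq.le.trans inf_le_left

theorem mem_sigma_of_alpha (hG : Cfsg.IsMinSimpleOddOrder G) (hM : IsCoatom M) (ha : p ∈ Cfsg.alpha M) :
    p ∈ Cfsg.sigma M := by
  obtain ⟨P₀⟩ : Nonempty (Sylow p M) := inferInstance
  set R := (P₀ : Subgroup M).map M.subtype with hR
  have hRr : ¬ Cfsg.PRankLE p 2 R := by
    intro h
    refine ha.2 (SigmaFusion.pRankLE_of_sylow P₀ fun A hAc hAe => ?_)
    have := RankTwo.card_le_sq h
      (Fusion.Thompson.isEA_map M.subtype (Fusion.Thompson.isEA_map (P₀ : Subgroup M).subtype (p := p) ⟨hAc, hAe⟩))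
      (Subgroup.map_mono (Subgroup.map_subtype_le _))
    rwa [Subgroup.card_map_of_injective M.subtype_injective,
      Subgroup.card_map_of_injective (P₀ : Subgroup M).subtype_injective] at this
  obtain ⟨E, hER, hEe, hE3⟩ := UniqueTools.exists_isEA_of_not_rankLE hRr
  have hE1 : E ≠ ⊥ := fun h => by
    rw [h, Subgroup.card_bot] at hE3
    exact absurd hE3 (not_le.mpr (Nat.one_lt_pow (by norm_num) hp.out.one_lt))
  have hR1 : R ≠ ⊥ := fun h => hE1 (le_bot_iff.mp (h ▸ hER))
  have hRM : R ≤ M := Subgroup.map_subtype_le _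
  refine ⟨hp.out, ?_, P₀, ?_⟩
  · exact ((P₀.isPGroup'.map M.subtype).card_eq_or_dvd.resolve_left fun h1 =>
      hR1 (Subgroup.eq_bot_of_card_eq _ h1)).trans (Subgroup.card_dvd_of_le hRM)
  · exact UniqueTools.le_of_unique (UniquenessTheorem.rank_three hG hEe hE3) hM (hER.trans hRM)
      (hER.trans Subgroup.le_normalizer)
      (Uniqueness.normalizer_ne_top hG.2 hR1 (by
        haveI : Group.IsNilpotent R := (P₀.isPGroup'.map M.subtype).isNilpotent
        infer_instance))

theorem alphaCore_le_sigmaCore (hG : Cfsg.IsMinSimpleOddOrder G) (hM : IsCoatom M) :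
    Cfsg.alphaCore M ≤ Cfsg.sigmaCore M :=
  Subgroup.map_mono (piCore_mono fun t ht hta => by haveI := Fact.mk ht; exact mem_sigma_of_alpha hG hM hta)

omit hp in
/-- The quotient `M / M_α`. -/
theorem quotient_facts (hG : Cfsg.IsMinSimpleOddOrder G) (hM : IsCoatom M) :
    (∀ t : ℕ, t.Prime → t ∈ Cfsg.alpha M → ¬ t ∣ (Cfsg.piCore (Cfsg.alpha M) M).index) ∧
      Cfsg.RankLE 2 (M ⧸ Cfsg.piCore (Cfsg.alpha M) M) ∧
      Group.IsNilpotent ((_root_.commutator M).map (QuotientGroup.mk' (Cfsg.piCore (Cfsg.alpha M) M))) := by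
  haveI : Group.IsSolvable M := hG.2.2.2 M hM.1
  set N := Cfsg.piCore (Cfsg.alpha M) M with hN
  set f := QuotientGroup.mk' N with hf
  have hsurj : Function.Surjective f := QuotientGroup.mk'_surjective N
  have hcop : ∀ t : ℕ, t.Prime → t ∉ Cfsg.alpha M → (Nat.card N).Coprime t := fun t ht htn =>
    (ht.coprime_iff_not_dvd.mpr fun h => htn (mem_of_dvd_piCore ht h)).symm
  have hquot : ∀ t : ℕ, t.Prime → t ∉ Cfsg.alpha M → ∀ X : Subgroup (M ⧸ N), Cfsg.IsElementaryAbelian t X →
      Nat.card X ≤ t ^ 2 := by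
    intro t ht htn X hX
    haveI := Fact.mk ht
    refine SCNUniqueAux.card_le_of_map (K := ⊤) le_top (hcop t ht htn) ?_ hX
      (by rw [Subgroup.map_top_of_surjective f hsurj]; exact le_top)
    intro A hAc hAe
    have := Fusion.Thompson.isEA_map (⊤ : Subgroup M).subtype (p := t) ⟨hAc, hAe⟩
    have hr : Cfsg.PRankLE t 2 M := by
      by_contra h
      exact htn ⟨ht, h⟩
    have h2 := hr _ this.1 this.2
    rwa [Subgroup.card_map_of_injective (⊤ : Subgroup M).subtype_injective] at h2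
  have hcore : ∀ t : ℕ, t.Prime → t ∈ Cfsg.alpha M → Cfsg.pCore t (M ⧸ N) = ⊥ := by
    intro t ht hta
    haveI := Fact.mk ht
    set O := Cfsg.pCore t (M ⧸ N) with hO
    haveI hOn : O.Normal := by rw [hO]; infer_instance
    haveI := hOn.comap f
    have hle : O.comap f ≤ N := by
      refine le_piCore fun s hs hsd => ?_
      have h1 : Nat.card (O.comap f) * (O.comap f).index = Nat.card M := Subgroup.card_mul_index _
      rw [Subgroup.index_comap_of_surjective O hsurj] at h1
      have h2 : Nat.card M = Nat.card O * O.index * Nat.card N := by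
        rw [Subgroup.card_mul_index O]; exact Subgroup.card_eq_card_quotient_mul_card_subgroup N
      have h3 : Nat.card (O.comap f) = Nat.card N * Nat.card O :=
        Nat.eq_of_mul_eq_mul_right (Nat.pos_of_ne_zero (Subgroup.index_ne_zero_of_finite (H := O)))
          (by rw [h1, h2]; ring)
      rw [h3] at hsd
      rcases hs.dvd_mul.mp hsd with h | h
      · exact mem_of_dvd_piCore hs h
      · obtain ⟨j, hj⟩ := (Solvable.Cores.isPGroup_pCore t (G := M ⧸ N)).exists_card_eq
        rw [hj] at h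
        rwa [(Nat.prime_dvd_prime_iff_eq hs ht).mp (hs.dvd_of_dvd_pow h)]
    refine le_bot_iff.mp ?_
    rw [← Subgroup.map_comap_eq_self_of_surjective hsurj O]
    refine (Subgroup.map_mono hle).trans ?_
    rintro _ ⟨x, hx, rfl⟩
    exact Subgroup.mem_bot.mpr ((QuotientGroup.eq_one_iff x).mpr hx)
  have hrank : ∀ t : ℕ, t.Prime → Cfsg.PRankLE t 2 (Cfsg.pCore t (M ⧸ N)) := by
    intro t ht
    by_cases hta : t ∈ Cfsg.alpha M
    · intro A _ _
      calc Nat.card A ≤ Nat.card (Cfsg.pCore t (M ⧸ N)) := Subgroup.card_le_card_group A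
        _ = 1 := by rw [hcore t ht hta, Subgroup.card_bot]
        _ ≤ _ := Nat.one_le_pow _ _ ht.pos
    · intro A hAc hAe
      have := hquot t ht hta _ (Fusion.Thompson.isEA_map (Cfsg.pCore t (M ⧸ N)).subtype (p := t) ⟨hAc, hAe⟩)
      rwa [Subgroup.card_map_of_injective (Cfsg.pCore t (M ⧸ N)).subtype_injective] at this
  haveI : Group.IsSolvable (M ⧸ N) := Group.isSolvable_of_surjective hsurj
  have hder := RankTwoGlobal.derived_le_fitting
    ((Uniqueness.odd_of_le hG.1 M).of_dvd_nat (Subgroup.card_quotient_dvd_card N)) hrank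
  have hmap : (_root_.commutator M).map f = _root_.commutator (M ⧸ N) := by
    rw [_root_.commutator_def, Subgroup.map_commutator, Subgroup.map_top_of_surjective f hsurj, _root_.commutator_def]
  haveI := Solvable.Cores.fittingSubgroup_isNilpotent (G := M ⧸ N)
  have hindex : ∀ t : ℕ, t.Prime → t ∈ Cfsg.alpha M → ¬ t ∣ N.index := by
    intro t ht hta
    haveI := Fact.mk ht
    obtain ⟨P, hPM, -⟩ := SigmaFusion.exists_sylow_sigma (mem_sigma_of_alpha hG hM hta)
    have hP' := sylow_le_derived hG hM (mem_sigma_of_alpha hG hM hta) P hPM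
    have hle : ((P.subtype hPM : Sylow t M) : Subgroup M) ≤ N := by
      intro x hx
      rw [Sylow.coe_subtype, Subgroup.mem_subgroupOf] at hx
      have hxc : x ∈ _root_.commutator M := by
        obtain ⟨y, hy, hyx⟩ := (Subgroup.map_subtype_commutator M).ge (hP' hx)
        exact M.subtype_injective hyx ▸ hy
      have h1 : f x ∈ Cfsg.fittingSubgroup (M ⧸ N) := hder (hmap ▸ Subgroup.mem_map_of_mem f hxc)
      obtain ⟨k, hk⟩ := IsPGroup.iff_orderOf.mp P.isPGroup' ⟨x, hx⟩
      rw [Subgroup.orderOf_mk] at hk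
      obtain ⟨j, -, hj⟩ := (Nat.dvd_prime_pow ht).mp (((orderOf_map_dvd f x).trans
        (Subgroup.orderOf_coe x).symm.dvd).trans hk.dvd)
      have h2 := RankTwoGlobal.mem_pCore_of_mem (p := t) h1 ⟨j, hj⟩
      rw [hcore t ht hta, Subgroup.mem_bot] at h2
      exact (QuotientGroup.eq_one_iff x).mp h2
    exact fun h => (P.subtype hPM).not_dvd_index (h.trans (Subgroup.index_dvd_of_le hle))
  refine ⟨hindex, ?_, ?_⟩
  · intro t ht A hAc hAe
    by_cases hta : t ∈ Cfsg.alpha M
    · haveI := Fact.mk ht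
      have hd : Nat.card A ∣ N.index := by rw [Subgroup.index_eq_card]; exact A.card_subgroup_dvd_card
      rcases (Fusion.Thompson.isPGroup_isEA (⟨hAc, hAe⟩ : Cfsg.IsElementaryAbelian t A)).card_eq_or_dvd with h | h
      · rw [h]; exact Nat.one_le_pow _ _ ht.pos
      · exact absurd (h.trans hd) (hindex t ht hta)
    · exact hquot t ht hta A ⟨hAc, hAe⟩
  · rw [hmap]
    haveI : Group.IsNilpotent ↥((_root_.commutator (M ⧸ N)).subgroupOf (Cfsg.fittingSubgroup (M ⧸ N))) :=
      Subgroup.isNilpotent _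
    exact Group.nilpotent_of_mulEquiv (Subgroup.subgroupOfEquivOfLe hder)

omit hp in
theorem alphaCore_hall (hG : Cfsg.IsMinSimpleOddOrder G) (hM : IsCoatom M) :
    Cfsg.IsPiHallOf (Cfsg.alpha M) (Cfsg.alphaCore M) M ∧ Cfsg.IsPiHall (Cfsg.alpha M) (Cfsg.alphaCore M) := by
  have hcard : ∀ t : ℕ, t.Prime → t ∣ Nat.card (Cfsg.alphaCore M) → t ∈ Cfsg.alpha M := fun t ht h => by
    rw [Cfsg.alphaCore, Subgroup.card_map_of_injective M.subtype_injective] at h
    exact mem_of_dvd_piCore ht h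
  have hle : Cfsg.alphaCore M ≤ M := Subgroup.map_subtype_le _
  have hrel : (Cfsg.alphaCore M).relIndex M = (Cfsg.piCore (Cfsg.alpha M) M).index := by
    rw [Cfsg.alphaCore, Subgroup.relIndex, Subgroup.subgroupOf, Subgroup.comap_map_eq_self_of_injective M.subtype_injective]
  refine ⟨⟨hle, hcard, fun t ht hta => hrel ▸ (quotient_facts hG hM).1 t ht hta⟩, hcard, fun t ht hta h => ?_⟩
  haveI := Fact.mk ht
  rw [← Subgroup.relIndex_mul_index hle, hrel] at h
  rcases ht.dvd_mul.mp h with h | h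
  · exact (quotient_facts hG hM).1 t ht hta h
  · exact not_dvd_index (mem_sigma_of_alpha hG hM hta) h

end CfsgLib.OddOrder.SigmaBasics
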