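import Cfsg.Agent.Lib.Coprime.Action
import Mathlib

set_option autoImplicit false

/-!
A subgroup `A` normalised by an element `x` of prime order without fixed points, acting on an abelian group `W`:
`W` is generated by `C_W(A)` and any `A`-invariant subgroup containing `C_W(x)`.
-/

namespace CfsgLib.OddOrder.FrobeniusFixed

open scoped commutatorElement

variable {G : Type*} [Group G] [Finite G] {r : ℕ} {W A W' : Subgroup G} {x : G}

theorem pow_card_mem (hWc : IsMulCommutative W) (hr : r.Prime) (hxr : x ^ r = 1)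
    (hxW : x ∈ Subgroup.normalizer (W : Set G)) (hAW : A ≤ Subgroup.normalizer (W : Set G))
    (hxA : x ∈ Subgroup.normalizer (A : Set G)) (hfpf : A ⊓ Subgroup.centralizer ({x} : Set G) = ⊥)
    (hAW' : A ≤ Subgroup.normalizer (W' : Set G))
    (hC : W ⊓ Subgroup.centralizer ({x} : Set G) ≤ W') {w : G} (hw : w ∈ W) :
    w ^ Nat.card A ∈ W' ⊔ (W ⊓ Subgroup.centralizer (A : Set G)) := by
  classical
  letI : CommGroup W := { (inferInstance : Group W) with mul_comm := fun a b => hWc.1.comm a b }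
  letI : Fintype A := Fintype.ofFinite A
  set T := W' ⊔ (W ⊓ Subgroup.centralizer (A : Set G)) with hT
  have hnW : ∀ {g : G}, g ∈ Subgroup.normalizer (W : Set G) → ∀ y ∈ W, g * y * g⁻¹ ∈ W :=
    fun {g} hg y hy => (Subgroup.mem_normalizer_iff.mp hg y).mp hy
  let cj : Subgroup.normalizer (W : Set G) → W →* W := fun g =>
    { toFun := fun y => ⟨g * y * g⁻¹, hnW g.2 y y.2⟩
      map_one' := by ext; simp
      map_mul' := fun a b => by ext; simp [mul_assoc] }
  have hcj : ∀ (a b : Subgroup.normalizer (W : Set G)) (y : W), cj (a * b) y = cj a (cj b y) := fun a b y => by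
    ext; simp [cj, mul_assoc]
  let xN : Subgroup.normalizer (W : Set G) := ⟨x, hxW⟩
  let aN : A → Subgroup.normalizer (W : Set G) := fun a => ⟨a, hAW a.2⟩
  have hxN : xN ^ r = 1 := Subtype.ext (by simpa [xN] using hxr)
  let ρ : A → ℕ → Subgroup.normalizer (W : Set G) := fun a i => aN a * xN ^ i * (aN a)⁻¹
  -- `x`-orbit products are conjugates of fixed points
  have horbit : ∀ a : A, ((∏ i ∈ Finset.range r, cj (ρ a i) ⟨w, hw⟩ : W) : G) ∈ T := by
    intro a
    set y := cj (aN a)⁻¹ ⟨w, hw⟩ with hy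
    set z := ∏ i ∈ Finset.range r, cj (xN ^ i) y with hz
    have hfix : cj xN z = z := by
      rw [hz, map_prod]
      simp only [← hcj, ← pow_succ']
      have h3 := Finset.prod_range_succ' (fun i => cj (xN ^ i) y) r
      rw [Finset.prod_range_succ (fun i => cj (xN ^ i) y) r, hxN, pow_zero] at h3
      exact (mul_right_cancel h3).symm
    have hzC : (z : G) ∈ W' := hC (Subgroup.mem_inf.mpr ⟨z.2, Subgroup.mem_centralizer_singleton_iff.mpr
      (mul_inv_eq_iff_eq_mul.mp (congrArg Subtype.val hfix : x * z * x⁻¹ = z)).symm⟩)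
    have e : ∏ i ∈ Finset.range r, cj (ρ a i) ⟨w, hw⟩ = cj (aN a) z := by
      rw [hz, map_prod]
      refine Finset.prod_congr rfl fun i _ => ?_
      rw [hy, ← hcj, ← hcj]
    rw [e]
    exact Subgroup.mem_sup_left ((Subgroup.mem_normalizer_iff.mp (hAW' a.2) _).mp hzC)
  have hall : ((∏ a : A, ∏ i ∈ Finset.range r, cj (ρ a i) ⟨w, hw⟩ : W) : G) ∈ T := by
    have := Subgroup.prod_mem (T.subgroupOf W) (t := (Finset.univ : Finset A))
      (f := fun a => ∏ i ∈ Finset.range r, cj (ρ a i) ⟨w, hw⟩) fun a _ => horbit a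
    exact this
  rw [Finset.prod_comm, ← Finset.prod_erase_mul _ _ (Finset.mem_range.mpr hr.pos)] at hall
  have h0 : ∏ a : A, cj (ρ a 0) ⟨w, hw⟩ = (⟨w, hw⟩ : W) ^ Nat.card A := by
    have : ∀ a : A, cj (ρ a 0) ⟨w, hw⟩ = (⟨w, hw⟩ : W) := fun a => by ext; simp [ρ, cj]
    rw [Finset.prod_congr rfl fun a _ => this a, Finset.prod_const, Finset.card_univ, Nat.card_eq_fintype_card]
  rw [h0] at hall
  have hrest : ((∏ i ∈ (Finset.range r).erase 0, ∏ a : A, cj (ρ a i) ⟨w, hw⟩ : W) : G) ∈ T := by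
    refine Subgroup.prod_mem (T.subgroupOf W) (t := (Finset.range r).erase 0)
      (f := fun i => ∏ a : A, cj (ρ a i) ⟨w, hw⟩) fun i hi => ?_
    rw [Finset.mem_erase, Finset.mem_range] at hi
    have hxi : x ^ i ∈ Subgroup.normalizer (A : Set G) := pow_mem hxA i
    let g : A → A := fun a => ⟨a * x ^ i * (a : G)⁻¹ * (x ^ i)⁻¹, by
      rw [show (a : G) * x ^ i * (a : G)⁻¹ * (x ^ i)⁻¹ = a * (x ^ i * (a : G)⁻¹ * (x ^ i)⁻¹) by group]
      exact mul_mem a.2 ((Subgroup.mem_normalizer_iff.mp hxi _).mp (inv_mem a.2))⟩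
    have hginj : Function.Injective g := by
      intro a b hab
      have h : (a : G) * x ^ i * (a : G)⁻¹ * (x ^ i)⁻¹ = b * x ^ i * (b : G)⁻¹ * (x ^ i)⁻¹ :=
        congrArg Subtype.val hab
      have h' : (a : G) * x ^ i * (a : G)⁻¹ = b * x ^ i * (b : G)⁻¹ := mul_right_cancel h
      have hcomm : Commute (((b : G)⁻¹) * a) (x ^ i) := by
        show (b : G)⁻¹ * a * x ^ i = x ^ i * ((b : G)⁻¹ * a)
        calc (b : G)⁻¹ * a * x ^ i = (b : G)⁻¹ * (a * x ^ i * (a : G)⁻¹) * a := by group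
          _ = (b : G)⁻¹ * (b * x ^ i * (b : G)⁻¹) * a := by rw [h']
          _ = _ := by group
      have hd : ¬ r ∣ i := fun h => absurd (Nat.le_of_dvd (by omega) h) (by omega)
      obtain ⟨j, hj⟩ := exists_pow_eq_self_of_coprime (n := i) (x := x)
        (((hr.coprime_iff_not_dvd).mpr hd).symm.coprime_dvd_right (orderOf_dvd_of_pow_eq_one hxr))
      have hcx : Commute ((b : G)⁻¹ * a) x := by
        have := hcomm.pow_right j
        rwa [hj] at this
      have hmem : (b : G)⁻¹ * a ∈ A ⊓ Subgroup.centralizer ({x} : Set G) :=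
        Subgroup.mem_inf.mpr ⟨mul_mem (inv_mem b.2) a.2, Subgroup.mem_centralizer_singleton_iff.mpr hcx.eq⟩
      rw [hfpf, Subgroup.mem_bot, inv_mul_eq_one] at hmem
      exact Subtype.ext hmem.symm
    have hbij : Function.Bijective g := Finite.injective_iff_bijective.mp hginj
    have e : ∏ a : A, cj (ρ a i) ⟨w, hw⟩ = ∏ b : A, cj (aN b) (cj (xN ^ i) ⟨w, hw⟩) := by
      refine Fintype.prod_equiv (Equiv.ofBijective g hbij) _ _ fun a => ?_
      rw [← hcj]
      congr 2
      ext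
      simp [ρ, aN, g, xN, Equiv.ofBijective_apply, mul_assoc]
    rw [Subgroup.mem_subgroupOf, e]
    refine Subgroup.mem_sup_right (Subgroup.mem_inf.mpr ⟨SetLike.coe_mem _, Subgroup.mem_centralizer_iff.mpr fun c hc => ?_⟩)
    set u := ∏ b : A, cj (aN b) (cj (xN ^ i) ⟨w, hw⟩) with hu
    have hfix : cj (aN ⟨c, hc⟩) u = u := by
      rw [hu, map_prod]
      refine Fintype.prod_equiv (Equiv.mulLeft (⟨c, hc⟩ : A)) _ _ fun b => ?_
      rw [← hcj, ← hcj, ← hcj]
      congr 2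
    exact mul_inv_eq_iff_eq_mul.mp (congrArg Subtype.val hfix : c * u * c⁻¹ = u)
  rw [Subgroup.coe_mul, SubmonoidClass.coe_pow] at hall
  exact (Subgroup.mul_mem_cancel_left T hrest).mp hall

theorem le_sup (hWc : IsMulCommutative W) (hr : r.Prime) (hxr : x ^ r = 1)
    (hxW : x ∈ Subgroup.normalizer (W : Set G)) (hAW : A ≤ Subgroup.normalizer (W : Set G))
    (hxA : x ∈ Subgroup.normalizer (A : Set G)) (hfpf : A ⊓ Subgroup.centralizer ({x} : Set G) = ⊥)
    (hcop : (Nat.card W).Coprime (Nat.card A)) (hAW' : A ≤ Subgroup.normalizer (W' : Set G))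
    (hC : W ⊓ Subgroup.centralizer ({x} : Set G) ≤ W') :
    W ≤ W' ⊔ (W ⊓ Subgroup.centralizer (A : Set G)) := by
  intro w hw
  obtain ⟨j, hj⟩ := exists_pow_eq_self_of_coprime (n := Nat.card A) (x := w)
    (hcop.symm.coprime_dvd_right (Subgroup.orderOf_dvd_natCard W hw))
  rw [← hj]
  exact pow_mem (pow_card_mem hWc hr hxr hxW hAW hxA hfpf hAW' hC hw) j

/-- If `A` does not centralise `W`, then `x` has a fixed point on `W`. -/
theorem inf_centralizer_ne_bot (hWc : IsMulCommutative W) (hr : r.Prime) (hxr : x ^ r = 1)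
    (hxW : x ∈ Subgroup.normalizer (W : Set G)) (hAW : A ≤ Subgroup.normalizer (W : Set G))
    (hxA : x ∈ Subgroup.normalizer (A : Set G)) (hfpf : A ⊓ Subgroup.centralizer ({x} : Set G) = ⊥)
    (hcop : (Nat.card W).Coprime (Nat.card A)) (hnc : ¬ A ≤ Subgroup.centralizer (W : Set G)) :
    W ⊓ Subgroup.centralizer ({x} : Set G) ≠ ⊥ := by
  intro hb
  refine hnc (Subgroup.le_centralizer_iff.mp ?_)
  have h := le_sup (W' := ⊥) hWc hr hxr hxW hAW hxA hfpf hcop
    (fun a _ => Subgroup.mem_normalizer_iff.mpr fun y => by simp) hb.le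
  rw [bot_sup_eq] at h
  exact h.trans inf_le_right

/-- The version for a section `W / N` with `W' ⊆ N`. -/
theorem inf_centralizer_not_le {N : Subgroup G} (hNW : N ≤ W) (hWN : ⁅W, W⁆ ≤ N) (hr : r.Prime) (hxr : x ^ r = 1)
    (hxW : x ∈ Subgroup.normalizer (W : Set G)) (hAW : A ≤ Subgroup.normalizer (W : Set G))
    (hxN : x ∈ Subgroup.normalizer (N : Set G)) (hAN : A ≤ Subgroup.normalizer (N : Set G))
    (hxA : x ∈ Subgroup.normalizer (A : Set G)) (hfpf : A ⊓ Subgroup.centralizer ({x} : Set G) = ⊥)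
    (hcopA : (Nat.card W).Coprime (Nat.card A))
    (hcopx : (Nat.card W).Coprime r) (hnc : ¬ ⁅W, A⁆ ≤ N) :
    ¬ W ⊓ Subgroup.centralizer ({x} : Set G) ≤ N := by
  intro hle
  have hWn : W ≤ Subgroup.normalizer (N : Set G) :=
    Subgroup.le_normalizer_iff_commutator_le_left.mpr ((Subgroup.commutator_mono hNW le_rfl).trans hWN)
  set U := Subgroup.normalizer (N : Set G) with hU
  haveI : (N.subgroupOf U).Normal := Subgroup.normal_subgroupOf_iff_le_normalizer Subgroup.le_normalizer |>.mpr le_rfl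
  set f := QuotientGroup.mk' (N.subgroupOf U) with hf
  have hker : ∀ u : U, f u = 1 ↔ (u : G) ∈ N := fun u => QuotientGroup.eq_one_iff u
  set W₁ := (W.subgroupOf U).map f with hW₁
  set A₁ := (A.subgroupOf U).map f with hA₁
  set x₁ := f ⟨x, hxN⟩ with hx₁
  have hnorm : ∀ {H : Subgroup G} {g : G} (hgU : g ∈ U), g ∈ Subgroup.normalizer (H : Set G) →
      f ⟨g, hgU⟩ ∈ Subgroup.normalizer (((H.subgroupOf U).map f : Subgroup _) : Set (U ⧸ N.subgroupOf U)) := by
    intro H g hgU hg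
    refine Subgroup.le_normalizer_map (H := H.subgroupOf U) f ⟨⟨g, hgU⟩, ?_, rfl⟩
    exact Subgroup.le_normalizer_comap U.subtype hg
  have hW₁c : IsMulCommutative W₁ := by
    refine ⟨⟨?_⟩⟩
    rintro ⟨_, a, ha, rfl⟩ ⟨_, b, hb, rfl⟩
    refine Subtype.ext (commutatorElement_eq_one_iff_commute.mp ?_)
    show ⁅f a, f b⁆ = 1
    rw [← map_commutatorElement, hker]
    exact hWN (Subgroup.commutator_mem_commutator ha hb)
  have hcard : ∀ H : Subgroup G, H ≤ U → Nat.card ((H.subgroupOf U).map f) ∣ Nat.card H := fun H hH =>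
    (Subgroup.card_map_dvd _ f).trans (Nat.card_congr (Subgroup.subgroupOfEquivOfLe hH).toEquiv).dvd
  have hcopN : (Nat.card N).Coprime r := hcopx.coprime_dvd_left (Subgroup.card_dvd_of_le hNW)
  have hzx : ∀ a ∈ Subgroup.zpowers x, ∀ k : U, Commute (f k) x₁ → ⁅a, (k : G)⁆ ∈ N := by
    intro a ha k hk
    obtain ⟨i, rfl⟩ := Subgroup.mem_zpowers_iff.mp ha
    have h : ⁅(⟨x, hxN⟩ : U) ^ i, k⁆ ∈ N.subgroupOf U := by
      rw [← QuotientGroup.eq_one_iff, ← QuotientGroup.mk'_apply, map_commutatorElement, map_zpow,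
        commutatorElement_eq_one_iff_commute]
      exact (hk.symm).zpow_left i
    simpa [Subgroup.mem_subgroupOf, commutatorElement_def] using h
  have hcopZ : (Nat.card (Subgroup.zpowers x)).Coprime (Nat.card N) :=
    (hcopN.coprime_dvd_right (by rw [Nat.card_zpowers]; exact orderOf_dvd_of_pow_eq_one hxr)).symm
  refine inf_centralizer_ne_bot (W := W₁) (A := A₁) (x := x₁) hW₁c hr ?_ (hnorm hxN hxW) ?_ (hnorm hxN hxA) ?_ ?_ ?_ ?_
  · rw [hx₁, ← map_pow, show (⟨x, hxN⟩ : U) ^ r = 1 from Subtype.ext (by simpa using hxr), map_one]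
  · rintro _ ⟨⟨a, haU⟩, ha, rfl⟩; exact hnorm haU (hAW ha)
  · refine eq_bot_iff.mpr ?_
    rintro _ ⟨⟨a, ha, rfl⟩, hc⟩
    rw [Subgroup.mem_bot]
    have h1 : ⁅(a : G), x⁆ ∈ N := by
      have := hzx x (Subgroup.mem_zpowers x) a (Subgroup.mem_centralizer_singleton_iff.mp hc)
      rw [← inv_mem_iff, commutatorElement_inv]; exact this
    have h2 : ⁅(a : G), x⁆ ∈ A := by
      rw [commutatorElement_def, show (a : G) * x * (a : G)⁻¹ * x⁻¹ = a * (x * (a : G)⁻¹ * x⁻¹) by group]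
      exact mul_mem ha ((Subgroup.mem_normalizer_iff.mp hxA _).mp (inv_mem ha))
    have h3 : ⁅(a : G), x⁆ = 1 := orderOf_eq_one_iff.mp (Nat.eq_one_of_dvd_coprimes
      (hcopA.coprime_dvd_left (Subgroup.card_dvd_of_le hNW))
      (Subgroup.orderOf_dvd_natCard N h1) (Subgroup.orderOf_dvd_natCard A h2))
    have h4 : (a : G) ∈ A ⊓ Subgroup.centralizer ({x} : Set G) :=
      Subgroup.mem_inf.mpr ⟨ha, Subgroup.mem_centralizer_singleton_iff.mpr (commutatorElement_eq_one_iff_commute.mp h3).eq⟩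
    rw [hfpf, Subgroup.mem_bot] at h4
    rw [show a = 1 from Subtype.ext h4, map_one]
  · exact (hcopA.coprime_dvd_left (hcard W hWn)).coprime_dvd_right (hcard A hAN)
  · intro hC
    refine hnc (Subgroup.commutator_le.mpr fun w hw a ha => (hker ⟨⁅w, a⁆, ?_⟩).mp ?_)
    · rw [commutatorElement_def]
      exact mul_mem (mul_mem (mul_mem (hWn hw) (hAN ha)) (inv_mem (hWn hw))) (inv_mem (hAN ha))
    · rw [show (⟨⁅w, a⁆, _⟩ : U) = ⁅(⟨w, hWn hw⟩ : U), (⟨a, hAN ha⟩ : U)⁆ from Subtype.ext (by simp [commutatorElement_def]),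
        map_commutatorElement, commutatorElement_eq_one_iff_commute]
      exact Subgroup.mem_centralizer_iff.mp (hC ⟨⟨a, hAN ha⟩, ha, rfl⟩) _ ⟨⟨w, hWn hw⟩, hw, rfl⟩
  · refine eq_bot_iff.mpr ?_
    rintro _ ⟨⟨k, hk, rfl⟩, hc⟩
    rw [Subgroup.mem_bot]
    obtain ⟨n, hn, hnk⟩ := Coprime.exists_mul_mem_centralizer (A := Subgroup.zpowers x) (N := N)
      (Subgroup.zpowers_le.mpr hxN) hcopZ (Or.inl (Coprime.isSolvable_zpowers x)) (k := (k : G))
      (fun b hb => hzx b hb k (Subgroup.mem_centralizer_singleton_iff.mp hc))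
    have hN2 : n * (k : G) ∈ N := hle (Subgroup.mem_inf.mpr ⟨mul_mem (hNW hn) hk,
      Subgroup.mem_centralizer_singleton_iff.mpr (Subgroup.mem_centralizer_iff.mp hnk x (Subgroup.mem_zpowers x)).symm⟩)
    exact (hker k).mpr ((Subgroup.mul_mem_cancel_left N hn).mp hN2)

end CfsgLib.OddOrder.FrobeniusFixed
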