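import Cfsg.Agent.Lib.OddOrder.A2Transitive
import Cfsg.Agent.Lib.OddOrder.FrobeniusFixed
import Cfsg.Agent.Lib.Coprime.Generation
import Cfsg.Agent.Lib.Solvable.FPFNilpotent
import Mathlib

set_option autoImplicit false
set_option linter.style.haveILetI false
set_option linter.unusedSectionVars false

/-!
Fixed point free elements of prime order: nilpotency, Frobenius groups on nilpotent modules, and
generation by the lines of a plane.
-/

namespace CfsgLib.OddOrder.FPFTools

open scoped commutatorElement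
open A2Transitive (MaxPlane)

variable {G : Type*} [Group G] [Finite G]

theorem isNilpotent_of_fpf {p : ℕ} (hp : p.Prime) {V : Subgroup G} {x : G} (hxp : x ^ p = 1)
    (hxV : x ∈ Subgroup.normalizer (V : Set G)) (hfix : V ⊓ Subgroup.centralizer ({x} : Set G) = ⊥) :
    Group.IsNilpotent V := by
  refine Solvable.FPFNilpotent.isNilpotent_of_mulAut hp (V.normalizerMonoidHom ⟨x, hxV⟩) ?_ fun v hv => ?_
  · rw [← map_pow, show (⟨x, hxV⟩ : Subgroup.normalizer (V : Set G)) ^ p = 1 from Subtype.ext (by simpa using hxp),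
      map_one]
  · have h : x * (v : G) * x⁻¹ = v := congrArg Subtype.val hv
    have hm : (v : G) ∈ V ⊓ Subgroup.centralizer ({x} : Set G) :=
      ⟨v.2, Subgroup.mem_centralizer_singleton_iff.mpr (by
        calc (v : G) * x = x * (v : G) * x⁻¹ * x := by rw [h]
          _ = x * v := by group)⟩
    rw [hfix, Subgroup.mem_bot] at hm
    exact Subtype.ext hm

/-- A group on which `x` is fixed point free centralises any nilpotent group on which `x` is fixed point free. -/
theorem centralizes_of_fpf {p : ℕ} (hp : p.Prime) {V R : Subgroup G} (hV : Group.IsNilpotent V) {x : G}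
    (hxp : x ^ p = 1) (hxV : x ∈ Subgroup.normalizer (V : Set G)) (hRV : R ≤ Subgroup.normalizer (V : Set G))
    (hxR : x ∈ Subgroup.normalizer (R : Set G)) (hR : R ⊓ Subgroup.centralizer ({x} : Set G) = ⊥)
    (hfix : V ⊓ Subgroup.centralizer ({x} : Set G) = ⊥) (hcop : (Nat.card V).Coprime (Nat.card R))
    (hcopx : (Nat.card V).Coprime p) : R ≤ Subgroup.centralizer (V : Set G) := by
  set Z : ℕ → Subgroup G := fun i => (Subgroup.upperCentralSeries V i).map V.subtype with hZ
  have hZn : ∀ i, Subgroup.normalizer (V : Set G) ≤ Subgroup.normalizer (Z i : Set G) := by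
    intro i g hg
    refine NormalizerFusion.mem_normalizer_of_conj ?_
    have hmap := Subgroup.mem_normalizer_iff_map_conj_eq.mp hg
    let e : V ≃* V := ((MulAut.conj g).subgroupMap V).trans (MulEquiv.subgroupCongr hmap)
    rintro _ ⟨v, hv, rfl⟩
    exact ⟨e v, (Subgroup.characteristic_iff_map_le.mp inferInstance e) ⟨v, hv, rfl⟩, by rfl⟩
  have hZle : ∀ i, Z i ≤ V := fun i => Subgroup.map_subtype_le _
  have key : ∀ i, R ≤ Subgroup.centralizer (Z i : Set G) := by
    intro i
    induction i with
    | zero =>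
      intro a _
      refine Subgroup.mem_centralizer_iff.mpr fun b hb => ?_
      simp only [hZ, Subgroup.upperCentralSeries_zero, Subgroup.map_bot, SetLike.mem_coe, Subgroup.mem_bot] at hb
      simp [hb]
    | succ i ih =>
      have hle : Z i ≤ Z (i + 1) := Subgroup.map_mono (Subgroup.upperCentralSeries_mono V (Nat.le_succ i))
      have hder : ⁅Z (i + 1), Z (i + 1)⁆ ≤ Z i := by
        refine Subgroup.commutator_le.mpr ?_
        rintro _ ⟨a, ha, rfl⟩ _ ⟨b, hb, rfl⟩
        exact ⟨⁅a, b⁆, Subgroup.mem_upperCentralSeries_succ_iff.mp ha b, map_commutatorElement _ _ _⟩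
      have hcom : ⁅Z (i + 1), R⁆ ≤ Z i := by
        by_contra hnc
        refine FrobeniusFixed.inf_centralizer_not_le hle hder hp hxp (hZn _ hxV) (hRV.trans (hZn _)) (hZn _ hxV)
          (hRV.trans (hZn _)) hxR hR (hcop.coprime_dvd_left (Subgroup.card_dvd_of_le (hZle _)))
          (hcopx.coprime_dvd_left (Subgroup.card_dvd_of_le (hZle _))) hnc ?_
        exact ((inf_le_inf_right _ (hZle _)).trans hfix.le).trans bot_le
      intro a ha
      refine Subgroup.mem_centralizer_iff.mpr fun k hk => ?_
      refine (Coprime.commute_of_stabilizes (N := Z i) ?_ (ih ha) ?_).eq.symm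
      · exact ((hcop.coprime_dvd_left (Subgroup.card_dvd_of_le (hZle i))).symm).coprime_dvd_left
          (Subgroup.orderOf_dvd_natCard R ha)
      · exact Coprime.commutatorElement_mem_iff.2 (hcom (Subgroup.commutator_mem_commutator hk ha))
  obtain ⟨n, hn⟩ := hV
  have hV' : Z n = V := by
    simp only [hZ]
    rw [hn, ← MonoidHom.range_eq_map, Subgroup.range_subtype]
  exact hV' ▸ key n

variable {p : ℕ} [hp : Fact p.Prime] {A : Subgroup G}

theorem line_eq_zpowers {B : Subgroup G} (hB : Nat.card B = p) {b : G} (hb : b ∈ B) (hb1 : b ≠ 1) :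
    Subgroup.zpowers b = B ∧ b ^ p = 1 := by
  have hbp : b ^ p = 1 := by
    have := pow_card_eq_one' (x := (⟨b, hb⟩ : B))
    rw [hB] at this
    exact congrArg Subtype.val this
  exact ⟨Subgroup.eq_of_le_of_card_ge (Subgroup.zpowers_le.mpr hb)
    (by rw [Nat.card_zpowers, orderOf_eq_prime hbp hb1, hB]), hbp⟩

theorem not_isCyclic (hA : MaxPlane p A) : ¬ IsCyclic A := fun h => by
  haveI := h
  have h3 : Monoid.exponent A ∣ p := Monoid.exponent_dvd_of_forall_pow_eq_one fun a => Subtype.ext (hA.ea.2 a a.2)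
  rw [IsCyclic.exponent_eq_card, hA.card] at h3
  exact absurd (Nat.le_of_dvd hp.out.pos h3) (not_le.mpr (by
    nth_rw 1 [← pow_one p]; exact Nat.pow_lt_pow_right hp.out.one_lt one_lt_two))

/-- Generation by the centralisers of the lines of a plane. -/
theorem le_of_lines (hA : MaxPlane p A) {K D : Subgroup G} (hAK : A ≤ Subgroup.normalizer (K : Set G))
    (hcop : (Nat.card K).Coprime p)
    (h : ∀ B : Subgroup G, B ≤ A → Nat.card B = p → K ⊓ Subgroup.centralizer (B : Set G) ≤ D) : K ≤ D := by
  haveI := hA.ea.1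
  refine (Coprime.iSup_centralizer_singleton (not_isCyclic hA) hAK (A2Transitive.coprime_A hA hcop)).ge.trans
    (iSup₂_le fun a ha => ?_)
  obtain ⟨haA, ha1⟩ := ha
  refine le_trans ?_ (h (Subgroup.zpowers a) (Subgroup.zpowers_le.mpr haA)
    (by rw [Nat.card_zpowers, orderOf_eq_prime (hA.ea.2 a haA) ha1]))
  refine inf_le_inf_left _ fun g hg => Subgroup.mem_centralizer_iff.mpr fun b hb => ?_
  obtain ⟨i, rfl⟩ := Subgroup.mem_zpowers_iff.mp hb
  exact ((show Commute g a from Subgroup.mem_centralizer_singleton_iff.mp hg).zpow_right i).symm.eq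

/-- Two different lines generate the plane. -/
theorem sup_lines (hA : MaxPlane p A) {B B' : Subgroup G} (hB : B ≤ A) (hBc : Nat.card B = p) (hB' : B' ≤ A)
    (hB'c : Nat.card B' = p) (hne : B ≠ B') : B ⊔ B' = A := by
  refine Subgroup.eq_of_le_of_card_ge (sup_le hB hB') ?_
  obtain ⟨j, hj⟩ := (hA.isPGroup.to_le (sup_le hB hB')).exists_card_eq
  have hlt : Nat.card B < Nat.card ↥(B ⊔ B') := Set.ncard_lt_ncard (SetLike.coe_ssubset_coe.mpr
    (lt_of_le_of_ne le_sup_left fun h => hne
      (Subgroup.eq_of_le_of_card_ge (le_sup_right.trans h.ge) (by rw [hBc, hB'c])).symm))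
  rw [hBc, hj] at hlt
  rw [hA.card, hj]
  exact Nat.pow_le_pow_right hp.out.pos ((Nat.pow_lt_pow_iff_right hp.out.one_lt).mp (by rwa [pow_one]))

theorem centralizer_sup (B B' : Subgroup G) :
    Subgroup.centralizer ((B ⊔ B' : Subgroup G) : Set G) =
      Subgroup.centralizer (B : Set G) ⊓ Subgroup.centralizer (B' : Set G) := by
  refine le_antisymm (le_inf (Subgroup.centralizer_le (SetLike.coe_subset_coe.mpr le_sup_left)) (Subgroup.centralizer_le (SetLike.coe_subset_coe.mpr le_sup_right))) ?_
  refine Subgroup.le_centralizer_iff.mp (sup_le ?_ ?_)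
  · exact Subgroup.le_centralizer_iff.mp inf_le_left
  · exact Subgroup.le_centralizer_iff.mp inf_le_right

end CfsgLib.OddOrder.FPFTools
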