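import Cfsg.Agent.Lib.OddOrder.OddGL2
import Mathlib.Algebra.Ring.Subring.Basic
import Mathlib.RingTheory.LittleWedderburn

set_option autoImplicit false

/-!
Two quadratically acting endomorphisms generating an irreducible group of odd order in odd characteristic.
-/

namespace CfsgLib.OddOrder.QuadraticPair

set_option maxHeartbeats 1600000 in
theorem eq_one_of_irreducible {V : Type*} [AddCommGroup V] [Finite V] {p : ℕ} [Fact p.Prime]
    (hpV : ∀ v : V, p • v = 0) (x y : (AddMonoid.End V)ˣ)
    (hx2 : ∀ v : V, (x : AddMonoid.End V) ((x : AddMonoid.End V) v - v) = (x : AddMonoid.End V) v - v)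
    (hy2 : ∀ v : V, (y : AddMonoid.End V) ((y : AddMonoid.End V) v - v) = (y : AddMonoid.End V) v - v)
    (hodd : Odd (Nat.card (Subgroup.closure ({x, y} : Set (AddMonoid.End V)ˣ))))
    (hirr : ∀ W : AddSubgroup V, (∀ w ∈ W, (x : AddMonoid.End V) w ∈ W) →
      (∀ w ∈ W, (y : AddMonoid.End V) w ∈ W) → W = ⊥ ∨ W = ⊤) :
    x = 1 ∧ y = 1 := by
  rcases subsingleton_or_nontrivial V with hs | hnt
  · exact ⟨Units.ext (AddMonoidHom.ext fun v => Subsingleton.elim _ _), Units.ext (AddMonoidHom.ext fun v => Subsingleton.elim _ _)⟩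
  set A : AddMonoid.End V := (x : AddMonoid.End V) - 1 with hA
  set B : AddMonoid.End V := (y : AddMonoid.End V) - 1 with hB
  have hAapp : ∀ v, A v = (x : AddMonoid.End V) v - v := fun v => rfl
  have hBapp : ∀ v, B v = (y : AddMonoid.End V) v - v := fun v => rfl
  have hAA : ∀ v, A (A v) = 0 := fun v => by rw [hAapp (A v), hAapp v, hx2, sub_self]
  have hBB : ∀ v, B (B v) = 0 := fun v => by rw [hBapp (B v), hBapp v, hy2, sub_self]
  set c : AddMonoid.End V := A * B + B * A with hc
  have hcapp : ∀ v, c v = A (B v) + B (A v) := fun v => rfl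
  have hcA : c * A = A * c := AddMonoidHom.ext fun v => by
    show c (A v) = A (c v)
    rw [hcapp, hcapp, map_add, hAA, hAA, map_zero, add_zero, zero_add]
  have hcB : c * B = B * c := AddMonoidHom.ext fun v => by
    show c (B v) = B (c v)
    rw [hcapp, hcapp, map_add, hBB, hBB, map_zero, zero_add, add_zero]
  -- kernels of commuting endomorphisms are invariant
  have hker : ∀ d : AddMonoid.End V, d * A = A * d → d * B = B * d → (∀ v, d v = 0) ∨ Function.Injective d := by
    intro d hdA hdB
    have hxd : ∀ w, d w = 0 → d ((x : AddMonoid.End V) w) = 0 ∧ d ((y : AddMonoid.End V) w) = 0 := by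
      intro w hw
      constructor
      · have h1 : d (A w) = A (d w) := DFunLike.congr_fun hdA w
        rw [hw, map_zero, hAapp, map_sub, hw, sub_zero] at h1
        exact h1
      · have h1 : d (B w) = B (d w) := DFunLike.congr_fun hdB w
        rw [hw, map_zero, hBapp, map_sub, hw, sub_zero] at h1
        exact h1
    rcases hirr (AddMonoidHom.ker (d : V →+ V)) (fun w hw => (hxd w hw).1) (fun w hw => (hxd w hw).2) with h | h
    · exact Or.inr ((AddMonoidHom.ker_eq_bot_iff (d : V →+ V)).mp h)
    · refine Or.inl fun v => ?_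
      have : v ∈ AddMonoidHom.ker (d : V →+ V) := h ▸ AddSubgroup.mem_top v
      exact this
  obtain ⟨v0, hv0⟩ := exists_ne (0 : V)
  obtain ⟨v, hv, hAv⟩ : ∃ v, v ≠ 0 ∧ A v = 0 := by
    by_cases h : A v0 = 0
    · exact ⟨v0, hv0, h⟩
    · exact ⟨A v0, h, hAA v0⟩
  rcases hker c hcA hcB with hc0 | hcinj
  · -- common fixed vector
    obtain ⟨u, hu, hAu, hBu⟩ : ∃ u, u ≠ 0 ∧ A u = 0 ∧ B u = 0 := by
      by_cases h : B v = 0
      · exact ⟨v, hv, hAv, h⟩
      · refine ⟨B v, h, ?_, hBB v⟩
        have := hc0 v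
        rwa [hcapp, hAv, map_zero, add_zero] at this
    have hfix : ∀ w, A w = 0 ∧ B w = 0 := by
      let W : AddSubgroup V := AddMonoidHom.ker (A : V →+ V) ⊓ AddMonoidHom.ker (B : V →+ V)
      have hxW : ∀ w ∈ W, (x : AddMonoid.End V) w = w ∧ (y : AddMonoid.End V) w = w := fun w hw => by
        have h1 : A w = 0 := hw.1
        have h2 : B w = 0 := hw.2
        rw [hAapp, sub_eq_zero] at h1
        rw [hBapp, sub_eq_zero] at h2
        exact ⟨h1, h2⟩
      rcases hirr W (fun w hw => by rw [(hxW w hw).1]; exact hw) (fun w hw => by rw [(hxW w hw).2]; exact hw) with h | h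
      · have : u ∈ W := ⟨hAu, hBu⟩
        rw [h] at this
        exact absurd this hu
      · intro w
        have : w ∈ W := h ▸ AddSubgroup.mem_top w
        exact this
    exact ⟨Units.ext (AddMonoidHom.ext fun w => sub_eq_zero.mp (hfix w).1),
      Units.ext (AddMonoidHom.ext fun w => sub_eq_zero.mp (hfix w).2)⟩
  exfalso
  -- the field generated by `c`
  let K := Subring.closure ({c} : Set (AddMonoid.End V))
  have hKcomm : ∀ d ∈ K, d * A = A * d ∧ d * B = B * d := by
    intro d hd
    have hle : K ≤ Subring.centralizer ({A, B} : Set (AddMonoid.End V)) := by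
      rw [Subring.closure_le, Set.singleton_subset_iff]
      rintro g (rfl | rfl)
      · exact hcA.symm
      · exact hcB.symm
    have := Subring.mem_centralizer_iff.mp (hle hd)
    exact ⟨(this A (Or.inl rfl)).symm, (this B (Or.inr rfl)).symm⟩
  have hKinj : ∀ d : K, d ≠ 0 → Function.Injective (d : AddMonoid.End V) := by
    intro d hd
    rcases hker d (hKcomm d d.2).1 (hKcomm d d.2).2 with h | h
    · exact absurd (Subtype.ext (AddMonoidHom.ext h)) hd
    · exact h
  letI : CommRing K := Subring.closureCommRingOfComm (by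
    rintro a (rfl : a = c) b (rfl : b = c); rfl)
  haveI : Nontrivial K := ⟨0, 1, fun e => hv (by
    have := DFunLike.congr_fun (congrArg Subtype.val e) v
    exact this.symm)⟩
  haveI : Finite (AddMonoid.End V) := Finite.of_injective (fun f => (f : V → V)) DFunLike.coe_injective
  haveI : NoZeroDivisors K := by
    refine ⟨fun {a b} hab => ?_⟩
    by_contra h
    rw [not_or] at h
    apply h.2
    apply Subtype.ext
    apply AddMonoidHom.ext
    intro w
    apply hKinj a h.1
    have := DFunLike.congr_fun (congrArg Subtype.val hab) w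
    exact this.trans (map_zero _).symm
  haveI : IsDomain K := NoZeroDivisors.to_isDomain K
  letI : Field K := (Finite.isDomain_to_isField K).toField
  haveI : CharP K p := by
    refine (CharP.charP_iff_prime_eq_zero (Fact.out : p.Prime)).mpr (Subtype.ext (AddMonoidHom.ext fun w => ?_))
    have e : ((p : K) : AddMonoid.End V) = (p : AddMonoid.End V) := map_natCast K.subtype p
    rw [e]
    exact (AddMonoid.End.natCast_apply p w).trans (hpV w)
  set w := B v with hw
  have hAw : A w = c v := by rw [hcapp, hAv, map_zero, add_zero]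
  have hBw : B w = 0 := hBB v
  let ck : K := ⟨c, Subring.subset_closure rfl⟩
  have hck : ck ≠ 0 := fun e => by
    have e2 := DFunLike.congr_fun (congrArg Subtype.val e) v
    exact hv (hcinj (e2.trans (map_zero _).symm))
  have happ : ∀ (d : K) (u : V), A ((d : AddMonoid.End V) u) = (d : AddMonoid.End V) (A u) ∧
      B ((d : AddMonoid.End V) u) = (d : AddMonoid.End V) (B u) := fun d u =>
    ⟨(DFunLike.congr_fun (hKcomm d d.2).1 u).symm, (DFunLike.congr_fun (hKcomm d d.2).2 u).symm⟩
  -- coordinates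
  let Φ : (Fin 2 → K) → V := fun z => ((z 0 : K) : AddMonoid.End V) v + ((z 1 : K) : AddMonoid.End V) w
  have hΦ : Function.Injective Φ := by
    intro z z' e
    have e' : ((z 0 - z' 0 : K) : AddMonoid.End V) v + ((z 1 - z' 1 : K) : AddMonoid.End V) w = 0 := by
      simp only [AddSubgroupClass.coe_sub]
      show (((z 0 : K) : AddMonoid.End V) v - ((z' 0 : K) : AddMonoid.End V) v) +
        (((z 1 : K) : AddMonoid.End V) w - ((z' 1 : K) : AddMonoid.End V) w) = 0
      rw [← sub_eq_zero.mpr e]; simp only [Φ]; abel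
    have h1 := congrArg (A : V → V) e'
    rw [map_add, map_zero, (happ _ v).1, (happ _ w).1, hAv, map_zero, zero_add, hAw] at h1
    have hz1 : z 1 - z' 1 = 0 := by
      by_contra hne
      exact hv (hcinj ((hKinj _ hne (h1.trans (map_zero _).symm)).trans (map_zero _).symm))
    have h0 : ((z 0 - z' 0 : K) : AddMonoid.End V) v = 0 := by
      rw [hz1] at e'
      simpa using e'
    have hz0 : z 0 - z' 0 = 0 := by
      by_contra hne
      exact hv (hKinj _ hne (h0.trans (map_zero _).symm))
    funext i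
    fin_cases i
    · exact sub_eq_zero.mp hz0
    · exact sub_eq_zero.mp hz1
  let X : GL (Fin 2) K := Matrix.GeneralLinearGroup.mkOfDetNeZero !![1, ck; 0, 1] (by simp [Matrix.det_fin_two])
  let Y : GL (Fin 2) K := Matrix.GeneralLinearGroup.mkOfDetNeZero !![1, 0; 1, 1] (by simp [Matrix.det_fin_two])
  have hXrel : ∀ z, Φ ((X : Matrix (Fin 2) (Fin 2) K).mulVec z) = (x : AddMonoid.End V) (Φ z) := by
    intro z
    have hx' : (x : AddMonoid.End V) (Φ z) = Φ z + A (Φ z) := by rw [hAapp]; abel
    rw [hx']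
    simp only [Φ, X, Matrix.GeneralLinearGroup.val_mkOfDetNeZero, Matrix.mulVec, dotProduct, Fin.sum_univ_two,
      map_add, (happ _ v).1, (happ _ w).1, hAv, hAw, map_zero, zero_add]
    simp only [Matrix.of_apply, Matrix.cons_val_zero, Matrix.cons_val_one, one_mul, zero_mul, zero_add,
      Subring.coe_add, Subring.coe_mul]
    show (((z 0 : K) : AddMonoid.End V) v + c (((z 1 : K) : AddMonoid.End V) v)) + ((z 1 : K) : AddMonoid.End V) w = _
    have e : c (((z 1 : K) : AddMonoid.End V) v) = ((z 1 : K) : AddMonoid.End V) (c v) :=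
      DFunLike.congr_fun (congrArg Subtype.val (mul_comm ck (z 1))) v
    rw [e]; abel
  have hYrel : ∀ z, Φ ((Y : Matrix (Fin 2) (Fin 2) K).mulVec z) = (y : AddMonoid.End V) (Φ z) := by
    intro z
    have hy' : (y : AddMonoid.End V) (Φ z) = Φ z + B (Φ z) := by rw [hBapp]; abel
    rw [hy']
    simp only [Φ, Y, Matrix.GeneralLinearGroup.val_mkOfDetNeZero, Matrix.mulVec, dotProduct, Fin.sum_univ_two,
      map_add, (happ _ v).2, (happ _ w).2, hBw, map_zero, add_zero]
    simp only [Matrix.of_apply, Matrix.cons_val_zero, Matrix.cons_val_one, one_mul, zero_mul, add_zero,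
      Subring.coe_add]
    show ((z 0 : K) : AddMonoid.End V) v + (((z 0 : K) : AddMonoid.End V) w + ((z 1 : K) : AddMonoid.End V) w) = _
    rw [← hw]; abel
  -- the group generated by the pairs
  let Rel : Subgroup (GL (Fin 2) K × (AddMonoid.End V)ˣ) :=
    { carrier := {t | ∀ z, Φ ((t.1 : Matrix (Fin 2) (Fin 2) K).mulVec z) = (t.2 : AddMonoid.End V) (Φ z)}
      one_mem' := fun z => by simp
      mul_mem' := fun {s t} hs ht z => by
        show Φ ((((s.1 * t.1 : GL (Fin 2) K)) : Matrix (Fin 2) (Fin 2) K).mulVec z) = _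
        rw [Units.val_mul, ← Matrix.mulVec_mulVec, hs, ht]
        rfl
      inv_mem' := fun {t} ht z => by
        have h := ht ((((t.1)⁻¹ : GL (Fin 2) K) : Matrix (Fin 2) (Fin 2) K).mulVec z)
        rw [Matrix.mulVec_mulVec, Units.mul_inv, Matrix.one_mulVec] at h
        show Φ ((((t.1)⁻¹ : GL (Fin 2) K) : Matrix (Fin 2) (Fin 2) K).mulVec z) = ((t.2⁻¹ : (AddMonoid.End V)ˣ) : AddMonoid.End V) (Φ z)
        rw [h]
        exact (DFunLike.congr_fun (Units.inv_mul t.2) _).symm }
  let T : Subgroup (GL (Fin 2) K × (AddMonoid.End V)ˣ) := Subgroup.closure {(X, x), (Y, y)}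
  have hTR : T ≤ Rel := by
    rw [Subgroup.closure_le]
    rintro t (rfl | rfl)
    · exact hXrel
    · exact hYrel
  let snd : T →* (AddMonoid.End V)ˣ := (MonoidHom.snd _ _).comp T.subtype
  let fst : T →* GL (Fin 2) K := (MonoidHom.fst _ _).comp T.subtype
  have hsnd : Function.Injective snd := by
    intro s t e
    have h1 : ∀ z, ((s : GL (Fin 2) K × (AddMonoid.End V)ˣ).1 : Matrix (Fin 2) (Fin 2) K).mulVec z =
        ((t : GL (Fin 2) K × (AddMonoid.End V)ˣ).1 : Matrix (Fin 2) (Fin 2) K).mulVec z := fun z =>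
      hΦ (by rw [hTR s.2 z, hTR t.2 z]; exact congrArg (fun u : (AddMonoid.End V)ˣ => (u : AddMonoid.End V) (Φ z)) e)
    exact Subtype.ext (Prod.ext (Units.ext (Matrix.ext_iff_mulVec.mpr h1)) e)
  haveI : Finite T := Finite.of_injective snd hsnd
  have hfst : Function.Injective fst := by
    intro s t e
    refine Subtype.ext (Prod.ext e (Units.ext (AddMonoidHom.ext fun u => ?_)))
    -- both act the same way on the span of `v` and `w`, which is everything
    let W : AddSubgroup V := (AddMonoidHom.mk' Φ (fun z z' => by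
      simp only [Φ, Pi.add_apply, Subring.coe_add]
      show (((z 0 : K) : AddMonoid.End V) v + ((z' 0 : K) : AddMonoid.End V) v) +
        (((z 1 : K) : AddMonoid.End V) w + ((z' 1 : K) : AddMonoid.End V) w) = _
      abel)).range
    have hW : W = ⊤ := by
      refine (hirr W ?_ ?_).resolve_left ?_
      · rintro _ ⟨z, rfl⟩; exact ⟨_, hXrel z⟩
      · rintro _ ⟨z, rfl⟩; exact ⟨_, hYrel z⟩
      · intro h
        have : v ∈ W := ⟨![1, 0], by show Φ _ = v; simp [Φ]⟩
        rw [h] at this
        exact hv this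
    obtain ⟨z, rfl⟩ : u ∈ W := hW ▸ AddSubgroup.mem_top u
    show (_ : AddMonoid.End V) (Φ z) = (_ : AddMonoid.End V) (Φ z)
    rw [← hTR s.2 z, ← hTR t.2 z]
    exact congrArg (fun g : GL (Fin 2) K => Φ ((g : Matrix (Fin 2) (Fin 2) K).mulVec z)) e
  have hrange : snd.range = Subgroup.closure ({x, y} : Set (AddMonoid.End V)ˣ) := by
    rw [MonoidHom.range_comp, Subgroup.range_subtype, MonoidHom.map_closure]
    simp [Set.image_insert_eq]
  have hTodd : Odd (Nat.card T) := by
    rw [← hrange, ← Nat.card_congr (MonoidHom.ofInjective hsnd).toEquiv] at hodd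
    exact hodd
  let tX : T := ⟨(X, x), Subgroup.subset_closure (Or.inl rfl)⟩
  let tY : T := ⟨(Y, y), Subgroup.subset_closure (Or.inr rfl)⟩
  have hXp : X ^ p = 1 := by
    have hpow : ∀ n : ℕ, ((X ^ n : GL (Fin 2) K) : Matrix (Fin 2) (Fin 2) K) = !![1, (n : K) * ck; 0, 1] := by
      intro n
      induction n with
      | zero => simp [Matrix.one_fin_two]
      | succ n ih =>
        rw [pow_succ, Units.val_mul, ih]
        simp only [X, Matrix.GeneralLinearGroup.val_mkOfDetNeZero, Matrix.mul_fin_two]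
        simp only [mul_zero, zero_mul, add_zero, zero_add, mul_one, one_mul]
        rw [Nat.cast_succ, add_mul, one_mul, add_comm]
    apply Units.ext
    rw [hpow, CharP.cast_eq_zero, zero_mul, Units.val_one, Matrix.one_fin_two]
  have hX1 : X ≠ 1 := fun e => by
    have h := congrArg (fun M : GL (Fin 2) K => (M : Matrix (Fin 2) (Fin 2) K) 0 1) e
    simp [X, hck] at h
  have htXp : tX ^ p = 1 := hfst (by rw [map_pow, map_one]; exact hXp)
  have hpT : p ∣ Nat.card T := by
    have h : orderOf tX = p := orderOf_eq_prime htXp (fun e => hX1 (congrArg fst e))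
    exact h ▸ orderOf_dvd_natCard tX
  obtain ⟨z, hz, hall⟩ := OddGL2.exists_common_eigenvector (p := p) fst hfst hTodd hpT
  obtain ⟨a, ha⟩ := hall tX
  obtain ⟨b, hb⟩ := hall tY
  have ha0 := congrFun ha 0
  have ha1 := congrFun ha 1
  have hb1 := congrFun hb 1
  simp only [fst, tX, tY, MonoidHom.comp_apply, Subgroup.coe_subtype, MonoidHom.coe_fst, X, Y,
    Matrix.GeneralLinearGroup.val_mkOfDetNeZero, Matrix.mulVec, dotProduct, Fin.sum_univ_two, Matrix.of_apply,
    Matrix.cons_val_zero, Matrix.cons_val_one, one_mul, zero_mul, zero_add, Pi.smul_apply, smul_eq_mul] at ha0 ha1 hb1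
  have hz1 : z 1 = 0 := by
    by_contra hne
    have ha' : a = 1 := (mul_eq_right₀ hne).mp ha1.symm
    rw [ha', one_mul, add_eq_left] at ha0
    exact hne ((mul_eq_zero.mp ha0).resolve_left hck)
  rw [hz1, mul_zero, add_zero] at hb1
  exact hz (funext fun i => by fin_cases i <;> simp [hb1, hz1])

end CfsgLib.OddOrder.QuadraticPair
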