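import Cfsg.Prelude.Def_Local
import Cfsg.Agent.Lib.OddOrder.QuadraticPair
import Cfsg.Agent.Lib.Coprime.Action
import Cfsg.Agent.Lib.Coprime.Abelian
import Cfsg.Agent.Lib.PGroup.Frattini
import Cfsg.Agent.Lib.Involution.BaerSuzuki
import Cfsg.Agent.Lib.Solvable.Cores

set_option autoImplicit false

/-!
`p`-stability of groups of odd order: an element acting quadratically on a `p`-subgroup maps into `O_p` of the
automizer.
-/

open scoped commutatorElement

namespace CfsgLib.OddOrder.PStable

variable {G : Type*} [Group G] [Finite G]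

/-- `N_G(P)` normalizes the image of a characteristic subgroup of `P`. -/
theorem normalizer_le_normalizer_map (P : Subgroup G) (K : Subgroup P) [hK : K.Characteristic] :
    Subgroup.normalizer (P : Set G) ≤ Subgroup.normalizer ((K.map P.subtype : Subgroup G) : Set G) := by
  intro g hg
  apply Coprime.mem_normalizer_of_conj_map_le
  rintro _ ⟨k, hk, rfl⟩
  refine ⟨Coprime.conjHom (le_refl (Subgroup.normalizer (P : Set G))) ⟨g, hg⟩ k, ?_, ?_⟩
  · exact Subgroup.characteristic_iff_le_comap.mp hK _ hk
  · rfl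

theorem commute_of_stabilizes_series {N : Subgroup G} {a k : G} (hcop : (orderOf a).Coprime (Nat.card N))
    (haN : a ∈ Subgroup.centralizer (N : Set G)) (hk : ⁅a, k⁆ ∈ N) : Commute a k :=
  Coprime.commute_of_stabilizes hcop haN hk

/-- Two elements acting quadratically on a `p`-group: `p'`-elements of the group they generate act trivially. -/
theorem pair_centralizes {p : ℕ} [Fact p.Prime] (x y : G) (hodd : Odd (Nat.card G)) (P : Subgroup G)
    (hP : IsPGroup p P) (hxN : x ∈ Subgroup.normalizer (P : Set G)) (hyN : y ∈ Subgroup.normalizer (P : Set G))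
    (hx : ∀ m ∈ P, Commute x ⁅x, m⁆) (hy : ∀ m ∈ P, Commute y ⁅y, m⁆)
    {a : G} (ha : a ∈ Subgroup.closure ({x, y} : Set G)) (hap : (orderOf a).Coprime p) :
    a ∈ Subgroup.centralizer (P : Set G) := by
  induction hn : Nat.card P using Nat.strong_induction_on generalizing P with
  | _ n ih =>
    subst hn
    set L := Subgroup.closure ({x, y} : Set G) with hL
    have hLN : L ≤ Subgroup.normalizer (P : Set G) := (Subgroup.closure_le _).mpr (by
      rintro t (rfl | rfl) <;> assumption)
    rcases eq_or_ne P ⊥ with rfl | hP1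
    · rw [Subgroup.mem_centralizer_iff]
      intro m hm
      rw [Subgroup.coe_bot, Set.mem_singleton_iff] at hm
      simp [hm]
    haveI : Nontrivial P := (Subgroup.nontrivial_iff_ne_bot P).mpr hP1
    set Φ := (frattini P).map P.subtype with hΦ
    -- a maximal invariant proper subgroup above the Frattini subgroup
    obtain ⟨N, hΦN, ⟨hNP, hNne, hNL, hPN⟩, hNmax⟩ :=
      (Set.toFinite {N : Subgroup G | N ≤ P ∧ N ≠ P ∧ L ≤ Subgroup.normalizer (N : Set G) ∧
        P ≤ Subgroup.normalizer (N : Set G)}).exists_le_maximal (a := Φ) ⟨Subgroup.map_subtype_le _, fun e => by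
          obtain ⟨M, hM, hle⟩ := (eq_top_or_exists_le_coatom (⊥ : Subgroup P)).resolve_left bot_ne_top
          apply hM.1
          rw [eq_top_iff]
          intro m _
          have h1 : (m : G) ∈ Φ := e.symm ▸ m.2
          obtain ⟨m', hm', e'⟩ := h1
          rw [← Subtype.ext (show (m' : G) = m from e')]
          exact frattini_le_coatom hM hm', le_trans hLN (normalizer_le_normalizer_map P _),
          le_trans Subgroup.le_normalizer (normalizer_le_normalizer_map P _)⟩
    have hlt : Nat.card N < Nat.card P :=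
      lt_of_not_ge fun h => hNne (Subgroup.eq_of_le_of_card_ge hNP h)
    have haN : a ∈ Subgroup.centralizer (N : Set G) :=
      ih _ hlt N (hP.to_le hNP) (hNL (Subgroup.subset_closure (Or.inl rfl)))
        (hNL (Subgroup.subset_closure (Or.inr rfl))) (fun m hm => hx m (hNP hm)) (fun m hm => hy m (hNP hm)) rfl
    -- the top factor as an additive group with the action of `L`
    haveI : (N.subgroupOf P).Normal := Subgroup.normal_subgroupOf_of_le_normalizer hPN
    let Q := P ⧸ N.subgroupOf P
    have hcomm : ∀ u w : Q, u * w = w * u := by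
      intro u w
      obtain ⟨u, rfl⟩ := QuotientGroup.mk'_surjective _ u
      obtain ⟨w, rfl⟩ := QuotientGroup.mk'_surjective _ w
      rw [← commutatorElement_eq_one_iff_mul_comm, ← map_commutatorElement]
      exact (QuotientGroup.eq_one_iff _).mpr
        (hΦN ⟨⁅u, w⁆, PGroup.Frattini.commutatorElement_mem_frattini hP u w, rfl⟩ : (⁅u, w⁆ : P).1 ∈ N)
    letI : CommGroup Q := { (inferInstance : Group Q) with mul_comm := hcomm }
    have hpQ : ∀ u : Additive Q, p • u = 0 := by
      intro u
      obtain ⟨m, hm⟩ := QuotientGroup.mk'_surjective (N.subgroupOf P) u.toMul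
      apply Additive.toMul.injective
      rw [toMul_nsmul, toMul_zero, ← hm, ← map_pow]
      exact (QuotientGroup.eq_one_iff _).mpr
        (hΦN ⟨m ^ p, PGroup.Frattini.pow_mem_frattini hP m, rfl⟩ : (m ^ p : P).1 ∈ N)
    let act : L → (P →* P) := fun l => (Coprime.conjHom hLN l).toMonoidHom
    have hact : ∀ (l : L) (m : P), (act l m : G) = l * m * (l : G)⁻¹ := fun l m => rfl
    let actQ : L → (Q →* Q) := fun l => QuotientGroup.lift (N.subgroupOf P)
      ((QuotientGroup.mk' _).comp (act l)) (fun m hm => by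
        refine (QuotientGroup.eq_one_iff _).mpr ?_
        rw [Subgroup.mem_subgroupOf, hact]
        exact (Subgroup.mem_normalizer_iff.mp (hNL l.2) _).mp hm)
    have hactQ : ∀ (l : L) (m : P), actQ l (QuotientGroup.mk' _ m) = QuotientGroup.mk' _ (act l m) := fun l m => rfl
    let ρ0 : L →* AddMonoid.End (Additive Q) :=
      { toFun := fun l => MonoidHom.toAdditive (actQ l)
        map_one' := by
          refine AddMonoidHom.ext fun u => ?_
          obtain ⟨m, hm⟩ := QuotientGroup.mk'_surjective (N.subgroupOf P) u.toMul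
          show Additive.ofMul (actQ 1 u.toMul) = u
          rw [← hm, hactQ, show act 1 m = m from Subtype.ext (by simp [hact]), hm]
          rfl
        map_mul' := fun l l' => by
          refine AddMonoidHom.ext fun u => ?_
          obtain ⟨m, hm⟩ := QuotientGroup.mk'_surjective (N.subgroupOf P) u.toMul
          show Additive.ofMul (actQ (l * l') u.toMul) = Additive.ofMul (actQ l (actQ l' u.toMul))
          rw [← hm, hactQ, hactQ, hactQ,
            show act (l * l') m = act l (act l' m) from Subtype.ext (by simp [hact, mul_assoc])] }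
    let ρ := ρ0.toHomUnits
    let xL : L := ⟨x, Subgroup.subset_closure (Or.inl rfl)⟩
    let yL : L := ⟨y, Subgroup.subset_closure (Or.inr rfl)⟩
    have hgen : Subgroup.closure ({ρ xL, ρ yL} : Set (AddMonoid.End (Additive Q))ˣ) = ρ.range := by
      refine le_antisymm ((Subgroup.closure_le _).mpr (by rintro t (rfl | rfl) <;> exact ⟨_, rfl⟩)) ?_
      rintro _ ⟨⟨l, hl⟩, rfl⟩
      induction hl using Subgroup.closure_induction with
      | mem t ht =>
        rcases ht with rfl | rfl
        · exact Subgroup.subset_closure (Or.inl rfl)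
        · exact Subgroup.subset_closure (Or.inr rfl)
      | one => exact (map_one ρ).symm ▸ one_mem (Subgroup.closure ({ρ xL, ρ yL} : Set (AddMonoid.End (Additive Q))ˣ))
      | mul s t hs ht ihs iht =>
        rw [show (⟨s * t, _⟩ : L) = ⟨s, hs⟩ * ⟨t, ht⟩ from rfl, map_mul]
        exact mul_mem ihs iht
      | inv s hs ihs =>
        rw [show (⟨s⁻¹, _⟩ : L) = (⟨s, hs⟩ : L)⁻¹ from rfl, map_inv]
        exact inv_mem ihs
    have hquad : ∀ (l : L), (∀ m ∈ P, Commute (l : G) ⁅(l : G), m⁆) → ∀ u : Additive Q,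
        (ρ l : AddMonoid.End (Additive Q)) ((ρ l : AddMonoid.End (Additive Q)) u - u) =
          (ρ l : AddMonoid.End (Additive Q)) u - u := by
      intro l hl u
      obtain ⟨m, hm⟩ := QuotientGroup.mk'_surjective (N.subgroupOf P) u.toMul
      show Additive.ofMul (actQ l (actQ l u.toMul / u.toMul)) = Additive.ofMul (actQ l u.toMul / u.toMul)
      rw [← hm, hactQ, ← map_div, hactQ]
      congr 2
      apply Subtype.ext
      rw [hact, div_eq_mul_inv, Subgroup.coe_mul, Subgroup.coe_inv, hact]
      have := (hl m m.2).eq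
      rw [commutatorElement_def] at this
      rw [← mul_inv_eq_iff_eq_mul] at this
      exact this
    have hirr : ∀ W : AddSubgroup (Additive Q), (∀ w ∈ W, (ρ xL : AddMonoid.End (Additive Q)) w ∈ W) →
        (∀ w ∈ W, (ρ yL : AddMonoid.End (Additive Q)) w ∈ W) → W = ⊥ ∨ W = ⊤ := by
      intro W hWx hWy
      let U : Subgroup G := ((AddSubgroup.toSubgroup' W).comap (QuotientGroup.mk' (N.subgroupOf P))).map P.subtype
      have hUP : U ≤ P := Subgroup.map_subtype_le _
      have hmemU : ∀ m : P, (m : G) ∈ U ↔ Additive.ofMul (QuotientGroup.mk' (N.subgroupOf P) m) ∈ W := fun m => by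
        constructor
        · rintro ⟨m', hm', e⟩
          rw [← Subtype.ext (show (m' : G) = m from e)]
          exact hm'
        · exact fun h => ⟨m, h, rfl⟩
      have hNU : N ≤ U := by
        intro m hm
        rw [show m = ((⟨m, hNP hm⟩ : P) : G) from rfl, hmemU]
        rw [show QuotientGroup.mk' (N.subgroupOf P) ⟨m, hNP hm⟩ = 1 from (QuotientGroup.eq_one_iff _).mpr hm]
        exact W.zero_mem
      have hLU : L ≤ Subgroup.normalizer (U : Set G) := by
        refine (Subgroup.closure_le _).mpr ?_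
        have key : ∀ (l : L), (∀ w ∈ W, (ρ l : AddMonoid.End (Additive Q)) w ∈ W) →
            (l : G) ∈ Subgroup.normalizer (U : Set G) := by
          intro l hl
          apply Coprime.mem_normalizer_of_conj_map_le
          intro m hm
          rw [show m = ((⟨m, hUP hm⟩ : P) : G) from rfl, hmemU] at hm
          have := hl _ hm
          rw [show (l : G) * m * (l : G)⁻¹ = ((act l ⟨m, hUP ‹_›⟩ : P) : G) from rfl, hmemU]
          exact this
        rintro t (rfl | rfl)
        · exact key xL hWx
        · exact key yL hWy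
      have hPU : P ≤ Subgroup.normalizer (U : Set G) := by
        refine Subgroup.le_normalizer_iff.mpr fun g hg m hm => ?_
        have hm0 : (⟨m, hUP hm⟩ : P).1 ∈ U := hm
        rw [hmemU] at hm0
        rw [show g * m * g⁻¹ = (((⟨g, hg⟩ : P) * ⟨m, hUP hm⟩ * (⟨g, hg⟩ : P)⁻¹ : P) : G) from rfl, hmemU]
        rw [show QuotientGroup.mk' (N.subgroupOf P) ((⟨g, hg⟩ : P) * ⟨m, hUP hm⟩ * (⟨g, hg⟩ : P)⁻¹) =
          QuotientGroup.mk' (N.subgroupOf P) ⟨m, hUP hm⟩ by rw [map_mul, map_mul, map_inv, hcomm, inv_mul_cancel_left]]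
        exact hm0
      by_cases hUeq : U = P
      · right
        rw [eq_top_iff]
        intro u _
        obtain ⟨m, hm⟩ := QuotientGroup.mk'_surjective (N.subgroupOf P) u.toMul
        have : (m : G) ∈ U := hUeq.symm ▸ m.2
        rw [hmemU, hm] at this
        exact this
      · left
        have hle : U ≤ N := hNmax ⟨hUP, hUeq, hLU, hPU⟩ hNU
        rw [eq_bot_iff]
        intro u hu
        obtain ⟨m, hm⟩ := QuotientGroup.mk'_surjective (N.subgroupOf P) u.toMul
        have : (m : G) ∈ U := (hmemU m).mpr (by rw [hm]; exact hu)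
        rw [AddSubgroup.mem_bot]
        apply Additive.toMul.injective
        rw [← hm, toMul_zero]
        exact (QuotientGroup.eq_one_iff m).mpr (hle this)
    obtain ⟨h1, h2⟩ := QuadraticPair.eq_one_of_irreducible hpQ (ρ xL) (ρ yL) (hquad xL hx) (hquad yL hy)
      (by
        rw [hgen]
        exact (hodd.of_dvd_nat (Subgroup.card_subgroup_dvd_card L)).of_dvd_nat (Subgroup.card_range_dvd ρ)) hirr
    have hρa : ρ ⟨a, ha⟩ = 1 := by
      have : ρ ⟨a, ha⟩ ∈ Subgroup.closure ({ρ xL, ρ yL} : Set (AddMonoid.End (Additive Q))ˣ) := hgen ▸ ⟨_, rfl⟩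
      rw [h1, h2, Set.pair_eq_singleton, Subgroup.closure_singleton_one, Subgroup.mem_bot] at this
      exact this
    rw [Subgroup.mem_centralizer_iff]
    intro m hm
    refine (commute_of_stabilizes_series (N := N) ?_ haN ?_).eq.symm
    · obtain ⟨k, hk⟩ := IsPGroup.iff_card.mp (hP.to_le hNP)
      rw [hk]; exact hap.pow_right k
    · have e := DFunLike.congr_fun (congrArg Units.val hρa) (Additive.ofMul (QuotientGroup.mk' (N.subgroupOf P) ⟨m, hm⟩))
      have e' : actQ ⟨a, ha⟩ (QuotientGroup.mk' _ ⟨m, hm⟩) = QuotientGroup.mk' _ ⟨m, hm⟩ := Additive.ofMul.injective e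
      rw [hactQ] at e'
      have h3 : act ⟨a, ha⟩ ⟨m, hm⟩ / ⟨m, hm⟩ ∈ N.subgroupOf P := by
        rw [← QuotientGroup.eq_one_iff]
        show QuotientGroup.mk' _ _ = 1
        rw [map_div, e', div_self']
      rw [commutatorElement_def]
      simpa [Subgroup.mem_subgroupOf, hact, div_eq_mul_inv, mul_assoc] using h3

/-- A quadratically acting element of a group of odd order maps into `O_p(G / C_G(P))`. -/
theorem quadratic_mem_pCore {p : ℕ} [Fact p.Prime] (hodd : Odd (Nat.card G)) (P : Subgroup G) [P.Normal]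
    (hP : IsPGroup p P) (C : Subgroup G) [C.Normal] (hC : C = Subgroup.centralizer (P : Set G)) (x : G)
    (hx : ∀ m ∈ P, Commute x ⁅x, m⁆) :
    (QuotientGroup.mk' C x) ∈ Cfsg.pCore p (G ⧸ C) := by
  set q := QuotientGroup.mk' C with hq
  have hN : ∀ g : G, g ∈ Subgroup.normalizer (P : Set G) := fun g => by
    rw [Subgroup.normalizer_eq_top]; exact Subgroup.mem_top g
  obtain ⟨N, hNn, hNp, hxN⟩ := Involution.BaerSuzuki.exists_normal (p := p) (Subgroup.zpowers (q x)) (by
    intro g
    obtain ⟨g, rfl⟩ := QuotientGroup.mk'_surjective C g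
    set y := g * x * g⁻¹ with hy
    have hyq : ∀ m ∈ P, Commute y ⁅y, m⁆ := by
      intro m hm
      have h1 := hx (g⁻¹ * m * g) (by
        have := ‹P.Normal›.conj_mem m hm g⁻¹
        simpa using this)
      have e : ⁅y, m⁆ = g * ⁅x, g⁻¹ * m * g⁆ * g⁻¹ := by
        rw [hy, commutatorElement_def, commutatorElement_def]; group
      rw [e, hy]
      exact h1.map (MulAut.conj g).toMonoidHom
    have hle : Subgroup.zpowers (q x) ⊔ (Subgroup.zpowers (q x)).map (MulAut.conj (q g)).toMonoidHom ≤
        (Subgroup.closure ({x, y} : Set G)).map q := by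
      refine sup_le (Subgroup.zpowers_le.mpr ⟨x, Subgroup.subset_closure (Or.inl rfl), rfl⟩) ?_
      rw [MonoidHom.map_zpowers, Subgroup.zpowers_le]
      exact ⟨y, Subgroup.subset_closure (Or.inr rfl), by simp [hy]⟩
    refine IsPGroup.to_le ?_ hle
    rintro ⟨_, l, hl, rfl⟩
    obtain ⟨k, m, hm, hkm⟩ := Nat.exists_eq_pow_mul_and_not_dvd (orderOf_pos l).ne' p (Fact.out : p.Prime).ne_one
    refine ⟨k, Subtype.ext ?_⟩
    show q l ^ p ^ k = 1
    rw [← map_pow]
    refine (QuotientGroup.eq_one_iff _).mpr ?_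
    rw [hC]
    refine pair_centralizes x y hodd P hP (hN x) (hN y) hx hyq (pow_mem hl _) ?_
    rw [orderOf_pow_of_dvd (pow_ne_zero _ (Fact.out : p.Prime).ne_zero) (hkm ▸ Dvd.intro _ rfl), hkm,
      Nat.mul_div_cancel_left _ (pow_pos (Fact.out : p.Prime).pos _)]
    exact (((Fact.out : p.Prime).coprime_iff_not_dvd).mpr hm).symm)
  haveI := hNn
  exact Solvable.Cores.le_pCore hNp (hxN (Subgroup.mem_zpowers _))

theorem commute_of_commutator_eq_bot {P A : Subgroup G} (h : ⁅⁅P, A⁆, A⁆ = ⊥) {a m : G} (ha : a ∈ A)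
    (hm : m ∈ P) : Commute a ⁅a, m⁆ := by
  have h1 : ⁅m, a⁆ ∈ ⁅P, A⁆ := Subgroup.commutator_mem_commutator hm ha
  have h2 := Subgroup.mem_centralizer_iff.mp ((Subgroup.commutator_eq_bot_iff_le_centralizer.mp h) h1) a ha
  have h3 : Commute a ⁅m, a⁆ := h2
  rw [← commutatorElement_inv m a]
  exact h3.inv_right

/-- Abelian subgroups normalized by `P` act quadratically on `P`. -/
theorem commutator_commutator_of_abelian {P B : Subgroup G} [IsMulCommutative B]
    (h : P ≤ Subgroup.normalizer (B : Set G)) : ⁅⁅P, B⁆, B⁆ = ⊥ :=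
  le_bot_iff.mp (le_trans (Subgroup.commutator_mono (Subgroup.le_normalizer_iff_commutator_le_right.mp h) le_rfl)
    (Subgroup.commutator_eq_bot_iff_le_centralizer.mpr B.le_centralizer).le)

/-- The subgroup of elements mapping into `O_p(G/C)` absorbs quadratic subgroups. -/
theorem map_le_pCore {p : ℕ} [Fact p.Prime] (hodd : Odd (Nat.card G)) (P : Subgroup G) [P.Normal]
    (hP : IsPGroup p P) (C : Subgroup G) [C.Normal] (hC : C = Subgroup.centralizer (P : Set G))
    (A : Subgroup G) (hA : ⁅⁅P, A⁆, A⁆ = ⊥) : A.map (QuotientGroup.mk' C) ≤ Cfsg.pCore p (G ⧸ C) := by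
  rintro _ ⟨a, ha, rfl⟩
  exact quadratic_mem_pCore hodd P hP C hC a fun m hm => commute_of_commutator_eq_bot hA ha hm

end CfsgLib.OddOrder.PStable
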