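import Cfsg.Agent.S1466
import Cfsg.Agent.S1467
import Cfsg.Agent.S1465
import Cfsg.Agent.Lib.OddOrder.PStable

set_option autoImplicit false

/-!
The Puig series of a subgroup `H`, computed inside the ambient group.
-/

namespace CfsgLib.OddOrder.Puig

variable {G : Type*} [Group G]

/-- One Puig step inside `H`. -/
def pstep (H X : Subgroup G) : Subgroup G :=
  sSup {A : Subgroup G | A ≤ H ∧ IsMulCommutative A ∧ X ≤ Subgroup.normalizer (A : Set G)}

/-- The Puig series of `H` inside `G`. -/
def pseq (H : Subgroup G) : ℕ → Subgroup G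
  | 0 => ⊥
  | n + 1 => pstep H (pseq H n)

/-- The Puig subgroup `L(H)` inside `G`. -/
def pupper (H : Subgroup G) : Subgroup G := ⨅ n : ℕ, pseq H (2 * n + 1)

/-- The lower Puig subgroup `L_*(H)` inside `G`. -/
def plower (H : Subgroup G) : Subgroup G := ⨆ n : ℕ, pseq H (2 * n)

theorem le_pstep {H X A : Subgroup G} (h1 : A ≤ H) (h2 : IsMulCommutative A)
    (h3 : X ≤ Subgroup.normalizer (A : Set G)) : A ≤ pstep H X :=
  le_sSup (s := {A : Subgroup G | A ≤ H ∧ IsMulCommutative A ∧ X ≤ Subgroup.normalizer (A : Set G)})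
    ⟨h1, h2, h3⟩

theorem pstep_le_iff {H X K : Subgroup G} :
    pstep H X ≤ K ↔ ∀ A : Subgroup G, A ≤ H → IsMulCommutative A →
      X ≤ Subgroup.normalizer (A : Set G) → A ≤ K :=
  ⟨fun h _ h1 h2 h3 => (le_pstep h1 h2 h3).trans h,
    fun h => sSup_le fun A hA => h A hA.1 hA.2.1 hA.2.2⟩

theorem pstep_le (H X : Subgroup G) : pstep H X ≤ H := pstep_le_iff.mpr fun _ h _ _ => h

theorem pupper_le (H : Subgroup G) : pupper H ≤ H :=
  (iInf_le _ 0).trans (pstep_le H _)

theorem pseq_le (H : Subgroup G) : ∀ n : ℕ, pseq H n ≤ H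
  | 0 => bot_le
  | _ + 1 => pstep_le H _

theorem plower_le (H : Subgroup G) : plower H ≤ H := iSup_le fun n => pseq_le H _

variable {R : Type*} [Group R]

theorem map_puigStep (f : R →* G) (hf : Function.Injective f) (X : Subgroup R) :
    (Cfsg.puigStep X).map f = pstep f.range (X.map f) := by
  refine le_antisymm ?_ ?_
  · rw [Cfsg.puigStep, Subgroup.map_le_iff_le_comap]
    refine sSup_le fun A hA => ?_
    rw [← Subgroup.map_le_iff_le_comap]
    haveI := hA.1
    exact le_pstep (Subgroup.map_le_range f A) inferInstance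
      ((Subgroup.map_mono hA.2).trans (Subgroup.le_normalizer_map f))
  · refine pstep_le_iff.mpr fun B hB1 hB2 hB3 => ?_
    have hB : (B.comap f).map f = B := Subgroup.map_comap_eq_self hB1
    rw [← hB]
    refine Subgroup.map_mono (le_sSup (s := {A : Subgroup R | IsMulCommutative A ∧
      X ≤ Subgroup.normalizer (A : Set R)}) ⟨?_, ?_⟩)
    · refine ⟨⟨fun a b => Subtype.ext (hf ?_)⟩⟩
      haveI := hB2
      have h := congrArg Subtype.val
        (mul_comm' (⟨f a.1, a.2⟩ : B) (⟨f b.1, b.2⟩ : B))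
      simpa [map_mul] using h
    · intro x hx
      rw [Subgroup.mem_normalizer_iff]
      intro a
      have h := Subgroup.mem_normalizer_iff.mp (hB3 (Subgroup.mem_map_of_mem f hx)) (f a)
      simpa [Subgroup.mem_comap, map_mul, map_inv] using h

theorem map_puigSeq (f : R →* G) (hf : Function.Injective f) :
    ∀ n : ℕ, (Cfsg.puigSeq R n).map f = pseq f.range n
  | 0 => Subgroup.map_bot f
  | n + 1 => by
    show (Cfsg.puigStep (Cfsg.puigSeq R n)).map f = pstep f.range (pseq f.range n)
    rw [map_puigStep f hf, map_puigSeq f hf n]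

theorem map_puigSubgroup (f : R →* G) (hf : Function.Injective f) :
    (Cfsg.puigSubgroup R).map f = pupper f.range := by
  rw [Cfsg.puigSubgroup, Subgroup.map_iInf f hf]
  simp [pupper, map_puigSeq f hf]

theorem map_puigLower (f : R →* G) (hf : Function.Injective f) :
    (Cfsg.puigLower R).map f = plower f.range := by
  rw [Cfsg.puigLower, Subgroup.map_iSup]
  simp [plower, map_puigSeq f hf]

theorem map_puigSeq_subtype (H : Subgroup G) (n : ℕ) :
    (Cfsg.puigSeq H n).map H.subtype = pseq H n := by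
  rw [map_puigSeq _ H.subtype_injective, H.range_subtype]

theorem map_puigSubgroup_subtype (H : Subgroup G) :
    (Cfsg.puigSubgroup H).map H.subtype = pupper H := by
  rw [map_puigSubgroup _ H.subtype_injective, H.range_subtype]

theorem map_puigLower_subtype (H : Subgroup G) :
    (Cfsg.puigLower H).map H.subtype = plower H := by
  rw [map_puigLower _ H.subtype_injective, H.range_subtype]

/-- Centre of a subgroup, mapped by an injective map. -/
theorem map_center_map (f : R →* G) (hf : Function.Injective f) (L : Subgroup R) :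
    ((Subgroup.center L).map L.subtype).map f =
      L.map f ⊓ Subgroup.centralizer ((L.map f : Subgroup G) : Set G) := by
  ext x
  constructor
  · rintro ⟨_, ⟨z, hz, rfl⟩, rfl⟩
    refine ⟨⟨z, z.2, rfl⟩, Subgroup.mem_centralizer_iff.mpr ?_⟩
    rintro _ ⟨l, hl, rfl⟩
    have h := congrArg Subtype.val (Subgroup.mem_center_iff.mp hz ⟨l, hl⟩)
    rw [← map_mul, ← map_mul]
    exact congrArg f h
  · rintro ⟨⟨l, hl, rfl⟩, hc⟩
    refine ⟨l, ⟨⟨l, hl⟩, Subgroup.mem_center_iff.mpr fun m => Subtype.ext (hf ?_), rfl⟩, rfl⟩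
    have h := Subgroup.mem_centralizer_iff.mp hc (f m) ⟨m, m.2, rfl⟩
    simpa [map_mul] using h

variable [Finite G]

theorem stable (H : Subgroup G) :
    plower H ≤ pupper H ∧ pstep H (plower H) = pupper H ∧ pstep H (pupper H) = plower H := by
  obtain ⟨-, -, -, -, h1, h2, h3⟩ := Cfsg.Agent.S1467.result (G := H)
  rw [← map_puigLower_subtype, ← map_puigSubgroup_subtype]
  refine ⟨Subgroup.map_mono h1, ?_, ?_⟩
  · conv_rhs => rw [← h2, map_puigStep _ H.subtype_injective, H.range_subtype]
  · conv_rhs => rw [← h3, map_puigStep _ H.subtype_injective, H.range_subtype]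

theorem normalizer_le (H : Subgroup G) (g : G) (hg : g ∈ Subgroup.normalizer (H : Set G)) (n : ℕ) :
    (pseq H n).map (MulAut.conj g).toMonoidHom = pseq H n := by
  have hH : H.map (MulAut.conj g).toMonoidHom = H := by
    refine Subgroup.ext fun x => ⟨?_, fun hx => ?_⟩
    · rintro ⟨y, hy, rfl⟩
      simpa using (Subgroup.mem_normalizer_iff.mp hg y).mp hy
    · refine ⟨g⁻¹ * x * g, ?_, by simp [mul_assoc]⟩
      have := Subgroup.mem_normalizer_iff.mp hg (g⁻¹ * x * g)
      rw [SetLike.mem_coe]
      exact this.mpr (by simpa [mul_assoc] using hx)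
  have hf : Function.Injective ((MulAut.conj g).toMonoidHom.comp H.subtype) :=
    (MulAut.conj g).injective.comp H.subtype_injective
  conv_lhs => rw [← map_puigSeq_subtype, Subgroup.map_map, map_puigSeq _ hf]
  rw [MonoidHom.range_comp, H.range_subtype, hH]

theorem normalizer_le_normalizer_pupper (H : Subgroup G) :
    Subgroup.normalizer (H : Set G) ≤ Subgroup.normalizer (pupper H : Set G) := by
  intro g hg
  have h : (pupper H).map (MulAut.conj g).toMonoidHom = pupper H := by
    rw [pupper, Subgroup.map_iInf _ (MulAut.conj g).injective]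
    exact iInf_congr fun n => normalizer_le H g hg _
  rw [Subgroup.mem_normalizer_iff]
  intro x
  constructor
  · intro hx
    have := Subgroup.mem_map_of_mem (MulAut.conj g).toMonoidHom hx
    rw [h] at this
    simpa using this
  · intro hx
    rw [← h] at hx
    obtain ⟨y, hy, hyx⟩ := hx
    have : y = x := by simpa using hyx
    rwa [this] at hy

theorem normal_pseq (H : Subgroup G) [H.Normal] (n : ℕ) : (pseq H n).Normal := by
  refine ⟨fun x hx g => ?_⟩
  have h := normalizer_le H g (by rw [Subgroup.normalizer_eq_top]; exact Subgroup.mem_top g) n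
  rw [← h]
  exact ⟨x, hx, by simp⟩

theorem normal_pupper (H : Subgroup G) [H.Normal] : (pupper H).Normal := by
  refine Subgroup.normalizer_eq_top_iff.mp (eq_top_iff.mpr ?_)
  exact le_trans (by rw [Subgroup.normalizer_eq_top]) (normalizer_le_normalizer_pupper H)

theorem centralizer_le {p : ℕ} [Fact p.Prime] (H : Subgroup G) (hH : IsPGroup p H) :
    (∀ n : ℕ, 0 < n → H ⊓ Subgroup.centralizer (pseq H n : Set G) ≤ pseq H n) ∧
      H ⊓ Subgroup.centralizer (plower H : Set G) ≤ plower H ∧
      H ⊓ Subgroup.centralizer (pupper H : Set G) ≤ pupper H := by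
  rcases Subgroup.bot_or_nontrivial H with hb | hb
  · subst hb
    exact ⟨fun n _ => le_trans inf_le_left bot_le, le_trans inf_le_left bot_le,
      le_trans inf_le_left bot_le⟩
  obtain ⟨h1, h2, h3, -⟩ := Cfsg.Agent.S1466.result p hH
  have key : ∀ K : Subgroup H, Subgroup.centralizer (K : Set H) ≤ K →
      H ⊓ Subgroup.centralizer ((K.map H.subtype : Subgroup G) : Set G) ≤ K.map H.subtype := by
    rintro K hK x ⟨hxH, hxC⟩
    refine ⟨⟨x, hxH⟩, hK (Subgroup.mem_centralizer_iff.mpr fun k hk => Subtype.ext ?_), rfl⟩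
    exact Subgroup.mem_centralizer_iff.mp hxC k ⟨k, hk, rfl⟩
  refine ⟨fun n hn => ?_, ?_, ?_⟩
  · rw [← map_puigSeq_subtype]; exact key _ (h1 n hn).2
  · rw [← map_puigLower_subtype]; exact key _ h2.2
  · rw [← map_puigSubgroup_subtype]; exact key _ h3.2

/-- A subgroup between `L(S)` and `S` has the same Puig subgroup. -/
theorem pupper_eq_of_le {S P : Subgroup G} (h1 : pupper S ≤ P) (h2 : P ≤ S) :
    pupper P = pupper S := by
  obtain ⟨hle, hlu, hul⟩ := stable S
  refine le_antisymm (le_iInf fun n => (iInf_le _ n).trans ?_) (le_iInf fun n => ?_)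
  · have key : ∀ m : ℕ, pseq S (2 * m) ≤ pseq P (2 * m) ∧
        pseq P (2 * m + 1) ≤ pseq S (2 * m + 1) := by
      intro m
      induction m with
      | zero =>
        refine ⟨(bot_le : (⊥ : Subgroup G) ≤ _), pstep_le_iff.mpr fun A hA hc _ => ?_⟩
        exact le_pstep (hA.trans h2) hc bot_le
      | succ m ih =>
        have e1 : pseq S (2 * (m + 1)) ≤ pseq P (2 * (m + 1)) := by
          refine pstep_le_iff.mpr fun A hA hc hn => le_pstep ?_ hc (ih.2.trans hn)
          refine le_trans ?_ h1
          refine le_trans ?_ hle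
          exact le_trans (le_pstep hA hc hn) (le_iSup (fun k => pseq S (2 * k)) (m + 1))
        refine ⟨e1, pstep_le_iff.mpr fun A hA hc hn => ?_⟩
        exact le_pstep (hA.trans h2) hc (e1.trans hn)
    exact (key n).2
  · have key : ∀ m : ℕ, pseq P (2 * m) ≤ plower S ∧ pupper S ≤ pseq P (2 * m + 1) := by
      intro m
      induction m with
      | zero =>
        refine ⟨(bot_le : (⊥ : Subgroup G) ≤ _), ?_⟩
        rw [← hlu]
        refine pstep_le_iff.mpr fun A hA hc hn => le_pstep ?_ hc bot_le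
        exact le_trans (hlu ▸ le_pstep hA hc hn) h1
      | succ m ih =>
        have e1 : pseq P (2 * (m + 1)) ≤ plower S := by
          rw [← hul]
          exact pstep_le_iff.mpr fun A hA hc hn => le_pstep (hA.trans h2) hc (ih.2.trans hn)
        refine ⟨e1, ?_⟩
        conv_lhs => rw [← hlu]
        refine pstep_le_iff.mpr fun A hA hc hn => le_pstep ?_ hc (e1.trans hn)
        exact le_trans (hlu ▸ le_pstep hA hc hn) h1
    exact (key n).2

/-- A Sylow subgroup meets a normal subgroup in a Sylow subgroup of it. -/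
theorem exists_sylow_inf {p : ℕ} [Fact p.Prime] (D : Subgroup G) [hDn : D.Normal] (S : Sylow p G) :
    ∃ Q : Sylow p D, (Q : Subgroup D).map D.subtype = (S : Subgroup G) ⊓ D := by
  obtain ⟨Q, hQ⟩ := (S.isPGroup'.comap_of_injective D.subtype D.subtype_injective).exists_le_sylow
  refine ⟨Q, ?_⟩
  have hle : (S : Subgroup G) ⊓ D ≤ (Q : Subgroup D).map D.subtype := fun x hx =>
    ⟨⟨x, hx.2⟩, hQ hx.1, rfl⟩
  obtain ⟨S', hS'⟩ := (Q.isPGroup'.map D.subtype).exists_le_sylow
  obtain ⟨g, hg⟩ := MulAction.exists_smul_eq G S S'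
  refine (Subgroup.eq_of_le_of_card_ge hle ?_).symm
  have h1 : (Q : Subgroup D).map D.subtype ≤
      ((S : Subgroup G) ⊓ D).map (MulAut.conj g).toMonoidHom := by
    intro x hx
    have hxS : x ∈ ((g • S : Sylow p G) : Subgroup G) := by rw [hg]; exact hS' hx
    rw [Sylow.coe_subgroup_smul] at hxS
    obtain ⟨y, hy, hyx⟩ := hxS
    refine ⟨y, ⟨hy, ?_⟩, hyx⟩
    have hxD : x ∈ D := Subgroup.map_subtype_le _ hx
    have := hDn.conj_mem x hxD g⁻¹
    rw [← hyx] at this
    simpa [mul_assoc] using this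
  exact (Subgroup.card_le_of_le h1).trans
    (le_of_eq (Subgroup.card_map_of_injective (MulAut.conj g).injective))

/-- Puig's inclusions: `L_*(S) ≤ L_*(O_p(G))` and `L(O_p(G)) ≤ L(S)`. -/
theorem chain [Group.IsSolvable G] {p : ℕ} [Fact p.Prime] (hodd : Odd (Nat.card G)) (hp : p ≠ 2)
    (hO : Cfsg.pPrimeCore p G = ⊥) (S : Sylow p G) :
    plower (S : Subgroup G) ≤ plower (Cfsg.pCore p G) ∧
      pupper (Cfsg.pCore p G) ≤ pupper (S : Subgroup G) := by
  set T := Cfsg.pCore p G with hT
  have hTp : IsPGroup p T := CfsgLib.Solvable.Cores.isPGroup_pCore p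
  have hTS : T ≤ (S : Subgroup G) := hTp.le_sylow_of_normal S
  haveI hn : ∀ n, (pseq T n).Normal := fun n => normal_pseq T n
  have key : ∀ m : ℕ, pseq (S : Subgroup G) (2 * m) ≤ pseq T (2 * m) ∧
      pseq T (2 * m + 1) ≤ pseq (S : Subgroup G) (2 * m + 1) := by
    intro m
    induction m with
    | zero =>
      refine ⟨(bot_le : (⊥ : Subgroup G) ≤ _), pstep_le_iff.mpr fun A hA hc _ => ?_⟩
      exact le_pstep (hA.trans hTS) hc bot_le
    | succ m ih =>
      have e1 : pseq (S : Subgroup G) (2 * (m + 1)) ≤ pseq T (2 * (m + 1)) := by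
        refine pstep_le_iff.mpr fun A hA hc hnA => le_pstep ?_ hc (ih.2.trans hnA)
        have h := (Cfsg.Agent.S1465.result hodd p hp (pseq T (2 * m + 1))
          (hTp.to_le (pseq_le T _)) {A} (by
            intro B hB
            rw [Set.mem_singleton_iff] at hB
            subst hB
            exact ⟨hc, S.isPGroup'.to_le hA, ih.2.trans hnA⟩)).2 hO
          ((centralizer_le T hTp).1 _ (Nat.succ_pos _))
        simpa using h
      refine ⟨e1, pstep_le_iff.mpr fun A hA hc hnA => ?_⟩
      exact le_pstep (hA.trans hTS) hc (e1.trans hnA)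
  exact ⟨iSup_le fun m => (key m).1.trans (le_iSup (fun k => pseq T (2 * k)) m),
    le_iInf fun m => (iInf_le _ m).trans (key m).2⟩

/-- Puig's theorem: `Z(L(S))` is normal when `O_{p'}(G) = 1`. -/
theorem center_pupper_normal [Group.IsSolvable G] {p : ℕ} [Fact p.Prime] (hodd : Odd (Nat.card G))
    (hp : p ≠ 2) (hO : Cfsg.pPrimeCore p G = ⊥) (S : Sylow p G) :
    (pupper (S : Subgroup G) ⊓ Subgroup.centralizer (pupper (S : Subgroup G) : Set G)).Normal := by
  obtain ⟨hlo, hup⟩ := chain hodd hp hO S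
  set T := Cfsg.pCore p G with hT
  set LS := pupper (S : Subgroup G) with hLS
  set LT := pupper T with hLT
  set Z := LS ⊓ Subgroup.centralizer (LS : Set G) with hZ
  have hTp : IsPGroup p T := CfsgLib.Solvable.Cores.isPGroup_pCore p
  have hTS : T ≤ (S : Subgroup G) := hTp.le_sylow_of_normal S
  haveI hLTn : LT.Normal := normal_pupper T
  have hCT : T ⊓ Subgroup.centralizer (LT : Set G) ≤ LT := (centralizer_le T hTp).2.2
  have hCp : IsPGroup p (Subgroup.centralizer (LT : Set G)) :=
    Cfsg.Agent.S1465.centralizer_pGroup p LT (hTp.to_le (pupper_le T)) hO hCT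
  have hCT' : Subgroup.centralizer (LT : Set G) ≤ T := CfsgLib.Solvable.Cores.le_pCore hCp
  set Y := LT ⊓ Subgroup.centralizer (LT : Set G) with hY
  haveI hYn : Y.Normal := inferInstance
  have hYp : IsPGroup p Y := hTp.to_le (inf_le_left.trans (pupper_le T))
  have hZY : Z ≤ Y := by
    have h1 : Z ≤ Subgroup.centralizer (LT : Set G) :=
      inf_le_right.trans (Subgroup.centralizer_le hup)
    exact le_inf (le_trans (le_inf (h1.trans hCT') h1) hCT) h1
  have hYlow : Y ≤ plower (S : Subgroup G) := by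
    refine le_trans (le_inf (inf_le_left.trans ((pupper_le T).trans hTS)) ?_)
      (centralizer_le (S : Subgroup G) S.isPGroup').2.1
    exact inf_le_right.trans (Subgroup.centralizer_le (hlo.trans (stable T).1))
  set C := Subgroup.centralizer (Y : Set G) with hC
  set D := (Cfsg.pCore p (G ⧸ C)).comap (QuotientGroup.mk' C) with hD
  have hLD : LS ≤ D := by
    rw [hLS, ← (stable (S : Subgroup G)).2.1]
    refine pstep_le_iff.mpr fun A hA hc hnA => ?_
    haveI := hc
    refine Subgroup.map_le_iff_le_comap.mp ?_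
    exact PStable.map_le_pCore hodd Y hYp C hC A
      (PStable.commutator_commutator_of_abelian (hYlow.trans hnA))
  have hNZ : Subgroup.normalizer (LS : Set G) ≤ Subgroup.normalizer (Z : Set G) := by
    intro g hg
    rw [Subgroup.mem_normalizer_iff]
    intro x
    have hcen : ∀ y : G, y ∈ Subgroup.centralizer (LS : Set G) → ∀ h ∈ Subgroup.normalizer (LS : Set G),
        h * y * h⁻¹ ∈ Subgroup.centralizer (LS : Set G) := by
      intro y hy h hh
      rw [Subgroup.mem_centralizer_iff] at hy ⊢
      intro l hl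
      have hl' : h⁻¹ * l * h ∈ LS := by
        have := Subgroup.mem_normalizer_iff.mp hh (h⁻¹ * l * h)
        exact this.mpr (by simpa [mul_assoc] using hl)
      calc l * (h * y * h⁻¹) = h * ((h⁻¹ * l * h) * y) * h⁻¹ := by group
        _ = h * (y * (h⁻¹ * l * h)) * h⁻¹ := by rw [hy _ hl']
        _ = h * y * h⁻¹ * l := by group
    constructor
    · rintro ⟨h1, h2⟩
      exact ⟨(Subgroup.mem_normalizer_iff.mp hg x).mp h1, hcen x h2 g hg⟩
    · rintro ⟨h1, h2⟩
      refine ⟨(Subgroup.mem_normalizer_iff.mp hg x).mpr h1, ?_⟩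
      have := hcen _ h2 g⁻¹ (inv_mem hg)
      simpa [mul_assoc] using this
  -- the Sylow subgroup of `D`
  set P := (S : Subgroup G) ⊓ D with hP
  have hPS : P ≤ (S : Subgroup G) := inf_le_left
  have hLP : pupper P = LS := pupper_eq_of_le (le_inf (pupper_le _) hLD) hPS
  haveI hDn : D.Normal := (inferInstance : (Cfsg.pCore p (G ⧸ C)).Normal).comap _
  obtain ⟨Q, hQ⟩ := exists_sylow_inf D S
  have hFr := Sylow.normalizer_sup_eq_top (N := D) Q
  rw [hQ] at hFr
  refine Subgroup.normalizer_eq_top_iff.mp (eq_top_iff.mpr ?_)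
  rw [← hFr]
  refine sup_le ((hLP ▸ normalizer_le_normalizer_pupper P).trans hNZ) ?_
  -- `D = C ⊔ P`
  have hCD : C ≤ D := fun c hc => by
    rw [hD, Subgroup.mem_comap, QuotientGroup.mk'_apply, (QuotientGroup.eq_one_iff c).mpr hc]
    exact one_mem _
  have hCZ : C ≤ Subgroup.normalizer (Z : Set G) :=
    le_trans (Subgroup.centralizer_le hZY) (Subgroup.centralizer_le_normalizer _)
  have hPZ : P ≤ Subgroup.normalizer (Z : Set G) :=
    hPS.trans ((Subgroup.le_normalizer.trans (normalizer_le_normalizer_pupper _)).trans hNZ)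
  refine le_trans ?_ (sup_le hCZ hPZ)
  have htop : C.subgroupOf D ⊔ (Q : Subgroup D) = ⊤ := by
    rw [← Subgroup.index_eq_one]
    obtain ⟨k, hk⟩ := (Solvable.Cores.isPGroup_pCore p (G := G ⧸ C)).exists_card_eq
    have h1 : (C.subgroupOf D).index = p ^ k := by
      show C.relIndex D = p ^ k
      have e := Subgroup.relIndex_comap (⊥ : Subgroup (G ⧸ C)) (QuotientGroup.mk' C) D
      rw [MonoidHom.comap_bot, QuotientGroup.ker_mk'] at e
      rw [e, Subgroup.relIndex_bot_left, hD,
        Subgroup.map_comap_eq_self_of_surjective (QuotientGroup.mk'_surjective C), hk]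
    refine Nat.eq_one_of_dvd_coprimes (a := p ^ k) (b := (Q : Subgroup D).index) ?_
      (h1 ▸ Subgroup.index_dvd_of_le le_sup_left) (Subgroup.index_dvd_of_le le_sup_right)
    exact (((Fact.out : p.Prime).coprime_iff_not_dvd).mpr Q.not_dvd_index).pow_left k
  have hmap := congrArg (Subgroup.map D.subtype) htop
  rw [Subgroup.map_sup, hQ, ← MonoidHom.range_eq_map, Subgroup.range_subtype,
    Subgroup.map_subgroupOf_eq_of_le hCD] at hmap
  exact hmap.ge

end CfsgLib.OddOrder.Puig
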