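import Cfsg.Agent.Lib.OddOrder.OmegaLemma
import Cfsg.Prelude.Def_Transfer
import Cfsg.Agent.Lib.Fusion.Thompson
import Mathlib

set_option autoImplicit false

/-!
Glauberman's replacement argument for elementary abelian subgroups, odd `p`.
-/

namespace CfsgLib.OddOrder.Replacement

open scoped commutatorElement Pointwise

variable {G : Type*} [Group G] {p : ℕ}

theorem isEA_sup {X Y : Subgroup G} (hX : Cfsg.IsElementaryAbelian p X)
    (hY : Cfsg.IsElementaryAbelian p Y) (h : X ≤ Subgroup.centralizer (Y : Set G)) :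
    Cfsg.IsElementaryAbelian p (X ⊔ Y) := by
  haveI := hX.1
  haveI := hY.1
  have h1 : X ⊔ Y ≤ Subgroup.centralizer (((X ⊔ Y : Subgroup G)) : Set G) :=
    sup_le (Subgroup.le_centralizer_iff.mpr (sup_le X.le_centralizer (Subgroup.le_centralizer_iff.mp h)))
      (Subgroup.le_centralizer_iff.mpr (sup_le h Y.le_centralizer))
  refine ⟨Subgroup.le_centralizer_iff_isMulCommutative.mp h1, fun z hz => ?_⟩
  have hN : X ≤ Subgroup.normalizer (Y : Set G) := h.trans (Subgroup.centralizer_le_normalizer _)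
  rw [← SetLike.mem_coe, Subgroup.coe_mul_of_left_le_normalizer_right X Y hN] at hz
  obtain ⟨a, ha, b, hb, rfl⟩ := Set.mem_mul.mp hz
  have hab : Commute a b := (Subgroup.mem_centralizer_iff.mp (h ha) b hb).symm
  rw [hab.mul_pow, hX.2 a ha, hY.2 b hb, one_mul]

theorem isEA_zpowers {x : G} (hx : x ^ p = 1) : Cfsg.IsElementaryAbelian p (Subgroup.zpowers x) := by
  refine ⟨inferInstance, ?_⟩
  rintro _ ⟨k, rfl⟩
  show (x ^ k) ^ p = 1
  rw [← zpow_natCast, ← zpow_mul, mul_comm, zpow_mul, zpow_natCast, hx, one_zpow]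

theorem isEA_closure {s : Set G} (hc : ∀ a ∈ s, ∀ b ∈ s, Commute a b) (hp : ∀ a ∈ s, a ^ p = 1) :
    Cfsg.IsElementaryAbelian p (Subgroup.closure s) := by
  have h1 : Subgroup.closure s ≤ Subgroup.centralizer ((Subgroup.closure s : Subgroup G) : Set G) := by
    rw [Subgroup.centralizer_closure, Subgroup.closure_le]
    intro a ha
    exact Subgroup.mem_centralizer_iff.mpr fun b hb => (hc b hb a ha).eq
  refine ⟨Subgroup.le_centralizer_iff_isMulCommutative.mp h1, fun z hz => ?_⟩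
  induction hz using Subgroup.closure_induction with
  | mem a ha => exact hp a ha
  | one => exact one_pow p
  | mul a b ha hb iha ihb =>
    have hab : Commute a b := (Subgroup.mem_centralizer_iff.mp (h1 ha) b hb).symm
    rw [hab.mul_pow, iha, ihb, one_mul]
  | inv a _ iha => rw [inv_pow, iha, inv_one]

theorem comm_mul_left {u y v : G} (h : Commute ⁅y, v⁆ u) : ⁅u * y, v⁆ = ⁅y, v⁆ * ⁅u, v⁆ := by
  have e : ⁅u * y, v⁆ = u * ⁅y, v⁆ * u⁻¹ * ⁅u, v⁆ := by
    simp only [commutatorElement_def]; group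
  rw [e, ← h.eq]; group

theorem comm_mul_right {y v w : G} (h : Commute ⁅y, w⁆ v) : ⁅y, v * w⁆ = ⁅y, v⁆ * ⁅y, w⁆ := by
  have e : ⁅y, v * w⁆ = ⁅y, v⁆ * (v * ⁅y, w⁆ * v⁻¹) := by
    simp only [commutatorElement_def]; group
  rw [e, ← h.eq]; group

variable [Finite G] [Fact p.Prime]

/-- Replacement: if `A` is elementary abelian and the class-two `p`-group `B` does not normalise `A`, there is
an elementary abelian subgroup normalising `A`, at least as large, and meeting `B` in more. -/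
theorem exists_replacement (hp : p ≠ 2) (B A : Subgroup G) (hB : IsPGroup p (B ⊔ A : Subgroup G))
    (hA : Cfsg.IsElementaryAbelian p A) (hAB : A ≤ Subgroup.normalizer (B : Set G))
    (hcB : ∀ u ∈ B, ∀ v ∈ B, ∀ z ∈ B, Commute ⁅u, v⁆ z)
    (hcA : ∀ u ∈ B, ∀ v ∈ B, ∀ a ∈ A, Commute ⁅u, v⁆ a)
    (hnot : ¬ B ≤ Subgroup.normalizer (A : Set G)) :
    ∃ A' : Subgroup G, Cfsg.IsElementaryAbelian p A' ∧ Nat.card A ≤ Nat.card A' ∧
      A' ≤ B ⊔ A ∧ A' ≤ Subgroup.normalizer (A : Set G) ∧ B ⊓ A < B ⊓ A' := by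
  haveI := hA.1
  have Acomm : ∀ a ∈ A, ∀ b ∈ A, Commute a b := fun a ha b hb =>
    (Subgroup.mem_centralizer_iff.mp (A.le_centralizer ha) b hb).symm
  -- an element normalising `N(A)` but not `A`
  obtain ⟨x, hxB, hxA, hxN⟩ : ∃ x ∈ B, x ∉ Subgroup.normalizer (A : Set G) ∧
      ∀ m ∈ B ⊔ A, m ∈ Subgroup.normalizer (A : Set G) →
        x * m * x⁻¹ ∈ Subgroup.normalizer (A : Set G) ∧ x⁻¹ * m * x ∈ Subgroup.normalizer (A : Set G) := by
    set H := B ⊔ A with hH
    set M := (Subgroup.normalizer (A : Set G)).subgroupOf H with hM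
    haveI : Group.IsNilpotent H := hB.isNilpotent
    have hlt : M < ⊤ := lt_top_iff_ne_top.mpr fun h =>
      hnot (le_sup_left.trans (Subgroup.subgroupOf_eq_top.mp h))
    obtain ⟨y, hy, hyM⟩ := SetLike.exists_of_lt (Group.normalizerCondition_of_isNilpotent M hlt)
    have hy2 : (y : G) ∈ ((B ⊔ A : Subgroup G) : Set G) := y.2
    rw [Subgroup.coe_mul_of_right_le_normalizer_left B A hAB] at hy2
    obtain ⟨b, hb, a, ha, hba⟩ := Set.mem_mul.mp hy2
    have haN : a ∈ Subgroup.normalizer (A : Set G) := Subgroup.le_normalizer ha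
    have hbe : b = (y : G) * a⁻¹ := by rw [← hba]; group
    refine ⟨b, hb, fun hbN => hyM ?_, fun m hm hmN => ?_⟩
    · show (y : G) ∈ Subgroup.normalizer (A : Set G)
      rw [← hba]; exact mul_mem hbN haN
    · set N := Subgroup.normalizer (A : Set G) with hN
      have haH : a ∈ H := Subgroup.mem_sup_right ha
      have key1 : ∀ n ∈ H, n ∈ N → (y : G) * n * (y : G)⁻¹ ∈ N := fun n hn hnN =>
        (Subgroup.mem_normalizer_iff.mp hy ⟨n, hn⟩).mp hnN
      have key2 : ∀ n ∈ H, n ∈ N → (y : G)⁻¹ * n * (y : G) ∈ N := fun n hn hnN => by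
        refine (Subgroup.mem_normalizer_iff.mp hy
          ⟨(y : G)⁻¹ * n * y, mul_mem (mul_mem (inv_mem y.2) hn) y.2⟩).mpr ?_
        show (y : G) * ((y : G)⁻¹ * n * y) * (y : G)⁻¹ ∈ N
        simpa [mul_assoc] using hnN
      constructor
      · have := key1 (a⁻¹ * m * a) (mul_mem (mul_mem (inv_mem haH) hm) haH)
          (mul_mem (mul_mem (inv_mem haN) hmN) haN)
        rw [hbe]; simpa [mul_assoc] using this
      · have h2 := key2 m hm hmN
        have := mul_mem (mul_mem haN h2) (inv_mem haN)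
        rw [hbe]; simpa [mul_assoc] using this
  set N := Subgroup.normalizer (A : Set G) with hN
  set A2 := A.map (MulAut.conj x).toMonoidHom with hA2
  have hmemA2 : ∀ z : G, z ∈ A2 ↔ x⁻¹ * z * x ∈ A := fun z => by
    constructor
    · rintro ⟨a, ha, rfl⟩
      simpa [mul_assoc] using ha
    · exact fun h => ⟨_, h, by simp [mul_assoc]⟩
  have hAA2 : ∀ a ∈ A, x * a * x⁻¹ ∈ A2 := fun a ha => ⟨a, ha, by simp⟩
  have hA2N : A2 ≤ N := by
    rintro _ ⟨a, ha, rfl⟩
    simpa using (hxN a (Subgroup.mem_sup_right ha) (Subgroup.le_normalizer ha)).1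
  have hAN2 : ∀ a ∈ A, a ∈ Subgroup.normalizer (A2 : Set G) := by
    intro a ha
    have h := (hxN a (Subgroup.mem_sup_right ha) (Subgroup.le_normalizer ha)).2
    rw [Subgroup.mem_normalizer_iff]
    intro z
    rw [hmemA2, hmemA2]
    have := Subgroup.mem_normalizer_iff.mp h (x⁻¹ * z * x)
    simpa [mul_assoc] using this
  -- the elements `[a, x]`
  set w : G → G := fun a => ⁅a, x⁆ with hw
  have hwe : ∀ a, w a = a * (x * a * x⁻¹)⁻¹ := fun a => by
    simp only [hw, commutatorElement_def]; group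
  have hwB : ∀ a ∈ A, w a ∈ B := fun a ha => by
    have h1 : a * x * a⁻¹ ∈ B := (Subgroup.mem_normalizer_iff.mp (hAB ha) x).mp hxB
    simpa [hw, commutatorElement_def, mul_assoc] using mul_mem h1 (inv_mem hxB)
  have hwN : ∀ a ∈ A, w a ∈ N := fun a ha => by
    rw [hwe]
    exact mul_mem (Subgroup.le_normalizer ha) (inv_mem (hA2N (hAA2 a ha)))
  have heA : ∀ a ∈ A, ∀ b ∈ A, ⁅a, w b⁆ ∈ A ∧ ⁅a, w b⁆ ∈ A2 := by
    intro a ha b hb
    constructor
    · have h1 : w b * a⁻¹ * (w b)⁻¹ ∈ A :=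
        (Subgroup.mem_normalizer_iff.mp (hwN b hb) _).mp (inv_mem ha)
      simpa [commutatorElement_def, mul_assoc] using mul_mem ha h1
    · have hz : (x * b * x⁻¹)⁻¹ ∈ A2 := inv_mem (hAA2 b hb)
      have h1 : ⁅a, (x * b * x⁻¹)⁻¹⁆ ∈ A2 :=
        mul_mem ((Subgroup.mem_normalizer_iff.mp (hAN2 a ha) _).mp hz) (inv_mem hz)
      have h2 := (Subgroup.mem_normalizer_iff.mp (hAN2 b hb) _).mp h1
      have e : ⁅a, w b⁆ = b * ⁅a, (x * b * x⁻¹)⁻¹⁆ * b⁻¹ := by
        have hab : a * b = b * a := (Acomm a ha b hb).eq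
        rw [hwe]
        simp only [commutatorElement_def]
        calc a * (b * (x * b * x⁻¹)⁻¹) * a⁻¹ * (b * (x * b * x⁻¹)⁻¹)⁻¹
            = (a * b) * ((x * b * x⁻¹)⁻¹ * a⁻¹ * ((x * b * x⁻¹)⁻¹)⁻¹ * b⁻¹) := by group
          _ = (b * a) * ((x * b * x⁻¹)⁻¹ * a⁻¹ * ((x * b * x⁻¹)⁻¹)⁻¹ * b⁻¹) := by rw [hab]
          _ = _ := by group
      rw [e]; exact h2
  have hA2comm : ∀ z ∈ A2, ∀ z' ∈ A2, Commute z z' := by
    rintro _ ⟨a, ha, rfl⟩ _ ⟨b, hb, rfl⟩
    exact (Acomm a ha b hb).map (MulAut.conj x).toMonoidHom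
  have hcentW : ∀ z, z ∈ A → z ∈ A2 → ∀ a ∈ A, Commute z (w a) := fun z h1 h2 a ha => by
    rw [hwe]
    exact (Acomm z h1 a ha).mul_right (hA2comm z h2 _ (hAA2 a ha)).inv_right
  have heB : ∀ a ∈ A, ∀ b ∈ A, ⁅a, w b⁆ ∈ B := fun a ha b hb => by
    have h1 : a * w b * a⁻¹ ∈ B := (Subgroup.mem_normalizer_iff.mp (hAB ha) _).mp (hwB b hb)
    simpa [commutatorElement_def, mul_assoc] using mul_mem h1 (inv_mem (hwB b hb))
  -- the key identity
  have key : ∀ a ∈ A, ∀ b ∈ A, ⁅x, ⁅a, w b⁆⁆ * ⁅w a, w b⁆ = 1 := by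
    intro a ha b hb
    have hu := hwB a ha
    have hv := hwB b hb
    have he := heB a ha b hb
    set e := ⁅a, w b⁆ with hedef
    set u := w a with hudef
    set v := w b with hvdef
    have hc := hcA x hxB v hv a ha
    have e1 : a * x * a⁻¹ = u * x := by
      simp only [hudef, hw, commutatorElement_def]; group
    have e2 : a * v * a⁻¹ = e * v := by
      simp only [hedef, commutatorElement_def]; group
    have h2 : ⁅u * x, e * v⁆ = ⁅x, v⁆ := by
      rw [← e1, ← e2, ← conjugate_commutatorElement, ← hc.eq]; group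
    rw [comm_mul_left (hcB x hxB _ (mul_mem he hv) u hu), comm_mul_right (hcB x hxB v hv e he),
      comm_mul_right (hcB u hu v hv e he)] at h2
    have hue : ⁅u, e⁆ = 1 := commutatorElement_eq_one_iff_mul_comm.mpr
      ((hcentW e (heA a ha b hb).1 (heA a ha b hb).2 a ha).symm.eq)
    rw [hue, one_mul] at h2
    have h4 : ⁅x, e⁆ * ⁅u, v⁆ * ⁅x, v⁆ = ⁅x, v⁆ := by
      conv_rhs => rw [← h2]
      rw [mul_assoc, mul_assoc]
      congr 1
      exact (hcB u hu v hv _ (mul_mem (mul_mem (mul_mem hxB hv) (inv_mem hxB)) (inv_mem hv))).eq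
    exact mul_right_cancel (h4.trans (one_mul _).symm)
  have hWcomm : ∀ a ∈ A, ∀ b ∈ A, Commute (w a) (w b) := by
    intro a ha b hb
    have hu := hwB a ha
    have hv := hwB b hb
    have hab : ⁅a, w b⁆ = ⁅b, w a⁆ * ⁅w a, w b⁆ := by
      have e1 : ∀ c d : G, ⁅c, w d⁆ * w d * w c = (c * d) * x * (c * d)⁻¹ * x⁻¹ := fun c d => by
        simp only [hw, commutatorElement_def]; group
      have h : ⁅a, w b⁆ * w b * w a = ⁅b, w a⁆ * w a * w b := by
        rw [e1, e1, (Acomm a ha b hb).eq]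
      calc ⁅a, w b⁆ = (⁅a, w b⁆ * w b * w a) * ((w a)⁻¹ * (w b)⁻¹) := by group
        _ = (⁅b, w a⁆ * w a * w b) * ((w a)⁻¹ * (w b)⁻¹) := by rw [h]
        _ = _ := by simp only [commutatorElement_def]; group
    have hg : ⁅x, ⁅w a, w b⁆⁆ = 1 :=
      commutatorElement_eq_one_iff_mul_comm.mpr (hcB _ hu _ hv x hxB).symm.eq
    have k1 := key a ha b hb
    rw [hab, comm_mul_right (by rw [hg]; exact Commute.one_left _), hg, mul_one] at k1
    have k2 := key b hb a ha
    have hgg : ⁅w a, w b⁆ = ⁅w b, w a⁆ := mul_left_cancel (k1.trans k2.symm)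
    have hsq : ⁅w a, w b⁆ ^ 2 = 1 := by
      rw [sq]; nth_rewrite 2 [hgg]
      rw [← commutatorElement_inv (w a) (w b), mul_inv_cancel]
    have hgBA : ⁅w a, w b⁆ ∈ (B ⊔ A : Subgroup G) := Subgroup.mem_sup_left
      (mul_mem (mul_mem (mul_mem hu hv) (inv_mem hu)) (inv_mem hv))
    obtain ⟨k, hk⟩ := hB ⟨_, hgBA⟩
    have hk' : ⁅w a, w b⁆ ^ p ^ k = 1 := congrArg Subtype.val hk
    have hcop : Nat.Coprime 2 (p ^ k) :=
      Nat.Coprime.pow_right _ ((Nat.coprime_primes Nat.prime_two Fact.out).mpr (Ne.symm hp))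
    have := pow_gcd_eq_one.mpr ⟨hsq, hk'⟩
    rw [hcop.gcd_eq_one, pow_one] at this
    exact commutatorElement_eq_one_iff_commute.mp this
  have hWexp : ∀ a ∈ A, w a ^ p = 1 := by
    intro a ha
    rw [hwe]
    set v := (x * a * x⁻¹)⁻¹ with hv
    have hvA2 : v ∈ A2 := inv_mem (hAA2 a ha)
    set z := ⁅v, a⁆ with hz
    have hz1 : z ∈ A := by
      have h1 : v * a * v⁻¹ ∈ A := (Subgroup.mem_normalizer_iff.mp (hA2N hvA2) a).mp ha
      exact mul_mem h1 (inv_mem ha)
    have hz2 : z ∈ A2 := by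
      have h1 : a * v⁻¹ * a⁻¹ ∈ A2 :=
        (Subgroup.mem_normalizer_iff.mp (hAN2 a ha) _).mp (inv_mem hvA2)
      simpa [hz, commutatorElement_def, mul_assoc] using mul_mem hvA2 h1
    have h := OmegaLemma.mul_pow_central (u := a) (v := v) (z := z)
      (by simp only [hz, commutatorElement_def]; group) (hA2comm z hz2 v hvA2) (Acomm z hz1 a ha) p
    rw [h, hA.2 a ha]
    have hvp : v ^ p = 1 := by
      rw [hv, inv_pow, conj_pow, hA.2 a ha]; group
    obtain ⟨c, hc⟩ : p ∣ p.choose 2 :=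
      (Fact.out : p.Prime).dvd_choose_self (by norm_num)
        (lt_of_le_of_ne (Fact.out : p.Prime).two_le (Ne.symm hp))
    rw [hvp, hc, pow_mul, hA.2 z hz1]; simp
  -- kernel
  have hker : ∀ c ∈ A, (∀ d ∈ A, Commute (x * c * x⁻¹) d) → ∀ d ∈ A, Commute c (w d) := by
    intro c hc hcd d hd
    have h1 : c * d = d * c := (Acomm c hc d hd).eq
    have h2 := (hcd d hd).eq
    have h3 := (hA2comm _ (hAA2 c hc) _ (hAA2 d hd)).eq
    have hW := (hWcomm c hc d hd).eq
    rw [hwe, hwe] at hW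
    set c' := x * c * x⁻¹ with hc'
    set d' := x * d * x⁻¹ with hd'
    have hcd' : c'⁻¹ * d = d * c'⁻¹ := ((hcd d hd).inv_left).eq
    have hdd : c'⁻¹ * d'⁻¹ = d'⁻¹ * c'⁻¹ :=
      ((hA2comm _ (hAA2 c hc) _ (hAA2 d hd)).inv_left.inv_right).eq
    have hdc : d'⁻¹ * c = c * d'⁻¹ := by
      have hL : c * c'⁻¹ * (d * d'⁻¹) = d * (c * d'⁻¹) * c'⁻¹ := by
        calc c * c'⁻¹ * (d * d'⁻¹) = c * (c'⁻¹ * d) * d'⁻¹ := by group
          _ = c * (d * c'⁻¹) * d'⁻¹ := by rw [hcd']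
          _ = (c * d) * (c'⁻¹ * d'⁻¹) := by group
          _ = (d * c) * (d'⁻¹ * c'⁻¹) := by rw [h1, hdd]
          _ = _ := by group
      have hR : d * d'⁻¹ * (c * c'⁻¹) = d * (d'⁻¹ * c) * c'⁻¹ := by group
      rw [hL, hR] at hW
      exact (mul_left_cancel (mul_right_cancel hW)).symm
    rw [hwe]
    exact (Acomm c hc d hd).mul_right hdc.symm
  set W := Subgroup.closure (w '' (A : Set G)) with hWdef
  have hW : Cfsg.IsElementaryAbelian p W := isEA_closure
    (by rintro _ ⟨a, ha, rfl⟩ _ ⟨b, hb, rfl⟩; exact hWcomm a ha b hb)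
    (by rintro _ ⟨a, ha, rfl⟩; exact hWexp a ha)
  haveI := hW.1
  set C := A ⊓ Subgroup.centralizer (W : Set G) with hC
  have hCmem : ∀ c ∈ A, (∀ a ∈ A, Commute c (w a)) → c ∈ C := fun c hc h => ⟨hc, by
    rw [hWdef, Subgroup.centralizer_closure]
    exact Subgroup.mem_centralizer_iff.mpr (by rintro _ ⟨a, ha, rfl⟩; exact (h a ha).symm.eq)⟩
  have hWBle : W ≤ B := (Subgroup.closure_le _).mpr (by rintro _ ⟨a, ha, rfl⟩; exact hwB a ha)
  have hWmem : ∀ a ∈ A, w a ∈ W := fun a ha => Subgroup.subset_closure ⟨a, ha, rfl⟩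
  refine ⟨W ⊔ C, isEA_sup hW ⟨?_, fun c hc => hA.2 c hc.1⟩ ?_, ?_, ?_, ?_, ?_⟩
  · exact Subgroup.le_centralizer_iff_isMulCommutative.mp
      ((inf_le_left.trans A.le_centralizer).trans (Subgroup.centralizer_le inf_le_left))
  · exact Subgroup.le_centralizer_iff.mp inf_le_right
  · -- counting
    have hCA : Nat.card C * (C.subgroupOf A).index = Nat.card A := by
      have := Subgroup.card_mul_index (C.subgroupOf A)
      rwa [Nat.card_congr (Subgroup.subgroupOfEquivOfLe (inf_le_left : C ≤ A)).toEquiv] at this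
    have hidx : (C.subgroupOf A).index ≤ (A.subgroupOf W).index := by
      let F : A ⧸ C.subgroupOf A → W ⧸ A.subgroupOf W := fun q =>
        QuotientGroup.mk ⟨w (q.out : A), hWmem _ (q.out : A).2⟩
      refine Nat.card_le_card_of_injective F ?_
      intro q q' hqq
      have h := QuotientGroup.eq.mp hqq
      rw [Subgroup.mem_subgroupOf] at h
      rw [← Quotient.out_eq q, ← Quotient.out_eq q']
      refine QuotientGroup.eq.mpr ?_
      rw [Subgroup.mem_subgroupOf]
      set a : G := ((q.out : A) : G) with ha'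
      set b : G := ((q'.out : A) : G) with hb'
      have ha : a ∈ A := (q.out : A).2
      have hb : b ∈ A := (q'.out : A).2
      have h' : (w a)⁻¹ * w b ∈ A := h
      have hcm : Commute (w a)⁻¹ (w b) := (hWcomm a ha b hb).inv_left
      rw [hcm.eq, hwe, hwe] at h'
      -- `(a⁻¹ b)'` lies in `A`
      have h2 : x * (a⁻¹ * b) * x⁻¹ ∈ A := by
        have h3 : (x * b * x⁻¹)⁻¹ * (x * a * x⁻¹) ∈ A := by
          have := mul_mem (mul_mem (inv_mem hb) h') ha
          simpa [mul_assoc] using this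
        have := inv_mem h3
        simpa [mul_assoc] using this
      exact hCmem _ (mul_mem (inv_mem ha) hb)
        (hker _ (mul_mem (inv_mem ha) hb) fun d hd => Acomm _ h2 d hd)
    have hWA : Nat.card (W ⊓ A : Subgroup G) * (A.subgroupOf W).index = Nat.card W := by
      have := Subgroup.card_mul_index (A.subgroupOf W)
      rwa [← Nat.card_congr (Subgroup.subgroupOfEquivOfLe (inf_le_left : W ⊓ A ≤ W)).toEquiv,
        Subgroup.inf_subgroupOf_left]
    have hWC : W ⊓ C = W ⊓ A := le_antisymm (inf_le_inf_left _ inf_le_left)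
      fun z hz => ⟨hz.1, hz.2, W.le_centralizer hz.1⟩
    have hcard := Fusion.Thompson.card_sup_mul_card_inf (N := W) (K := C)
      (inf_le_right.trans (Subgroup.centralizer_le_normalizer _))
    rw [hWC, ← hWA] at hcard
    have hpos : 0 < Nat.card (W ⊓ A : Subgroup G) := Nat.card_pos
    have h5 : Nat.card (W ⊔ C : Subgroup G) = (A.subgroupOf W).index * Nat.card C :=
      Nat.eq_of_mul_eq_mul_right hpos (hcard.trans (by ring))
    rw [h5, ← hCA, mul_comm]
    exact Nat.mul_le_mul_right _ hidx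
  · exact sup_le (hWBle.trans le_sup_left) (inf_le_left.trans le_sup_right)
  · exact sup_le ((Subgroup.closure_le _).mpr (by rintro _ ⟨a, ha, rfl⟩; exact hwN a ha))
      (inf_le_left.trans Subgroup.le_normalizer)
  · have hle : B ⊓ A ≤ C := by
      rintro c ⟨hcB', hc⟩
      refine hCmem c hc (hker c hc fun d hd => ?_)
      have e : x * c * x⁻¹ = ⁅x, c⁆ * c := by simp only [commutatorElement_def]; group
      rw [e]
      exact (hcA x hxB c hcB' d hd).mul_left (Acomm c hc d hd)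
    refine lt_of_le_not_ge (le_inf inf_le_left (hle.trans le_sup_right)) fun h => hxA ?_
    have hall : ∀ a ∈ A, x * a * x⁻¹ ∈ A := fun a ha => by
      have h1 : w a ∈ A := (h ⟨hwB a ha, Subgroup.mem_sup_left (hWmem a ha)⟩).2
      rw [hwe] at h1
      have := inv_mem (mul_mem (inv_mem ha) h1)
      simpa [mul_assoc] using this
    have hEq : A2 = A := Subgroup.eq_of_le_of_card_ge
      (by rintro _ ⟨a, ha, rfl⟩; simpa using hall a ha)
      (Subgroup.card_map_of_injective (MulAut.conj x).injective).ge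
    rw [Subgroup.mem_normalizer_iff]
    intro z
    refine ⟨hall z, fun hz => ?_⟩
    rw [← hEq, hmemA2] at hz
    simpa [mul_assoc] using hz

end CfsgLib.OddOrder.Replacement
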