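import Cfsg.Agent.Lib.Coprime.Sylow
import Cfsg.Agent.Lib.Coprime.Generation
import Cfsg.Agent.Lib.Solvable.Cores
import Cfsg.Prelude.Def_OddOrderLocal

set_option autoImplicit false

/-!
The transitivity method in a minimal simple group: invariant `q`-subgroups of a subgroup satisfying the
transitivity hypothesis.
-/

namespace CfsgLib.OddOrder.Transitivity

open scoped commutatorElement Pointwise

variable {G : Type*} [Group G]

theorem piNum_iff {m n : ℕ} :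
    (∀ r : ℕ, r.Prime → r ∣ m → r ∈ Cfsg.primesNotDvd n) ↔ m.Coprime n := by
  constructor
  · exact fun h => Nat.coprime_of_dvd fun r hr hrm hrn => (h r hr hrm).2 hrn
  · exact fun h r hr hrm => ⟨hr, fun hrn => hr.ne_one (Nat.eq_one_of_dvd_coprimes h hrm hrn)⟩

theorem qNum_iff [Finite G] {q : ℕ} (hq : q.Prime) {Y : Subgroup G} :
    (∀ r : ℕ, r.Prime → r ∣ Nat.card Y → r ∈ ({q} : Set ℕ)) ↔ IsPGroup q Y := by
  haveI := Fact.mk hq
  constructor
  · intro h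
    exact IsPGroup.of_card (n := (Nat.card Y).primeFactorsList.length)
      (Nat.eq_prime_pow_of_unique_prime_dvd Nat.card_pos.ne' fun {d} hd hdY => h d hd hdY)
  · intro h r hr hrY
    obtain ⟨k, hk⟩ := h.exists_card_eq
    exact (Nat.prime_dvd_prime_iff_eq hr hq).mp (hr.dvd_of_dvd_pow (hk ▸ hrY))

theorem mem_inv_top [Finite G] {q : ℕ} (hq : q.Prime) {A Y : Subgroup G} :
    Y ∈ Cfsg.invSubgroups ⊤ A {q} ↔ IsPGroup q Y ∧ A ≤ Subgroup.normalizer (Y : Set G) :=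
  ⟨fun h => ⟨(qNum_iff hq).mp h.2.1, h.2.2⟩, fun h => ⟨le_top, (qNum_iff hq).mpr h.1, h.2⟩⟩

theorem exists_max [Finite G] {q : ℕ} (hq : q.Prime) {A Y : Subgroup G} (hY : IsPGroup q Y)
    (hAY : A ≤ Subgroup.normalizer (Y : Set G)) :
    ∃ Q ∈ Cfsg.maxInvSubgroups ⊤ A {q}, Y ≤ Q := by
  obtain ⟨Q, hYQ, hQ⟩ := Finite.exists_le_maximal
    (p := fun R : Subgroup G => R ∈ Cfsg.invSubgroups ⊤ A {q}) ((mem_inv_top hq).mpr ⟨hY, hAY⟩)
  exact ⟨Q, ⟨hQ.prop, fun R hR hQR => le_antisymm (hQ.le_of_ge hR hQR) hQR⟩, hYQ⟩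

theorem map_conj_le_normalizer {g : G} {A Y : Subgroup G} (hg : g ∈ Subgroup.normalizer (A : Set G))
    (h : A ≤ Subgroup.normalizer (Y : Set G)) :
    A ≤ Subgroup.normalizer ((Y.map (MulAut.conj g).toMonoidHom : Subgroup G) : Set G) := by
  intro a ha
  have ha' : g⁻¹ * a * g ∈ A := (Subgroup.mem_normalizer_iff.mp hg _).mpr (by simpa [mul_assoc] using ha)
  refine Subgroup.le_normalizer_map (MulAut.conj g).toMonoidHom ⟨_, h ha', ?_⟩
  simp [mul_assoc]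

theorem map_conj_inv (g : G) (Y : Subgroup G) :
    (Y.map (MulAut.conj g).toMonoidHom).map (MulAut.conj g⁻¹).toMonoidHom = Y := by
  rw [Subgroup.map_map]
  convert Y.map_id
  ext x
  simp [mul_assoc]

theorem map_conj_conj (a b : G) (Y : Subgroup G) :
    (Y.map (MulAut.conj b).toMonoidHom).map (MulAut.conj a).toMonoidHom =
      Y.map (MulAut.conj (a * b)).toMonoidHom := by
  rw [Subgroup.map_map]
  congr 1
  ext x
  simp [mul_assoc]

theorem map_conj_max [Finite G] {q : ℕ} (hq : q.Prime) {g : G} {A Q : Subgroup G}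
    (hg : g ∈ Subgroup.normalizer (A : Set G)) (hQ : Q ∈ Cfsg.maxInvSubgroups ⊤ A {q}) :
    Q.map (MulAut.conj g).toMonoidHom ∈ Cfsg.maxInvSubgroups ⊤ A {q} := by
  obtain ⟨h1, h2⟩ := (mem_inv_top hq).mp hQ.1
  refine ⟨(mem_inv_top hq).mpr ⟨h1.map _, map_conj_le_normalizer hg h2⟩, fun R hR hle => ?_⟩
  obtain ⟨h3, h4⟩ := (mem_inv_top hq).mp hR
  have := hQ.2 (R.map (MulAut.conj g⁻¹).toMonoidHom)
    ((mem_inv_top hq).mpr ⟨h3.map _, map_conj_le_normalizer (inv_mem hg) h4⟩)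
    (by rw [← map_conj_inv g Q]; exact Subgroup.map_mono hle)
  rw [← this, map_conj_conj, mul_inv_cancel]
  convert R.map_id.symm
  ext x; simp

theorem centralizer_le_normalizer' (A : Subgroup G) :
    Subgroup.centralizer (A : Set G) ≤ Subgroup.normalizer (A : Set G) :=
  Subgroup.centralizer_le_normalizer _

theorem piCoreOf_le (π : Set ℕ) (X : Subgroup G) : Cfsg.piCoreOf π X ≤ X :=
  Subgroup.map_subtype_le _

theorem le_normalizer_piCoreOf (π : Set ℕ) (X : Subgroup G) :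
    X ≤ Subgroup.normalizer (Cfsg.piCoreOf π X : Set G) := by
  refine (Subgroup.normal_subgroupOf_iff_le_normalizer (piCoreOf_le π X)).mp ?_
  rw [Cfsg.piCoreOf, Subgroup.subgroupOf, Subgroup.comap_map_eq_self_of_injective X.subtype_injective]
  infer_instance

theorem coprime_piCoreOf [Finite G] (n : ℕ) (X : Subgroup G) :
    (Nat.card (Cfsg.piCoreOf (Cfsg.primesNotDvd n) X)).Coprime n := by
  rw [Cfsg.piCoreOf, Subgroup.card_map_of_injective X.subtype_injective, Cfsg.piCore]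
  exact Solvable.Cores.coprime_card_sSup n _ (fun N hN => hN.1) (fun N hN => piNum_iff.mp hN.2)

theorem le_piCoreOf [Finite G] {n : ℕ} {X N : Subgroup G} (hNX : N ≤ X)
    (hn : X ≤ Subgroup.normalizer (N : Set G)) (hc : (Nat.card N).Coprime n) :
    N ≤ Cfsg.piCoreOf (Cfsg.primesNotDvd n) X := by
  intro x hx
  refine ⟨⟨x, hNX hx⟩, le_sSup (s := {N : Subgroup X | N.Normal ∧ ∀ p : ℕ, p.Prime → p ∣ Nat.card N →
    p ∈ Cfsg.primesNotDvd n}) (a := N.subgroupOf X)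
    ⟨(Subgroup.normal_subgroupOf_iff_le_normalizer hNX).mpr hn, piNum_iff.mpr ?_⟩ hx, rfl⟩
  rwa [Nat.card_congr (Subgroup.subgroupOfEquivOfLe hNX).toEquiv]

theorem normalizer_le_normalizer_piCoreOf [Finite G] (n : ℕ) (X : Subgroup G) :
    Subgroup.normalizer (X : Set G) ≤
      Subgroup.normalizer (Cfsg.piCoreOf (Cfsg.primesNotDvd n) X : Set G) := by
  set N := Cfsg.piCoreOf (Cfsg.primesNotDvd n) X with hN
  have key : ∀ g ∈ Subgroup.normalizer (X : Set G), ∀ z ∈ N, g * z * g⁻¹ ∈ N := by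
    intro g hg z hz
    have hle : N.map (MulAut.conj g).toMonoidHom ≤ N := by
      refine le_piCoreOf ?_ (map_conj_le_normalizer hg (le_normalizer_piCoreOf _ X)) ?_
      · rintro _ ⟨w, hw, rfl⟩
        simpa using (Subgroup.mem_normalizer_iff.mp hg w).mp (piCoreOf_le _ X hw)
      · rw [Subgroup.card_map_of_injective (MulAut.conj g).injective]
        exact coprime_piCoreOf n X
    simpa using hle ⟨z, hz, rfl⟩
  intro g hg
  rw [Subgroup.mem_normalizer_iff]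
  intro z
  refine ⟨key g hg z, fun hz => ?_⟩
  simpa [mul_assoc] using key g⁻¹ (inv_mem hg) _ hz

/-- If `M = K Nd` with `K` normal, an element of `Nd ∩ M'` of order prime to `|K|` lies in `Nd'`. -/
theorem mem_commutator_of_coprime [Finite G] {M Nd K : Subgroup G} (hKM : K ≤ M) (hNM : Nd ≤ M)
    (hK : M ≤ Subgroup.normalizer (K : Set G))
    (hdec : ∀ m ∈ M, ∃ k ∈ K, ∃ n ∈ Nd, m = k * n) {x : G} (hx : x ∈ ⁅M, M⁆) (hxN : x ∈ Nd)
    (hcop : (orderOf x).Coprime (Nat.card K)) : x ∈ ⁅Nd, Nd⁆ := by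
  haveI hKn : (K.subgroupOf M).Normal := (Subgroup.normal_subgroupOf_iff_le_normalizer hKM).mpr hK
  set q := QuotientGroup.mk' (K.subgroupOf M) with hq
  have htop : (Nd.subgroupOf M).map q = ⊤ := by
    refine eq_top_iff.mpr fun y _ => ?_
    obtain ⟨⟨m, hm⟩, rfl⟩ := QuotientGroup.mk'_surjective _ y
    obtain ⟨k, hk, n, hn, rfl⟩ := hdec m hm
    refine ⟨⟨n, hNM hn⟩, hn, ?_⟩
    have : q ⟨k, hKM hk⟩ = 1 := (QuotientGroup.eq_one_iff _).mpr hk
    calc q ⟨n, hNM hn⟩ = q ⟨k, hKM hk⟩ * q ⟨n, hNM hn⟩ := by rw [this, one_mul]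
      _ = q ⟨k * n, hm⟩ := (map_mul q _ _).symm
  have hxc : (⟨x, hNM hxN⟩ : M) ∈ commutator M := by
    rw [← Subgroup.map_subtype_commutator] at hx
    obtain ⟨y, hy, hyx⟩ := hx
    have : y = ⟨x, hNM hxN⟩ := Subtype.ext hyx
    rwa [this] at hy
  have hmem : q ⟨x, hNM hxN⟩ ∈ (⁅Nd.subgroupOf M, Nd.subgroupOf M⁆).map q := by
    have h := Subgroup.mem_map_of_mem q hxc
    rwa [commutator_def, Subgroup.map_commutator, Subgroup.map_top_of_surjective _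
      (QuotientGroup.mk'_surjective _), ← htop, ← Subgroup.map_commutator] at h
  obtain ⟨n, hn, hnx⟩ := hmem
  have hk : (n⁻¹ * ⟨x, hNM hxN⟩ : M) ∈ K.subgroupOf M := QuotientGroup.eq.mp hnx
  have hn' : (n : G) ∈ ⁅Nd, Nd⁆ := by
    have := Subgroup.mem_map_of_mem M.subtype hn
    rwa [Subgroup.map_commutator, Subgroup.map_subgroupOf_eq_of_le hNM] at this
  set ab := Abelianization.of (G := Nd) with hab
  have hnNd : (n : G) ∈ Nd := Subgroup.commutator_le_self Nd hn'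
  have hn1 : ab ⟨n, hnNd⟩ = 1 := by
    refine (QuotientGroup.eq_one_iff _).mpr ?_
    rw [← Subgroup.map_subtype_commutator] at hn'
    obtain ⟨y, hy, hyn⟩ := hn'
    have : y = ⟨n, hnNd⟩ := Subtype.ext hyn
    rwa [this] at hy
  have he : ab ⟨x, hxN⟩ = ab ⟨(n : G)⁻¹ * x, mul_mem (inv_mem hnNd) hxN⟩ := by
    have : (⟨(n : G)⁻¹ * x, mul_mem (inv_mem hnNd) hxN⟩ : Nd) = ⟨n, hnNd⟩⁻¹ * ⟨x, hxN⟩ := rfl
    rw [this, map_mul, map_inv, hn1, inv_one, one_mul]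
  have h1 : orderOf (ab ⟨x, hxN⟩) ∣ orderOf x := by
    refine (orderOf_map_dvd ab _).trans ?_
    rw [← Subgroup.orderOf_coe]
  have h2 : orderOf (ab ⟨x, hxN⟩) ∣ Nat.card K := by
    rw [he]
    refine (orderOf_map_dvd ab _).trans ?_
    rw [← Subgroup.orderOf_coe]
    exact Subgroup.orderOf_dvd_natCard _ hk
  have h3 : ab ⟨x, hxN⟩ = 1 := orderOf_eq_one_iff.mp (Nat.eq_one_of_dvd_coprimes hcop h1 h2)
  rw [← Subgroup.map_subtype_commutator]
  exact ⟨_, (QuotientGroup.eq_one_iff _).mp h3, rfl⟩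

section Minimal

variable [Finite G]

theorem ne_top_normalizer [IsSimpleGroup G] {A : Subgroup G} (h1 : A ≠ ⊥) (h2 : A ≠ ⊤) :
    Subgroup.normalizer (A : Set G) ≠ ⊤ := fun h =>
  ((Subgroup.normalizer_eq_top_iff.mp h).eq_bot_or_eq_top).elim h1 h2

variable (hG : Cfsg.IsMinimalSimple G) {A : Subgroup G} (hA : Cfsg.TransitivityHypothesis A)

include hA

theorem le_core {X Y : Subgroup G} (hX : X ≠ ⊤) (hAX : A ≤ X) (hYX : Y ≤ X)
    (hY : (Nat.card Y).Coprime (Nat.card A)) (hAY : A ≤ Subgroup.normalizer (Y : Set G)) :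
    Y ≤ Cfsg.piCoreOf (Cfsg.primesNotDvd (Nat.card A)) X := by
  rw [← hA.2.2 X hX hAX]
  exact le_sSup (s := Cfsg.invSubgroups X A (Cfsg.primesNotDvd (Nat.card A))) ⟨hYX, piNum_iff.mpr hY, hAY⟩

include hG

theorem le_coreCentralizer {Y : Subgroup G} (hY : (Nat.card Y).Coprime (Nat.card A))
    (hYA : Y ≤ Subgroup.centralizer (A : Set G)) :
    Y ≤ Cfsg.piCoreOf (Cfsg.primesNotDvd (Nat.card A)) (Subgroup.centralizer (A : Set G)) := by
  haveI := hG.1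
  have h1 := le_core hA (ne_top_normalizer hA.1 hA.2.1) Subgroup.le_normalizer
    (hYA.trans (Subgroup.centralizer_le_normalizer _)) hY
    ((Subgroup.le_centralizer_iff.mp hYA).trans (Subgroup.centralizer_le_normalizer _))
  refine (le_inf h1 hYA).trans (le_piCoreOf inf_le_right ?_ ?_)
  · exact (le_inf ((centralizer_le_normalizer' A).trans (le_normalizer_piCoreOf _ _))
      Subgroup.le_normalizer).trans Subgroup.inf_normalizer_le_normalizer_inf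
  · exact (coprime_piCoreOf _ _).coprime_dvd_left (Subgroup.card_dvd_of_le inf_le_left)

theorem coprime_qGroup {q : ℕ} (hq : q.Prime) (hqA : ¬ q ∣ Nat.card A) {Y : Subgroup G}
    (hY : IsPGroup q Y) : (Nat.card Y).Coprime (Nat.card A) := by
  haveI := Fact.mk hq
  obtain ⟨k, hk⟩ := hY.exists_card_eq
  rw [hk]
  exact ((hq.coprime_iff_not_dvd).mpr hqA).pow_left k

theorem exists_common {q : ℕ} (hq : q.Prime) (hqA : ¬ q ∣ Nat.card A) {H : Subgroup G} (hH : H ≠ ⊤)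
    (hAH : A ≤ H) {R₁ R₂ : Subgroup G} (h₁ : IsPGroup q R₁) (h₁' : A ≤ Subgroup.normalizer (R₁ : Set G))
    (h₁H : R₁ ≤ H) (h₂ : IsPGroup q R₂) (h₂' : A ≤ Subgroup.normalizer (R₂ : Set G)) (h₂H : R₂ ≤ H) :
    ∃ k ∈ Cfsg.piCoreOf (Cfsg.primesNotDvd (Nat.card A)) (Subgroup.centralizer (A : Set G)),
      ∃ Q₃ ∈ Cfsg.maxInvSubgroups ⊤ A {q}, R₁ ≤ Q₃ ∧ R₂.map (MulAut.conj k).toMonoidHom ≤ Q₃ := by
  haveI := Fact.mk hq
  set O := Cfsg.piCoreOf (Cfsg.primesNotDvd (Nat.card A)) H with hO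
  have hcop : (Nat.card A).Coprime (Nat.card O) := (coprime_piCoreOf _ _).symm
  have hAO : A ≤ Subgroup.normalizer (O : Set G) := hAH.trans (le_normalizer_piCoreOf _ _)
  have hs : Group.IsSolvable A ∨ Group.IsSolvable O := Or.inl (hG.2.2 A hA.2.1)
  obtain ⟨P₁, hP₁, hP₁'⟩ := Coprime.exists_le_invariant_sylow hAO hcop hs (p := q)
    (le_core hA hH hAH h₁H (coprime_qGroup hG hA hq hqA h₁) h₁') h₁ h₁'
  obtain ⟨P₂, hP₂, hP₂'⟩ := Coprime.exists_le_invariant_sylow hAO hcop hs (p := q)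
    (le_core hA hH hAH h₂H (coprime_qGroup hG hA hq hqA h₂) h₂') h₂ h₂'
  obtain ⟨c, hc, hcP⟩ := Coprime.exists_centralizer_conj_sylow hAO hcop hs P₂ P₁ hP₂' hP₁'
  obtain ⟨Q₃, hQ₃, hle⟩ := exists_max hq (P₁.isPGroup'.map O.subtype) hP₁'
  refine ⟨c, ?_, Q₃, hQ₃, hP₁.trans hle, ?_⟩
  · refine le_coreCentralizer hG hA ?_ (Subgroup.zpowers_le.mpr hc) (Subgroup.mem_zpowers _)
    exact (coprime_piCoreOf _ _).coprime_dvd_left
      (Subgroup.card_dvd_of_le (Subgroup.zpowers_le.mpr c.2))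
  · refine le_trans ?_ hle
    rw [← hcP, Coprime.map_smul_sylow]
    exact Subgroup.map_mono hP₂

theorem conj_of_inf {q : ℕ} (hq : q.Prime) (hqA : ¬ q ∣ Nat.card A) {Q₁ Q₂ : Subgroup G}
    (h₁ : Q₁ ∈ Cfsg.maxInvSubgroups ⊤ A {q}) (h₂ : Q₂ ∈ Cfsg.maxInvSubgroups ⊤ A {q})
    (hne : Q₁ ⊓ Q₂ ≠ ⊥) :
    ∃ k ∈ Cfsg.piCoreOf (Cfsg.primesNotDvd (Nat.card A)) (Subgroup.centralizer (A : Set G)),
      Q₂ = Q₁.map (MulAut.conj k).toMonoidHom := by
  haveI := Fact.mk hq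
  induction hn : Nat.card G - Nat.card (Q₁ ⊓ Q₂ : Subgroup G) using Nat.strong_induction_on
    generalizing Q₁ Q₂ with
  | _ n ih =>
  subst hn
  obtain ⟨h1p, h1A⟩ := (mem_inv_top hq).mp h₁.1
  obtain ⟨h2p, h2A⟩ := (mem_inv_top hq).mp h₂.1
  by_cases heq : Q₁ = Q₂
  · refine ⟨1, one_mem _, ?_⟩
    rw [← heq]
    convert Q₁.map_id.symm
    ext x; simp
  set D := Q₁ ⊓ Q₂ with hD
  have hlt1 : D < Q₁ := lt_of_le_of_ne inf_le_left fun h =>
    heq (h₁.2 Q₂ h₂.1 (h ▸ inf_le_right)).symm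
  have hlt2 : D < Q₂ := lt_of_le_of_ne inf_le_right fun h =>
    heq (h₂.2 Q₁ h₁.1 (h ▸ inf_le_left))
  have hAD : A ≤ Subgroup.normalizer (D : Set G) :=
    (le_inf h1A h2A).trans Subgroup.inf_normalizer_le_normalizer_inf
  haveI := hG.1
  have hDtop : D ≠ ⊤ := ne_top_of_lt hlt1
  have hH : Subgroup.normalizer (D : Set G) ≠ ⊤ := ne_top_normalizer hne hDtop
  have hR1 := Coprime.lt_normalizer_inf_of_lt h1p hlt1
  have hR2 := Coprime.lt_normalizer_inf_of_lt h2p hlt2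
  have hAR : ∀ Q : Subgroup G, A ≤ Subgroup.normalizer (Q : Set G) →
      A ≤ Subgroup.normalizer ((Q ⊓ Subgroup.normalizer (D : Set G) : Subgroup G) : Set G) := fun Q hQ =>
    (le_inf hQ (hAD.trans Subgroup.le_normalizer)).trans Subgroup.inf_normalizer_le_normalizer_inf
  obtain ⟨k, hk, Q₃, hQ₃, hle1, hle2⟩ := exists_common hG hA hq hqA hH hAD
    (h1p.to_le inf_le_left) (hAR Q₁ h1A) inf_le_right
    (h2p.to_le inf_le_left) (hAR Q₂ h2A) inf_le_right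
  have hk' : k ∈ Subgroup.normalizer (A : Set G) :=
    centralizer_le_normalizer' A (piCoreOf_le _ _ hk)
  have hlarge : ∀ (T U : Subgroup G), Nat.card D < Nat.card T → T ≤ U →
      Nat.card G - Nat.card U < Nat.card G - Nat.card D := fun T U h1 h2 => by
    have := h1.trans_le (Subgroup.card_le_of_le h2)
    have := Subgroup.card_le_card_group U
    omega
  have hcard : ∀ {T : Subgroup G}, D < T → Nat.card D < Nat.card T := fun {T} h =>
    Set.ncard_lt_ncard (SetLike.coe_ssubset_coe.mpr h)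
  have hne' : ∀ {T U : Subgroup G}, D < T → T ≤ U → U ≠ ⊥ := fun {T U} h1 h2 h3 => by
    subst h3; exact not_lt_bot (lt_of_lt_of_le h1 h2)
  obtain ⟨k1, hk1, e1⟩ := ih _ (hlarge _ (Q₁ ⊓ Q₃) (hcard hR1) (le_inf inf_le_left hle1)) h₁ hQ₃
    (hne' hR1 (le_inf inf_le_left hle1)) rfl
  have hlt2' : Nat.card D <
      Nat.card ((Q₂ ⊓ Subgroup.normalizer (D : Set G)).map (MulAut.conj k).toMonoidHom) := by
    rw [Subgroup.card_map_of_injective (MulAut.conj k).injective]; exact hcard hR2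
  have hle2' : (Q₂ ⊓ Subgroup.normalizer (D : Set G)).map (MulAut.conj k).toMonoidHom ≤
      Q₃ ⊓ Q₂.map (MulAut.conj k).toMonoidHom :=
    le_inf hle2 (Subgroup.map_mono inf_le_left)
  obtain ⟨k2, hk2, e2⟩ := ih _ (hlarge _ _ hlt2' hle2') hQ₃ (map_conj_max hq hk' h₂)
    (fun h3 => by
      have h4 := Subgroup.card_le_of_le hle2'
      rw [h3, Subgroup.card_bot] at h4
      have := Nat.card_pos (α := D)
      omega) rfl
  refine ⟨k⁻¹ * (k2 * k1), mul_mem (inv_mem hk) (mul_mem hk2 hk1), ?_⟩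
  rw [← map_conj_inv k Q₂, e2, e1, map_conj_conj, map_conj_conj, mul_assoc]

theorem conj_of_meet {q : ℕ} (hq : q.Prime) (hqA : ¬ q ∣ Nat.card A) {Q₁ Q₂ : Subgroup G}
    (h₁ : Q₁ ∈ Cfsg.maxInvSubgroups ⊤ A {q}) (h₂ : Q₂ ∈ Cfsg.maxInvSubgroups ⊤ A {q})
    {H : Subgroup G} (hH : H ≠ ⊤) (hAH : A ≤ H) (hH₁ : H ⊓ Q₁ ≠ ⊥) (hH₂ : H ⊓ Q₂ ≠ ⊥) :
    ∃ k ∈ Cfsg.piCoreOf (Cfsg.primesNotDvd (Nat.card A)) (Subgroup.centralizer (A : Set G)),
      Q₂ = Q₁.map (MulAut.conj k).toMonoidHom := by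
  obtain ⟨h1p, h1A⟩ := (mem_inv_top hq).mp h₁.1
  obtain ⟨h2p, h2A⟩ := (mem_inv_top hq).mp h₂.1
  have hAR : ∀ Q : Subgroup G, A ≤ Subgroup.normalizer (Q : Set G) →
      A ≤ Subgroup.normalizer ((H ⊓ Q : Subgroup G) : Set G) := fun Q hQ =>
    (le_inf (hAH.trans Subgroup.le_normalizer) hQ).trans Subgroup.inf_normalizer_le_normalizer_inf
  obtain ⟨k, hk, Q₃, hQ₃, hle1, hle2⟩ := exists_common hG hA hq hqA hH hAH
    (h1p.to_le inf_le_right) (hAR Q₁ h1A) inf_le_left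
    (h2p.to_le inf_le_right) (hAR Q₂ h2A) inf_le_left
  obtain ⟨k1, hk1, e1⟩ := conj_of_inf hG hA hq hqA h₁ hQ₃
    (ne_bot_of_le_ne_bot hH₁ (le_inf inf_le_right hle1))
  obtain ⟨k2, hk2, e2⟩ := conj_of_inf hG hA hq hqA hQ₃
    (map_conj_max hq (centralizer_le_normalizer' A (piCoreOf_le _ _ hk)) h₂)
    (ne_bot_of_le_ne_bot
      (fun h => hH₂ ((Subgroup.map_eq_bot_iff_of_injective _ (MulAut.conj k).injective).mp h))
      (le_inf hle2 (Subgroup.map_mono inf_le_right)))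
  refine ⟨k⁻¹ * (k2 * k1), mul_mem (inv_mem hk) (mul_mem hk2 hk1), ?_⟩
  rw [← map_conj_inv k Q₂, e2, e1, map_conj_conj, map_conj_conj, mul_assoc]

/-- A nontrivial maximal `B`-invariant `q`-subgroup, `A ≤ B`, is maximal `A`-invariant. -/
theorem max_of_ne_bot {q : ℕ} (hq : q.Prime) (hqA : ¬ q ∣ Nat.card A) {B : Subgroup G} (hB : B ≠ ⊤)
    (hBπ : ∀ r : ℕ, r.Prime → r ∣ Nat.card B → r ∣ Nat.card A) (hAB : A ≤ B) {Q : Subgroup G}
    (hQ : Q ∈ Cfsg.maxInvSubgroups ⊤ B {q}) (hQ1 : Q ≠ ⊥) :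
    Q ∈ Cfsg.maxInvSubgroups ⊤ A {q} := by
  haveI := Fact.mk hq
  haveI := hG.1
  obtain ⟨hQp, hBQ⟩ := (mem_inv_top hq).mp hQ.1
  refine ⟨(mem_inv_top hq).mpr ⟨hQp, hAB.trans hBQ⟩, fun Q' hQ' hle => ?_⟩
  obtain ⟨hQ'p, hAQ'⟩ := (mem_inv_top hq).mp hQ'
  by_contra hne
  have hlt : Q < Q' := lt_of_le_of_ne hle (Ne.symm hne)
  have hH : Subgroup.normalizer (Q : Set G) ≠ ⊤ := ne_top_normalizer hQ1 (ne_top_of_lt hlt)
  set O := Cfsg.piCoreOf (Cfsg.primesNotDvd (Nat.card A)) (Subgroup.normalizer (Q : Set G)) with hO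
  have hR := Coprime.lt_normalizer_inf_of_lt hQ'p hlt
  have hRA : A ≤ Subgroup.normalizer ((Q' ⊓ Subgroup.normalizer (Q : Set G) : Subgroup G) : Set G) :=
    (le_inf hAQ' ((hAB.trans hBQ).trans Subgroup.le_normalizer)).trans
      Subgroup.inf_normalizer_le_normalizer_inf
  have hRO := le_core hA hH (hAB.trans hBQ) inf_le_right
    (coprime_qGroup hG hA hq hqA (hQ'p.to_le inf_le_left)) hRA
  have hcop : (Nat.card B).Coprime (Nat.card O) := Nat.coprime_of_dvd fun r hr hrB hrO =>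
    hr.ne_one (Nat.eq_one_of_dvd_coprimes (coprime_piCoreOf _ _) hrO (hBπ r hr hrB))
  obtain ⟨P, hP, hP'⟩ := Coprime.exists_le_invariant_sylow
    (hBQ.trans (le_normalizer_piCoreOf _ _)) hcop (Or.inl (hG.2.2 B hB)) (p := q)
    (hR.le.trans hRO) hQp hBQ
  have hPQ : (P : Subgroup O).map O.subtype = Q :=
    hQ.2 _ ((mem_inv_top hq).mpr ⟨P.isPGroup'.map _, hP'⟩) hP
  obtain ⟨P', hP'le⟩ := ((hQ'p.to_le (inf_le_left :
    Q' ⊓ Subgroup.normalizer (Q : Set G) ≤ Q')).comap_of_injective O.subtype O.subtype_injective).exists_le_sylow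
  have h1 : Nat.card (Q' ⊓ Subgroup.normalizer (Q : Set G) : Subgroup G) ≤ Nat.card Q := by
    refine le_trans ?_ (le_of_eq (congrArg (fun T : Subgroup G => Nat.card T) hPQ))
    rw [Coprime.card_map_subtype, P.card_eq_multiplicity, ← P'.card_eq_multiplicity,
      ← Coprime.card_map_subtype (P' : Subgroup O)]
    exact Subgroup.card_le_of_le fun x hx => ⟨⟨x, hRO hx⟩, hP'le hx, rfl⟩
  exact absurd h1 (not_le.mpr (Set.ncard_lt_ncard (SetLike.coe_ssubset_coe.mpr hR)))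

/-- One step up a subnormal series. -/
theorem step {q : ℕ} (hq : q.Prime) (hqA : ¬ q ∣ Nat.card A) {B B' : Subgroup G} (hB' : B' ≠ ⊤)
    (hπ : ∀ r : ℕ, r.Prime → r ∣ Nat.card B' → r ∣ Nat.card A) (hAB : A ≤ B) (hBB : B ≤ B')
    (hN : B' ≤ Subgroup.normalizer (B : Set G))
    (hsub : Cfsg.maxInvSubgroups ⊤ B {q} ⊆ Cfsg.maxInvSubgroups ⊤ A {q})
    (htr : ∀ Q₁ ∈ Cfsg.maxInvSubgroups ⊤ B {q}, ∀ Q₂ ∈ Cfsg.maxInvSubgroups ⊤ B {q},
      ∃ k ∈ Cfsg.piCoreOf (Cfsg.primesNotDvd (Nat.card A)) (Subgroup.centralizer (B : Set G)),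
        Q₂ = Q₁.map (MulAut.conj k).toMonoidHom) :
    Cfsg.maxInvSubgroups ⊤ B' {q} ⊆ Cfsg.maxInvSubgroups ⊤ A {q} ∧
      ∀ Q₁ ∈ Cfsg.maxInvSubgroups ⊤ B' {q}, ∀ Q₂ ∈ Cfsg.maxInvSubgroups ⊤ B' {q},
        ∃ k ∈ Cfsg.piCoreOf (Cfsg.primesNotDvd (Nat.card A)) (Subgroup.centralizer (B' : Set G)),
          Q₂ = Q₁.map (MulAut.conj k).toMonoidHom := by
  haveI := Fact.mk hq
  let act : MulAction G (Subgroup G) := MulAction.compHom _ (MulAut.conj (G := G))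
  have hsmul : ∀ (x : G) (H : Subgroup G), x • H = H.map (MulAut.conj x).toMonoidHom := fun _ _ => rfl
  set KB := Cfsg.piCoreOf (Cfsg.primesNotDvd (Nat.card A)) (Subgroup.centralizer (B : Set G)) with hKB
  have hKN : KB ≤ Subgroup.normalizer (B : Set G) :=
    (piCoreOf_le _ _).trans (Subgroup.centralizer_le_normalizer _)
  have hB'K : B' ≤ Subgroup.normalizer (KB : Set G) := by
    refine le_trans ?_ (normalizer_le_normalizer_piCoreOf _ _)
    intro b hb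
    rw [Subgroup.mem_normalizer_iff]
    have key : ∀ g ∈ Subgroup.normalizer (B : Set G), ∀ z ∈ Subgroup.centralizer (B : Set G),
        g * z * g⁻¹ ∈ Subgroup.centralizer (B : Set G) := by
      intro g hg z hz
      rw [Subgroup.mem_centralizer_iff] at hz ⊢
      intro y hy
      have hy' : g⁻¹ * y * g ∈ B :=
        (Subgroup.mem_normalizer_iff.mp hg _).mpr (by simpa [mul_assoc] using hy)
      calc y * (g * z * g⁻¹) = g * ((g⁻¹ * y * g) * z) * g⁻¹ := by group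
        _ = g * (z * (g⁻¹ * y * g)) * g⁻¹ := by rw [hz _ hy']
        _ = g * z * g⁻¹ * y := by group
    intro z
    refine ⟨key b (hN hb) z, fun hz => ?_⟩
    simpa [mul_assoc] using key b⁻¹ (inv_mem (hN hb)) _ hz
  have hcop : (Nat.card B').Coprime (Nat.card KB) := Nat.coprime_of_dvd fun r hr h1 h2 =>
    hr.ne_one (Nat.eq_one_of_dvd_coprimes (coprime_piCoreOf _ _) h2 (hπ r hr h1))
  have hsolv : Group.IsSolvable B' ∨ Group.IsSolvable KB := Or.inl (hG.2.2 B' hB')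
  obtain ⟨Qb, hQb, -⟩ := exists_max hq (IsPGroup.of_bot (p := q) (G := G))
    (le_top.trans (Subgroup.normalizer_eq_top (H := (⊥ : Subgroup G))).ge : B ≤ _)
  obtain ⟨Q₀, hQ₀, hQ₀fix⟩ := Coprime.exists_fixed_mem (A := B') (K := KB) hB'K hcop hsolv
    (s := Cfsg.maxInvSubgroups ⊤ B {q}) hQb
    (fun a ha Q hQ => by rw [hsmul]; exact map_conj_max hq (hN ha) hQ)
    (fun k hk Q hQ => by rw [hsmul]; exact map_conj_max hq (hKN hk) hQ)
    (fun Q hQ => by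
      obtain ⟨k, hk, e⟩ := htr Qb hQb Q hQ
      exact ⟨k, hk, by rw [hsmul, e]⟩)
  have hB'Q₀ : B' ≤ Subgroup.normalizer (Q₀ : Set G) := fun a ha => by
    rw [Subgroup.mem_normalizer_iff_map_conj_eq]
    exact hQ₀fix a ha
  have hsub' : Cfsg.maxInvSubgroups ⊤ B' {q} ⊆ Cfsg.maxInvSubgroups ⊤ A {q} := by
    intro Q hQ
    rcases eq_or_ne Q ⊥ with rfl | hQ1
    · have hQ₀bot := hQ.2 Q₀ ((mem_inv_top hq).mpr ⟨((mem_inv_top hq).mp hQ₀.1).1, hB'Q₀⟩) bot_le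
      rw [← hQ₀bot]
      exact hsub hQ₀
    · exact max_of_ne_bot hG hA hq hqA hB' hπ (hAB.trans hBB) hQ hQ1
  refine ⟨hsub', fun Q₁ h₁ Q₂ h₂ => ?_⟩
  obtain ⟨h1p, h1B⟩ := (mem_inv_top hq).mp h₁.1
  obtain ⟨h2p, h2B⟩ := (mem_inv_top hq).mp h₂.1
  have hmem : ∀ Q, Q ∈ Cfsg.maxInvSubgroups ⊤ B' {q} → Q ∈ Cfsg.maxInvSubgroups ⊤ B {q} := fun Q hQ => by
    obtain ⟨hp, hB⟩ := (mem_inv_top hq).mp hQ.1
    refine ⟨(mem_inv_top hq).mpr ⟨hp, hBB.trans hB⟩, fun R hR hle => (hsub' hQ).2 R ?_ hle⟩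
    obtain ⟨hRp, hRB⟩ := (mem_inv_top hq).mp hR
    exact (mem_inv_top hq).mpr ⟨hRp, hAB.trans hRB⟩
  obtain ⟨k, hk, e⟩ := htr Q₁ (hmem Q₁ h₁) Q₂ (hmem Q₂ h₂)
  obtain ⟨c, hc, hce⟩ := Coprime.exists_centralizer_smul_eq (A := B') (K := KB) hB'K hcop hsolv
    (x := Q₁) (y := Q₂)
    (fun a ha => by rw [hsmul]; exact Subgroup.mem_normalizer_iff_map_conj_eq.mp (h1B ha))
    (fun a ha => by rw [hsmul]; exact Subgroup.mem_normalizer_iff_map_conj_eq.mp (h2B ha))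
    hk (by rw [hsmul, e])
  refine ⟨c, ?_, by rw [← hce, hsmul]⟩
  refine le_piCoreOf (N := KB ⊓ Subgroup.centralizer (B' : Set G)) inf_le_right ?_ ?_ hc
  · refine (le_inf ?_ Subgroup.le_normalizer).trans Subgroup.inf_normalizer_le_normalizer_inf
    exact (Subgroup.centralizer_le hBB).trans (le_normalizer_piCoreOf _ _)
  · exact (coprime_piCoreOf _ _).coprime_dvd_left (Subgroup.card_dvd_of_le inf_le_left)

end Minimal

end CfsgLib.OddOrder.Transitivity
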