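import Cfsg.Agent.Lib.OddOrder.SCNInvariant
import Cfsg.Agent.Lib.OddOrder.Puig
import Cfsg.Agent.Lib.OddOrder.Transitivity
import Cfsg.Agent.Lib.Fusion.NormalRankTwo
import Cfsg.Agent.Lib.Fusion.Thompson

set_option autoImplicit false

/-!
A self-centralising normal abelian subgroup of rank at least two of a Sylow subgroup satisfies the
transitivity hypothesis.
-/

namespace CfsgLib.OddOrder.SCNTransitivity

open scoped commutatorElement Pointwise

variable {G : Type*} [Group G] [Finite G] {p : ℕ} [hp : Fact p.Prime]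

theorem not_isCyclic_of_card {E : Subgroup G} (hE : Cfsg.IsElementaryAbelian p E)
    (h : p < Nat.card E) : ¬ IsCyclic E := fun hc => by
  haveI := hc
  have h1 : Nat.card E ∣ p := by
    rw [← IsCyclic.exponent_eq_card (α := E)]
    exact Monoid.exponent_dvd_of_forall_pow_eq_one fun a => Subtype.ext (by simpa using hE.2 a a.2)
  exact absurd (Nat.le_of_dvd hp.out.pos h1) (not_le.mpr h)

theorem not_isCyclic_of_rank {A : Subgroup G} (h : ¬ Cfsg.PRankLE p 1 A) : ¬ IsCyclic A := fun hc => h (by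
  haveI := hc
  intro B _ hB
  have h1 : Nat.card B ∣ p := by
    rw [← IsCyclic.exponent_eq_card (α := B)]
    exact Monoid.exponent_dvd_of_forall_pow_eq_one fun a => Subtype.ext (by simpa using hB a a.2)
  simpa using Nat.le_of_dvd hp.out.pos h1)

/-- A `p`-subgroup of `C(A)` lies in `A`, when `A` is self-centralising in a Sylow subgroup normalising it. -/
theorem le_of_centralizer (P : Sylow p G) {A U : Subgroup G} (hA : Cfsg.IsSCN (P : Subgroup G) A)
    (hU : IsPGroup p U) (hUA : U ≤ Subgroup.centralizer (A : Set G)) : U ≤ A := by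
  set N := Subgroup.normalizer (A : Set G) with hN
  have hUN : U ≤ N := hUA.trans (Subgroup.centralizer_le_normalizer _)
  obtain ⟨T, hT⟩ := (hU.comap_of_injective N.subtype N.subtype_injective).exists_le_sylow
  set P' : Sylow p N := P.subtype hA.2.1 with hP'
  obtain ⟨n, hn⟩ := MulAction.exists_smul_eq N T P'
  intro u hu
  have h1 : (n * ⟨u, hUN hu⟩ * n⁻¹ : N) ∈ (P' : Subgroup N) := by
    rw [← hn, Sylow.coe_subgroup_smul]
    exact ⟨_, hT (show (⟨u, hUN hu⟩ : N) ∈ U.comap N.subtype from hu), rfl⟩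
  rw [hP', Sylow.coe_subtype, Subgroup.mem_subgroupOf] at h1
  have h2 : (n : G) * u * (n : G)⁻¹ ∈ Subgroup.centralizer (A : Set G) := by
    rw [Subgroup.mem_centralizer_iff]
    intro a ha
    have ha' : (n : G)⁻¹ * a * n ∈ A :=
      (Subgroup.mem_normalizer_iff.mp n.2 _).mpr (by simpa [mul_assoc] using ha)
    have h3 := Subgroup.mem_centralizer_iff.mp (hUA hu) _ ha'
    calc a * ((n : G) * u * (n : G)⁻¹) = n * (((n : G)⁻¹ * a * n) * u) * (n : G)⁻¹ := by group
      _ = n * (u * ((n : G)⁻¹ * a * n)) * (n : G)⁻¹ := by rw [h3]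
      _ = _ := by group
  have h4 : (n : G) * u * (n : G)⁻¹ ∈ A := hA.2.2 ▸ (⟨h1, h2⟩ :
    (n : G) * u * (n : G)⁻¹ ∈ (P : Subgroup G) ⊓ Subgroup.centralizer (A : Set G))
  exact (Subgroup.mem_normalizer_iff.mp n.2 u).mpr h4

theorem isMulCommutative_of_scn {P A : Subgroup G} (hA : Cfsg.IsSCN P A) : IsMulCommutative A :=
  Subgroup.le_centralizer_iff_isMulCommutative.mp (le_of_eq_of_le hA.2.2.symm inf_le_right)

/-- For `e` in a normal subgroup `E` of order `p ^ 2`, the centraliser of `e` has index at most `p` in `P`. -/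
theorem relIndex_centralizer_le {P E : Subgroup G} (hP : IsPGroup p P) (hEP : E ≤ P)
    (hPE : P ≤ Subgroup.normalizer (E : Set G)) (hE : Nat.card E = p ^ 2) {e : G} (he : e ∈ E) :
    (Subgroup.centralizer ({e} : Set G)).relIndex P ≤ p := by
  set F := ⁅E, P⁆ with hF
  have hFlt : F < E := Coprime.commutator_lt_of_isPGroup hP (hP.to_le hEP) hPE (by
    intro h; rw [h, Subgroup.card_bot] at hE
    exact absurd hE.symm (Nat.one_lt_pow (by norm_num) hp.out.one_lt).ne')
  have hFc : Nat.card F ≤ p := by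
    obtain ⟨k, hk⟩ := (hP.to_le (hFlt.le.trans hEP)).exists_card_eq
    have hlt : Nat.card F < p ^ 2 := hE ▸ Set.ncard_lt_ncard (SetLike.coe_ssubset_coe.mpr hFlt)
    rw [hk] at hlt ⊢
    calc p ^ k ≤ p ^ 1 := Nat.pow_le_pow_right hp.out.pos
          (Nat.lt_succ_iff.mp ((Nat.pow_lt_pow_iff_right hp.out.one_lt).mp hlt))
      _ = p := pow_one p
  refine le_trans ?_ hFc
  let f : P ⧸ (Subgroup.centralizer ({e} : Set G)).subgroupOf P → F := fun x =>
    ⟨⁅e, ((x.out : P) : G)⁆, Subgroup.commutator_mem_commutator he (x.out : P).2⟩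
  refine Nat.card_le_card_of_injective f ?_
  intro x y hxy
  rw [← Quotient.out_eq x, ← Quotient.out_eq y]
  refine QuotientGroup.eq.mpr ?_
  rw [Subgroup.mem_subgroupOf, Subgroup.mem_centralizer_singleton_iff]
  have h : ⁅e, ((x.out : P) : G)⁆ = ⁅e, ((y.out : P) : G)⁆ := congrArg Subtype.val hxy
  simp only [commutatorElement_def] at h
  set a := ((x.out : P) : G)
  set b := ((y.out : P) : G)
  have h2 : a * e⁻¹ * a⁻¹ = b * e⁻¹ * b⁻¹ := by
    simpa [mul_assoc] using h
  have h3 : a * e * a⁻¹ = b * e * b⁻¹ := by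
    have := congrArg (·⁻¹) h2
    simpa [mul_assoc] using this
  show a⁻¹ * b * e = e * (a⁻¹ * b)
  calc a⁻¹ * b * e = a⁻¹ * (b * e * b⁻¹) * b := by group
    _ = a⁻¹ * (a * e * a⁻¹) * b := by rw [h3]
    _ = _ := by group

/-- In a minimal simple group of odd order, an `A`-invariant `p'`-subgroup of a proper subgroup `X` lies in
`O_{p'}(X)`. -/
theorem le_pPrimeCore_of_scn (hG : Cfsg.IsMinimalSimple G) (hodd : Odd (Nat.card G)) (P : Sylow p G)
    (A : Subgroup G) (hA : Cfsg.IsSCN (P : Subgroup G) A) (hr : ¬ Cfsg.PRankLE p 1 A) {X L : Subgroup G}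
    (hX : X ≠ ⊤) (hAX : A ≤ X) (hLX : L ≤ X) (hL : (Nat.card L).Coprime p)
    (hAL : A ≤ Subgroup.normalizer (L : Set G)) :
    L ≤ (Cfsg.pPrimeCore p X).map X.subtype := by
  haveI := hG.1
  have hAc := isMulCommutative_of_scn hA
  haveI := hAc
  -- a normal subgroup of order `p ^ 2` of `P` inside `A`
  obtain ⟨E, hEA, hEe, hPE, hEc⟩ : ∃ E : Subgroup G, E ≤ A ∧ Cfsg.IsElementaryAbelian p E ∧
      (P : Subgroup G) ≤ Subgroup.normalizer (E : Set G) ∧ Nat.card E = p ^ 2 := by
    haveI : (A.subgroupOf (P : Subgroup G)).Normal :=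
      (Subgroup.normal_subgroupOf_iff_le_normalizer hA.1).mpr hA.2.1
    obtain ⟨E, hEA, hEn, hEe, hEc⟩ := Fusion.NormalRankTwo.exists_of_abelian P.isPGroup'
      (A := A.subgroupOf (P : Subgroup G))
      (Subgroup.le_centralizer_iff_isMulCommutative.mp fun x hx =>
        Subgroup.mem_centralizer_iff.mpr fun y hy => Subtype.ext
          (Subgroup.mem_centralizer_iff.mp (A.le_centralizer hx) y hy))
      (fun hc => not_isCyclic_of_rank hr
        ((Subgroup.subgroupOfEquivOfLe hA.1).isCyclic.mp hc))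
    refine ⟨E.map (P : Subgroup G).subtype, ?_, Fusion.Thompson.isEA_map _ hEe, ?_, ?_⟩
    · rintro _ ⟨x, hx, rfl⟩; exact hEA hx
    · have := Subgroup.le_normalizer_map (H := E) (P : Subgroup G).subtype
      rwa [Subgroup.normalizer_eq_top (H := E), ← MonoidHom.range_eq_map, Subgroup.range_subtype] at this
    · rwa [Subgroup.card_map_of_injective (P : Subgroup G).subtype_injective]
  haveI := hEe.1
  have hEnc : ¬ IsCyclic E := not_isCyclic_of_card hEe (by
    rw [hEc]; nlinarith [hp.out.two_le])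
  have hcopE : (Nat.card E).Coprime (Nat.card L) := by rw [hEc]; exact hL.symm.pow_left 2
  rw [← Coprime.iSup_centralizer_singleton hEnc (hEA.trans hAL) hcopE]
  refine iSup₂_le fun e he => ?_
  obtain ⟨heE, he1⟩ := he
  set Y := Subgroup.centralizer ({e} : Set G) with hY
  have hYtop : Y ≠ ⊤ := by
    intro h
    have hc : e ∈ Subgroup.center G := Subgroup.mem_center_iff.mpr fun g =>
      Subgroup.mem_centralizer_singleton_iff.mp (h ▸ Subgroup.mem_top g : g ∈ Y)
    rcases (inferInstance : (Subgroup.center G).Normal).eq_bot_or_eq_top with hb | ht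
    · rw [hb, Subgroup.mem_bot] at hc; exact he1 hc
    · exact hG.2.1 (⟨⟨fun a b => (Subgroup.mem_center_iff.mp (ht ▸ Subgroup.mem_top a) b).symm⟩⟩)
  haveI : Group.IsSolvable Y := hG.2.2 Y hYtop
  have hAY : A ≤ Y := fun a ha => Subgroup.mem_centralizer_singleton_iff.mpr
    (Subgroup.mem_centralizer_iff.mp (A.le_centralizer (hEA heE)) a ha)
  set CP := (P : Subgroup G) ⊓ Y with hCP
  obtain ⟨Q, hQ⟩ := ((P.isPGroup'.to_le (inf_le_left : CP ≤ _)).comap_of_injective Y.subtype
    Y.subtype_injective).exists_le_sylow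
  set Q' := (Q : Subgroup Y).map Y.subtype with hQ'
  have hCPQ : CP ≤ Q' := fun x hx => ⟨⟨x, hx.2⟩, hQ hx, rfl⟩
  have hAQ : A ≤ Q' := (le_inf hA.1 hAY).trans hCPQ
  have hQp : IsPGroup p Q' := Q.isPGroup'.map _
  set M := (Subgroup.normalizer (A : Set G)).subgroupOf Q' with hM
  have hidx : M.index ≤ p := by
    refine le_trans (Nat.le_of_dvd (Nat.pos_of_ne_zero Subgroup.index_ne_zero_of_finite)
      (Subgroup.relIndex_dvd_of_le_left Q' (inf_le_left.trans hA.2.1 : CP ≤ Subgroup.normalizer (A : Set G)))) ?_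
    have h1 : CP.relIndex (P : Subgroup G) ≤ p := by
      rw [hCP, inf_comm, Subgroup.inf_relIndex_right]
      exact relIndex_centralizer_le P.isPGroup' (hEA.trans hA.1) hPE hEc heE
    obtain ⟨P₁, hP₁⟩ := hQp.exists_le_sylow
    have h2 : Nat.card Q' ≤ Nat.card P := by
      rw [P.card_eq_multiplicity, ← P₁.card_eq_multiplicity]
      exact Subgroup.card_le_of_le hP₁
    have e1 := Subgroup.relIndex_mul_relIndex ⊥ CP (P : Subgroup G) bot_le inf_le_left
    have e2 := Subgroup.relIndex_mul_relIndex ⊥ CP Q' bot_le hCPQ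
    rw [Subgroup.relIndex_bot_left, Subgroup.relIndex_bot_left] at e1 e2
    have hpos : 0 < Nat.card CP := Nat.card_pos
    refine Nat.le_of_mul_le_mul_left ?_ hpos
    calc _ = Nat.card Q' := e2
      _ ≤ Nat.card (P : Subgroup G) := h2
      _ = Nat.card CP * CP.relIndex (P : Subgroup G) := e1.symm
      _ ≤ _ := Nat.mul_le_mul_left _ h1
  have hMn : M.Normal := by
    obtain ⟨n, hn⟩ := hQp.index M
    have : M.index = 1 ∨ M.index = p := by
      rcases n with _ | _ | n
      · exact Or.inl (by simpa using hn)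
      · exact Or.inr (by simpa using hn)
      · exfalso
        rw [hn] at hidx
        have : p ^ 2 ≤ p ^ (n + 2) := Nat.pow_le_pow_right hp.out.pos (by omega)
        nlinarith [hp.out.two_le]
    rcases this with h | h
    · rw [Subgroup.index_eq_one.mp h]; infer_instance
    · obtain ⟨m, hm⟩ := hQp.exists_card_eq
      have hm0 : m ≠ 0 := by
        rintro rfl
        have := Subgroup.index_dvd_card M
        rw [h, hm, pow_zero, Nat.dvd_one] at this
        exact hp.out.ne_one this
      exact Subgroup.normal_of_index_eq_minFac_card (by rw [h, hm, Nat.Prime.pow_minFac hp.out hm0])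
  haveI hAs : IsMulCommutative (A.subgroupOf Y) :=
    Subgroup.le_centralizer_iff_isMulCommutative.mp fun x hx => Subgroup.mem_centralizer_iff.mpr
      fun y hy => Subtype.ext (Subgroup.mem_centralizer_iff.mp (A.le_centralizer hx) y hy)
  set L0 := L ⊓ Y with hL0
  have hL0cop : (Nat.card L0).Coprime p := hL.coprime_dvd_left (Subgroup.card_dvd_of_le inf_le_left)
  have key := SCNInvariant.le_pPrimeCore (X := Y) (p := p)
    (Odd.of_dvd_nat hodd (Subgroup.card_subgroup_dvd_card Y)) Q (A.subgroupOf Y) (L0.subgroupOf Y)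
    (fun x hx => by
      obtain ⟨y, hy, hyx⟩ := hAQ hx
      exact (Subtype.ext hyx : y = x) ▸ hy)
    (by
      rintro x ⟨hxQ, hxC⟩
      refine le_of_centralizer P hA (U := Q' ⊓ Subgroup.centralizer (A : Set G))
        (hQp.to_le inf_le_left) inf_le_right ⟨⟨x, hxQ, rfl⟩, Subgroup.mem_centralizer_iff.mpr fun a ha => ?_⟩
      exact congrArg Subtype.val (Subgroup.mem_centralizer_iff.mp hxC ⟨a, hAY ha⟩ ha))
    (by
      rw [Subgroup.commutator_le]
      intro x hx a ha
      have hxQ' : (x : G) ∈ Q' := ⟨x, hx, rfl⟩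
      have haQ' : (a : G) ∈ Q' := hAQ ha
      have hm : (⟨⁅(x : G), (a : G)⁆, mul_mem (mul_mem (mul_mem hxQ' haQ') (inv_mem hxQ')) (inv_mem haQ')⟩ : Q') ∈ M := by
        have haM : (⟨a, haQ'⟩ : Q') ∈ M := Subgroup.le_normalizer (ha : (a : G) ∈ A)
        exact mul_mem (hMn.conj_mem _ haM ⟨x, hxQ'⟩) (inv_mem haM)
      have hm' : ⁅(x : G), (a : G)⁆ ∈ Subgroup.normalizer (A : Set G) := hm
      rw [Subgroup.mem_normalizer_iff]
      intro y
      exact Subgroup.mem_normalizer_iff.mp hm' (y : G))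
    (by rwa [Nat.card_congr (Subgroup.subgroupOfEquivOfLe (inf_le_right : L0 ≤ Y)).toEquiv])
    (by
      intro a ha
      have := ((le_inf hAL (hAY.trans Subgroup.le_normalizer)).trans
        Subgroup.inf_normalizer_le_normalizer_inf) ha
      rw [Subgroup.mem_normalizer_iff]
      intro y
      exact Subgroup.mem_normalizer_iff.mp this (y : G))
  set Z := (Cfsg.pPrimeCore p Y).map Y.subtype with hZ
  have hYZ : Y ≤ Subgroup.normalizer (Z : Set G) := by
    refine (Subgroup.normal_subgroupOf_iff_le_normalizer (Subgroup.map_subtype_le _)).mp ?_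
    rw [Subgroup.subgroupOf, Subgroup.comap_map_eq_self_of_injective Y.subtype_injective]
    infer_instance
  have hLZ : L ⊓ Y ≤ Z ⊓ X := le_inf
    (fun x hx => ⟨⟨x, hx.2⟩, key (show (⟨x, hx.2⟩ : Y) ∈ L0.subgroupOf Y from hx), rfl⟩)
    (inf_le_left.trans hLX)
  haveI : Group.IsSolvable X := hG.2.2 X hX
  have heX : e ∈ X := hAX (hEA heE)
  have hbal := SCNInvariant.balance (X := X) (p := p) (Subgroup.zpowers ⟨e, heX⟩) ((Z ⊓ X).subgroupOf X)
    (IsPGroup.of_card (n := 1) (by
      rw [Nat.card_zpowers, pow_one]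
      exact orderOf_eq_prime (Subtype.ext (by simpa using hEe.2 e heE))
        fun h => he1 (congrArg Subtype.val h)))
    (by
      rintro x ⟨hxZ, -⟩
      have hxY : (x : G) ∈ Y := Subgroup.map_subtype_le _ hxZ
      have hc : Commute x ⟨e, heX⟩ := Subtype.ext (Subgroup.mem_centralizer_singleton_iff.mp hxY)
      rw [Subgroup.mem_centralizer_iff]
      rintro _ ⟨i, rfl⟩
      exact (hc.zpow_right i).symm.eq)
    (by
      rw [Nat.card_congr (Subgroup.subgroupOfEquivOfLe (inf_le_right : Z ⊓ X ≤ X)).toEquiv]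
      refine Nat.Coprime.coprime_dvd_left (Subgroup.card_dvd_of_le inf_le_left) ?_
      rw [hZ, Subgroup.card_map_of_injective Y.subtype_injective]
      exact Solvable.Cores.coprime_card_pPrimeCore p)
    (by
      intro x hx
      have hxY : (x : G) ∈ Y := Subgroup.mem_centralizer_singleton_iff.mpr
        (congrArg Subtype.val (Subgroup.mem_centralizer_iff.mp hx _ (Subgroup.mem_zpowers _))).symm
      have := (le_inf (inf_le_left.trans hYZ) (inf_le_right.trans Subgroup.le_normalizer)).trans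
        (Subgroup.inf_normalizer_le_normalizer_inf (H := Z) (K := X)) (⟨hxY, x.2⟩ : (x : G) ∈ Y ⊓ X)
      rw [Subgroup.mem_normalizer_iff]
      intro y
      exact Subgroup.mem_normalizer_iff.mp this (y : G))
  exact hLZ.trans fun x hx => ⟨⟨x, hx.2⟩, hbal hx, rfl⟩

end CfsgLib.OddOrder.SCNTransitivity
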