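import Cfsg.Agent.Lib.OddOrder.SelfCentralizing
import Cfsg.Agent.Lib.OddOrder.OmegaLemma
import Cfsg.Agent.Lib.OddOrder.Replacement
import Cfsg.Agent.Lib.OddOrder.SCNTransitivity
import Cfsg.Agent.Lib.PGroup.Regular
import Cfsg.Agent.Lib.Solvable.FrattiniFitting
import Cfsg.Prelude.Def_OddOrderLocal
import Mathlib

set_option autoImplicit false

/-!
Alperin's lemma for elementary abelian normal subgroups (odd `p`) and existence of `SCN_3` subgroups.
-/

namespace CfsgLib.OddOrder.SCN3

open scoped commutatorElement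

variable {R : Type*} [Group R] [Finite R] {p : ℕ} [hp : Fact p.Prime]

theorem pow_eq_one_of_class_two (hp2 : p ≠ 2) {u v : R} (hu : u ^ p = 1) (hv : v ^ p = 1)
    {z : R} (h : v * u = z * (u * v)) (hzv : Commute z v) (hzu : Commute z u) (hz : z ^ p = 1) :
    (u * v) ^ p = 1 := by
  rw [OmegaLemma.mul_pow_central h hzv hzu, hu, hv, mul_one, mul_one]
  obtain ⟨k, hk⟩ := hp.out.dvd_choose_self (k := 2) (by norm_num)
    (lt_of_le_of_ne hp.out.two_le (Ne.symm hp2))
  rw [hk, pow_mul, hz, one_pow]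

/-- Alperin: the elements of order dividing `p` centralizing a maximal normal elementary abelian subgroup lie
in it. -/
theorem omega_centralizer_le (hp2 : p ≠ 2) (hR : IsPGroup p R) (W : Subgroup R) [W.Normal]
    (hW : Cfsg.IsElementaryAbelian p W)
    (hmax : ∀ B : Subgroup R, B.Normal → Cfsg.IsElementaryAbelian p B → W ≤ B → B = W)
    {x : R} (hxW : x ∈ Subgroup.centralizer (W : Set R)) (hx : x ^ p = 1) : x ∈ W := by
  classical
  haveI := hR.isNilpotent
  by_contra hne
  haveI := hW.1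
  obtain ⟨M, hM⟩ := (Set.toFinite {M : Subgroup R | M.Normal ∧ W ≤ M ∧ M ≤ Subgroup.centralizer (W : Set R) ∧
    ∃ y ∈ M, y ^ p = 1 ∧ y ∉ W}).exists_minimal
    ⟨Subgroup.centralizer (W : Set R), inferInstance, W.le_centralizer, le_rfl, x, hxW, hx, hne⟩
  obtain ⟨⟨hMn, hWM, hMC, y, hyM, hyp, hyW⟩, hmin⟩ := hM
  haveI := hMn
  set M₀ := ⁅M, (⊤ : Subgroup R)⁆ ⊔ W with hM₀
  have hM₀M : M₀ ≤ M := sup_le (Subgroup.commutator_le_left _ _) hWM
  have hM₀lt : ¬ M ≤ M₀ := by
    intro hle
    obtain ⟨n, hn⟩ := Group.IsNilpotent.nilpotent R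
    have hall : ∀ n, M ≤ Subgroup.lowerCentralSeries (⊤ : Subgroup R) n ⊔ W := by
      intro n
      induction n with
      | zero => simp
      | succ n ih =>
        refine hle.trans (sup_le ?_ le_sup_right)
        rw [Subgroup.commutator_le]
        intro a ha g _
        obtain ⟨l, hl, w, hw, rfl⟩ := Subgroup.mem_sup_of_normal_right.mp (ih ha)
        have e : ⁅l * w, g⁆ = (l * ⁅w, g⁆ * l⁻¹) * ⁅l, g⁆ := by
          simp only [commutatorElement_def]; group
        rw [e]
        exact mul_mem (Subgroup.mem_sup_right (‹W.Normal›.conj_mem _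
          (Subgroup.commutator_le_left W ⊤ (Subgroup.commutator_mem_commutator hw (Subgroup.mem_top g))) l))
          (Subgroup.mem_sup_left (Subgroup.commutator_mem_commutator hl (Subgroup.mem_top g)))
    obtain ⟨c, hc⟩ : ∃ c, Subgroup.lowerCentralSeries (⊤ : Subgroup R) c = ⊥ :=
      Subgroup.nilpotent_iff_lowerCentralSeries.mp inferInstance
    have := hall c
    rw [hc, bot_sup_eq] at this
    exact hyW (this hyM)
  haveI : M₀.Normal := inferInstance
  -- elements of order `p` in `M₀` lie in `W`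
  have hsmall : ∀ z ∈ M₀, z ^ p = 1 → z ∈ W := by
    intro z hz hzp
    by_contra hzW
    exact hM₀lt (hmin ⟨inferInstance, le_sup_right, hM₀M.trans hMC, z, hz, hzp, hzW⟩ hM₀M)
  have hcomm₀ : ∀ a ∈ M, ∀ g : R, ⁅a, g⁆ ∈ M₀ := fun a ha g =>
    Subgroup.mem_sup_left (Subgroup.commutator_mem_commutator ha (Subgroup.mem_top g))
  have key : ∀ n, ∀ a b : R, a ∈ M → b ∈ M → a ^ p = 1 → b ^ p = 1 → a⁻¹ * b ∈ M₀ →
      Nat.card (Subgroup.closure ({a, b} : Set R)) = n → a⁻¹ * b ∈ W := by
    intro n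
    induction n using Nat.strong_induction_on with
    | _ n ih =>
      intro a b ha hb hap hbp hab hn
      subst hn
      by_cases hcab : Commute a b
      · exact hsmall _ hab (by rw [hcab.inv_left.mul_pow, inv_pow, hap, hbp, inv_one, one_mul])
      set a' := b⁻¹ * a * b with ha'
      have ha'M : a' ∈ M := by simpa using hMn.conj_mem _ ha b⁻¹
      have hap' : a' ^ p = 1 := by
        rw [ha', show b⁻¹ * a * b = b⁻¹ * a * b⁻¹⁻¹ by group, conj_pow, hap]; group
      have hlt : Nat.card (Subgroup.closure ({a, a'} : Set R)) < Nat.card (Subgroup.closure ({a, b} : Set R)) :=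
        PGroup.Regular.card_lt_of_lt (PGroup.Regular.closure_conj_lt hR fun h => hcab h)
      have hW1 : a⁻¹ * a' ∈ W := ih _ hlt a a' ha ha'M hap hap' (by
        have h1 : ⁅a⁻¹, b⁻¹⁆ ∈ M₀ := hcomm₀ _ (inv_mem ha) b⁻¹
        rwa [show a⁻¹ * a' = ⁅a⁻¹, b⁻¹⁆ by simp [ha', commutatorElement_def, mul_assoc]]) rfl
      refine hsmall _ hab ?_
      set z := a⁻¹ * a' with hz
      have hzc : ∀ c ∈ M, Commute z c := fun c hc =>
        Subgroup.mem_centralizer_iff.mp (hMC hc) z hW1
      refine pow_eq_one_of_class_two hp2 (by rw [inv_pow, hap, inv_one]) hbp (z := z) ?_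
        (hzc b hb) (hzc a⁻¹ (inv_mem ha)) (hW.2 z hW1)
      have hba : b * a * z = a * b := by rw [hz, ha']; group
      calc b * a⁻¹ = a⁻¹ * (b * a * z) * a⁻¹ := by rw [hba]; group
        _ = a⁻¹ * (z * (b * a)) * a⁻¹ := by rw [((hzc b hb).mul_right (hzc a ha)).eq]
        _ = a⁻¹ * z * b := by group
        _ = z * (a⁻¹ * b) := by rw [← (hzc a⁻¹ (inv_mem ha)).eq]; group
  have hclose : ∀ g : R, y⁻¹ * (g * y * g⁻¹) ∈ W := fun g => by
    refine key _ y _ hyM (hMn.conj_mem _ hyM g) hyp (by rw [conj_pow, hyp]; group) ?_ rfl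
    rw [show y⁻¹ * (g * y * g⁻¹) = ⁅y⁻¹, g⁆ by simp [commutatorElement_def, mul_assoc]]
    exact hcomm₀ _ (inv_mem hyM) g
  set B := W ⊔ Subgroup.zpowers y with hB
  have hBn : B.Normal := by
    rw [← Subgroup.normalizer_eq_top_iff, eq_top_iff]
    intro g _
    have hle : ∀ g : R, B.map (MulAut.conj g).toMonoidHom ≤ B := by
      intro g
      rw [Subgroup.map_le_iff_le_comap]
      refine sup_le (fun w hw => Subgroup.mem_sup_left (‹W.Normal›.conj_mem w hw g))
        (Subgroup.zpowers_le.mpr ?_)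
      show g * y * g⁻¹ ∈ B
      rw [show g * y * g⁻¹ = y * (y⁻¹ * (g * y * g⁻¹)) by group]
      exact mul_mem (Subgroup.mem_sup_right (Subgroup.mem_zpowers y)) (Subgroup.mem_sup_left (hclose g))
    rw [Subgroup.mem_normalizer_iff_map_conj_eq]
    exact Subgroup.eq_of_le_of_card_ge (hle g)
      (le_of_eq (Subgroup.card_map_of_injective (MulAut.conj g).injective).symm)
  have hBe : Cfsg.IsElementaryAbelian p B := Replacement.isEA_sup hW (Replacement.isEA_zpowers hyp) (by
    rw [Subgroup.le_centralizer_iff, Subgroup.zpowers_le]; exact hMC hyM)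
  exact hyW (hmax B hBn hBe le_sup_left ▸ Subgroup.mem_sup_right (Subgroup.mem_zpowers y))

/-- A `p`-group of rank at least three has a normal elementary abelian subgroup of order at least `p ^ 3`
above any given normal elementary abelian subgroup. -/
theorem exists_normal_isEA (hp2 : p ≠ 2) (hR : IsPGroup p R) (hr : ¬ Cfsg.PRankLE p 2 R) (E : Subgroup R)
    [E.Normal] (hE : Cfsg.IsElementaryAbelian p E) :
    ∃ W : Subgroup R, E ≤ W ∧ W.Normal ∧ Cfsg.IsElementaryAbelian p W ∧ p ^ 3 ≤ Nat.card W := by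
  classical
  obtain ⟨W, hEW, ⟨hWn, hWe⟩, hmax⟩ := (Set.toFinite
    {B : Subgroup R | B.Normal ∧ Cfsg.IsElementaryAbelian p B}).exists_le_maximal
    (show E ∈ _ from ⟨‹E.Normal›, hE⟩)
  refine ⟨W, hEW, hWn, hWe, ?_⟩
  haveI := hWn
  haveI := hWe.1
  by_contra hlt
  push_neg at hlt
  apply hr
  intro B hBc hBp
  obtain ⟨k, hk⟩ := (hR.to_subgroup W).exists_card_eq
  have hk2 : k ≤ 2 := by
    rw [hk] at hlt
    exact Nat.lt_succ_iff.mp ((Nat.pow_lt_pow_iff_right hp.out.one_lt).mp hlt)
  set C := Subgroup.centralizer (W : Set R) with hC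
  have hBC : B ⊓ C ≤ W := fun b hb =>
    omega_centralizer_le hp2 hR W hWe (fun D h1 h2 h3 => le_antisymm (hmax ⟨h1, h2⟩ h3) h3) hb.2 (hBp b hb.1)
  have hidx : C.index ≤ p := by
    by_cases hWZ : W ≤ Subgroup.center R
    · rw [hC, Subgroup.centralizer_eq_top_iff_subset.mpr (by exact_mod_cast hWZ), Subgroup.index_top]
      exact hp.out.one_le
    obtain ⟨e, heW, heZ⟩ := SetLike.not_le_iff_exists.mp hWZ
    haveI := hR.isNilpotent
    have hne := Solvable.FrattiniFitting.inf_center_ne_bot W (fun h => heZ (by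
      rw [h, Subgroup.mem_bot] at heW; rw [heW]; exact one_mem _))
    obtain ⟨i, hi⟩ := (hR.to_subgroup (W ⊓ Subgroup.center R : Subgroup R)).exists_card_eq
    have hi1 : 1 ≤ i := Nat.one_le_iff_ne_zero.mpr fun h => hne (Subgroup.eq_bot_of_card_eq _ (by rw [hi, h, pow_zero]))
    set Y := W ⊓ Subgroup.centralizer (Subgroup.centralizer ({e} : Set R) : Set R) with hY
    have hYlt : W ⊓ Subgroup.center R < Y := by
      refine lt_of_le_not_ge (inf_le_inf_left _ (Subgroup.center_le_centralizer _)) fun h => heZ ?_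
      exact (h ⟨heW, Subgroup.mem_centralizer_iff.mpr fun z hz =>
        Subgroup.mem_centralizer_singleton_iff.mp hz⟩).2
    obtain ⟨j, hj⟩ := (hR.to_subgroup Y).exists_card_eq
    have hij : i < j := by
      have := Set.ncard_lt_ncard (SetLike.coe_ssubset_coe.mpr hYlt)
      exact (Nat.pow_lt_pow_iff_right hp.out.one_lt).mp (by rw [← hi, ← hj]; exact this)
    have hjk : j ≤ k := (Nat.pow_le_pow_iff_right hp.out.one_lt).mp (by
      rw [← hj, ← hk]; exact Subgroup.card_le_of_le inf_le_left)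
    have hYW : Y = W := Subgroup.eq_of_le_of_card_ge inf_le_left (by
      rw [hj, hk]; exact Nat.pow_le_pow_right hp.out.pos (by omega))
    have hCe : Subgroup.centralizer ({e} : Set R) ≤ C := by
      rw [hC, Subgroup.le_centralizer_iff]
      exact (le_of_eq hYW.symm).trans inf_le_right
    have hWtop : W ≤ (⊤ : Subgroup R) := le_top
    have hN : (⊤ : Subgroup R) ≤ Subgroup.normalizer (W : Set R) := by rw [Subgroup.normalizer_eq_top]
    have h1 := SCNTransitivity.relIndex_centralizer_le (hR.to_subgroup ⊤) hWtop hN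
      (by rw [hk, show k = 2 by omega]) heW
    rw [Subgroup.relIndex_top_right] at h1
    exact (Nat.le_of_dvd (Nat.pos_of_ne_zero Subgroup.index_ne_zero_of_finite)
      (Subgroup.index_dvd_of_le hCe)).trans h1
  have hsplit : Nat.card B ≤ Nat.card ↥(B ⊓ C) * p := by
    rw [← Subgroup.card_mul_index ((B ⊓ C).subgroupOf B),
      Nat.card_congr (Subgroup.subgroupOfEquivOfLe (inf_le_left : B ⊓ C ≤ B)).toEquiv]
    refine Nat.mul_le_mul_left _ ?_
    show (B ⊓ C).relIndex B ≤ p
    rw [inf_comm, Subgroup.inf_relIndex_right]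
    exact (Nat.le_of_dvd (Nat.pos_of_ne_zero Subgroup.index_ne_zero_of_finite) (Subgroup.relIndex_dvd_index_of_normal _ _)).trans hidx
  by_cases hWB : W ≤ B
  · have hBW : B ≤ W := by
      intro b hb
      refine hBC ⟨hb, Subgroup.mem_centralizer_iff.mpr fun w hw => ?_⟩
      haveI := hBc
      exact Subgroup.mem_centralizer_iff.mp (B.le_centralizer hb) w (hWB hw)
    exact (Subgroup.card_le_of_le hBW).trans (hk ▸ Nat.pow_le_pow_right hp.out.pos hk2)
  · have hlt2 : B ⊓ C < W := lt_of_le_of_ne hBC fun h => hWB (h ▸ inf_le_left)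
    have h3 : Nat.card ↥(B ⊓ C) < p ^ k := hk ▸ Set.ncard_lt_ncard (SetLike.coe_ssubset_coe.mpr hlt2)
    obtain ⟨l, hl⟩ := (hR.to_subgroup (B ⊓ C : Subgroup R)).exists_card_eq
    rw [hl] at h3 hsplit
    have hl1 : l + 1 ≤ 2 := by
      have := (Nat.pow_lt_pow_iff_right hp.out.one_lt).mp h3; omega
    refine hsplit.trans ?_
    rw [← pow_succ]
    exact Nat.pow_le_pow_right hp.out.pos hl1

/-- Existence of a self-centralizing normal subgroup of rank at least three above a normal elementary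
abelian subgroup. -/
theorem exists_scn_three (hp2 : p ≠ 2) (hR : IsPGroup p R) (hr : ¬ Cfsg.PRankLE p 2 R) (E : Subgroup R)
    [E.Normal] (hE : Cfsg.IsElementaryAbelian p E) :
    ∃ A : Subgroup R, E ≤ A ∧ A.Normal ∧ Subgroup.centralizer (A : Set R) = A ∧ ¬ Cfsg.PRankLE p 2 A := by
  obtain ⟨W, hEW, hWn, hWe, hWc⟩ := exists_normal_isEA hp2 hR hr E hE
  haveI := hWn
  haveI := hWe.1
  haveI := hR.isNilpotent
  obtain ⟨A, hWA, hAn, -, hAC⟩ := SelfCentralizing.exists_selfcentralizing W
  refine ⟨A, hEW.trans hWA, hAn, hAC, fun h => ?_⟩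
  have := h (W.subgroupOf A) (Subgroup.le_centralizer_iff_isMulCommutative.mp fun x hx =>
      Subgroup.mem_centralizer_iff.mpr fun y hy => Subtype.ext
        (Subgroup.mem_centralizer_iff.mp (W.le_centralizer hx) y hy))
    (fun a ha => Subtype.ext (by simpa using hWe.2 _ ha))
  rw [Nat.card_congr (Subgroup.subgroupOfEquivOfLe hWA).toEquiv] at this
  exact absurd (Nat.pow_lt_pow_right hp.out.one_lt (show 2 < 3 by norm_num)) (not_lt.mpr (hWc.trans this))

/-- The same inside an ambient group. -/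
theorem exists_isSCN_three {G : Type*} [Group G] [Finite G] (hp2 : p ≠ 2) (P : Subgroup G) (hP : IsPGroup p P)
    (hr : ¬ Cfsg.PRankLE p 2 P) : ∃ A : Subgroup G, Cfsg.IsSCN P A ∧ ¬ Cfsg.PRankLE p 2 A := by
  obtain ⟨A, -, hAn, hAC, hA3⟩ := exists_scn_three hp2 hP hr ⊥
    ⟨inferInstance, fun a ha => by rw [Subgroup.mem_bot.mp ha, one_pow]⟩
  refine ⟨A.map P.subtype, ⟨Subgroup.map_subtype_le _, ?_, ?_⟩, ?_⟩
  · have := Subgroup.le_normalizer_map (H := A) P.subtype
    rwa [Subgroup.normalizer_eq_top (H := A), ← MonoidHom.range_eq_map, Subgroup.range_subtype] at this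
  · refine le_antisymm ?_ (le_inf (Subgroup.map_subtype_le _) ?_)
    · rintro x ⟨hxP, hxc⟩
      refine ⟨⟨x, hxP⟩, ?_, rfl⟩
      rw [← hAC]
      exact Subgroup.mem_centralizer_iff.mpr fun a ha =>
        Subtype.ext (Subgroup.mem_centralizer_iff.mp hxc a ⟨a, ha, rfl⟩)
    · rintro _ ⟨a, ha, rfl⟩
      refine Subgroup.mem_centralizer_iff.mpr ?_
      rintro _ ⟨b, hb, rfl⟩
      rw [SetLike.mem_coe, ← hAC] at ha
      exact congrArg Subtype.val (Subgroup.mem_centralizer_iff.mp ha b hb)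
  · intro h
    apply hA3
    intro B hBc hBp
    set f : A →* (A.map P.subtype : Subgroup G) := (Subgroup.equivMapOfInjective A P.subtype P.subtype_injective).toMonoidHom
    have hf : Function.Injective f := (Subgroup.equivMapOfInjective A P.subtype P.subtype_injective).injective
    haveI := hBc
    have := h (B.map f) inferInstance (by
      rintro _ ⟨b, hb, rfl⟩
      rw [← map_pow, hBp b hb, map_one])
    rwa [Subgroup.card_map_of_injective hf] at this

end CfsgLib.OddOrder.SCN3
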