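import Cfsg.Agent.Lib.Coprime.Action
import Cfsg.Agent.Lib.Coprime.Abelian
import Cfsg.Agent.Lib.OddOrder.OmegaLemma
import Cfsg.Agent.Lib.OddOrder.SCN3
import Cfsg.Agent.Lib.PGroup.Regular
import Mathlib

set_option autoImplicit false

/-!
Stable actions: automorphisms of a `p`-group without trivial abelian quotient.
-/

namespace CfsgLib.OddOrder.StableAction

open scoped commutatorElement

variable {R : Type*} [Group R] {p : ℕ}

/-- No proper subgroup contains all `r⁻¹ * α r`. -/
def Full (Φ : Set (MulAut R)) : Prop :=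
  ∀ K : Subgroup R, (∀ α ∈ Φ, ∀ r, r⁻¹ * α r ∈ K) → K = ⊤

/-- No nontrivial fixed points on invariant abelian quotients. -/
def NoFix (Φ : Set (MulAut R)) : Prop :=
  ∀ N : Subgroup R, N.Normal → _root_.commutator R ≤ N → (∀ α ∈ Φ, ∀ x ∈ N, α x ∈ N) →
    ∀ w : R, (∀ α ∈ Φ, w⁻¹ * α w ∈ N) → w ∈ N

variable [Finite R] [hp : Fact p.Prime]

theorem derived_le_center (hR : IsPGroup p R) (hD : Nat.card (_root_.commutator R) = p) :
    _root_.commutator R ≤ Subgroup.center R := by
  have hlt := Coprime.commutator_lt_of_isPGroup (P := (⊤ : Subgroup R)) (G := _root_.commutator R)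
    (hR.to_subgroup _) (hR.to_subgroup _)
    (by rw [Subgroup.normalizer_eq_top_iff.mpr (inferInstance : (_root_.commutator R).Normal)])
    (fun h => hp.out.ne_one (by rw [← hD, h, Subgroup.card_bot]))
  have hb : ⁅_root_.commutator R, (⊤ : Subgroup R)⁆ = ⊥ := by
    by_contra hb
    have hdvd := Subgroup.card_dvd_of_le hlt.le
    rw [hD, Nat.dvd_prime hp.out] at hdvd
    rcases hdvd with h1 | h1
    · exact hb (Subgroup.eq_bot_of_card_eq _ h1)
    · exact hlt.ne (Subgroup.eq_of_le_of_card_ge hlt.le (by omega))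
  exact Subgroup.commutator_top_right_eq_bot_iff_le_center.mp hb

theorem mul_pow_eq (hp2 : p ≠ 2) (hc : _root_.commutator R ≤ Subgroup.center R)
    (he : ∀ d ∈ _root_.commutator R, d ^ p = 1) (x y : R)
    {k : ℕ} (hk : k ≠ 0) : (x * y) ^ p ^ k = x ^ p ^ k * y ^ p ^ k := by
  set c := ⁅y, x⁆ with hc'
  have hmem : c ∈ _root_.commutator R :=
    Subgroup.commutator_mem_commutator (Subgroup.mem_top _) (Subgroup.mem_top _)
  have hcc := Subgroup.mem_center_iff.mp (hc hmem)
  have hyx : y * x = c * (x * y) := by simp [hc', commutatorElement_def, mul_assoc]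
  have key : ∀ n : ℕ, (x * y) ^ n = c ^ n.choose 2 * (x ^ n * y ^ n) := by
    have hvu : ∀ n : ℕ, y ^ n * x = c ^ n * (x * y ^ n) := by
      intro n
      induction n with
      | zero => simp
      | succ n ih =>
        calc y ^ (n + 1) * x = y * (y ^ n * x) := by rw [pow_succ', mul_assoc]
          _ = y * c ^ n * (x * y ^ n) := by rw [ih, mul_assoc]
          _ = c ^ n * (y * x) * y ^ n := by
            rw [((show Commute y c from hcc y).pow_right n).eq]; simp only [mul_assoc]
          _ = c ^ (n + 1) * (x * y ^ (n + 1)) := by rw [hyx, pow_succ c, pow_succ' y]; simp only [mul_assoc]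
    intro n
    induction n with
    | zero => simp
    | succ n ih =>
      calc (x * y) ^ (n + 1) = c ^ n.choose 2 * (x ^ n * (y ^ n * x) * y) := by
            rw [pow_succ, ih]; simp only [mul_assoc]
        _ = c ^ n.choose 2 * (c ^ n * (x ^ n * x) * (y ^ n * y)) := by
          rw [hvu, ← mul_assoc (x ^ n), ((show Commute (x ^ n) c from hcc _).pow_right n).eq]
          simp only [mul_assoc]
        _ = _ := by
          rw [← pow_succ, ← pow_succ, mul_assoc, ← mul_assoc (c ^ n.choose 2), ← pow_add,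
            Nat.choose_succ_succ' n 1, Nat.choose_one_right, Nat.add_comm (n.choose 2)]
  have hcp : c ^ p = 1 := he c hmem
  have hne : (2 : ℕ) ≠ p ^ k := fun h => by
    have h2 : p ∣ 2 := h ▸ dvd_pow_self p hk
    exact hp2 ((Nat.prime_dvd_prime_iff_eq hp.out Nat.prime_two).mp h2)
  obtain ⟨m, hm⟩ := hp.out.dvd_choose_pow two_ne_zero hne
  rw [key, hm, pow_mul, hcp, one_pow, one_mul]

/-- The power endomorphism `x ↦ x ^ p ^ (i + 1)` in class two with derived group of exponent `p`. -/
def powEnd (hp2 : p ≠ 2) (hc : _root_.commutator R ≤ Subgroup.center R)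
    (he : ∀ d ∈ _root_.commutator R, d ^ p = 1) (i : ℕ) : R →* R where
  toFun x := x ^ p ^ (i + 1)
  map_one' := one_pow _
  map_mul' x y := mul_pow_eq hp2 hc he x y (Nat.succ_ne_zero i)

theorem false_of_prime_derived (hR : IsPGroup p R) (hp2 : p ≠ 2)
    (hD : Nat.card (_root_.commutator R) = p)
    (hidx : ∀ K : Subgroup R, K.Normal → (∀ r : R, r ^ p ∈ K) → K.index ≤ p ^ 2) (Φ : Set (MulAut R))
    (hfull : Full Φ) (hnofix : NoFix Φ) : False := by
  have hDc := derived_le_center hR hD
  have h1 := hfull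
  have h2 : ∀ w : R, (∀ α ∈ Φ, w⁻¹ * α w ∈ Subgroup.center R) → w ∈ Subgroup.center R :=
    hnofix (Subgroup.center R) inferInstance hDc fun α _ x hx => Subgroup.mem_center_iff.mpr fun g =>
      α.symm.injective (by simpa using Subgroup.mem_center_iff.mp hx (α.symm g))
  have hcomm : ∀ a b : R, ⁅a, b⁆ ∈ _root_.commutator R := fun a b =>
    Subgroup.commutator_mem_commutator (Subgroup.mem_top _) (Subgroup.mem_top _)
  have hDp : ∀ d ∈ _root_.commutator R, d ^ p = 1 := fun d hd => by
    have h := pow_card_eq_one' (x := (⟨d, hd⟩ : _root_.commutator R))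
    rw [hD] at h
    simpa using congrArg Subtype.val h
  have hnc : ¬ IsMulCommutative R := fun h => hp.out.ne_one (by rw [← hD, commutator_eq_bot, Subgroup.card_bot])
  have hncyc : ∀ K : Subgroup R, K.Normal → K ≤ Subgroup.center R → K.index ∣ p → False := by
    intro K hK hKc hdvd
    haveI := hK
    haveI : IsCyclic (R ⧸ K) := by
      rcases (Nat.dvd_prime hp.out).mp hdvd with h | h
      · haveI : Subsingleton (R ⧸ K) := Finite.card_le_one_iff_subsingleton.mp h.le
        infer_instance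
      · exact isCyclic_of_prime_card h
    exact hnc ⟨⟨commutative_of_cyclic_center_quotient (QuotientGroup.mk' K) (by rwa [QuotientGroup.ker_mk'])⟩⟩
  -- the centre is `R' R ^ p`, of index `p ^ 2`
  set φ := powEnd hp2 hDc hDp with hφ
  have hφa : ∀ i x, φ i x = x ^ p ^ (i + 1) := fun i x => rfl
  set F := (φ 0).range with hF
  have hFc : F ≤ Subgroup.center R := by
    rintro _ ⟨x, rfl⟩
    rw [hφa, Subgroup.mem_center_iff]
    intro g
    have hxc : ∀ n : ℕ, ⁅x ^ n, g⁆ = ⁅x, g⁆ ^ n := by
      intro n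
      induction n with
      | zero => simp
      | succ n ih =>
        rw [pow_succ, commutatorElement_mul_left_eq_conj_mul, ih, pow_succ',
          show x ^ n * ⁅x, g⁆ * (x ^ n)⁻¹ = ⁅x, g⁆ by
            rw [Subgroup.mem_center_iff.mp (hDc (hcomm x g)) (x ^ n), mul_inv_cancel_right]]
    have := hxc (p ^ (0 + 1))
    rw [zero_add, pow_one, hDp _ (hcomm x g)] at this
    exact (commutatorElement_eq_one_iff_mul_comm.mp (by rwa [zero_add, pow_one])).symm
  haveI hFn : F.Normal := ⟨fun f hf g => by rwa [Subgroup.mem_center_iff.mp (hFc hf) g, mul_inv_cancel_right]⟩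
  have hFi : F.index ≤ p ^ 2 := hidx F hFn fun r => ⟨r, by rw [hφa, zero_add, pow_one]⟩
  obtain ⟨e, he⟩ := hR.index (Subgroup.center R)
  have he2 : 2 ≤ e := by
    by_contra h
    refine hncyc _ inferInstance le_rfl ?_
    rw [he]
    exact (pow_dvd_pow p (by omega : e ≤ 1)).trans (by rw [pow_one])
  have hcF : Subgroup.center R = F := by
    refine (le_antisymm hFc ?_).symm
    have hdvd := Subgroup.index_dvd_of_le hFc
    have h2' : p ^ 2 ≤ (Subgroup.center R).index := he ▸ Nat.pow_le_pow_right hp.out.pos he2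
    have heq : F.index = (Subgroup.center R).index :=
      le_antisymm (hFi.trans h2') (Nat.le_of_dvd (Nat.pos_of_ne_zero Subgroup.index_ne_zero_of_finite) hdvd)
    refine (Subgroup.eq_of_le_of_card_ge hFc ?_).ge
    have e1 := Subgroup.card_mul_index F
    have e2 := Subgroup.card_mul_index (Subgroup.center R)
    rw [heq] at e1
    exact (Nat.eq_of_mul_eq_mul_right (Nat.pos_of_ne_zero Subgroup.index_ne_zero_of_finite) (e1.trans e2.symm)).ge
  have hci : (Subgroup.center R).index = p ^ 2 :=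
    le_antisymm (hcF ▸ hFi) (he ▸ Nat.pow_le_pow_right hp.out.pos he2)
  -- a generator of the derived group
  obtain ⟨z, hzD, hz1⟩ : ∃ z ∈ _root_.commutator R, z ≠ 1 :=
    (Subgroup.bot_or_exists_ne_one _).resolve_left fun h =>
      hp.out.ne_one (by rw [← hD, h, Subgroup.card_bot])
  have hzord : orderOf z = p := orderOf_eq_prime (hDp z hzD) hz1
  have hDz : Subgroup.zpowers z = _root_.commutator R := Subgroup.eq_of_le_of_card_ge
    (Subgroup.zpowers_le.mpr hzD) (by rw [hD, Nat.card_zpowers, hzord])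
  have hzS : z ∈ (φ 0).range := hcF.le (hDc hzD)
  have hex : ∃ i, z ∉ (φ i).range := by
    refine ⟨Nat.card R, ?_⟩
    rintro ⟨x, hx⟩
    obtain ⟨m, hm⟩ := hR.exists_card_eq
    have hle : m ≤ Nat.card R + 1 := by
      have := Nat.lt_pow_self hp.out.one_lt (n := m)
      omega
    rw [hφa, orderOf_dvd_iff_pow_eq_one.mp ((orderOf_dvd_natCard x).trans (hm.dvd.trans (pow_dvd_pow p hle)))] at hx
    exact hz1 hx.symm
  obtain ⟨i, hi, hi'⟩ : ∃ i, z ∈ (φ i).range ∧ z ∉ (φ (i + 1)).range := by
    classical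
    have h := Nat.find_spec hex
    rcases Nat.exists_eq_succ_of_ne_zero (fun h0 : Nat.find hex = 0 => (h0 ▸ h) hzS) with ⟨i, hi⟩
    exact ⟨i, not_not.mp (Nat.find_min hex (by omega : i < Nat.find hex)), by rw [hi] at h; exact h⟩
  obtain ⟨y, hy⟩ := hi
  set L := (φ (i + 1)).range.comap (φ i) with hL
  have hFL : F ≤ L := by
    rintro _ ⟨x, rfl⟩
    refine ⟨x, ?_⟩
    simp only [hφa]
    rw [← pow_mul, ← pow_add]
    congr 2; omega
  have hyL : y ∉ L := fun h => by
    rw [hL, Subgroup.mem_comap, hy] at h; exact hi' h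
  have hLne : L ≠ ⊤ := fun h => hyL (h ▸ Subgroup.mem_top y)
  have hyZ : y ∉ Subgroup.center R := fun h => hyL (hFL (hcF ▸ h))
  have hinv : ∀ (α : MulAut R) (w : R), w ∈ L → α w ∈ L := by
    rintro α w ⟨x, hx⟩
    exact ⟨α x, by simp only [hφa] at hx ⊢; rw [← map_pow, hx, map_pow]⟩
  -- the automorphisms act on `y` through the character of the derived group
  have hlam : ∀ α : MulAut R, ∃ n : ℕ, ¬ p ∣ n ∧ α z = z ^ n ∧ (y ^ n)⁻¹ * α y ∈ L := by
    intro α
    have hαz : α z ∈ Subgroup.zpowers z := by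
      rw [hDz]
      exact (map_commutator_eq (G := R) α.toMonoidHom).le.trans (Subgroup.commutator_mono le_top le_top)
        (Subgroup.mem_map_of_mem _ hzD)
    obtain ⟨n, hn⟩ := mem_powers_iff_mem_zpowers.mpr hαz
    simp only at hn
    refine ⟨n, fun hdvd => ?_, hn.symm, ⟨1, ?_⟩⟩
    · obtain ⟨m, rfl⟩ := hdvd
      simp only [pow_mul, hDp z hzD, one_pow] at hn
      exact hz1 (α.injective (by rw [← hn, map_one]))
    · rw [map_one, map_mul, map_inv, map_pow, show φ i (α y) = α (φ i y) by simp [hφa], hy, hn]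
      simp
  have hcentr : ∀ a b : R, ∀ n : ℕ, ⁅a ^ n, b⁆ = ⁅a, b⁆ ^ n := by
    intro a b n
    induction n with
    | zero => simp
    | succ n ih =>
      rw [pow_succ, commutatorElement_mul_left_eq_conj_mul, ih, pow_succ',
        show a ^ n * ⁅a, b⁆ * (a ^ n)⁻¹ = ⁅a, b⁆ by
          rw [Subgroup.mem_center_iff.mp (hDc (hcomm a b)) (a ^ n), mul_inv_cancel_right]]
  have hkey : ∀ (α : MulAut R) (r : R), (∀ l ∈ L, ⁅l, α r⁆ = 1) → ⁅y, r⁻¹ * α r⁆ = 1 := by
    intro α r hr
    obtain ⟨n, hn, hz, hl⟩ := hlam α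
    have hαD : ∀ d ∈ _root_.commutator R, α d = d ^ n := by
      intro d hd
      obtain ⟨m, rfl⟩ := mem_powers_iff_mem_zpowers.mpr (hDz.ge hd)
      simp only [map_pow, hz, ← pow_mul, mul_comm m n]
    have e1 : ⁅α y, α r⁆ = ⁅y, r⁆ ^ n := by
      rw [← map_commutatorElement (f := α), hαD _ (hcomm y r)]
    have e2 : ⁅α y, α r⁆ = ⁅y, α r⁆ ^ n := by
      rw [show α y = y ^ n * ((y ^ n)⁻¹ * α y) by group, commutatorElement_mul_left_eq_conj_mul,
        hr _ hl, mul_one, mul_inv_cancel, one_mul, hcentr]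
    have e3 : (⁅y, r⁆⁻¹ * ⁅y, α r⁆) ^ n = 1 := by
      rw [(show Commute ⁅y, r⁆⁻¹ ⁅y, α r⁆ from
        (Subgroup.mem_center_iff.mp (hDc (hcomm y (α r))) _)).mul_pow, inv_pow, ← e1, e2, inv_mul_cancel]
    have e4 : ⁅y, r⁆⁻¹ * ⁅y, α r⁆ = 1 := by
      rw [← orderOf_eq_one_iff]
      exact Nat.eq_one_of_dvd_coprimes (hp.out.coprime_iff_not_dvd.mpr hn)
        (orderOf_dvd_of_pow_eq_one (hDp _ (mul_mem (inv_mem (hcomm y r)) (hcomm y (α r)))))
        (orderOf_dvd_of_pow_eq_one e3)
    have e5 : ⁅y, r * (r⁻¹ * α r)⁆ = ⁅y, r⁆ * ⁅y, r⁻¹ * α r⁆ := by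
      rw [commutatorElement_mul_right_eq_mul_conj, mul_assoc ⁅y, r⁆ r,
        Subgroup.mem_center_iff.mp (hDc (hcomm y (r⁻¹ * α r))) r]
      group
    rw [mul_inv_cancel_left] at e5
    rw [e5, inv_mul_cancel_left] at e4
    exact e4
  by_cases hLF : L = F
  · -- everything is centralised modulo `C(y)`
    have := h1 (Subgroup.centralizer {y}) fun α _ r => Subgroup.mem_centralizer_singleton_iff.mpr
      (commutatorElement_eq_one_iff_mul_comm.mp (hkey α r fun l hl => commutatorElement_eq_one_iff_mul_comm.mpr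
        (Subgroup.mem_center_iff.mp (hFc (hLF ▸ hl)) (α r)).symm)).symm
    exact hyZ (Subgroup.mem_center_iff.mpr fun g =>
      Subgroup.mem_centralizer_singleton_iff.mp (this ▸ Subgroup.mem_top g))
  · -- `L` is abelian of index `p`
    obtain ⟨w0, hw0, hw0F⟩ := SetLike.exists_of_lt (lt_of_le_of_ne hFL (Ne.symm hLF))
    have hLi : L.index = p := by
      have hd := Subgroup.index_dvd_of_le hFL
      rw [← hcF, hci] at hd
      obtain ⟨j, hj, hj'⟩ := (Nat.dvd_prime_pow hp.out).mp hd
      interval_cases j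
      · exact absurd (Subgroup.index_eq_one.mp hj') hLne
      · rw [hj', pow_one]
      · exfalso
        have e1 := Subgroup.card_mul_index L
        have e2 := Subgroup.card_mul_index F
        rw [hj'] at e1
        rw [← hcF, hci, ← e1] at e2
        exact hLF (Subgroup.eq_of_le_of_card_ge hFL
          (by rw [← hcF]; exact (Nat.eq_of_mul_eq_mul_right (pow_pos hp.out.pos 2) e2).ge)).symm
    have hgen : ∀ K : Subgroup R, L ≤ K → K ≠ L → K = ⊤ := by
      intro K hK hne
      have hd := Subgroup.index_dvd_of_le hK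
      rw [hLi, Nat.dvd_prime hp.out] at hd
      rcases hd with h | h
      · exact Subgroup.index_eq_one.mp h
      · exfalso
        refine hne (Subgroup.eq_of_le_of_card_ge hK ?_).symm
        have e1 := Subgroup.card_mul_index L
        have e2 := Subgroup.card_mul_index K
        rw [h] at e2
        rw [hLi] at e1
        exact (Nat.eq_of_mul_eq_mul_right hp.out.pos (e2.trans e1.symm)).le
    have hLw : L ≤ Subgroup.centralizer {w0} := by
      by_contra hcon
      set C := L ⊓ Subgroup.centralizer {w0} with hC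
      have hFC : F ≤ C := le_inf hFL fun f hf => Subgroup.mem_centralizer_singleton_iff.mpr
        (Subgroup.mem_center_iff.mp (hFc hf) w0).symm
      have hd1 := Subgroup.index_dvd_of_le hFC
      have hd2 := Subgroup.index_dvd_of_le (inf_le_left : C ≤ L)
      rw [← hcF, hci] at hd1
      rw [hLi] at hd2
      obtain ⟨j, hj, hj'⟩ := (Nat.dvd_prime_pow hp.out).mp hd1
      have e1 := Subgroup.card_mul_index C
      interval_cases j
      · rw [hj', pow_zero] at hd2
        exact absurd (Nat.le_of_dvd Nat.one_pos hd2) (not_le.mpr hp.out.one_lt)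
      · refine hcon ((Subgroup.eq_of_le_of_card_ge (inf_le_left : C ≤ L) ?_).ge.trans inf_le_right)
        have e2 := Subgroup.card_mul_index L
        rw [hj', pow_one] at e1
        rw [hLi] at e2
        exact (Nat.eq_of_mul_eq_mul_right hp.out.pos (e2.trans e1.symm)).le
      · refine hw0F ((Subgroup.eq_of_le_of_card_ge hFC ?_).ge ⟨hw0, Subgroup.mem_centralizer_singleton_iff.mpr rfl⟩)
        have e2 := Subgroup.card_mul_index F
        rw [← hcF, hci] at e2
        rw [hj'] at e1
        rw [← hcF]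
        exact (Nat.eq_of_mul_eq_mul_right (pow_pos hp.out.pos 2) (e1.trans e2.symm)).le
    have hLab : ∀ a ∈ L, ∀ b ∈ L, a * b = b * a := by
      intro a ha b hb
      by_cases haF : a ∈ F
      · exact (Subgroup.mem_center_iff.mp (hFc haF) b).symm
      -- `L` is generated by `F` and `w0`
      have hC : F ⊔ Subgroup.zpowers w0 = L := by
        refine Subgroup.eq_of_le_of_card_ge (sup_le hFL (Subgroup.zpowers_le.mpr hw0)) ?_
        have hlt : F < F ⊔ Subgroup.zpowers w0 :=
          lt_of_le_of_ne le_sup_left fun h => hw0F (h ▸ Subgroup.mem_sup_right (Subgroup.mem_zpowers w0))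
        have hd := Subgroup.index_dvd_of_le (le_sup_left : F ≤ F ⊔ Subgroup.zpowers w0)
        rw [← hcF, hci] at hd
        obtain ⟨j, hj, hj'⟩ := (Nat.dvd_prime_pow hp.out).mp hd
        rw [← hcF] at hlt ⊢
        have e1 := Subgroup.card_mul_index (Subgroup.center R ⊔ Subgroup.zpowers w0)
        have e2 := Subgroup.card_mul_index L
        have e3 := Subgroup.card_mul_index (Subgroup.center R)
        have hlt' := Set.ncard_lt_ncard (SetLike.coe_ssubset_coe.mpr hlt)
        rw [← Nat.card_coe_set_eq, ← Nat.card_coe_set_eq] at hlt'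
        simp only [SetLike.coe_sort_coe] at hlt'
        rw [hj'] at e1
        rw [hLi] at e2
        rw [hci] at e3
        rcases (show j = 2 ∨ j ≤ 1 by omega) with rfl | hj1
        · have := Nat.eq_of_mul_eq_mul_right (pow_pos hp.out.pos 2) (e1.trans e3.symm)
          omega
        · have h5 : p ^ j ≤ p := by simpa using Nat.pow_le_pow_right hp.out.pos hj1
          have h6 : Nat.card L * p ≤ Nat.card ↥(Subgroup.center R ⊔ Subgroup.zpowers w0) * p := by
            rw [e2, ← e1]; exact Nat.mul_le_mul_left _ h5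
          exact Nat.le_of_mul_le_mul_right h6 hp.out.pos
      have hsup : L ≤ Subgroup.centralizer (L : Set R) := by
        conv_lhs => rw [← hC]
        refine sup_le (fun f hf => Subgroup.mem_centralizer_iff.mpr fun l _ =>
          Subgroup.mem_center_iff.mp (hFc hf) l) (Subgroup.zpowers_le.mpr ?_)
        exact Subgroup.mem_centralizer_iff.mpr fun l hl => Subgroup.mem_centralizer_singleton_iff.mp (hLw hl)
      exact Subgroup.mem_centralizer_iff.mp (hsup hb) a ha
    refine hLF (le_antisymm (fun w hw => hcF ▸ h2 w fun α _ => ?_) hFL)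
    have hu : w⁻¹ * α w ∈ L := mul_mem (inv_mem hw) (hinv α w hw)
    have hy' : ⁅y, w⁻¹ * α w⁆ = 1 :=
      hkey α w fun l hl => commutatorElement_eq_one_iff_mul_comm.mpr (hLab l hl _ (hinv α w hw))
    refine Subgroup.mem_center_iff.mpr fun g => Subgroup.mem_centralizer_singleton_iff.mp ?_
    have htop : Subgroup.centralizer {w⁻¹ * α w} = (⊤ : Subgroup R) := by
      refine hgen _ (fun l hl => Subgroup.mem_centralizer_singleton_iff.mpr (hLab l hl _ hu)) fun h => hyL ?_
      exact h ▸ Subgroup.mem_centralizer_singleton_iff.mpr (commutatorElement_eq_one_iff_mul_comm.mp hy')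
    exact htop ▸ Subgroup.mem_top g

theorem pow_inj (hR : IsPGroup p R) (hp2 : p ≠ 2) (hΩ : ∀ x : R, x ^ p = 1 → x ∈ Subgroup.center R)
    {a b : R} (h : a ^ p = b ^ p) : (a⁻¹ * b) ^ p = 1 := by
  induction hn : Nat.card (Subgroup.closure ({a, b} : Set R)) using Nat.strong_induction_on generalizing a b with
  | _ n ih =>
    subst hn
    by_cases hab : Commute a b
    · rw [hab.inv_left.mul_pow, inv_pow, h, inv_mul_cancel]
    set a' := b⁻¹ * a * b with ha'
    have hap' : a ^ p = a' ^ p := by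
      rw [ha', show b⁻¹ * a * b = b⁻¹ * a * b⁻¹⁻¹ by group, conj_pow, h,
        ((Commute.refl b).inv_left.pow_right p).eq, mul_inv_cancel_right]
    have hlt : Nat.card (Subgroup.closure ({a, a'} : Set R)) < Nat.card (Subgroup.closure ({a, b} : Set R)) :=
      PGroup.Regular.card_lt_of_lt (PGroup.Regular.closure_conj_lt hR fun h => hab h)
    set z := a⁻¹ * a' with hz
    have hzp : z ^ p = 1 := ih _ hlt hap' rfl
    have hzc := Subgroup.mem_center_iff.mp (hΩ z hzp)
    have hba : b * a * z = a * b := by rw [hz, ha']; group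
    have hswap : b * a⁻¹ = z * (a⁻¹ * b) := by
      calc b * a⁻¹ = a⁻¹ * (b * a * z) * a⁻¹ := by rw [hba]; group
        _ = a⁻¹ * (z * (b * a)) * a⁻¹ := by rw [hzc]
        _ = (a⁻¹ * z) * b := by group
        _ = z * (a⁻¹ * b) := by rw [hzc]; group
    rw [OmegaLemma.mul_pow_central hswap (hzc b).symm (hzc a⁻¹).symm p]
    obtain ⟨c, hc⟩ : p ∣ p.choose 2 :=
      hp.out.dvd_choose_self (by norm_num) (lt_of_le_of_ne hp.out.two_le (Ne.symm hp2))
    rw [hc, pow_mul, hzp, inv_pow, h]
    simp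

omit hp in
theorem exists_quotient {Φ : Set (MulAut R)} (hfull : Full Φ) (hnofix : NoFix Φ) (Q : Subgroup R) [Q.Normal]
    (hinv : ∀ α ∈ Φ, ∀ x ∈ Q, α x ∈ Q) : ∃ Ψ : Set (MulAut (R ⧸ Q)), Full Ψ ∧ NoFix Ψ := by
  set π := QuotientGroup.mk' Q with hπ
  have hπs : Function.Surjective π := QuotientGroup.mk'_surjective Q
  let Ψ : Set (MulAut (R ⧸ Q)) := {β | ∃ α ∈ Φ, ∀ r, β (π r) = π (α r)}
  have hex : ∀ α ∈ Φ, ∃ β ∈ Ψ, ∀ r, β (π r) = π (α r) := by
    intro α hα
    have hmap : Q.map (α : R →* R) = Q := by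
      refine Subgroup.eq_of_le_of_card_ge ?_
        (Subgroup.card_map_of_injective (f := (α : R →* R)) α.injective).ge
      rintro _ ⟨q, hq, rfl⟩
      exact hinv α hα q hq
    exact ⟨QuotientGroup.congr Q Q α hmap, ⟨α, hα, fun r => rfl⟩, fun r => rfl⟩
  refine ⟨Ψ, fun K hK => ?_, fun N hN hNc hNi w hw => ?_⟩
  · have htop := hfull (K.comap π) fun α hα r => by
      obtain ⟨β, hβ, hβe⟩ := hex α hα
      rw [Subgroup.mem_comap, map_mul, map_inv, ← hβe]
      exact hK β hβ _
    refine eq_top_iff.mpr fun q _ => ?_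
    obtain ⟨r, rfl⟩ := hπs q
    exact (htop ▸ Subgroup.mem_top r : r ∈ K.comap π)
  · haveI := hN
    obtain ⟨r, rfl⟩ := hπs w
    refine hnofix (N.comap π) (Subgroup.normal_comap π) ?_ ?_ r ?_
    · rw [← Subgroup.map_le_iff_le_comap]
      refine le_trans (le_of_eq ?_) hNc
      rw [_root_.commutator_def, _root_.commutator_def, Subgroup.map_commutator,
        Subgroup.map_top_of_surjective π hπs]
    · intro α hα x hx
      obtain ⟨β, hβ, hβe⟩ := hex α hα
      rw [Subgroup.mem_comap, ← hβe]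
      exact hNi β hβ _ hx
    · intro α hα
      obtain ⟨β, hβ, hβe⟩ := hex α hα
      rw [Subgroup.mem_comap, map_mul, map_inv, ← hβe]
      exact hw β hβ

/-- A `p`-central group of rank at most two with a stable action is abelian. -/
theorem commutative_of_pcentral {R : Type*} [Group R] [Finite R] (hR : IsPGroup p R) (hp2 : p ≠ 2)
    (hΩ : ∀ x : R, x ^ p = 1 → x ∈ Subgroup.center R) (hcard : Nat.card {x : R | x ^ p = 1} ≤ p ^ 2)
    (Φ : Set (MulAut R)) (hfull : Full Φ) (hnofix : NoFix Φ) : IsMulCommutative R := by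
  induction hn : Nat.card R using Nat.strong_induction_on generalizing R with
  | _ n ih =>
  subst hn
  by_contra hnc
  haveI : Nontrivial R := not_subsingleton_iff_nontrivial.mp fun h => hnc ⟨⟨fun a b => Subsingleton.elim _ _⟩⟩
  let T : Subgroup R :=
    { carrier := {x | x ^ p = 1}
      one_mem' := one_pow p
      mul_mem' := fun {a b} ha hb => by
        show (a * b) ^ p = 1
        rw [Commute.mul_pow (show Commute a b from Subgroup.mem_center_iff.mp (hΩ b hb) a),
          show a ^ p = 1 from ha, show b ^ p = 1 from hb, one_mul]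
      inv_mem' := fun {a} ha => by show a⁻¹ ^ p = 1; rw [inv_pow, show a ^ p = 1 from ha, inv_one] }
  have hTc : T ≤ Subgroup.center R := fun x hx => hΩ x hx
  haveI hTn : T.Normal := ⟨fun x hx g => by rwa [Subgroup.mem_center_iff.mp (hTc hx) g, mul_inv_cancel_right]⟩
  obtain ⟨Ψ, hΨ1, hΨ2⟩ := exists_quotient hfull hnofix T fun α _ x hx => by
    show α x ^ p = 1
    rw [← map_pow, show x ^ p = 1 from hx, map_one]
  obtain ⟨t0, ht0⟩ := exists_prime_orderOf_dvd_card' (G := R) p
    (hR.card_eq_or_dvd.resolve_left Finite.one_lt_card.ne')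
  have hlt : Nat.card (R ⧸ T) < Nat.card R := by
    have h1 := Subgroup.card_eq_card_quotient_mul_card_subgroup T
    have h2 : 1 < Nat.card T := by
      have : Nontrivial T := (Subgroup.nontrivial_iff_ne_bot T).mpr fun h => by
        have : t0 ∈ T := by
          show t0 ^ p = 1
          rw [← ht0, pow_orderOf_eq_one]
        rw [h, Subgroup.mem_bot] at this
        rw [this, orderOf_one] at ht0
        exact hp.out.ne_one ht0.symm
      exact Finite.one_lt_card
    rw [h1]
    exact lt_mul_of_one_lt_right Nat.card_pos h2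
  have hQ := ih _ hlt (hR.to_quotient T) (fun q hq => ?_) ?_ Ψ hΨ1 hΨ2 rfl
  rotate_left
  · obtain ⟨x, rfl⟩ := QuotientGroup.mk'_surjective T q
    rw [← map_pow, QuotientGroup.mk'_apply, QuotientGroup.eq_one_iff] at hq
    refine Subgroup.mem_center_iff.mpr fun g => ?_
    obtain ⟨y, rfl⟩ := QuotientGroup.mk'_surjective T g
    rw [← map_mul, ← map_mul]
    refine QuotientGroup.eq.mpr ?_
    have h1 := pow_inj hR hp2 hΩ (a := x) (b := y⁻¹ * x * y) (by
      rw [show y⁻¹ * x * y = y⁻¹ * x * y⁻¹⁻¹ by group, conj_pow, Subgroup.mem_center_iff.mp (hTc hq) y⁻¹,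
        mul_inv_cancel_right])
    have h2 : ((y * x)⁻¹ * (x * y)) ^ p = 1 := by
      rw [show (y * x)⁻¹ * (x * y) = x⁻¹ * (y⁻¹ * x * y) by group]; exact h1
    exact h2
  · refine le_trans (Nat.card_le_card_of_injective
      (fun q : {q : R ⧸ T | q ^ p = 1} => (⟨(q.1.out) ^ p, ?_⟩ : {x : R | x ^ p = 1})) ?_) hcard
    · have hq : q.1 ^ p = 1 := q.2
      rw [← Quotient.out_eq q.1] at hq
      exact (QuotientGroup.eq_one_iff (q.1.out ^ p)).mp hq
    · intro q₁ q₂ h
      refine Subtype.ext ?_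
      rw [← Quotient.out_eq q₁.1, ← Quotient.out_eq q₂.1]
      exact QuotientGroup.eq.mpr (pow_inj hR hp2 hΩ (congrArg Subtype.val h))
  -- now the class is two
  have hDT : _root_.commutator R ≤ T := Subgroup.Normal.quotient_commutative_iff_commutator_le.mp hQ
  have hDc := hDT.trans hTc
  have he : ∀ d ∈ _root_.commutator R, d ^ p = 1 := fun d hd => hDT hd
  set φ := powEnd hp2 hDc he 0 with hφ
  have hker : φ.ker = T := by
    ext x
    show x ^ p ^ (0 + 1) = 1 ↔ x ^ p = 1
    rw [zero_add, pow_one]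
  have hrange : φ.range.index ≤ p ^ 2 := by
    refine le_trans (le_of_eq (Nat.eq_of_mul_eq_mul_left (Nat.card_pos (α := φ.range)) ?_)) hcard
    rw [Subgroup.card_mul_index, ← Subgroup.card_mul_index φ.ker, Subgroup.index_ker, hker, mul_comm]
    rfl
  have hidx : ∀ K : Subgroup R, K.Normal → (∀ r : R, r ^ p ∈ K) → K.index ≤ p ^ 2 := fun K _ hK =>
    (Nat.le_of_dvd (Nat.pos_of_ne_zero Subgroup.index_ne_zero_of_finite) (Subgroup.index_dvd_of_le (by
      rintro _ ⟨x, rfl⟩
      show x ^ p ^ (0 + 1) ∈ K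
      rw [zero_add, pow_one]
      exact hK x))).trans hrange
  set Z := Subgroup.center R with hZ
  have hZp : ∀ r : R, r ^ p ∈ Z := by
    intro x
    refine Subgroup.mem_center_iff.mpr fun g => ?_
    have hcg : ⁅g, x⁆ ^ p = 1 := he _ (Subgroup.commutator_mem_commutator (Subgroup.mem_top _) (Subgroup.mem_top _))
    have hcc := Subgroup.mem_center_iff.mp (hDc
      (Subgroup.commutator_mem_commutator (Subgroup.mem_top g) (Subgroup.mem_top x)))
    have : g * x ^ p * g⁻¹ = x ^ p := by
      rw [← conj_pow, show g * x * g⁻¹ = ⁅g, x⁆ * x by rw [commutatorElement_def]; group,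
        Commute.mul_pow (show Commute ⁅g, x⁆ x from (hcc x).symm), hcg, one_mul]
    calc g * x ^ p = g * x ^ p * g⁻¹ * g := by group
      _ = x ^ p * g := by rw [this]
  have hZi : Z.index ≤ p ^ 2 := hidx Z inferInstance hZp
  obtain ⟨x, hx⟩ : ∃ x, x ∉ Z := by
    by_contra h
    push Not at h
    exact hnc ⟨⟨fun a b => Subgroup.mem_center_iff.mp (h b) a⟩⟩
  set H := Z ⊔ Subgroup.zpowers x with hH
  obtain ⟨y, hy⟩ : ∃ y, y ∉ H := by
    by_contra h
    push Not at h
    refine hx (Subgroup.mem_center_iff.mpr fun g => ?_)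
    have hle : H ≤ Subgroup.centralizer {x} := sup_le (fun u hu => Subgroup.mem_centralizer_singleton_iff.mpr
      (Subgroup.mem_center_iff.mp hu x).symm) (Subgroup.zpowers_le.mpr (Subgroup.mem_centralizer_singleton_iff.mpr rfl))
    exact Subgroup.mem_centralizer_singleton_iff.mp (hle (h g))
  set c := ⁅x, y⁆ with hc
  have hcc : c ∈ Z := hDc (Subgroup.commutator_mem_commutator (Subgroup.mem_top _) (Subgroup.mem_top _))
  haveI : (Subgroup.zpowers c).Normal := ⟨fun u hu g => by
    rwa [Subgroup.mem_center_iff.mp (Subgroup.zpowers_le.mpr hcc hu) g, mul_inv_cancel_right]⟩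
  set ρ := QuotientGroup.mk' (Subgroup.zpowers c) with hρ
  have hgen : ∀ L : Subgroup R, Z ≤ L → x ∈ L → y ∈ L → L = ⊤ := by
    intro L h1 h2 h3
    by_contra hne
    have hHL : H ≤ L := sup_le h1 (Subgroup.zpowers_le.mpr h2)
    have hlt1 : Z < H := lt_of_le_of_ne le_sup_left fun h => hx (h ▸ Subgroup.mem_sup_right (Subgroup.mem_zpowers x))
    have hlt2 : H < L := lt_of_le_of_ne hHL fun h => hy (h ▸ h3)
    obtain ⟨i, hi⟩ := hR.index Z
    obtain ⟨j, hj⟩ := hR.index H
    obtain ⟨k, hk⟩ := hR.index L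
    have i1 := Subgroup.index_strictAnti hlt1
    have i2 := Subgroup.index_strictAnti hlt2
    rw [hi, hj] at i1
    rw [hj, hk] at i2
    rw [hi] at hZi
    have := (Nat.pow_lt_pow_iff_right hp.out.one_lt).mp i1
    have := (Nat.pow_lt_pow_iff_right hp.out.one_lt).mp i2
    have := (Nat.pow_le_pow_iff_right hp.out.one_lt).mp hZi
    exact hne (Subgroup.index_eq_one.mp (by rw [hk, show k = 0 by omega, pow_zero]))
  have hxy : ρ x * ρ y = ρ y * ρ x := by
    rw [← commutatorElement_eq_one_iff_mul_comm, ← map_commutatorElement]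
    exact (QuotientGroup.eq_one_iff _).mpr (Subgroup.mem_zpowers c)
  have hρx : (Subgroup.centralizer {ρ x}).comap ρ = ⊤ := hgen _
    (fun u hu => Subgroup.mem_centralizer_singleton_iff.mpr (by
      rw [← map_mul, ← map_mul, Subgroup.mem_center_iff.mp hu]))
    (Subgroup.mem_centralizer_singleton_iff.mpr rfl) (Subgroup.mem_centralizer_singleton_iff.mpr hxy.symm)
  have hall : (Subgroup.center (R ⧸ Subgroup.zpowers c)).comap ρ = ⊤ := by
    refine hgen _ (fun u hu => ?_) ?_ ?_
    · refine Subgroup.mem_center_iff.mpr fun g => ?_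
      obtain ⟨g, rfl⟩ := QuotientGroup.mk'_surjective (Subgroup.zpowers c) g
      rw [← map_mul, ← map_mul, Subgroup.mem_center_iff.mp hu]
    · refine Subgroup.mem_center_iff.mpr fun g => ?_
      obtain ⟨g, rfl⟩ := QuotientGroup.mk'_surjective (Subgroup.zpowers c) g
      exact Subgroup.mem_centralizer_singleton_iff.mp (hρx ▸ Subgroup.mem_top g : g ∈ _)
    · refine Subgroup.mem_center_iff.mpr fun g => ?_
      obtain ⟨g, rfl⟩ := QuotientGroup.mk'_surjective (Subgroup.zpowers c) g
      have hρy : (Subgroup.centralizer {ρ y}).comap ρ = ⊤ := hgen _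
        (fun u hu => Subgroup.mem_centralizer_singleton_iff.mpr (by
          rw [← map_mul, ← map_mul, Subgroup.mem_center_iff.mp hu]))
        (Subgroup.mem_centralizer_singleton_iff.mpr hxy) (Subgroup.mem_centralizer_singleton_iff.mpr rfl)
      exact Subgroup.mem_centralizer_singleton_iff.mp (hρy ▸ Subgroup.mem_top g : g ∈ _)
  have hle : _root_.commutator R ≤ Subgroup.zpowers c := by
    rw [_root_.commutator_def, Subgroup.commutator_le]
    intro a _ b _
    refine (QuotientGroup.eq_one_iff _).mp ?_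
    show ρ ⁅a, b⁆ = 1
    rw [map_commutatorElement, commutatorElement_eq_one_iff_mul_comm]
    have hb : b ∈ (Subgroup.center (R ⧸ Subgroup.zpowers c)).comap ρ := hall ▸ Subgroup.mem_top b
    exact Subgroup.mem_center_iff.mp hb (ρ a)
  have hcp : Nat.card (_root_.commutator R) = p := by
    have h1 : Nat.card (Subgroup.zpowers c) ∣ p := by
      rw [Nat.card_zpowers]
      exact orderOf_dvd_of_pow_eq_one (he c (Subgroup.commutator_mem_commutator (Subgroup.mem_top _) (Subgroup.mem_top _)))
    rcases (Nat.dvd_prime hp.out).mp ((Subgroup.card_dvd_of_le hle).trans h1) with h | h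
    · exact absurd ((commutator_eq_bot_iff R).mp (Subgroup.eq_bot_of_card_eq _ h)) hnc
    · exact h
  exact false_of_prime_derived hR hp2 hcp hidx Φ hfull hnofix

variable {X : Type*} [Group X] [Finite X]

omit hp in
theorem stable_of_commutator_eq {S A : Subgroup X} (hAS : A ≤ Subgroup.normalizer (S : Set X))
    (hcop : (Nat.card A).Coprime (Nat.card S)) (hSA : ⁅S, A⁆ = S) :
    Full (Set.range fun a : A => Coprime.conjHom hAS a) ∧ NoFix (Set.range fun a : A => Coprime.conjHom hAS a) := by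
  refine ⟨fun K hK => ?_, fun Z hZn hDZ hinv s hw => ?_⟩
  · refine eq_top_iff.mpr fun s _ => ?_
    have hle : ⁅A, S⁆ ≤ K.map S.subtype := by
      rw [Subgroup.commutator_le]
      intro a ha r hr
      refine ⟨((⟨r, hr⟩⁻¹ : S)⁻¹ * Coprime.conjHom hAS ⟨a, ha⟩ (⟨r, hr⟩⁻¹ : S))⁻¹,
        inv_mem (hK _ ⟨⟨a, ha⟩, rfl⟩ _), ?_⟩
      simp [Coprime.conjHom_apply, commutatorElement_def, mul_assoc]
    obtain ⟨t, ht, hts⟩ := hle (by rw [Subgroup.commutator_comm, hSA]; exact s.2)
    exact Subtype.ext hts ▸ ht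
  · haveI := hZn
    set ZX := Z.map S.subtype with hZX
    set H := S ⊔ A with hH
    have hHZ : H ≤ Subgroup.normalizer (ZX : Set X) := by
      refine sup_le ?_ ?_
      · intro g hg
        refine Subgroup.le_normalizer_iff.mpr (fun x hx z hz => ?_) hg
        obtain ⟨z', hz', rfl⟩ := hz
        exact ⟨⟨x, hx⟩ * z' * ⟨x, hx⟩⁻¹, hZn.conj_mem _ hz' _, by simp⟩
      · refine Subgroup.le_normalizer_iff.mpr fun a ha z hz => ?_
        obtain ⟨z', hz', rfl⟩ := hz
        exact ⟨Coprime.conjHom hAS ⟨a, ha⟩ z', hinv _ ⟨_, rfl⟩ z' hz', by simp [Coprime.conjHom_apply]⟩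
    haveI : (ZX.subgroupOf H).Normal :=
      Subgroup.normal_subgroupOf_of_le_normalizer hHZ
    set f := QuotientGroup.mk' (ZX.subgroupOf H) with hf
    set S₁ := (S.subgroupOf H).map f with hS₁
    set A₁ := (A.subgroupOf H).map f with hA₁
    have hS₁A : A₁ ≤ Subgroup.normalizer (S₁ : Set (H ⧸ ZX.subgroupOf H)) := by
      refine le_trans (Subgroup.map_mono ?_) (Subgroup.le_normalizer_map f)
      rw [← Subgroup.subgroupOf_normalizer_eq le_sup_left]
      exact Subgroup.comap_mono hAS
    haveI : IsMulCommutative S₁ := by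
      rw [← Subgroup.commutator_self_eq_bot_iff, hS₁, ← Subgroup.map_commutator, Subgroup.map_eq_bot_iff,
        QuotientGroup.ker_mk', Subgroup.commutator_le]
      intro a ha b hb
      show ((⁅a, b⁆ : H) : X) ∈ ZX
      exact ⟨⁅(⟨a, ha⟩ : S), ⟨b, hb⟩⁆, hDZ (Subgroup.commutator_mem_commutator (Subgroup.mem_top _)
        (Subgroup.mem_top _)), by simp [commutatorElement_def]⟩
    have hcop₁ : (Nat.card A₁).Coprime (Nat.card S₁) := by
      refine (hcop.coprime_dvd_left ?_).coprime_dvd_right ?_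
      · rw [← Nat.card_congr (Subgroup.subgroupOfEquivOfLe (le_sup_right : A ≤ H)).toEquiv]
        exact Subgroup.card_map_dvd _ f
      · rw [← Nat.card_congr (Subgroup.subgroupOfEquivOfLe (le_sup_left : S ≤ H)).toEquiv]
        exact Subgroup.card_map_dvd _ f
    have hbot := Coprime.centralizer_inf_commutator_eq_bot hS₁A hcop₁
    set sH : H := ⟨s, Subgroup.mem_sup_left s.2⟩ with hsH
    have hmem : f sH ∈ (S₁ ⊓ Subgroup.centralizer (A₁ : Set _)) ⊓ ⁅S₁, A₁⁆ := by
      refine Subgroup.mem_inf.mpr ⟨Subgroup.mem_inf.mpr ⟨Subgroup.mem_map_of_mem f s.2, ?_⟩, ?_⟩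
      · refine Subgroup.mem_centralizer_iff.mpr ?_
        rintro _ ⟨a, ha, rfl⟩
        have h3 : s⁻¹ * Coprime.conjHom hAS ⟨a, ha⟩ s ∈ Z := hw _ ⟨_, rfl⟩
        have h4 : (s : X)⁻¹ * ((a : X) * s * (a : X)⁻¹) ∈ ZX :=
          ⟨_, h3, by simp [Coprime.conjHom_apply]⟩
        have h5 : f (sH⁻¹ * (a * sH * a⁻¹)) = 1 :=
          (QuotientGroup.eq_one_iff _).mpr h4
        rw [map_mul, map_inv, inv_mul_eq_one, map_mul, map_mul, map_inv, eq_mul_inv_iff_mul_eq] at h5
        exact h5.symm
      · rw [hS₁, hA₁, ← Subgroup.map_commutator]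
        refine Subgroup.mem_map_of_mem f ?_
        have hS' : (s : X) ∈ (⁅S.subgroupOf H, A.subgroupOf H⁆).map H.subtype := by
          rw [Subgroup.map_commutator, Subgroup.map_subgroupOf_eq_of_le le_sup_left,
            Subgroup.map_subgroupOf_eq_of_le le_sup_right, hSA]
          exact s.2
        obtain ⟨t, ht, hts⟩ := hS'
        rwa [show sH = t from Subtype.ext hts.symm]
    rw [hbot, Subgroup.mem_bot] at hmem
    obtain ⟨z', hz', hzs⟩ := (QuotientGroup.eq_one_iff _).mp hmem
    rwa [show s = z' from Subtype.ext hzs.symm]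

theorem commutative_of_pcentral_sub {S A : Subgroup X} (hp2 : p ≠ 2) (hS : IsPGroup p S)
    (hAS : A ≤ Subgroup.normalizer (S : Set X)) (hcop : (Nat.card A).Coprime (Nat.card S)) (hSA : ⁅S, A⁆ = S)
    (hΩ : ∀ x ∈ S, x ^ p = 1 → x ∈ Subgroup.centralizer (S : Set X))
    (hcard : Nat.card {x : X | x ∈ S ∧ x ^ p = 1} ≤ p ^ 2) : IsMulCommutative S := by
  obtain ⟨h1, h2⟩ := stable_of_commutator_eq hAS hcop hSA
  refine commutative_of_pcentral hS hp2 (fun x hx => Subgroup.mem_center_iff.mpr fun g => Subtype.ext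
    (Subgroup.mem_centralizer_iff.mp (hΩ x x.2 (by simpa using congrArg Subtype.val hx)) g g.2)) ?_ _ h1 h2
  refine le_trans (Nat.card_le_card_of_injective (fun x : {x : S | x ^ p = 1} =>
    (⟨((x : S) : X), (x : S).2, by simpa using congrArg Subtype.val x.2⟩ : {x : X | x ∈ S ∧ x ^ p = 1}))
    fun a b h => ?_) hcard
  injection h with h'
  exact Subtype.ext (Subtype.ext h')

end CfsgLib.OddOrder.StableAction
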