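import Cfsg.Agent.Lib.OddOrder.OmegaLemma
import Cfsg.Agent.Lib.OddOrder.Basic
import Cfsg.Agent.Lib.Coprime.Generation
import Cfsg.Agent.Lib.Solvable.FrattiniFitting
import Mathlib.GroupTheory.SpecificGroups.ZGroup
import Cfsg.Agent.Lib.Solvable.Basic
import Mathlib.GroupTheory.Sylow

set_option autoImplicit false

open scoped commutatorElement

namespace CfsgLib.OddOrder.FixedPointFree

universe u

/-- A group `V⟨t⟩` in which every element of a nontrivial coset of `V` has order `r` cannot act fixed point freely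
on a finite abelian group of coprime order. -/
theorem no_fixed_point_free {G : Type*} [Group G] [Finite G] {N V : Subgroup G} [N.Normal] [IsMulCommutative N]
    (hN : N ≠ ⊥) (hV : V ≠ ⊥) (t : G) (r : ℕ) [Fact r.Prime] (htV : t ∈ Subgroup.normalizer (V : Set G))
    (hord : ∀ v ∈ V, (v * t) ^ r = 1 ∧ v * t ≠ 1) (htr : ∀ i, 0 < i → i < r → t ^ i ∉ V)
    (hcop : (Nat.card N).Coprime (Nat.card V))
    (hfpf : ∀ g : G, (g ∈ V ∨ ∃ v ∈ V, g = v * t) → g ≠ 1 → ∀ x ∈ N, g * x = x * g → x = 1) : False := by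
  classical
  haveI : Fintype V := Fintype.ofFinite V
  letI : CommGroup N := { (inferInstance : Group N) with mul_comm := fun a b => Std.Commutative.comm a b }
  let φ : G → N →* N := fun g =>
    { toFun := fun x => ⟨g * x * g⁻¹, ‹N.Normal›.conj_mem _ x.2 g⟩
      map_one' := by ext; simp
      map_mul' := fun a b => by ext; simp [mul_assoc] }
  have hφmul : ∀ (a b : G) (x : N), φ (a * b) x = φ a (φ b x) := fun a b x => by ext; simp [φ, mul_assoc]
  have hφ1 : ∀ x : N, φ 1 x = x := fun x => by ext; simp [φ]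
  have hfix : ∀ g : G, (g ∈ V ∨ ∃ v ∈ V, g = v * t) → g ≠ 1 → ∀ y : N, φ g y = y → y = 1 := by
    intro g hg hg1 y hy
    apply Subtype.ext
    refine hfpf g hg hg1 y y.2 ?_
    have := congrArg Subtype.val hy
    exact mul_inv_eq_iff_eq_mul.mp this
  have hsumV : ∀ x : N, ∏ v : V, φ v x = 1 := by
    intro x
    obtain ⟨v0, hv0, hv01⟩ := (Subgroup.bot_or_exists_ne_one V).resolve_left hV
    apply hfix v0 (Or.inl hv0) hv01
    rw [map_prod]
    exact Fintype.prod_equiv (Equiv.mulLeft (⟨v0, hv0⟩ : V)) _ _ fun v => by simp [hφmul]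
  have hsumR : ∀ (v : V) (x : N), ∏ i ∈ Finset.range r, φ (((v : G) * t) ^ i) x = 1 := by
    intro v x
    obtain ⟨h1, h2⟩ := hord v v.2
    apply hfix _ (Or.inr ⟨v, v.2, rfl⟩) h2
    set g := (v : G) * t with hg
    rw [map_prod]
    have e : ∀ i, φ g (φ (g ^ i) x) = φ (g ^ (i + 1)) x := fun i => by rw [← hφmul, pow_succ']
    simp only [e]
    have h3 := Finset.prod_range_succ' (fun i => φ (g ^ i) x) r
    rw [Finset.prod_range_succ (fun i => φ (g ^ i) x) r, h1] at h3
    simp only [pow_zero] at h3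
    exact (mul_right_cancel h3).symm
  have hcoset : ∀ (i : ℕ) (v : V), ∃ w : V, ((v : G) * t) ^ i = w * t ^ i := by
    intro i
    induction i with
    | zero => intro v; exact ⟨1, by simp⟩
    | succ i ih =>
      intro v
      obtain ⟨w, hw⟩ := ih v
      have hc : t ^ i * v * (t ^ i)⁻¹ ∈ V :=
        (Subgroup.mem_normalizer_iff.mp (pow_mem htV i) v).mp v.2
      refine ⟨⟨w * (t ^ i * v * (t ^ i)⁻¹), mul_mem w.2 hc⟩, ?_⟩
      rw [pow_succ, hw, pow_succ]
      simp [mul_assoc]
  have hzero : ∀ x : N, x ^ Nat.card V = 1 := by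
    intro x
    have h1 : ∏ i ∈ Finset.range r, ∏ v : V, φ (((v : G) * t) ^ i) x = 1 := by
      rw [Finset.prod_comm]; exact Finset.prod_eq_one fun v _ => hsumR v x
    rw [← Finset.prod_erase_mul _ _ (Finset.mem_range.mpr (Fact.out : r.Prime).pos)] at h1
    have h2 : ∏ i ∈ (Finset.range r).erase 0, ∏ v : V, φ (((v : G) * t) ^ i) x = 1 := by
      refine Finset.prod_eq_one fun i hi => ?_
      rw [Finset.mem_erase, Finset.mem_range] at hi
      choose w hw using hcoset i
      have hbij : Function.Bijective w := by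
        refine Finite.injective_iff_bijective.mp fun v u e => ?_
        have e1 : ((v : G) * t) ^ i = ((u : G) * t) ^ i := by rw [hw, hw, e]
        have hcopi : i.Coprime r := Nat.Coprime.symm
          (((Fact.out : r.Prime).coprime_iff_not_dvd).mpr (fun hd => absurd (Nat.le_of_dvd (by omega) hd) (by omega)))
        obtain ⟨j, hj⟩ := exists_pow_eq_self_of_coprime
          (n := i) (x := (v : G) * t) (hcopi.coprime_dvd_right (orderOf_dvd_of_pow_eq_one (hord v v.2).1))
        obtain ⟨j', hj'⟩ := exists_pow_eq_self_of_coprime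
          (n := i) (x := (u : G) * t) (hcopi.coprime_dvd_right (orderOf_dvd_of_pow_eq_one (hord u u.2).1))
        have hvo := orderOf_eq_prime (hord v v.2).1 (hord v v.2).2
        have huo := orderOf_eq_prime (hord u u.2).1 (hord u u.2).2
        have hjj : i * j ≡ 1 [MOD r] := by
          rw [← hvo, ← pow_eq_pow_iff_modEq, pow_mul, pow_one]; exact hj
        have e2 : ((u : G) * t) ^ (i * j) = (u : G) * t := by
          conv_rhs => rw [← pow_one ((u : G) * t)]
          rw [pow_eq_pow_iff_modEq, huo]; exact hjj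
        rw [pow_mul, ← e1, hj] at e2
        exact Subtype.ext (mul_right_cancel e2)
      have e3 : ∏ v : V, φ (((v : G) * t) ^ i) x = ∏ v : V, φ v (φ (t ^ i) x) :=
        Fintype.prod_equiv (Equiv.ofBijective w hbij) _ _ fun v => by
          rw [Equiv.ofBijective_apply, ← hφmul, ← hw]
      rw [e3]; exact hsumV _
    rw [h2, one_mul] at h1
    simpa [hφ1, Nat.card_eq_fintype_card] using h1
  obtain ⟨x, hx, hx1⟩ := (Subgroup.bot_or_exists_ne_one N).resolve_left hN
  apply hx1
  have h4 : (⟨x, hx⟩ : N) = 1 := by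
    rw [← orderOf_eq_one_iff]
    exact Nat.eq_one_of_dvd_coprimes hcop (orderOf_dvd_natCard _) (orderOf_dvd_of_pow_eq_one (hzero _))
  exact congrArg Subtype.val h4

theorem mem_centralizer_of_primary {E : Type*} [Group E] [Finite E] {D : Subgroup E} {b : E}
    (h : ∀ q : ℕ, q.Prime → ∀ d ∈ D, (∃ k, orderOf d = q ^ k) → Commute b d) : ∀ d ∈ D, Commute b d := by
  intro d hd
  induction hn : orderOf d using Nat.strong_induction_on generalizing d with
  | _ n ih =>
    subst hn
    by_cases h1 : orderOf d = 1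
    · rw [orderOf_eq_one_iff.mp h1]; exact Commute.one_right _
    obtain ⟨q, hq, hqd⟩ := Nat.exists_prime_and_dvd h1
    have hn0 : orderOf d ≠ 0 := (orderOf_pos d).ne'
    obtain ⟨k, m, hm, hnm⟩ := Nat.exists_eq_pow_mul_and_not_dvd hn0 q hq.ne_one
    by_cases hm1 : m = 1
    · exact h q hq d hd ⟨k, by simpa [hm1] using hnm⟩
    obtain ⟨s, t, e⟩ : IsCoprime ((q ^ k : ℕ) : ℤ) (m : ℤ) :=
      Int.isCoprime_iff_nat_coprime.mpr (by simpa using (hq.coprime_iff_not_dvd.mpr hm).pow_left k)
    have hk0 : k ≠ 0 := by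
      rintro rfl
      rw [pow_zero, one_mul] at hnm
      exact hm (hnm ▸ hqd)
    have hm0 : m ≠ 0 := by rintro rfl; exact hn0 (by simpa using hnm)
    have hA : Commute b (d ^ (q ^ k)) := ih _ (by
      rw [orderOf_pow_of_dvd (pow_ne_zero _ hq.ne_zero) (hnm ▸ Dvd.intro _ rfl)]
      exact Nat.div_lt_self (orderOf_pos d) (Nat.one_lt_pow hk0 hq.one_lt)) _ (pow_mem hd _) rfl
    have hB : Commute b (d ^ m) := ih _ (by
      rw [orderOf_pow_of_dvd hm0 (hnm ▸ Dvd.intro_left _ rfl)]
      exact Nat.div_lt_self (orderOf_pos d) (by omega)) _ (pow_mem hd _) rfl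
    have : d = (d ^ (q ^ k)) ^ s * (d ^ m) ^ t := by
      rw [← zpow_natCast, ← zpow_natCast d m, ← zpow_mul, ← zpow_mul, ← zpow_add, mul_comm _ s, mul_comm _ t, e, zpow_one]
    rw [this]
    exact (hA.zpow_right s).mul_right (hB.zpow_right t)

/-- For odd `p`, a finite `p`-group with only one subgroup of order `p` is cyclic. -/
theorem isCyclic_of_unique_order_p {P : Type u} [Group P] [Finite P] {p : ℕ} [Fact p.Prime] (hp : p ≠ 2)
    (hP : IsPGroup p P) (huniq : ∀ x y : P, x ^ p = 1 → y ^ p = 1 → x ≠ 1 → y ∈ Subgroup.zpowers x) :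
    IsCyclic P := by
  induction hn : Nat.card P using Nat.strong_induction_on generalizing P with
  | _ n ih =>
    subst hn
    by_cases hcyc : IsCyclic P
    · exact hcyc
    exfalso
    haveI : Nontrivial P := by
      rcases subsingleton_or_nontrivial P with hs | hnt
      · exact absurd (isCyclic_of_subsingleton : IsCyclic P) hcyc
      · exact hnt
    obtain ⟨M, hMtop, hMn, hMp, hMc⟩ := OmegaLemma.exists_normal_proper hP
    obtain ⟨M', hM', hle⟩ := (eq_top_or_exists_le_coatom M).resolve_left hMtop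
    have hlt : ∀ H : Subgroup P, H ≠ ⊤ → IsCyclic H := fun H hH => by
      refine ih _ (CfsgLib.Solvable.Basic.card_subgroup_lt H hH) (hP.to_subgroup H) (fun x y hx hy hx1 => ?_) rfl
      have h := huniq x y (by simpa using congrArg Subtype.val hx) (by simpa using congrArg Subtype.val hy)
        (fun e => hx1 (Subtype.ext e))
      obtain ⟨k, hk⟩ := Subgroup.mem_zpowers_iff.mp h
      exact Subgroup.mem_zpowers_iff.mpr ⟨k, Subtype.ext (by simpa using hk)⟩
    haveI := hlt M' hM'.1
    obtain ⟨a, ha⟩ := (Subgroup.isCyclic_iff_exists_zpowers_eq_top M').mp (hlt M' hM'.1)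
    have haM : a ∈ M' := ha ▸ Subgroup.mem_zpowers a
    obtain ⟨x, -, hxM⟩ := SetLike.exists_of_lt (lt_top_iff_ne_top.mpr hM'.1)
    have hxp : x ^ p ∈ M' := hle (hMp x)
    obtain ⟨j, hj⟩ := Subgroup.mem_zpowers_iff.mp (ha.symm ▸ hxp : x ^ p ∈ Subgroup.zpowers a)
    by_cases hpj : ¬ (p : ℤ) ∣ j
    · have hax : a ∈ Subgroup.zpowers x := by
        obtain ⟨k, hk⟩ := IsPGroup.iff_orderOf.mp hP a
        have hcop : IsCoprime j (orderOf a : ℤ) := by
          rw [hk, Nat.cast_pow]
          exact ((Int.prime_iff_natAbs_prime.mpr (by simpa using (Fact.out : p.Prime))).coprime_iff_not_dvd.mpr hpj).symm.pow_right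
        obtain ⟨s, t, e⟩ := hcop
        have h1 : a = (x ^ p) ^ s := by
          conv_lhs => rw [← zpow_one a, ← e]
          rw [zpow_add, mul_comm s j, zpow_mul, hj, mul_comm t, zpow_mul, zpow_natCast, pow_orderOf_eq_one,
            one_zpow, mul_one]
        rw [h1]
        exact zpow_mem (pow_mem (Subgroup.mem_zpowers x) p) s
      have hM'x : M' ≤ Subgroup.zpowers x := ha ▸ Subgroup.zpowers_le.mpr hax
      have htop : Subgroup.zpowers x = ⊤ :=
        hM'.2 _ (lt_of_le_of_ne hM'x fun e => hxM (e ▸ Subgroup.mem_zpowers x))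
      exact hcyc ⟨x, fun y => Subgroup.mem_zpowers_iff.mp (htop ▸ Subgroup.mem_top y)⟩
    obtain ⟨i, rfl⟩ := not_not.mp hpj
    haveI hM'n : M'.Normal := Subgroup.Normal.of_commutator_le P (le_trans hMc hle)
    have hcM : ⁅x, a⁆ ∈ M' := by
      rw [commutatorElement_def]
      exact mul_mem (hM'n.conj_mem a haM x) (inv_mem haM)
    have hcomm : ∀ u ∈ M', ∀ v ∈ M', Commute u v := fun u hu v hv => by
      letI := IsCyclic.commGroup (α := M')
      exact congrArg Subtype.val (mul_comm (⟨u, hu⟩ : M') ⟨v, hv⟩)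
    have hxap : Commute x (a ^ p) := by
      have hle' : Subgroup.zpowers x ⊔ Subgroup.zpowers (a ^ p) ≠ ⊤ := by
        intro e
        set D := Subgroup.zpowers (a ^ p)
        haveI hDn : D.Normal := by
          refine ⟨fun u hu g => ?_⟩
          obtain ⟨k, rfl⟩ := Subgroup.mem_zpowers_iff.mp hu
          obtain ⟨m, hm⟩ := Subgroup.mem_zpowers_iff.mp (ha.symm ▸ hM'n.conj_mem a haM g : g * a * g⁻¹ ∈ Subgroup.zpowers a)
          rw [← conj_zpow, ← conj_pow, ← hm, show (a ^ m) ^ p = (a ^ p) ^ m by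
            rw [← zpow_natCast (a ^ m) p, ← zpow_mul, mul_comm, zpow_mul, zpow_natCast]]
          exact zpow_mem (zpow_mem (Subgroup.mem_zpowers _) m) k
        have haD : a ∈ Subgroup.zpowers x ⊔ D := e ▸ Subgroup.mem_top a
        rw [Subgroup.mem_sup_of_normal_right] at haD
        obtain ⟨u, hu, d, hd, hud⟩ := haD
        obtain ⟨m, rfl⟩ := Subgroup.mem_zpowers_iff.mp hu
        have hdM : d ∈ M' := Subgroup.zpowers_le.mpr (pow_mem haM p) hd
        have hxm : x ^ m ∈ M' := by
          rw [eq_mul_inv_of_mul_eq hud]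
          exact mul_mem haM (inv_mem hdM)
        have hpm : (p : ℤ) ∣ m := by
          by_contra hpm
          obtain ⟨s, t, e'⟩ := (Int.prime_iff_natAbs_prime.mpr
            (by simpa using (Fact.out : p.Prime))).coprime_iff_not_dvd.mpr hpm
          refine hxM ?_
          have : x = (x ^ p) ^ s * (x ^ m) ^ t := by
            rw [← zpow_natCast x p, ← zpow_mul, ← zpow_mul, ← zpow_add, mul_comm (p : ℤ), mul_comm m, e', zpow_one]
          rw [this]
          exact mul_mem (zpow_mem hxp s) (zpow_mem hxm t)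
        obtain ⟨m, rfl⟩ := hpm
        have haD : a ∈ D := by
          rw [← hud]
          refine mul_mem ?_ hd
          rw [zpow_mul, zpow_natCast, ← hj, zpow_mul, zpow_natCast]
          exact zpow_mem (zpow_mem (Subgroup.mem_zpowers _) i) m
        obtain ⟨k, hk⟩ := Subgroup.mem_zpowers_iff.mp haD
        have ha1 : a = 1 := by
          have h2 : a ^ ((p : ℤ) * k - 1) = 1 := by
            rw [zpow_sub, zpow_mul, zpow_natCast, hk, zpow_one, mul_inv_cancel]
          obtain ⟨n, hn⟩ := IsPGroup.iff_orderOf.mp hP a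
          have h3 := orderOf_dvd_iff_zpow_eq_one.mpr h2
          rw [hn] at h3
          rcases Nat.eq_zero_or_pos n with rfl | hn0
          · exact orderOf_eq_one_iff.mp (by simpa using hn)
          · exfalso
            have h4 : (p : ℤ) ∣ (p : ℤ) * k - 1 := (Int.natCast_dvd_natCast.mpr (dvd_pow_self p hn0.ne')).trans h3
            have h5 : (p : ℤ) ∣ 1 := by
              have := dvd_sub (dvd_mul_right (p : ℤ) k) h4
              simpa using this
            exact (Fact.out : p.Prime).not_dvd_one (by exact_mod_cast h5)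
        have : (⊤ : Subgroup P) = Subgroup.zpowers x := by
          rw [← e, sup_eq_left]
          exact Subgroup.zpowers_le.mpr (by rw [ha1, one_pow]; exact one_mem _)
        exact hcyc ⟨x, fun y => Subgroup.mem_zpowers_iff.mp (this ▸ Subgroup.mem_top y)⟩
      haveI := hlt _ hle'
      letI := IsCyclic.commGroup (α := ↥(Subgroup.zpowers x ⊔ Subgroup.zpowers (a ^ p)))
      exact congrArg Subtype.val (mul_comm
        (⟨x, Subgroup.mem_sup_left (Subgroup.mem_zpowers x)⟩ : ↥(Subgroup.zpowers x ⊔ Subgroup.zpowers (a ^ p)))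
        ⟨a ^ p, Subgroup.mem_sup_right (Subgroup.mem_zpowers _)⟩)
    haveI := hP.isNilpotent
    obtain ⟨z0, hz0, hz01⟩ := (Subgroup.bot_or_exists_ne_one _).resolve_left
      (Solvable.FrattiniFitting.inf_center_ne_bot M' (fun e => hcyc (by
        subst e
        rw [Subgroup.mem_bot] at hxp
        exact ⟨x, fun y => Subgroup.mem_zpowers_iff.mp ((hM'.2 _ (bot_lt_iff_ne_bot.mpr (by
          rw [Ne, Subgroup.zpowers_eq_bot]; intro e; exact hxM (Subgroup.mem_bot.mpr e)))) ▸ Subgroup.mem_top y)⟩)))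
    obtain ⟨z, hzz, hzp⟩ : ∃ z ∈ Subgroup.zpowers z0, orderOf z = p := by
      obtain ⟨n, hn⟩ := IsPGroup.iff_orderOf.mp hP z0
      rcases Nat.eq_zero_or_pos n with rfl | hn0
      · exact absurd (orderOf_eq_one_iff.mp (by simpa using hn)) hz01
      · refine ⟨z0 ^ (p ^ (n - 1)), pow_mem (Subgroup.mem_zpowers _) _, ?_⟩
        rw [orderOf_pow_of_dvd (pow_ne_zero _ (Fact.out : p.Prime).ne_zero) (by rw [hn]; exact pow_dvd_pow _ (Nat.sub_le n 1)),
          hn, Nat.pow_div (Nat.sub_le n 1) (Fact.out : p.Prime).pos, Nat.sub_sub_self hn0, pow_one]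
    have hzM : z ∈ M' := Subgroup.zpowers_le.mpr hz0.1 hzz
    have hzc : z ∈ Subgroup.center P := Subgroup.zpowers_le.mpr hz0.2 hzz
    have hz1 : z ≠ 1 := fun e => (Fact.out : p.Prime).ne_one (by rw [← hzp, e, orderOf_one])
    have hzp' : z ^ p = 1 := hzp ▸ pow_orderOf_eq_one z
    have hxpow : ∀ v ∈ M', Commute x (v ^ p) := fun v hv => by
      obtain ⟨k, rfl⟩ := Subgroup.mem_zpowers_iff.mp (ha.symm ▸ hv : v ∈ Subgroup.zpowers a)
      rw [← zpow_natCast (a ^ k) p, ← zpow_mul, mul_comm, zpow_mul, zpow_natCast]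
      exact hxap.zpow_right k
    set v := a ^ (-i) with hv
    have hvM : v ∈ M' := zpow_mem haM _
    set w := ⁅v, x⁆ with hw
    have hwM : w ∈ M' := by
      rw [hw, commutatorElement_def, mul_assoc, mul_assoc]
      refine mul_mem hvM ?_
      rw [← mul_assoc]
      exact hM'n.conj_mem _ (inv_mem hvM) x
    have hw1 : v * x = w * (x * v) := by simp [hw, commutatorElement_def, mul_assoc]
    have hwp : w ^ p = 1 := by
      have e1 : w⁻¹ * v = x * v * x⁻¹ := by simp [hw, commutatorElement_def, mul_assoc]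
      have e2 : (w⁻¹ * v) ^ p = v ^ p := by
        rw [e1, conj_pow, (hxpow v hvM).eq, mul_inv_cancel_right]
      rw [(hcomm _ (inv_mem hwM) v hvM).mul_pow, mul_eq_right, inv_pow, inv_eq_one] at e2
      exact e2
    have hwc : w ∈ Subgroup.center P := Subgroup.zpowers_le.mpr hzc (huniq z w hzp' hwp hz1)
    have hwx : ∀ g, Commute w g := fun g => (Subgroup.mem_center_iff.mp hwc g).symm
    have hy : (x * v) ^ p = 1 := by
      rw [OmegaLemma.mul_pow_central hw1 (hwx v) (hwx x)]
      have h2 : p ∣ p.choose 2 :=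
        (Fact.out : p.Prime).dvd_choose_self (by norm_num) (lt_of_le_of_ne (Fact.out : p.Prime).two_le hp.symm)
      rw [orderOf_dvd_iff_pow_eq_one.mp ((orderOf_dvd_of_pow_eq_one hwp).trans h2), one_mul, ← hj, hv,
        ← zpow_natCast (a ^ (-i)) p, ← zpow_mul, ← zpow_add]
      rw [show (p : ℤ) * i + -i * (p : ℤ) = 0 by ring, zpow_zero]
    apply hxM
    have hyM : x * v ∈ M' := Subgroup.zpowers_le.mpr hzM (huniq z _ hzp' hy hz1)
    exact (Subgroup.mul_mem_cancel_right M' hvM).mp hyM

section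

variable {G : Type*} [Group G] [Finite G] {N E : Subgroup G} [IsMulCommutative N]

/-- Two elements of prime order `p` in a fixed point free group: no noncyclic elementary abelian subgroup. -/
theorem eq_zpowers_of_commute (hE : E ≤ Subgroup.normalizer (N : Set G)) (hN : N ≠ ⊥)
    (hcop : (Nat.card E).Coprime (Nat.card N))
    (hfpf : ∀ g ∈ E, g ≠ 1 → ∀ x ∈ N, g * x = x * g → x = 1) {x y : G} (p : ℕ) [Fact p.Prime]
    (hx : x ∈ E) (hy : y ∈ E) (hxy : Commute x y) (hxp : x ^ p = 1) (hyp : y ^ p = 1) (hx1 : x ≠ 1) :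
    y ∈ Subgroup.zpowers x := by
  by_contra hyx
  set A := Subgroup.closure ({x, y} : Set G) with hA
  haveI : IsMulCommutative A := Subgroup.isMulCommutative_closure (by
    rintro a (rfl | rfl) b (rfl | rfl)
    · rfl
    · exact hxy.eq
    · exact hxy.symm.eq
    · rfl)
  have hxA : x ∈ A := Subgroup.subset_closure (Or.inl rfl)
  have hyA : y ∈ A := Subgroup.subset_closure (Or.inr rfl)
  have hAE : A ≤ E := (Subgroup.closure_le _).mpr (by rintro a (rfl | rfl) <;> assumption)
  have hnc : ¬ IsCyclic A := by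
    intro hc
    classical
    haveI : Fintype A := Fintype.ofFinite A
    have hcard := hc.card_pow_eq_one_le (n := p) (Fact.out : p.Prime).pos
    apply hyx
    have hsub : (Finset.univ.filter fun a : A => (a : G) ∈ Subgroup.zpowers x) ⊆ Finset.univ.filter fun a : A => a ^ p = 1 := by
      intro a ha
      rw [Finset.mem_filter] at ha ⊢
      obtain ⟨k, hk⟩ := Subgroup.mem_zpowers_iff.mp ha.2
      refine ⟨ha.1, Subtype.ext ?_⟩
      rw [Subgroup.coe_pow, ← hk, ← zpow_natCast, ← zpow_mul, mul_comm, zpow_mul, zpow_natCast, hxp, one_zpow]; rfl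
    have heq := Finset.eq_of_subset_of_card_le hsub (le_trans hcard (le_of_eq (by
      have h1 : orderOf x = p := orderOf_eq_prime hxp hx1
      rw [← h1, ← Nat.card_zpowers]
      have h2 : Subgroup.zpowers x ≤ A := Subgroup.zpowers_le.mpr hxA
      rw [← Nat.card_congr (Subgroup.subgroupOfEquivOfLe h2).toEquiv, Nat.card_eq_fintype_card, ← Fintype.card_subtype]
      rfl)))
    have : (⟨y, hyA⟩ : A) ∈ Finset.univ.filter fun a : A => a ^ p = 1 :=
      Finset.mem_filter.mpr ⟨Finset.mem_univ _, Subtype.ext hyp⟩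
    rw [← heq, Finset.mem_filter] at this
    exact this.2
  have h := Coprime.iSup_centralizer_singleton hnc (le_trans hAE hE) (Coprime.coprime_of_le hcop hAE le_rfl)
  apply hN
  rw [← h, eq_bot_iff]
  refine iSup₂_le fun a ha => fun z hz => ?_
  rw [Subgroup.mem_bot]
  exact hfpf a (hAE ha.1) ha.2 z hz.1 (Subgroup.mem_centralizer_iff.mp hz.2 a rfl)

theorem isCyclic_pSubgroup (hE : E ≤ Subgroup.normalizer (N : Set G)) (hN : N ≠ ⊥)
    (hcop : (Nat.card E).Coprime (Nat.card N))
    (hfpf : ∀ g ∈ E, g ≠ 1 → ∀ x ∈ N, g * x = x * g → x = 1) {p : ℕ} [Fact p.Prime] (hp : p ≠ 2)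
    {P : Subgroup G} (hP : IsPGroup p P) (hPE : P ≤ E) : IsCyclic P := by
  refine isCyclic_of_unique_order_p hp hP fun x y hx hy hx1 => ?_
  haveI : Nontrivial P := ⟨x, 1, hx1⟩
  haveI := hP.center_nontrivial
  obtain ⟨z, hz⟩ := exists_prime_orderOf_dvd_card' (G := Subgroup.center P) p
    ((hP.to_subgroup _).card_eq_or_dvd.resolve_left (Finite.one_lt_card (α := Subgroup.center P)).ne')
  have hz1 : (z : P) ≠ 1 := by
    intro e
    have : orderOf ((z : P)) = p := by rw [Subgroup.orderOf_coe, hz]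
    rw [e, orderOf_one] at this
    exact (Fact.out : p.Prime).ne_one this.symm
  have hzp : ((z : P) : P) ^ p = 1 := by rw [← hz, ← Subgroup.orderOf_coe, pow_orderOf_eq_one]
  have key : ∀ w : P, w ^ p = 1 → w ∈ Subgroup.zpowers (z : P) := fun w hw => by
    have h := eq_zpowers_of_commute hE hN hcop hfpf p (hPE (z : P).2) (hPE w.2)
      (congrArg Subtype.val (Subgroup.mem_center_iff.mp z.2 w)).symm
      (by simpa using congrArg Subtype.val hzp) (by simpa using congrArg Subtype.val hw)
      (fun e => hz1 (Subtype.ext e))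
    obtain ⟨k, hk⟩ := Subgroup.mem_zpowers_iff.mp h
    exact Subgroup.mem_zpowers_iff.mpr ⟨k, Subtype.ext (by simpa using hk)⟩
  have hxz : Subgroup.zpowers x = Subgroup.zpowers (z : P) :=
    Subgroup.eq_of_le_of_card_ge (Subgroup.zpowers_le.mpr (key x hx))
      (by rw [Nat.card_zpowers, Nat.card_zpowers, orderOf_eq_prime hx hx1, orderOf_eq_prime hzp hz1])
  rw [hxz]
  exact key y hy

/-- An element of prime order in a group acting fixed point freely on an abelian group commutes with every
element of prime order that spans a subgroup it normalizes. -/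
theorem commute_of_normalizes (hNn : N.Normal) (hN : N ≠ ⊥) (hcop : (Nat.card E).Coprime (Nat.card N))
    (hfpf : ∀ g ∈ E, g ≠ 1 → ∀ x ∈ N, g * x = x * g → x = 1) {a b : G} {q r : ℕ} [Fact q.Prime]
    [Fact r.Prime] (ha : a ∈ E) (hb : b ∈ E) (hoa : orderOf a = q) (hob : orderOf b = r) (hqr : q ≠ r)
    (hnorm : b ∈ Subgroup.normalizer (Subgroup.zpowers a : Set G)) : Commute b a := by
  by_contra hnc
  haveI := hNn
  set V := Subgroup.zpowers a with hV
  have hVE : V ≤ E := Subgroup.zpowers_le.mpr ha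
  have hbV : ∀ i, 0 < i → i < r → b ^ i ∉ V := by
    intro i hi hir hmem
    have h1 : orderOf (b ^ i) ∣ q := hoa ▸ Nat.card_zpowers a ▸ Stabilize.orderOf_dvd_card_of_mem hmem
    have h2 : orderOf (b ^ i) = r := by
      rw [Nat.Coprime.orderOf_pow, hob]
      rw [hob]
      exact ((Fact.out : r.Prime).coprime_iff_not_dvd).mpr fun h => absurd (Nat.le_of_dvd hi h) (by omega)
    rw [h2] at h1
    exact hqr ((Nat.prime_dvd_prime_iff_eq (Fact.out : r.Prime) (Fact.out : q.Prime)).mp h1).symm
  refine no_fixed_point_free (V := V) hN (by rw [hV, Ne, Subgroup.zpowers_eq_bot]; intro e; subst e; rw [orderOf_one] at hoa; exact (Fact.out : q.Prime).ne_one hoa.symm)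
    b r hnorm ?_ hbV ?_ ?_
  · intro v hv
    have hne : v * b ≠ 1 := fun e => hbV 1 one_pos (Fact.out : r.Prime).one_lt (by
      rw [pow_one, eq_inv_of_mul_eq_one_right e]; exact inv_mem hv)
    refine ⟨?_, hne⟩
    have hmem : ∀ i : ℕ, (v * b) ^ i * (b ^ i)⁻¹ ∈ V := by
      intro i
      induction i with
      | zero => simp
      | succ i ih =>
        have e : (v * b) ^ (i + 1) * (b ^ (i + 1))⁻¹ = v * (b * ((v * b) ^ i * (b ^ i)⁻¹) * b⁻¹) := by
          rw [pow_succ', pow_succ']; group
        rw [e]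
        exact mul_mem hv ((Subgroup.mem_normalizer_iff.mp hnorm _).mp ih)
    have hwV : (v * b) ^ r ∈ V := by
      have := hmem r
      rwa [show b ^ r = 1 by rw [← hob]; exact pow_orderOf_eq_one b, inv_one, mul_one] at this
    by_contra hw
    have hgen : Subgroup.zpowers ((v * b) ^ r) = V :=
      Subgroup.eq_of_le_of_card_ge (Subgroup.zpowers_le.mpr hwV) (by
        rw [hV, Nat.card_zpowers, Nat.card_zpowers, hoa]
        exact (((Nat.dvd_prime (Fact.out : q.Prime)).mp (hoa ▸ Nat.card_zpowers a ▸ Stabilize.orderOf_dvd_card_of_mem hwV)).resolve_left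
          (fun e => hw (orderOf_eq_one_iff.mp e))).ge)
    apply hnc
    obtain ⟨k, hk⟩ := Subgroup.mem_zpowers_iff.mp (hgen.symm ▸ Subgroup.mem_zpowers a : a ∈ Subgroup.zpowers ((v * b) ^ r))
    have h1 : Commute (v * b) a := hk ▸ ((Commute.refl _).pow_right r).zpow_right k
    obtain ⟨j, rfl⟩ := Subgroup.mem_zpowers_iff.mp hv
    have h2 : Commute (a ^ j)⁻¹ a := ((Commute.refl a).zpow_left j).inv_left
    simpa using h2.mul_left h1
  · exact (Coprime.coprime_of_le hcop hVE le_rfl).symm
  · rintro g (hg | ⟨v, hv, rfl⟩) hg1 x hx hc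
    · exact hfpf g (hVE hg) hg1 x hx hc
    · exact hfpf _ (mul_mem (hVE hv) hb) hg1 x hx hc

/-- A group acting fixed point freely on a nontrivial abelian group has nontrivial centre. -/
theorem exists_center_ne_one (hNn : N.Normal) (hN : N ≠ ⊥) (hE1 : E ≠ ⊥) (hcop : (Nat.card E).Coprime (Nat.card N))
    (hfpf : ∀ g ∈ E, g ≠ 1 → ∀ x ∈ N, g * x = x * g → x = 1) :
    ∃ c ∈ E, c ≠ 1 ∧ ∀ e ∈ E, Commute c e := by
  haveI := hNn
  have hE : E ≤ Subgroup.normalizer (N : Set G) := by rw [Subgroup.normalizer_eq_top]; exact le_top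
  by_cases h2 : 2 ∣ Nat.card E
  · obtain ⟨i, hi⟩ := exists_prime_orderOf_dvd_card' (G := E) 2 h2
    have hi1 : (i : G) ≠ 1 := by
      intro e
      have : i = 1 := Subtype.ext e
      rw [this, orderOf_one] at hi
      exact absurd hi (by norm_num)
    have hinv : ∀ j ∈ E, j ≠ 1 → j * j = 1 → ∀ x ∈ N, j * x * j⁻¹ = x⁻¹ := by
      intro j hj hj1 hj2 x hx
      have hm := hNn.conj_mem x hx j
      have hc : x * (j * x * j⁻¹) = j * x * j⁻¹ * x := setLike_mul_comm hx hm
      have h1 : x * (j * x * j⁻¹) = 1 := by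
        refine hfpf j hj hj1 _ (mul_mem hx hm) ?_
        have hji : j⁻¹ = j := inv_eq_of_mul_eq_one_right hj2
        calc j * (x * (j * x * j⁻¹)) = j * x * (j * x * j⁻¹) := by group
          _ = j * x * j⁻¹ * ((j * j) * x) * j⁻¹ := by group
          _ = j * x * j⁻¹ * x * j := by rw [hj2, one_mul, hji]
          _ = x * (j * x * j⁻¹) * j := by rw [hc]
      exact eq_inv_of_mul_eq_one_right h1
    have hi2 : (i : G) * i = 1 := by
      rw [← pow_two, ← Subgroup.coe_pow, ← hi, pow_orderOf_eq_one]; rfl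
    refine ⟨i, i.2, hi1, fun e he => ?_⟩
    set j := e * (i : G) * e⁻¹ with hj
    have hjE : j ∈ E := mul_mem (mul_mem he i.2) (inv_mem he)
    have hj2 : j * j = 1 := by
      rw [hj]; calc e * (i : G) * e⁻¹ * (e * i * e⁻¹) = e * ((i : G) * i) * e⁻¹ := by group
        _ = 1 := by rw [hi2]; group
    have hj1 : j ≠ 1 := by simpa [hj] using hi1
    obtain ⟨x, hx, hx1⟩ := (Subgroup.bot_or_exists_ne_one N).resolve_left hN
    have : (i : G)⁻¹ * j = 1 := by
      by_contra hne
      refine hx1 (hfpf _ (mul_mem (inv_mem i.2) hjE) hne x hx ?_)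
      have e1 := hinv j hjE hj1 hj2 x hx
      have e2 := hinv i i.2 hi1 hi2 x hx
      have e3 : (i : G)⁻¹ * x⁻¹ * i = x := by
        rw [← e2]; group
      calc (i : G)⁻¹ * j * x = (i : G)⁻¹ * (j * x * j⁻¹) * j := by group
        _ = ((i : G)⁻¹ * x⁻¹ * i) * ((i : G)⁻¹ * j) := by rw [e1]; group
        _ = x * ((i : G)⁻¹ * j) := by rw [e3]
    have hji : j = i := (inv_mul_eq_one.mp this).symm
    exact (mul_inv_eq_iff_eq_mul.mp hji).symm
  -- odd order: all Sylow subgroups are cyclic
  haveI : IsZGroup E := by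
    refine ⟨fun p hp P => ?_⟩
    haveI := Fact.mk hp
    by_cases h1 : (P : Subgroup E) = ⊥
    · rw [h1]; infer_instance
    have hp2 : p ≠ 2 := by
      rintro rfl
      exact h2 ((P.isPGroup'.card_eq_or_dvd.resolve_left (fun e => h1 (Subgroup.card_eq_one.mp e))).trans
        (Subgroup.card_subgroup_dvd_card _))
    have := isCyclic_pSubgroup hE hN hcop hfpf hp2 (P.isPGroup'.map E.subtype) (Subgroup.map_subtype_le _)
    exact ((P : Subgroup E).equivMapOfInjective E.subtype E.subtype_injective).isCyclic.mpr this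
  haveI : Nontrivial E := (Subgroup.nontrivial_iff_ne_bot E).mpr hE1
  haveI := IsZGroup.isCyclic_commutator (G := E)
  set D := commutator E with hD
  have hcop' := IsZGroup.coprime_commutator_index (G := E)
  obtain ⟨B, hB⟩ := Subgroup.exists_right_complement'_of_coprime hcop'
  have hB1 : B ≠ ⊥ := by
    intro e
    have := hB.sup_eq_top
    rw [e, sup_bot_eq] at this
    exact (IsZGroup.commutator_lt (G := E)).ne this
  obtain ⟨r, hr, hrd⟩ := Nat.exists_prime_and_dvd (fun e => hB1 (Subgroup.card_eq_one.mp e))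
  haveI := Fact.mk hr
  obtain ⟨b, hb⟩ := exists_prime_orderOf_dvd_card' (G := B) r hrd
  have hbD : ∀ d ∈ D, Commute (b : E) d := by
    intro d hd
    -- it suffices to treat elements of prime-power order
    suffices hprim : ∀ q : ℕ, q.Prime → ∀ d ∈ D, (∃ k, orderOf d = q ^ k) → Commute (b : E) d from
      (mem_centralizer_of_primary hprim d hd)
    intro q hq d hd hk
    haveI := Fact.mk hq
    obtain ⟨k, hk⟩ := hk
    set Q := Subgroup.zpowers d with hQ
    have hQD : Q ≤ D := Subgroup.zpowers_le.mpr hd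
    have hQp : IsPGroup q Q := IsPGroup.of_card (n := k) (by rw [hQ, Nat.card_zpowers, hk])
    rcases Nat.eq_zero_or_pos k with rfl | hk0
    · have hd1 : d = 1 := orderOf_eq_one_iff.mp (by simpa using hk)
      rw [hd1]; exact Commute.one_right _
    have hq2 : q ≠ 2 := by
      rintro rfl
      exact h2 ((dvd_pow_self 2 hk0.ne').trans (hk ▸ orderOf_dvd_natCard d))
    have hqr : q ≠ r := by
      rintro rfl
      have h3 : q ∣ Nat.card D := ((dvd_pow_self q hk0.ne').trans (hk ▸ (Nat.card_zpowers d).symm.dvd)).trans (Subgroup.card_dvd_of_le hQD)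
      exact Nat.not_coprime_of_dvd_of_dvd hq.one_lt h3 (hB.symm.index_eq_card ▸ hrd) hcop'
    have hnormD : ∀ H : Subgroup E, H ≤ D → H.Normal := by
      intro H hH
      refine ⟨fun x hx g => ?_⟩
      obtain ⟨d0, hd0⟩ := IsCyclic.exists_generator (α := D)
      obtain ⟨m, hm⟩ := Subgroup.mem_zpowers_iff.mp (hd0 ⟨g * (d0 : E) * g⁻¹,
        Subgroup.Normal.conj_mem inferInstance _ d0.2 g⟩)
      obtain ⟨k, hk⟩ := Subgroup.mem_zpowers_iff.mp (hd0 ⟨x, hH hx⟩)
      have hm' : (d0 : E) ^ m = g * (d0 : E) * g⁻¹ := by simpa using congrArg Subtype.val hm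
      have hk' : (d0 : E) ^ k = x := by simpa using congrArg Subtype.val hk
      have : g * x * g⁻¹ = x ^ m := by
        rw [← hk', ← conj_zpow, ← hm', ← zpow_mul, ← zpow_mul, mul_comm]
      rw [this]
      exact zpow_mem hx m
    have key : Subgroup.zpowers (b : E) ≤ Subgroup.centralizer (Q : Set E) := by
      haveI := hnormD Q hQD
      refine OmegaLemma.le_centralizer_of_fix_orderP hq2 hQp (by rw [Subgroup.normalizer_eq_top]; exact le_top) ?_ ?_
      · rw [Nat.card_zpowers, Subgroup.orderOf_coe, hb]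
        exact (Nat.coprime_primes hr hq).mpr hqr.symm
      · intro x hx hxq
        rw [Subgroup.zpowers_le, Subgroup.mem_centralizer_singleton_iff]
        by_cases hx1 : x = 1
        · simp [hx1]
        have hxn := hnormD (Subgroup.zpowers x) (Subgroup.zpowers_le.mpr (hQD hx))
        have := commute_of_normalizes (q := q) (r := r) hNn hN hcop hfpf x.2 (b : E).2
          (by rw [Subgroup.orderOf_coe, orderOf_eq_prime hxq hx1])
          (by rw [Subgroup.orderOf_coe, Subgroup.orderOf_coe, hb]) hqr (by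
            rw [Subgroup.mem_normalizer_iff]
            intro y
            constructor
            · intro hy
              obtain ⟨m, rfl⟩ := Subgroup.mem_zpowers_iff.mp hy
              obtain ⟨l, hl⟩ := Subgroup.mem_zpowers_iff.mp (hxn.conj_mem (x ^ m) (zpow_mem (Subgroup.mem_zpowers x) m) (b : E))
              exact Subgroup.mem_zpowers_iff.mpr ⟨l, by simpa using congrArg Subtype.val hl⟩
            · intro hy
              obtain ⟨m, hm⟩ := Subgroup.mem_zpowers_iff.mp hy
              obtain ⟨l, hl⟩ := Subgroup.mem_zpowers_iff.mp (hxn.conj_mem (x ^ m) (zpow_mem (Subgroup.mem_zpowers x) m) (b : E)⁻¹)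
              refine Subgroup.mem_zpowers_iff.mpr ⟨l, ?_⟩
              have := congrArg Subtype.val hl
              simp only [Subgroup.coe_zpow, Subgroup.coe_mul, Subgroup.coe_inv, inv_inv] at this
              rw [this, hm]; group)
        exact (Subtype.ext this.eq : (b : E) * x = x * (b : E))
    exact (Subgroup.mem_centralizer_iff.mp (key (Subgroup.mem_zpowers _)) d (Subgroup.mem_zpowers d)).symm
  haveI hBcomm : IsMulCommutative B := by
    refine ⟨⟨fun u v => Subtype.ext ?_⟩⟩
    have : ⁅(u : E), (v : E)⁆ ∈ D ⊓ B :=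
      ⟨Subgroup.commutator_mem_commutator (Subgroup.mem_top _) (Subgroup.mem_top _),
        B.mul_mem (B.mul_mem (B.mul_mem u.2 v.2) (B.inv_mem u.2)) (B.inv_mem v.2)⟩
    rw [hB.disjoint.eq_bot, Subgroup.mem_bot, commutatorElement_eq_one_iff_mul_comm] at this
    exact this
  refine ⟨(b : E), ((b : E)).2, ?_, fun e he => ?_⟩
  · intro h
    have h3 : b = 1 := Subtype.ext (Subtype.ext h)
    rw [h3, orderOf_one] at hb
    exact hr.ne_one hb.symm
  · obtain ⟨⟨⟨d, hd⟩, ⟨u, hu⟩⟩, hdu⟩ := hB.2 (⟨e, he⟩ : E)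
    have h3 : Commute (b : E) (d * u) := (hbD d hd).mul_right (setLike_mul_comm b.2 hu)
    rw [show d * u = (⟨e, he⟩ : E) from hdu] at h3
    exact congrArg Subtype.val h3.eq

end

end CfsgLib.OddOrder.FixedPointFree
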