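import Cfsg.Agent.Lib.OddOrder.OddGL2Structure
import Cfsg.Agent.Lib.OddOrder.OmegaLemma
import Cfsg.Agent.Lib.OddOrder.PLengthOne
import Cfsg.Agent.Lib.OddOrder.Replacement
import Cfsg.Agent.Lib.Fusion.NormalRankTwo
import Cfsg.Agent.S1443

set_option autoImplicit false

/-!
Solvable groups of odd order whose `p`-core has rank at most two.
-/

namespace CfsgLib.OddOrder.RankTwo

open scoped commutatorElement Pointwise

variable {G : Type*} [Group G] {p : ℕ}

theorem card_le_sq {T A : Subgroup G} (hr : Cfsg.PRankLE p 2 T) (hA : Cfsg.IsElementaryAbelian p A)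
    (hAT : A ≤ T) : Nat.card A ≤ p ^ 2 := by
  have h := Fusion.Thompson.isEA_subgroupOf hA T
  rw [← Nat.card_congr (Subgroup.subgroupOfEquivOfLe hAT).toEquiv]
  exact hr _ h.1 h.2

/-- The automorphisms of a group of prime order commute. -/
theorem commute_of_card_prime {Q : Type*} [Group Q] (hQ : (Nat.card Q).Prime) (a b : MulAut Q) :
    a * b = b * a := by
  haveI : Finite Q := Nat.finite_of_card_ne_zero hQ.ne_zero
  haveI : IsCyclic Q := by
    haveI := Fact.mk hQ
    exact isCyclic_of_prime_card rfl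
  obtain ⟨m, hm⟩ := MonoidHom.map_cyclic a.toMonoidHom
  obtain ⟨n, hn⟩ := MonoidHom.map_cyclic b.toMonoidHom
  refine MulEquiv.ext fun x => ?_
  show a (b x) = b (a x)
  calc a (b x) = (x ^ n) ^ m := by rw [show b x = x ^ n from hn x]; exact hm _
    _ = (x ^ m) ^ n := by rw [← zpow_mul, ← zpow_mul, mul_comm]
    _ = b (a x) := by rw [show a x = x ^ m from hm x]; exact (hn _).symm

variable [Finite G] [Fact p.Prime]

/-- In the derived group, some `p`-power of each element acts trivially. -/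
theorem exists_pow_trivial [Group.IsSolvable G] (hodd : Odd (Nat.card G)) {Q : Type*} [CommGroup Q]
    [Finite Q] (hexp : ∀ a : Q, a ^ p = 1) (hcard : Nat.card Q = p ∨ Nat.card Q = p ^ 2)
    (ρ : G →* MulAut Q) {g : G} (hg : g ∈ commutator G) : ∃ k : ℕ, ρ (g ^ p ^ k) = 1 := by
  rcases hcard with h | h
  · refine ⟨0, ?_⟩
    rw [pow_zero, pow_one]
    have hle : commutator G ≤ ρ.ker := by
      rw [commutator_def, Subgroup.commutator_le]
      intro a _ b _
      rw [MonoidHom.mem_ker, map_commutatorElement, commutatorElement_eq_one_iff_mul_comm]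
      exact commute_of_card_prime (h ▸ (Fact.out : p.Prime)) _ _
    exact hle hg
  · set Γ := ρ.range with hΓ
    haveI : Finite Γ := Finite.of_surjective ρ.rangeRestrict ρ.rangeRestrict_surjective
    haveI : Group.IsSolvable Γ := Group.isSolvable_of_surjective ρ.rangeRestrict_surjective
    obtain ⟨φ, hφ⟩ := OddGL2Structure.exists_hom hexp h Γ.subtype
    have hinj : Function.Injective φ := by
      rw [← MonoidHom.ker_eq_bot_iff, Subgroup.eq_bot_iff_forall]
      intro x hx
      exact Subtype.ext ((hφ x).mp hx)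
    have hp' := OddGL2Structure.commutator_isPGroup φ hinj
      (hodd.of_dvd_nat (Subgroup.card_dvd_of_surjective ρ.rangeRestrict ρ.rangeRestrict_surjective))
    have hmem : ρ.rangeRestrict g ∈ commutator Γ := by
      have h1 := Subgroup.mem_map_of_mem ρ.rangeRestrict hg
      rw [commutator_def, Subgroup.map_commutator] at h1
      exact Subgroup.commutator_mono le_top le_top h1
    obtain ⟨k, hk⟩ := hp' ⟨_, hmem⟩
    refine ⟨k, ?_⟩
    rw [map_pow]
    have := congrArg (fun z : commutator Γ => ((z : Γ) : MulAut Q)) hk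
    simpa using this

/-- An element of prime power order for a prime at least `p`, different from `p`, acts trivially. -/
theorem trivial_of_large {Q : Type*} [CommGroup Q] [Finite Q] (hcard : Nat.card Q = p ∨ Nat.card Q = p ^ 2)
    (ρ : G →* MulAut Q) {q : ℕ} (hq : q.Prime) (hqp : p < q) (hq2 : Odd q) (hp2 : Odd p) {g : G}
    (hg : ∃ k, orderOf g = q ^ k) : ρ g = 1 := by
  haveI := Fact.mk hq
  obtain ⟨k, hk⟩ := hg
  set H := Subgroup.zpowers (ρ g) with hH
  have hHq : IsPGroup q H := by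
    obtain ⟨j, -, hj⟩ := (Nat.dvd_prime_pow hq).mp (hk ▸ orderOf_map_dvd ρ g : orderOf (ρ g) ∣ q ^ k)
    exact IsPGroup.of_card (by rw [hH, Nat.card_zpowers, hj])
  let F : Subgroup Q :=
    { carrier := {a | ρ g a = a}
      one_mem' := map_one _
      mul_mem' := fun {a b} ha hb => by show ρ g (a * b) = a * b; rw [map_mul, ha, hb]
      inv_mem' := fun {a} ha => by show ρ g a⁻¹ = a⁻¹; rw [map_inv, ha] }
  have hfix : MulAction.fixedPoints H Q = (F : Set Q) := by
    ext a
    refine ⟨fun h => h ⟨ρ g, Subgroup.mem_zpowers _⟩, fun h ⟨b, hb⟩ => ?_⟩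
    have hst : H ≤ MulAction.stabilizer (MulAut Q) a :=
      Subgroup.zpowers_le.mpr (show ρ g • a = a from h)
    exact hst hb
  have hmod := hHq.card_modEq_card_fixedPoints Q
  rw [Nat.card_congr (Equiv.setCongr hfix)] at hmod
  change Nat.card Q ≡ Nat.card F [MOD q] at hmod
  have hFd : Nat.card F ∣ Nat.card Q := Subgroup.card_subgroup_dvd_card F
  have hFle : Nat.card F ≤ Nat.card Q := Nat.le_of_dvd Nat.card_pos hFd
  have hdvd : q ∣ Nat.card Q - Nat.card F := (Nat.modEq_iff_dvd' hFle).mp hmod.symm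
  have htop : F = ⊤ := by
    apply Subgroup.eq_top_of_card_eq
    by_contra hne
    have hlt : Nat.card F < Nat.card Q := lt_of_le_of_ne hFle hne
    have hp1 : 1 < p := (Fact.out : p.Prime).one_lt
    have hsmall : ∀ m, 0 < m → m ≤ p + 1 → ¬ q ∣ m := by
      intro m hm0 hm hd
      have h1 := Nat.le_of_dvd hm0 hd
      have : q = p + 1 := by omega
      obtain ⟨a, ha⟩ := hp2
      obtain ⟨b, hb⟩ := hq2
      omega
    rcases hcard with h | h
    · rw [h] at hdvd hlt
      exact hsmall _ (by omega) (by omega) hdvd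
    · rw [h] at hdvd hlt hFd
      obtain ⟨j, hj, hjF⟩ := (Nat.dvd_prime_pow (Fact.out : p.Prime)).mp hFd
      rw [hjF] at hdvd hlt
      interval_cases j
      · have e : p ^ 2 - p ^ 0 = (p + 1) * (p - 1) := by
          have := Nat.sq_sub_sq p 1
          simpa using this
        rw [e] at hdvd
        rcases hq.dvd_mul.mp hdvd with h' | h'
        · exact hsmall _ (by omega) le_rfl h'
        · exact hsmall _ (by omega) (by omega) h'
      · have e : p ^ 2 - p ^ 1 = p * (p - 1) := by rw [pow_one, sq, Nat.mul_sub_one]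
        rw [e] at hdvd
        rcases hq.dvd_mul.mp hdvd with h' | h'
        · exact hsmall _ (by omega) (by omega) h'
        · exact hsmall _ (by omega) (by omega) h'
      · exact lt_irrefl _ hlt
  refine MulEquiv.ext fun a => ?_
  exact (htop ▸ Subgroup.mem_top a : a ∈ F)

/-- Two actions whose joint kernel of `p'`-elements lies in `C`. -/
theorem conclude [Group.IsSolvable G] (hodd : Odd (Nat.card G)) (hp2 : p ≠ 2) (C : Subgroup G)
    {Q₁ Q₂ : Type*} [CommGroup Q₁] [Finite Q₁] [CommGroup Q₂] [Finite Q₂]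
    (hexp₁ : ∀ a : Q₁, a ^ p = 1) (hexp₂ : ∀ a : Q₂, a ^ p = 1)
    (hcard₁ : Nat.card Q₁ = p ∨ Nat.card Q₁ = p ^ 2) (hcard₂ : Nat.card Q₂ = p ∨ Nat.card Q₂ = p ^ 2)
    (ρ₁ : G →* MulAut Q₁) (ρ₂ : G →* MulAut Q₂)
    (hker : ∀ g : G, (orderOf g).Coprime p → ρ₁ g = 1 → ρ₂ g = 1 → g ∈ C) :
    (∀ g ∈ commutator G, (orderOf g).Coprime p → g ∈ C) ∧
      ∀ q : ℕ, q.Prime → p < q → ∀ g : G, (∃ k, orderOf g = q ^ k) → g ∈ C := by
  have hp : p.Prime := Fact.out
  refine ⟨fun g hg hcop => ?_, fun q hq hle g hg => ?_⟩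
  · obtain ⟨k₁, hk₁⟩ := exists_pow_trivial hodd hexp₁ hcard₁ ρ₁ hg
    obtain ⟨k₂, hk₂⟩ := exists_pow_trivial hodd hexp₂ hcard₂ ρ₂ hg
    obtain ⟨m, hm⟩ := exists_pow_eq_self_of_coprime (x := g) (n := p ^ (k₁ + k₂))
      ((hcop.pow_right _).symm)
    rw [← hm]
    refine pow_mem (hker _ (hcop.coprime_dvd_left (orderOf_pow_dvd _)) ?_ ?_) m
    · rw [pow_add, pow_mul, map_pow, hk₁, one_pow]
    · rw [show k₁ + k₂ = k₂ + k₁ by omega, pow_add, pow_mul, map_pow, hk₂, one_pow]
  · haveI := Fact.mk hq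
    have hq2 : Odd q := hq.odd_of_ne_two (by have := hp.two_le; omega)
    have hp2' : Odd p := hp.odd_of_ne_two hp2
    have hcop : (orderOf g).Coprime p := by
      obtain ⟨k, hk⟩ := hg
      rw [hk]
      exact ((Nat.coprime_primes hq hp).mpr hle.ne').pow_left k
    exact hker g hcop (trivial_of_large hcard₁ ρ₁ hq hle hq2 hp2' hg) (trivial_of_large hcard₂ ρ₂ hq hle hq2 hp2' hg)

theorem eq_one_of_centralizes {T : Subgroup G} (hTp : IsPGroup p T) (hc : Subgroup.centralizer (T : Set G) ≤ T)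
    {g : G} (hg : (orderOf g).Coprime p) (h : g ∈ Subgroup.centralizer (T : Set G)) : g = 1 := by
  obtain ⟨k, hk⟩ := hTp ⟨g, hc h⟩
  exact orderOf_eq_one_iff.mp (Nat.eq_one_of_dvd_coprimes (hg.pow_right k) dvd_rfl
    (orderOf_dvd_of_pow_eq_one (congrArg Subtype.val hk)))

/-- The action statement: a normal `p`-subgroup of rank at most two. -/
theorem coreAct [Group.IsSolvable G] (hodd : Odd (Nat.card G)) (hp2 : p ≠ 2) (T : Subgroup G) [hTn : T.Normal]
    (hTp : IsPGroup p T) (hr : Cfsg.PRankLE p 2 T) :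
    (∀ g ∈ commutator G, (orderOf g).Coprime p → g ∈ Subgroup.centralizer (T : Set G)) ∧
      ∀ q : ℕ, q.Prime → p < q → ∀ g : G, (∃ k, orderOf g = q ^ k) → g ∈ Subgroup.centralizer (T : Set G) := by
  have hp : p.Prime := Fact.out
  rcases eq_or_ne T ⊥ with hTb | hTb
  · have hall : ∀ g : G, g ∈ Subgroup.centralizer (T : Set G) := fun g =>
      Subgroup.mem_centralizer_iff.mpr fun y hy => by
        rw [SetLike.mem_coe, hTb, Subgroup.mem_bot] at hy; simp [hy]
    exact ⟨fun g _ _ => hall g, fun _ _ _ g _ => hall g⟩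
  -- elements of order `p` of the centre of `T`
  let Z0 : Subgroup G :=
    { carrier := {x | x ∈ T ∧ x ∈ Subgroup.centralizer (T : Set G) ∧ x ^ p = 1}
      one_mem' := ⟨one_mem _, one_mem _, one_pow _⟩
      mul_mem' := fun {a b} ha hb => ⟨mul_mem ha.1 hb.1, mul_mem ha.2.1 hb.2.1, by
        have hab : Commute a b := (Subgroup.mem_centralizer_iff.mp hb.2.1 a ha.1)
        rw [hab.mul_pow, ha.2.2, hb.2.2, one_mul]⟩
      inv_mem' := fun {a} ha => ⟨inv_mem ha.1, inv_mem ha.2.1, by rw [inv_pow, ha.2.2, inv_one]⟩ }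
  have hCn : (Subgroup.centralizer (T : Set G)).Normal := inferInstance
  haveI hZn : Z0.Normal := ⟨fun x hx g => ⟨hTn.conj_mem x hx.1 g, hCn.conj_mem x hx.2.1 g, by
    rw [conj_pow, hx.2.2, mul_one, mul_inv_cancel]⟩⟩
  have hZe : Cfsg.IsElementaryAbelian p Z0 := ⟨IsMulCommutative.of_comm fun a b =>
    Subtype.ext (Subgroup.mem_centralizer_iff.mp b.2.2.1 a a.2.1), fun x hx => hx.2.2⟩
  have hZT : Z0 ≤ T := fun x hx => hx.1
  have hZle : Nat.card Z0 ≤ p ^ 2 := card_le_sq hr hZe hZT
  have hZne : Z0 ≠ ⊥ := by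
    intro h
    haveI : Nontrivial T := (Subgroup.nontrivial_iff_ne_bot _).mpr hTb
    have hc := hTp.center_nontrivial
    obtain ⟨n, hn⟩ := (hTp.to_subgroup (Subgroup.center T)).exists_card_eq
    have hn0 : n ≠ 0 := by
      rintro rfl
      exact absurd (hn.trans (pow_zero p)) (Finite.one_lt_card).ne'
    obtain ⟨z, hz⟩ := exists_prime_orderOf_dvd_card' (G := Subgroup.center T) p (hn ▸ dvd_pow_self p hn0)
    have hzc : ((z : T) : G) ∈ Z0 := ⟨(z : T).2, Subgroup.mem_centralizer_iff.mpr fun t ht =>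
      congrArg Subtype.val (Subgroup.mem_center_iff.mp z.2 ⟨t, ht⟩), by
        have := congrArg (fun u : Subgroup.center T => ((u : T) : G)) (hz ▸ pow_orderOf_eq_one z : z ^ p = 1)
        simpa using this⟩
    rw [h, Subgroup.mem_bot] at hzc
    rw [show z = 1 from Subtype.ext (Subtype.ext hzc), orderOf_one] at hz
    exact hp.ne_one hz.symm
  have hZcard : Nat.card Z0 = p ∨ Nat.card Z0 = p ^ 2 := by
    obtain ⟨n, hn⟩ := (hTp.to_le hZT).exists_card_eq
    rw [hn] at hZle ⊢
    have : n ≤ 2 := (Nat.pow_le_pow_iff_right hp.one_lt).mp hZle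
    interval_cases n
    · exact absurd (Subgroup.card_eq_one.mp hn) hZne
    · exact Or.inl (pow_one p)
    · exact Or.inr rfl
  letI : CommGroup Z0 := { (inferInstance : Group Z0) with mul_comm := hZe.1.is_comm.comm }
  have hZexp : ∀ a : Z0, a ^ p = 1 := fun a => Subtype.ext (a.2.2.2)
  let ρ : G →* MulAut Z0 := MulAut.conjNormal
  have hρ : ∀ g, ρ g = 1 → ∀ z ∈ Z0, g * z = z * g := by
    intro g hg z hz
    have h : g * z * g⁻¹ = z := by
      have := congrArg (fun f : MulAut Z0 => ((f ⟨z, hz⟩ : Z0) : G)) hg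
      simpa [ρ] using this
    exact mul_inv_eq_iff_eq_mul.mp h
  have hfix : ∀ E : Subgroup G, Cfsg.IsElementaryAbelian p E → E ≤ T →
      (∀ x ∈ T, x ∈ Subgroup.centralizer (E : Set G) → x ^ p = 1 → x ∈ E) →
      ∀ g : G, (orderOf g).Coprime p → (∀ e ∈ E, g * e = e * g) → g ∈ Subgroup.centralizer (T : Set G) := by
    intro E hE hET hmax g hg hge
    have hg' := Cfsg.Agent.S1443.result p hp2 T E (Subgroup.zpowers g) hTp hET hE
      (by rw [Subgroup.normalizer_eq_top]; exact le_top) (by rwa [Nat.card_zpowers])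
      (fun x hx hxp => by
        rw [Subgroup.zpowers_le, Subgroup.mem_centralizer_singleton_iff]
        exact hge x (hmax x hx.1 hx.2 (hxp ▸ pow_orderOf_eq_one x)))
    exact hg' (Subgroup.mem_zpowers g)
  have hadd : ∀ E : Subgroup G, Cfsg.IsElementaryAbelian p E → E ≤ T → Nat.card E = p ^ 2 →
      ∀ x ∈ T, x ∈ Subgroup.centralizer (E : Set G) → x ^ p = 1 → x ∈ E := by
    intro E hE hET hc x hxT hxC hxp
    have hle := card_le_sq hr (Replacement.isEA_sup hE (Replacement.isEA_zpowers hxp)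
      (Subgroup.le_centralizer_iff.mp (Subgroup.zpowers_le.mpr hxC))) (sup_le hET (Subgroup.zpowers_le.mpr hxT))
    rw [Subgroup.eq_of_le_of_card_ge (le_sup_left : E ≤ E ⊔ Subgroup.zpowers x) (hle.trans hc.ge)]
    exact Subgroup.mem_sup_right (Subgroup.mem_zpowers x)
  rcases hZcard with hZp | hZp2
  swap
  · exact conclude hodd hp2 _ hZexp hZexp (Or.inr hZp2) (Or.inr hZp2) ρ ρ fun g hg h1 _ =>
      hfix Z0 hZe hZT (hadd Z0 hZe hZT hZp2) g hg (hρ g h1)
  by_cases hcyc : IsCyclic T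
  · haveI := hcyc
    letI : CommGroup T := IsCyclic.commGroup
    refine conclude hodd hp2 _ hZexp hZexp (Or.inl hZp) (Or.inl hZp) ρ ρ fun g hg h1 _ =>
      hfix Z0 hZe hZT (fun x hxT _ hxp => ⟨hxT, Subgroup.mem_centralizer_iff.mpr fun t ht => ?_, hxp⟩) g hg
        (hρ g h1)
    exact congrArg Subtype.val (mul_comm (⟨t, ht⟩ : T) ⟨x, hxT⟩)
  obtain ⟨E₀, -, hEn, hEe₀, hEc₀⟩ := Fusion.NormalRankTwo.exists_normal_rankTwo hTp hp2
    (S := (⊤ : Subgroup T)) (fun h => hcyc (Subgroup.topEquiv.isCyclic.mp h))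
  set E := E₀.map T.subtype with hEdef
  have hE : Cfsg.IsElementaryAbelian p E := Fusion.Thompson.isEA_map _ hEe₀
  have hET : E ≤ T := Subgroup.map_subtype_le _
  have hEc : Nat.card E = p ^ 2 := by
    rw [hEdef, Subgroup.card_map_of_injective T.subtype_injective, hEc₀]
  have hTE : T ≤ Subgroup.normalizer (E : Set G) := by
    have := Subgroup.le_normalizer_map (H := E₀) T.subtype
    rwa [Subgroup.normalizer_eq_top (H := E₀), ← MonoidHom.range_eq_map, Subgroup.range_subtype] at this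
  have hcomm : ∀ t ∈ T, ∀ e ∈ E, ⁅t, e⁆ ∈ Z0 := by
    set F := ⁅T, E⁆ with hF
    have hFlt : F < E := by
      rw [hF, Subgroup.commutator_comm]
      exact Coprime.commutator_lt_of_isPGroup hTp (hTp.to_le hET) hTE (by
        intro h
        rw [h, Subgroup.card_bot] at hEc
        exact absurd hEc.symm (Nat.one_lt_pow (by norm_num) hp.one_lt).ne')
    have hTF : T ≤ Subgroup.normalizer (F : Set G) :=
      Subgroup.normalizer_commutator_ge_left T E
    have hFc : ⁅F, T⁆ = ⊥ := by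
      by_contra hne
      have hFne : F ≠ ⊥ := fun h => hne (by rw [h, Subgroup.commutator_bot_left])
      have hlt2 := Coprime.commutator_lt_of_isPGroup hTp (hTp.to_le (hFlt.le.trans hET)) hTF hFne
      obtain ⟨i, hi⟩ := (hTp.to_le (hFlt.le.trans hET)).exists_card_eq
      obtain ⟨j, hj⟩ := (hTp.to_le (hlt2.le.trans (hFlt.le.trans hET))).exists_card_eq
      have c1 : Nat.card F < p ^ 2 := hEc ▸ Set.ncard_lt_ncard (SetLike.coe_ssubset_coe.mpr hFlt)
      have c2 : Nat.card (⁅F, T⁆ : Subgroup G) < Nat.card F :=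
        Set.ncard_lt_ncard (SetLike.coe_ssubset_coe.mpr hlt2)
      rw [hi] at c1 c2
      rw [hj] at c2
      have := (Nat.pow_lt_pow_iff_right hp.one_lt).mp c1
      have := (Nat.pow_lt_pow_iff_right hp.one_lt).mp c2
      have hj0 : j = 0 := by omega
      rw [hj0, pow_zero] at hj
      exact hne (Subgroup.card_eq_one.mp hj)
    intro t ht e he
    have hm : ⁅t, e⁆ ∈ F := Subgroup.commutator_mem_commutator ht he
    exact ⟨hET (hFlt.le hm), Subgroup.commutator_eq_bot_iff_le_centralizer.mp hFc hm, hE.2 _ (hFlt.le hm)⟩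
  -- `W`: elements of order `p` of `T` central modulo `Z0`
  have hcent : ∀ z ∈ Z0, ∀ t ∈ T, Commute z t := fun z hz t ht =>
    (Subgroup.mem_centralizer_iff.mp hz.2.1 t ht).symm
  let W : Subgroup G :=
    { carrier := {x | x ∈ T ∧ x ^ p = 1 ∧ ∀ t ∈ T, ⁅t, x⁆ ∈ Z0}
      one_mem' := ⟨one_mem _, one_pow _, fun t _ => by simp⟩
      mul_mem' := fun {a b} ha hb => by
        refine ⟨mul_mem ha.1 hb.1, ?_, fun t ht => ?_⟩
        · set z := ⁅b, a⁆ with hz
          have hzm : z ∈ Z0 := ha.2.2 b hb.1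
          rw [OmegaLemma.mul_pow_central (u := a) (v := b) (z := z) (by simp only [hz, commutatorElement_def]; group)
            (hcent z hzm b hb.1) (hcent z hzm a ha.1) p, ha.2.1, hb.2.1]
          obtain ⟨c, hc⟩ : p ∣ p.choose 2 :=
            hp.dvd_choose_self (by norm_num) (lt_of_le_of_ne hp.two_le (Ne.symm hp2))
          rw [hc, pow_mul, hzm.2.2]; simp
        · rw [Replacement.comm_mul_right (hcent _ (hb.2.2 t ht) a ha.1)]
          exact mul_mem (ha.2.2 t ht) (hb.2.2 t ht)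
      inv_mem' := fun {a} ha => ⟨inv_mem ha.1, by rw [inv_pow, ha.2.1, inv_one], fun t ht => by
        have h := ha.2.2 t ht
        have e : ⁅t, a⁻¹⁆ = a⁻¹ * ⁅t, a⁆⁻¹ * a := by simp only [commutatorElement_def]; group
        rw [e, ((hcent _ (inv_mem h) a ha.1).symm.inv_left).eq, mul_assoc, inv_mul_cancel, mul_one]
        exact inv_mem h⟩ }
  have hWT : W ≤ T := fun x hx => hx.1
  haveI hWn : W.Normal := ⟨fun x hx g => ⟨hTn.conj_mem x hx.1 g, by
    rw [conj_pow, hx.2.1, mul_one, mul_inv_cancel], fun t ht => by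
      have h := hZn.conj_mem _ (hx.2.2 (g⁻¹ * t * g) (by simpa using hTn.conj_mem t ht g⁻¹)) g
      have e : ⁅t, g * x * g⁻¹⁆ = g * ⁅g⁻¹ * t * g, x⁆ * g⁻¹ := by simp only [commutatorElement_def]; group
      rw [e]; exact h⟩⟩
  have hZW : Z0 ≤ W := fun z hz => ⟨hz.1, hz.2.2, fun t ht => by
    rw [commutatorElement_eq_one_iff_mul_comm.mpr (hcent z hz t ht).symm.eq]; exact one_mem _⟩
  have hEW : E ≤ W := fun e he => ⟨hET he, hE.2 e he, fun t ht => hcomm t ht e he⟩
  -- the order of `W`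
  have hEZ : Z0 ≤ E := fun z hz => hadd E hE hET hEc z hz.1
    (Subgroup.mem_centralizer_iff.mpr fun e he => (hcent z hz e (hET he)).symm.eq) hz.2.2
  obtain ⟨e, he, heZ⟩ := SetLike.exists_of_lt (lt_of_le_of_ne hEZ fun h => by
    rw [h, hEc] at hZp
    exact absurd hZp (ne_of_gt (by nlinarith [hp.two_le])))
  have hWE : W ⊓ Subgroup.centralizer ({e} : Set G) ≤ E := by
    rintro w ⟨hw, hwe⟩
    refine hadd E hE hET hEc w hw.1 ?_ hw.2.1
    have hgen : Z0 ⊔ Subgroup.zpowers e = E := by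
      refine Subgroup.eq_of_le_of_card_ge (sup_le hEZ (Subgroup.zpowers_le.mpr he)) ?_
      have hlt : Z0 < Z0 ⊔ Subgroup.zpowers e := lt_of_le_of_ne le_sup_left fun h =>
        heZ (h ▸ Subgroup.mem_sup_right (Subgroup.mem_zpowers e))
      have hsl : Nat.card Z0 < Nat.card (Z0 ⊔ Subgroup.zpowers e : Subgroup G) :=
        Set.ncard_lt_ncard (SetLike.coe_ssubset_coe.mpr hlt)
      obtain ⟨i, hi⟩ := (hTp.to_le (sup_le hZT (Subgroup.zpowers_le.mpr (hET he)) :
        Z0 ⊔ Subgroup.zpowers e ≤ T)).exists_card_eq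
      rw [hi, hZp] at hsl
      rw [hi, hEc]
      refine Nat.pow_le_pow_right hp.pos ?_
      by_contra hlt'
      have : p ^ i ≤ p ^ 1 := Nat.pow_le_pow_right hp.pos (by omega)
      rw [pow_one] at this
      omega
    rw [← hgen, Subgroup.mem_centralizer_iff]
    intro y hy
    have : Z0 ⊔ Subgroup.zpowers e ≤ Subgroup.centralizer ({w} : Set G) := sup_le
      (fun z hz => Subgroup.mem_centralizer_singleton_iff.mpr (hcent z hz w hw.1).eq)
      (Subgroup.zpowers_le.mpr (Subgroup.mem_centralizer_singleton_iff.mpr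
        (Subgroup.mem_centralizer_singleton_iff.mp hwe).symm))
    exact Subgroup.mem_centralizer_singleton_iff.mp (this hy)
  have hidx : (Subgroup.centralizer ({e} : Set G)).relIndex W ≤ p := by
    rw [← hZp]
    let f : W ⧸ (Subgroup.centralizer ({e} : Set G)).subgroupOf W → Z0 := fun x =>
      ⟨⁅e, ((x.out : W) : G)⁆, (x.out : W).2.2.2 e (hET he)⟩
    refine Nat.card_le_card_of_injective f ?_
    intro x y hxy
    rw [← Quotient.out_eq x, ← Quotient.out_eq y]
    refine QuotientGroup.eq.mpr ?_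
    rw [Subgroup.mem_subgroupOf, Subgroup.mem_centralizer_singleton_iff]
    have h : ⁅e, ((x.out : W) : G)⁆ = ⁅e, ((y.out : W) : G)⁆ := congrArg Subtype.val hxy
    simp only [commutatorElement_def] at h
    set a := ((x.out : W) : G)
    set b := ((y.out : W) : G)
    have h2 : a * e⁻¹ * a⁻¹ = b * e⁻¹ * b⁻¹ := by simpa [mul_assoc] using h
    have h3 : a * e * a⁻¹ = b * e * b⁻¹ := by
      have := congrArg (·⁻¹) h2
      simpa [mul_assoc] using this
    show a⁻¹ * b * e = e * (a⁻¹ * b)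
    calc a⁻¹ * b * e = a⁻¹ * (b * e * b⁻¹) * b := by group
      _ = a⁻¹ * (a * e * a⁻¹) * b := by rw [h3]
      _ = _ := by group
  have hWcard : Nat.card W ≤ p ^ 3 := by
    have h1 := Subgroup.relIndex_mul_relIndex ⊥ (W ⊓ Subgroup.centralizer ({e} : Set G)) W bot_le inf_le_left
    rw [Subgroup.relIndex_bot_left, Subgroup.relIndex_bot_left, inf_comm, Subgroup.inf_relIndex_right] at h1
    rw [← h1, inf_comm]
    calc _ ≤ p ^ 2 * p := Nat.mul_le_mul ((Subgroup.card_le_of_le hWE).trans hEc.le) hidx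
      _ = p ^ 3 := by ring
  set Z' := Z0.subgroupOf W with hZ'
  letI : CommGroup (W ⧸ Z') :=
    { (inferInstance : Group (W ⧸ Z')) with
      mul_comm := fun a b => by
        obtain ⟨a, rfl⟩ := QuotientGroup.mk'_surjective _ a
        obtain ⟨b, rfl⟩ := QuotientGroup.mk'_surjective _ b
        apply commutatorElement_eq_one_iff_mul_comm.mp
        rw [← map_commutatorElement]
        exact (QuotientGroup.eq_one_iff _).mpr (b.2.2.2 a a.2.1) }
  have hQexp : ∀ a : W ⧸ Z', a ^ p = 1 := by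
    intro a
    obtain ⟨a, rfl⟩ := QuotientGroup.mk'_surjective _ a
    rw [← map_pow, show a ^ p = 1 from Subtype.ext a.2.2.1, map_one]
  have hQcard : Nat.card (W ⧸ Z') = p ∨ Nat.card (W ⧸ Z') = p ^ 2 := by
    have h1 := Subgroup.card_eq_card_quotient_mul_card_subgroup Z'
    rw [Nat.card_congr (Subgroup.subgroupOfEquivOfLe hZW).toEquiv, hZp] at h1
    obtain ⟨n, hn⟩ := (hTp.to_le hWT).exists_card_eq
    have hlow : p ^ 2 ≤ Nat.card W := hEc ▸ Subgroup.card_le_of_le hEW
    rw [hn] at h1 hlow hWcard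
    have h2n := (Nat.pow_le_pow_iff_right hp.one_lt).mp hlow
    have hn3 := (Nat.pow_le_pow_iff_right hp.one_lt).mp hWcard
    interval_cases n
    · left; exact (Nat.eq_of_mul_eq_mul_right hp.pos (by linarith [h1, sq p] : Nat.card (W ⧸ Z') * p = p * p))
    · right; exact Nat.eq_of_mul_eq_mul_right hp.pos (by rw [← h1]; ring)
  have hcongr : ∀ g : G, Z'.map (MulAut.conjNormal g : MulAut W).toMonoidHom = Z' := by
    intro g
    ext x
    constructor
    · rintro ⟨y, hy, rfl⟩
      simpa [hZ', Subgroup.mem_subgroupOf] using hZn.conj_mem _ hy g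
    · intro hx
      refine ⟨(MulAut.conjNormal g : MulAut W).symm x, ?_, by simp⟩
      simpa [hZ', Subgroup.mem_subgroupOf, MulAut.conjNormal_symm_apply] using hZn.conj_mem _ hx g⁻¹
  let σ : G →* MulAut (W ⧸ Z') :=
    { toFun := fun g => QuotientGroup.congr Z' Z' (MulAut.conjNormal g) (hcongr g)
      map_one' := MulEquiv.ext fun x => by
        obtain ⟨x, rfl⟩ := QuotientGroup.mk'_surjective _ x
        simp
      map_mul' := fun g h => MulEquiv.ext fun x => by
        obtain ⟨x, rfl⟩ := QuotientGroup.mk'_surjective _ x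
        show QuotientGroup.congr Z' Z' (MulAut.conjNormal (g * h)) (hcongr (g * h)) (QuotientGroup.mk x) =
          QuotientGroup.congr Z' Z' (MulAut.conjNormal g) (hcongr g)
            (QuotientGroup.congr Z' Z' (MulAut.conjNormal h) (hcongr h) (QuotientGroup.mk x))
        exact congrArg QuotientGroup.mk (by rw [map_mul]; rfl :
          (MulAut.conjNormal (g * h) : MulAut W) x = (MulAut.conjNormal g : MulAut W) ((MulAut.conjNormal h : MulAut W) x)) }
  refine conclude hodd hp2 _ hZexp hQexp (Or.inl hZp) hQcard ρ σ fun g hg h1 h2 => ?_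
  refine hfix E hE hET (hadd E hE hET hEc) g hg fun x hx => ?_
  refine Coprime.commute_of_stabilizes (N := Z0) ?_ ?_ ?_
  · exact (by rw [hZp]; exact hg : (orderOf g).Coprime (Nat.card Z0))
  · exact Subgroup.mem_centralizer_iff.mpr fun z hz => (hρ g h1 z hz).symm
  · have h3 := congrArg (fun f : MulAut (W ⧸ Z') => f (QuotientGroup.mk' Z' ⟨x, hEW hx⟩)) h2
    simp [σ] at h3
    have h4 := QuotientGroup.eq.mp h3
    rw [hZ', Subgroup.mem_subgroupOf] at h4
    simp at h4
    have h5 := inv_mem (hZn.conj_mem _ h4 x)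
    have e : ⁅g, x⁆ = g * x * g⁻¹ * x⁻¹ := commutatorElement_def g x
    rw [e]
    simp [mul_assoc] at h5 ⊢
    exact h5

/-- The core statement: a normal `p`-subgroup of rank at most two centralised by no nontrivial `p'`-element. -/
theorem coreOf [Group.IsSolvable G] (hodd : Odd (Nat.card G)) (hp2 : p ≠ 2) (T : Subgroup G) [T.Normal]
    (hTp : IsPGroup p T) (hr : Cfsg.PRankLE p 2 T)
    (hcons : ∀ g : G, (orderOf g).Coprime p → g ∈ Subgroup.centralizer (T : Set G) → g = 1) :
    commutator G ≤ Cfsg.pCore p G ∧ (Cfsg.pCore p G).index.Coprime p ∧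
      ∀ q : ℕ, q.Prime → q ∣ Nat.card G → q ≤ p := by
  have hp : p.Prime := Fact.out
  obtain ⟨hA, hB⟩ := coreAct hodd hp2 T hTp hr
  have h1 : commutator G ≤ Cfsg.pCore p G := Solvable.Cores.le_pCore fun g => by
    obtain ⟨k, m, hm, hkm⟩ := Nat.exists_eq_pow_mul_and_not_dvd (orderOf_pos (g : G)).ne' p hp.ne_one
    have hcop : (orderOf ((g : G) ^ p ^ k)).Coprime p := by
      rw [orderOf_pow_of_dvd (pow_ne_zero _ hp.ne_zero) (hkm ▸ Dvd.intro _ rfl), hkm,
        Nat.mul_div_cancel_left _ (pow_pos hp.pos _)]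
      exact ((hp.coprime_iff_not_dvd).mpr hm).symm
    exact ⟨k, Subtype.ext (hcons _ hcop (hA _ (pow_mem g.2 _) hcop))⟩
  refine ⟨h1, ?_, fun q hq hqG => ?_⟩
  · obtain ⟨S⟩ : Nonempty (Sylow p G) := inferInstance
    have hST : (S : Subgroup G) ≤ Cfsg.pCore p G := by
      haveI : ((S : Subgroup G) ⊔ Cfsg.pCore p G).Normal := Subgroup.Normal.of_commutator_le (h := h1.trans le_sup_right)
      have : IsPGroup p ((S : Subgroup G) ⊔ Cfsg.pCore p G : Subgroup G) :=
        IsPGroup.to_sup_of_normal_right S.isPGroup' (Solvable.Cores.isPGroup_pCore p)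
      exact le_sup_left.trans (Solvable.Cores.le_pCore this)
    exact Nat.Coprime.coprime_dvd_left (Subgroup.index_dvd_of_le hST)
      ((hp.coprime_iff_not_dvd).mpr S.not_dvd_index).symm
  · by_contra hle
    push Not at hle
    haveI := Fact.mk hq
    obtain ⟨g, hg⟩ := exists_prime_orderOf_dvd_card' (G := G) q hqG
    have hcop : (orderOf g).Coprime p := by rw [hg]; exact (Nat.coprime_primes hq hp).mpr hle.ne'
    rw [hcons g hcop (hB q hq hle g ⟨1, by rw [hg, pow_one]⟩), orderOf_one] at hg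
    exact hq.ne_one hg.symm

/-- Trivial `p'`-core and a `p`-core of rank at most two. -/
theorem core [Group.IsSolvable G] (hodd : Odd (Nat.card G)) (hp2 : p ≠ 2)
    (hO : Cfsg.pPrimeCore p G = ⊥) (hr : Cfsg.PRankLE p 2 (Cfsg.pCore p G)) :
    commutator G ≤ Cfsg.pCore p G ∧ (Cfsg.pCore p G).index.Coprime p ∧
      ∀ q : ℕ, q.Prime → q ∣ Nat.card G → q ≤ p :=
  coreOf hodd hp2 (Cfsg.pCore p G) (Solvable.Cores.isPGroup_pCore p) hr fun _ hg h =>
    eq_one_of_centralizes (Solvable.Cores.isPGroup_pCore p)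
      (Fusion.PSolvable.centralizer_pCore_le Fusion.PSolvable.psolvable_of_solvable hO) hg h

/-- General form: the quotient by `O_{p'}`. -/
theorem main [Group.IsSolvable G] (hodd : Odd (Nat.card G)) (hp2 : p ≠ 2) (hr : Cfsg.PRankLE p 2 G) :
    commutator G ≤ Cfsg.pPrimePCore p G ∧ ((Cfsg.pPrimePCore p G).index).Coprime p ∧
      ∀ q : ℕ, q.Prime → q ∣ (Cfsg.pPrimeCore p G).index → q ≤ p := by
  set O := Cfsg.pPrimeCore p G with hO
  set f := QuotientGroup.mk' O with hf
  have hfs : Function.Surjective f := QuotientGroup.mk'_surjective O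
  obtain ⟨S⟩ : Nonempty (Sylow p G) := inferInstance
  have hr' : Cfsg.PRankLE p 2 (Cfsg.pCore p (G ⧸ O)) := by
    intro A hAc hAe
    set A' := A.map (Cfsg.pCore p (G ⧸ O)).subtype with hA'
    have hA'e : Cfsg.IsElementaryAbelian p A' := Fusion.Thompson.isEA_map _ ⟨hAc, hAe⟩
    set B := ((S : Subgroup G) ⊓ A'.comap f) with hB
    have hmap : B.map f = A' := by
      refine le_antisymm ((Subgroup.map_mono inf_le_right).trans (Subgroup.map_comap_le _ _)) fun a ha => ?_
      have hle : A' ≤ (S : Subgroup G).map f := by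
        refine (Subgroup.map_subtype_le A).trans ?_
        have := Solvable.Cores.pCore_le_sylow (S.mapSurjective hfs)
        rwa [Sylow.coe_mapSurjective] at this
      obtain ⟨s, hs, rfl⟩ := hle ha
      exact ⟨s, ⟨hs, ha⟩, rfl⟩
    have hinj : ∀ b ∈ B, f b = 1 → b = 1 := fun b hb h =>
      PLengthOne.eq_one_of_mem S hb.1 ((QuotientGroup.eq_one_iff b).mp h)
    have hBe : Cfsg.IsElementaryAbelian p B := by
      refine ⟨IsMulCommutative.of_comm fun a b => Subtype.ext ?_, fun b hb => ?_⟩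
      · have h := hinj ⁅(a : G), (b : G)⁆ (by
          exact mul_mem (mul_mem (mul_mem a.2 b.2) (inv_mem a.2)) (inv_mem b.2)) (by
          rw [map_commutatorElement, commutatorElement_eq_one_iff_mul_comm]
          exact Fusion.Thompson.mul_comm_of_isEA hA'e a.2.2 b.2.2)
        exact commutatorElement_eq_one_iff_mul_comm.mp h
      · exact hinj _ (pow_mem hb p) (by rw [map_pow]; exact hA'e.2 _ hb.2)
    calc Nat.card A = Nat.card A' := (Subgroup.card_map_of_injective (Subgroup.subtype_injective _)).symm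
      _ = Nat.card (B.map f) := by rw [hmap]
      _ ≤ Nat.card B := Nat.le_of_dvd Nat.card_pos (B.card_map_dvd f)
      _ ≤ p ^ 2 := hr B hBe.1 hBe.2
  obtain ⟨h1, h2, h3⟩ := core (Odd.of_dvd_nat hodd (Subgroup.card_quotient_dvd_card O)) hp2
    Components.pPrimeCore_quotient_eq_bot hr'
  refine ⟨?_, ?_, fun q hq hd => h3 q hq (by rwa [← Subgroup.index_eq_card])⟩
  · show commutator G ≤ (Cfsg.pCore p (G ⧸ O)).comap f
    rw [← Subgroup.map_le_iff_le_comap, commutator_def, Subgroup.map_commutator,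
      Subgroup.map_top_of_surjective f hfs]
    exact h1
  · show (((Cfsg.pCore p (G ⧸ O)).comap f).index).Coprime p
    rwa [Subgroup.index_comap_of_surjective _ hfs]

end CfsgLib.OddOrder.RankTwo
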