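import Cfsg.Agent.S1399
import Cfsg.Agent.Lib.OddOrder.SCN3
import Cfsg.Agent.Lib.OddOrder.RankTwo
import Cfsg.Agent.Lib.OddOrder.FixedPointFree
import Mathlib

set_option autoImplicit false

/-!
Uniqueness passes between abelian subgroups of rank three and noncyclic subgroups centralising them.
-/

namespace CfsgLib.OddOrder.UniqueTools

variable {G : Type*} [Group G] {p : ℕ}

theorem le_of_unique {X Y M : Subgroup G} [Finite G] (h : Cfsg.InUniqueMaximal X) (hM : IsCoatom M) (hXM : X ≤ M)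
    (hXY : X ≤ Y) (hY : Y ≠ ⊤) : Y ≤ M := by
  obtain ⟨H, hH, hYH⟩ := (eq_top_or_exists_le_coatom Y).resolve_left hY
  obtain ⟨M₀, -, hu⟩ := h
  rw [(hu M ⟨hM, hXM⟩), ← hu H ⟨hH, hXY.trans hYH⟩]
  exact hYH

theorem unique_mono [Finite G] {X Y : Subgroup G} (h : Cfsg.InUniqueMaximal X) (hXY : X ≤ Y) (hY : Y ≠ ⊤) :
    Cfsg.InUniqueMaximal Y := by
  obtain ⟨H, hH, hYH⟩ := (eq_top_or_exists_le_coatom Y).resolve_left hY
  obtain ⟨M₀, -, hu⟩ := h
  exact ⟨H, ⟨hH, hYH⟩, fun L hL =>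
    (hu L ⟨hL.1, hXY.trans hL.2⟩).trans (hu H ⟨hH, hXY.trans hYH⟩).symm⟩

theorem unique_map {H : Type*} [Group H] (f : G ≃* H) {X : Subgroup G} (h : Cfsg.InUniqueMaximal X) :
    Cfsg.InUniqueMaximal (X.map f.toMonoidHom) := by
  obtain ⟨M, ⟨hM, hXM⟩, hu⟩ := h
  refine ⟨M.map f.toMonoidHom, ⟨(OrderIso.isCoatom_iff (MulEquiv.mapSubgroup f) M).mpr hM,
    Subgroup.map_mono hXM⟩, fun L hL => ?_⟩
  obtain ⟨L₀, hL₀⟩ := (MulEquiv.mapSubgroup f).surjective L
  subst hL₀
  have h1 : IsCoatom L₀ := (OrderIso.isCoatom_iff (MulEquiv.mapSubgroup f) L₀).mp hL.1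
  have h2 : X ≤ L₀ := (Subgroup.map_le_map_iff_of_injective (f := f.toMonoidHom) f.injective).mp hL.2
  rw [hu L₀ ⟨h1, h2⟩]
  rfl

theorem not_rankLE_one [Finite G] [hp : Fact p.Prime] {E K : Subgroup G} (hE : Cfsg.IsElementaryAbelian p E)
    (hc : p ^ 2 ≤ Nat.card E) (hEK : E ≤ K) : ¬ Cfsg.RankLE 1 K := by
  intro h
  have h1 := Fusion.Thompson.isEA_subgroupOf hE K
  have := h p hp.out (E.subgroupOf K) h1.1 h1.2
  rw [Nat.card_congr (Subgroup.subgroupOfEquivOfLe hEK).toEquiv] at this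
  exact absurd (Nat.pow_lt_pow_right hp.out.one_lt (show 1 < 2 by norm_num)) (not_lt.mpr (hc.trans this))

theorem exists_isEA_of_not_rankLE [Finite G] [hp : Fact p.Prime] {k : ℕ} {K : Subgroup G}
    (h : ¬ Cfsg.PRankLE p k K) :
    ∃ E : Subgroup G, E ≤ K ∧ Cfsg.IsElementaryAbelian p E ∧ p ^ (k + 1) ≤ Nat.card E := by
  simp only [Cfsg.PRankLE] at h
  push Not at h
  obtain ⟨E₀, hc, he, hcard⟩ := h
  refine ⟨E₀.map K.subtype, Subgroup.map_subtype_le _, Fusion.Thompson.isEA_map _ ⟨hc, he⟩, ?_⟩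
  rw [Subgroup.card_map_of_injective K.subtype_injective]
  obtain ⟨j, hj⟩ := (Fusion.Thompson.isPGroup_isEA (⟨hc, he⟩ : Cfsg.IsElementaryAbelian p E₀)).exists_card_eq
  rw [hj] at hcard ⊢
  exact Nat.pow_le_pow_right hp.out.pos ((Nat.pow_lt_pow_iff_right hp.out.one_lt).mp hcard)

theorem not_pRankLE_of_isEA [Finite G] [hp : Fact p.Prime] {k : ℕ} {E K : Subgroup G}
    (hE : Cfsg.IsElementaryAbelian p E) (hc : p ^ (k + 1) ≤ Nat.card E) (hEK : E ≤ K) : ¬ Cfsg.PRankLE p k K := by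
  intro h
  have h1 := Fusion.Thompson.isEA_subgroupOf hE K
  have := h (E.subgroupOf K) h1.1 h1.2
  rw [Nat.card_congr (Subgroup.subgroupOfEquivOfLe hEK).toEquiv] at this
  exact absurd (Nat.pow_lt_pow_right hp.out.one_lt (Nat.lt_succ_self k)) (not_lt.mpr (hc.trans this))

variable [Finite G] [hp : Fact p.Prime]

/-- A noncyclic `p`-group (`p` odd) contains an elementary abelian subgroup of order `p ^ 2`. -/
theorem exists_isEA_sq (hp2 : p ≠ 2) {B : Subgroup G} (hB : IsPGroup p B) (hnc : ¬ IsCyclic B) :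
    ∃ E : Subgroup G, E ≤ B ∧ Cfsg.IsElementaryAbelian p E ∧ p ^ 2 ≤ Nat.card E := by
  haveI : Nontrivial B := by
    by_contra h
    rw [not_nontrivial_iff_subsingleton] at h
    exact hnc inferInstance
  haveI := hB.center_nontrivial
  obtain ⟨z, hz⟩ := exists_prime_orderOf_dvd_card' (G := Subgroup.center B) p
    ((hB.to_subgroup _).card_eq_or_dvd.resolve_left (Finite.one_lt_card (α := Subgroup.center B)).ne')
  have hzo : orderOf (z : B) = p := by rw [Subgroup.orderOf_coe]; exact hz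
  obtain ⟨w, hw, hwz⟩ : ∃ w : B, w ^ p = 1 ∧ w ∉ Subgroup.zpowers (z : B) := by
    by_contra hn
    push Not at hn
    apply hnc
    refine FixedPointFree.isCyclic_of_unique_order_p hp2 hB fun x y hx hy hx1 => ?_
    have hxz := hn x hx
    have he : Subgroup.zpowers x = Subgroup.zpowers (z : B) := by
      refine Subgroup.eq_of_le_of_card_ge (Subgroup.zpowers_le.mpr hxz) ?_
      rw [Nat.card_zpowers, Nat.card_zpowers, hzo, orderOf_eq_prime hx hx1]
    rw [he]; exact hn y hy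
  have hE := Replacement.isEA_sup (Replacement.isEA_zpowers (p := p) (x := (z : B))
      (hzo ▸ pow_orderOf_eq_one _)) (Replacement.isEA_zpowers hw) (by
    rw [Subgroup.zpowers_le, Subgroup.mem_centralizer_iff]
    exact fun a _ => Subgroup.mem_center_iff.mp z.2 a)
  refine ⟨_, Subgroup.map_subtype_le _, Fusion.Thompson.isEA_map B.subtype hE, ?_⟩
  rw [Subgroup.card_map_of_injective B.subtype_injective]
  obtain ⟨j, hj⟩ := (Fusion.Thompson.isPGroup_isEA hE).exists_card_eq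
  have hlt : Nat.card (Subgroup.zpowers (z : B)) < Nat.card ↥(Subgroup.zpowers (z : B) ⊔ Subgroup.zpowers w) :=
    Set.ncard_lt_ncard (SetLike.coe_ssubset_coe.mpr (lt_of_le_of_ne le_sup_left fun h => hwz (h ▸
      Subgroup.mem_sup_right (Subgroup.mem_zpowers w))))
  rw [Nat.card_zpowers, hzo, hj] at hlt
  rw [hj]
  exact Nat.pow_le_pow_right hp.out.pos ((Nat.pow_lt_pow_iff_right hp.out.one_lt).mp (by rwa [pow_one]))

/-- The centraliser of a normal subgroup of order `p ^ 2` has index at most `p`. -/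
theorem relIndex_centralizer_sq {P U : Subgroup G} (hP : IsPGroup p P) (hUP : U ≤ P)
    (hPU : P ≤ Subgroup.normalizer (U : Set G)) (hU : Nat.card U = p ^ 2) :
    (Subgroup.centralizer (U : Set G)).relIndex P ≤ p := by
  haveI := hP.isNilpotent
  haveI : (U.subgroupOf P).Normal := (Subgroup.normal_subgroupOf_iff_le_normalizer hUP).mpr hPU
  have hU1 : U.subgroupOf P ≠ ⊥ := fun h => by
    have := Nat.card_congr (Subgroup.subgroupOfEquivOfLe hUP).toEquiv
    rw [h, Subgroup.card_bot, hU] at this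
    exact absurd this.symm (Nat.one_lt_pow (by norm_num) hp.out.one_lt).ne'
  have hne := Solvable.FrattiniFitting.inf_center_ne_bot (U.subgroupOf P) hU1
  obtain ⟨z, hz, hz1⟩ : ∃ z ∈ U.subgroupOf P ⊓ Subgroup.center P, z ≠ 1 := by
    by_contra h
    push Not at h
    exact hne (eq_bot_iff.mpr fun x hx => Subgroup.mem_bot.mpr (h x hx))
  obtain ⟨hzU, hzc⟩ := Subgroup.mem_inf.mp hz
  by_cases hle : U ≤ Subgroup.centralizer (P : Set G)
  · rw [Subgroup.relIndex_eq_one.mpr (Subgroup.le_centralizer_iff.mp hle)]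
    exact hp.out.one_le
  obtain ⟨e, he, hec⟩ := SetLike.not_le_iff_exists.mp hle
  refine le_trans ?_ (SCNTransitivity.relIndex_centralizer_le hP hUP hPU hU he)
  have hp' : IsPGroup p U := hP.to_le hUP
  set V := U ⊓ Subgroup.centralizer ((P ⊓ Subgroup.centralizer ({e} : Set G) : Subgroup G) : Set G) with hV
  have hVU : V = U := by
    refine Subgroup.eq_of_le_of_card_ge inf_le_left ?_
    obtain ⟨j, hj⟩ := (hp'.to_le (inf_le_left : V ≤ U)).exists_card_eq
    have hzV : (z : G) ∈ V := ⟨hzU, Subgroup.mem_centralizer_iff.mpr fun x hx =>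
      congrArg Subtype.val (Subgroup.mem_center_iff.mp hzc ⟨x, hx.1⟩)⟩
    have heV : e ∈ V := ⟨he, Subgroup.mem_centralizer_iff.mpr fun x hx =>
      Subgroup.mem_centralizer_singleton_iff.mp hx.2⟩
    have hlt : Nat.card (Subgroup.zpowers (z : G)) < Nat.card V := by
      refine Set.ncard_lt_ncard (SetLike.coe_ssubset_coe.mpr (lt_of_le_of_ne (Subgroup.zpowers_le.mpr hzV)
        fun h => hec ?_))
      rw [← h] at heV
      obtain ⟨i, rfl⟩ := Subgroup.mem_zpowers_iff.mp heV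
      exact zpow_mem (Subgroup.mem_centralizer_iff.mpr fun x hx =>
        congrArg Subtype.val (Subgroup.mem_center_iff.mp hzc ⟨x, hx⟩)) i
    obtain ⟨i, hi⟩ := (hP.to_le (Subgroup.zpowers_le.mpr z.2)).exists_card_eq
    have hi1 : 1 ≤ i := by
      rcases Nat.eq_zero_or_pos i with rfl | h
      · rw [pow_zero, Nat.card_zpowers, orderOf_eq_one_iff] at hi
        exact absurd (Subtype.ext hi) hz1
      · exact h
    rw [hi, hj] at hlt
    rw [hU, hj]
    have := (Nat.pow_lt_pow_iff_right hp.out.one_lt).mp hlt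
    exact Nat.pow_le_pow_right hp.out.pos (by omega)
  have hle' : P ⊓ Subgroup.centralizer ({e} : Set G) ≤ Subgroup.centralizer (U : Set G) := by
    rw [Subgroup.le_centralizer_iff]; exact hVU.ge.trans inf_le_right
  rw [← Subgroup.inf_relIndex_right (H := Subgroup.centralizer (U : Set G)) (K := P),
    ← Subgroup.inf_relIndex_right (H := Subgroup.centralizer ({e} : Set G)) (K := P)]
  refine Nat.le_of_dvd (Nat.pos_of_ne_zero Subgroup.index_ne_zero_of_finite) (Subgroup.relIndex_dvd_of_le_left P ?_)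
  exact le_inf (by rw [inf_comm]; exact hle') inf_le_right

/-- In a `p`-group `P`, an elementary abelian `E` of order at least `p ^ 3` has a subgroup of order at least
`p ^ 2` centralising a normal `U` of order `p ^ 2`. -/
theorem card_centralizer_inf {P U E : Subgroup G} (hP : IsPGroup p P) (hUP : U ≤ P)
    (hPU : P ≤ Subgroup.normalizer (U : Set G)) (hU : Nat.card U = p ^ 2) (hEP : E ≤ P)
    (hE3 : p ^ 3 ≤ Nat.card E) : p ^ 2 ≤ Nat.card ↥(E ⊓ Subgroup.centralizer (U : Set G)) := by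
  have h1 : (Subgroup.centralizer (U : Set G)).relIndex E ≤ p :=
    (Subgroup.relIndex_le_of_le_right hEP Subgroup.index_ne_zero_of_finite).trans
      (relIndex_centralizer_sq hP hUP hPU hU)
  have h2 : Nat.card E = Nat.card ↥(E ⊓ Subgroup.centralizer (U : Set G)) *
      (Subgroup.centralizer (U : Set G)).relIndex E := by
    conv_lhs => rw [← Subgroup.card_mul_index ((E ⊓ Subgroup.centralizer (U : Set G)).subgroupOf E)]
    rw [Nat.card_congr (Subgroup.subgroupOfEquivOfLe inf_le_left).toEquiv]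
    congr 1
    show (E ⊓ Subgroup.centralizer (U : Set G)).relIndex E = _
    rw [inf_comm, Subgroup.inf_relIndex_right]
  have h3 : p ^ 3 ≤ Nat.card ↥(E ⊓ Subgroup.centralizer (U : Set G)) * p :=
    hE3.trans (h2.le.trans (Nat.mul_le_mul_left _ h1))
  rw [pow_succ] at h3
  exact Nat.le_of_mul_le_mul_right h3 hp.out.pos

/-- All elementary abelian subgroups of order at least `p ^ 3` are unique, once one is. -/
theorem rank_three_unique (hG : Cfsg.IsMinSimpleOddOrder G) (hp2 : p ≠ 2) {A : Subgroup G} (hAp : IsPGroup p A)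
    (hAc : IsMulCommutative A) (hA3 : ¬ Cfsg.PRankLE p 2 A) (hAU : Cfsg.InUniqueMaximal A)
    {E : Subgroup G} (hEe : Cfsg.IsElementaryAbelian p E) (hE3 : p ^ 3 ≤ Nat.card E) :
    Cfsg.InUniqueMaximal E := by
  haveI := hAc
  obtain ⟨S, hAS⟩ := hAp.exists_le_sylow
  obtain ⟨A₀, hA₀A, hA₀e, hA₀3⟩ := exists_isEA_of_not_rankLE hA3
  obtain ⟨W, -, hWn, hWe, hW3⟩ := SCN3.exists_normal_isEA (R := (S : Subgroup G)) hp2 S.isPGroup'
    (not_pRankLE_of_isEA hA₀e hA₀3 (hA₀A.trans hAS)) ⊥ (Fusion.Thompson.isEA_bot)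
  haveI := hWn
  obtain ⟨U₀, -, hU₀n, hU₀e, hU₀c⟩ := Fusion.NormalRankTwo.exists_of_abelian S.isPGroup' (A := W) hWe.1
    (SCNTransitivity.not_isCyclic_of_card hWe (lt_of_lt_of_le
      (by simpa using Nat.pow_lt_pow_right hp.out.one_lt (show 1 < 3 by norm_num)) hW3))
  set U := U₀.map (S : Subgroup G).subtype with hU
  have hUS : U ≤ (S : Subgroup G) := Subgroup.map_subtype_le _
  have hUe : Cfsg.IsElementaryAbelian p U := Fusion.Thompson.isEA_map _ hU₀e
  have hUc : Nat.card U = p ^ 2 := by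
    rw [hU, Subgroup.card_map_of_injective (S : Subgroup G).subtype_injective, hU₀c]
  have hSU : (S : Subgroup G) ≤ Subgroup.normalizer (U : Set G) := by
    haveI := hU₀n
    have h := Subgroup.le_normalizer_map (H := U₀) (S : Subgroup G).subtype
    rwa [Subgroup.normalizer_eq_top (H := U₀), ← MonoidHom.range_eq_map, Subgroup.range_subtype] at h
  have hA₁ := card_centralizer_inf S.isPGroup' hUS hSU hUc (hA₀A.trans hAS) hA₀3
  set A₁ := A₀ ⊓ Subgroup.centralizer (U : Set G) with hA₁def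
  have hA₁e : Cfsg.IsElementaryAbelian p A₁ := Fusion.Thompson.isEA_le hA₀e inf_le_left
  have hA₁U := Cfsg.Agent.S1399.result hG A A₁ hAU
    ((inf_le_left.trans hA₀A).trans A.le_centralizer) (not_rankLE_one hA₁e hA₁ le_rfl)
  have hUU := Cfsg.Agent.S1399.result hG A₁ U hA₁U
    (Subgroup.le_centralizer_iff.mp inf_le_right) (not_rankLE_one hUe hUc.ge le_rfl)
  obtain ⟨S', hES'⟩ := (Fusion.Thompson.isPGroup_isEA hEe).exists_le_sylow
  obtain ⟨g, hg⟩ := MulAction.exists_smul_eq G S S'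
  set U' := U.map (MulAut.conj g).toMonoidHom with hU'
  have hS' : (S' : Subgroup G) = (S : Subgroup G).map (MulAut.conj g).toMonoidHom := by
    rw [← hg, Sylow.coe_subgroup_smul]; rfl
  have h2 : p ^ 2 ≤ Nat.card ↥(E ⊓ Subgroup.centralizer (U' : Set G)) := by
    refine card_centralizer_inf S'.isPGroup' (by rw [hS']; exact Subgroup.map_mono hUS) ?_ ?_ hES' hE3
    · rw [hS']; exact (Subgroup.map_mono hSU).trans (Subgroup.le_normalizer_map _)
    · rw [hU', Subgroup.card_map_of_injective (MulAut.conj g).injective, hUc]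
  have h3 := Cfsg.Agent.S1399.result hG U' (E ⊓ Subgroup.centralizer (U' : Set G))
    (unique_map (MulAut.conj g) hUU) inf_le_right
    (not_rankLE_one (Fusion.Thompson.isEA_le hEe inf_le_left) h2 le_rfl)
  refine unique_mono h3 inf_le_left fun h => ?_
  subst h
  exact hG.2.2.1 ⟨⟨fun a b => congrArg Subtype.val (hEe.1.1.comm ⟨a, Subgroup.mem_top a⟩ ⟨b, Subgroup.mem_top b⟩)⟩⟩

/-- A noncyclic `p`-subgroup centralised by some subgroup of rank three is unique. -/
theorem noncyclic_unique (hG : Cfsg.IsMinSimpleOddOrder G) (hp2 : p ≠ 2) {A : Subgroup G} (hAp : IsPGroup p A)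
    (hAc : IsMulCommutative A) (hA3 : ¬ Cfsg.PRankLE p 2 A) (hAU : Cfsg.InUniqueMaximal A)
    {B : Subgroup G} (hBp : IsPGroup p B) (hBnc : ¬ IsCyclic B)
    (hB3 : ¬ Cfsg.PRankLE p 2 ↥(Subgroup.centralizer (B : Set G))) : Cfsg.InUniqueMaximal B := by
  obtain ⟨E, hEB, hEe, hE3⟩ := exists_isEA_of_not_rankLE hB3
  obtain ⟨B₀, hB₀, hB₀e, hB₀c⟩ := exists_isEA_sq hp2 hBp hBnc
  have h1 := Cfsg.Agent.S1399.result hG E B₀ (rank_three_unique hG hp2 hAp hAc hA3 hAU hEe hE3)
    (hB₀.trans (Subgroup.le_centralizer_iff.mp hEB)) (not_rankLE_one hB₀e hB₀c le_rfl)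
  refine unique_mono h1 hB₀ fun h => ?_
  haveI : Group.IsNilpotent B := hBp.isNilpotent
  refine Uniqueness.normalizer_ne_top hG.2 (P := B) (fun hb => hBnc (by subst hb; infer_instance)) inferInstance ?_
  rw [h]
  exact Subgroup.normalizer_eq_top_iff.mpr inferInstance

theorem ne_two (hodd : Odd (Nat.card G)) {A : Subgroup G} (hA3 : ¬ Cfsg.PRankLE p 2 A) : p ≠ 2 := by
  obtain ⟨E, -, hEe, hE3⟩ := exists_isEA_of_not_rankLE hA3
  intro h
  have hd : p ∣ Nat.card E := (Fusion.Thompson.isPGroup_isEA hEe).card_eq_or_dvd.resolve_left fun h1 => by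
    rw [h1] at hE3
    exact absurd hE3 (not_le.mpr (Nat.one_lt_pow (by norm_num) hp.out.one_lt))
  exact Nat.not_even_iff_odd.mpr hodd (even_iff_two_dvd.mpr (h ▸ hd.trans E.card_subgroup_dvd_card))

end CfsgLib.OddOrder.UniqueTools
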