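import Cfsg.Agent.Lib.Coprime.Action
import Cfsg.Agent.Lib.OddOrder.StableAction
import Cfsg.Agent.Lib.Fusion.OmegaMetacyclic
import Cfsg.Agent.Lib.OddOrder.UniqueTools
import Cfsg.Agent.Lib.Coprime.Abelian
import Cfsg.Prelude.Def_OddOrderLocal
import Mathlib

set_option autoImplicit false

/-!
Coprime action on metacyclic `p`-groups, `p` odd.
-/

namespace CfsgLib.OddOrder.Metacyclic

open scoped commutatorElement

variable {R : Type*} [Group R] {p : ℕ}

theorem of_injective {S : Type*} [Group S] (f : S →* R) (hf : Function.Injective f) (h : Cfsg.IsMetacyclic R) :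
    Cfsg.IsMetacyclic S := by
  obtain ⟨N, hN, hNc, hQc⟩ := h
  haveI := hN
  refine ⟨N.comap f, Subgroup.normal_comap f, ?_, ?_⟩
  · exact isCyclic_of_injective (f.subgroupComap N) fun a b hab => Subtype.ext (hf (congrArg Subtype.val hab))
  · refine isCyclic_of_injective (QuotientGroup.map (N.comap f) N f le_rfl) ?_
    refine (MonoidHom.ker_eq_bot_iff _).mp (eq_bot_iff.mpr fun x hx => ?_)
    obtain ⟨a, rfl⟩ := QuotientGroup.mk'_surjective (N.comap f) x
    rw [MonoidHom.mem_ker, QuotientGroup.mk'_apply, QuotientGroup.map_mk, QuotientGroup.eq_one_iff] at hx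
    exact Subgroup.mem_bot.mpr ((QuotientGroup.eq_one_iff a).mpr hx)

theorem of_surjective {S : Type*} [Group S] (f : R →* S) (hf : Function.Surjective f) (h : Cfsg.IsMetacyclic R) :
    Cfsg.IsMetacyclic S := by
  obtain ⟨N, hN, hNc, hQc⟩ := h
  haveI := hN
  haveI := hN.map f hf
  refine ⟨N.map f, inferInstance, isCyclic_of_surjective (f.subgroupMap N) (f.subgroupMap_surjective N), ?_⟩
  refine isCyclic_of_surjective (QuotientGroup.map N (N.map f) f (Subgroup.le_comap_map f N)) ?_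
  intro y
  obtain ⟨s, rfl⟩ := QuotientGroup.mk'_surjective (N.map f) y
  obtain ⟨r, rfl⟩ := hf s
  exact ⟨QuotientGroup.mk' N r, rfl⟩

theorem card_le_sq [Finite R] [hp : Fact p.Prime] (h : Cfsg.IsMetacyclic R) (he : ∀ x : R, x ^ p = 1) :
    Nat.card R ≤ p ^ 2 := by
  obtain ⟨N, hN, hNc, hQc⟩ := h
  haveI := hN
  have h1 : Nat.card N ≤ p := by
    refine Nat.le_of_dvd hp.out.pos ?_
    rw [← IsCyclic.exponent_eq_card]
    exact Monoid.exponent_dvd_of_forall_pow_eq_one fun x => Subtype.ext (by simpa using he x)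
  have h2 : Nat.card (R ⧸ N) ≤ p := by
    refine Nat.le_of_dvd hp.out.pos ?_
    rw [← IsCyclic.exponent_eq_card]
    refine Monoid.exponent_dvd_of_forall_pow_eq_one fun x => ?_
    obtain ⟨r, rfl⟩ := QuotientGroup.mk'_surjective N x
    rw [← map_pow, he, map_one]
  rw [sq, Subgroup.card_eq_card_quotient_mul_card_subgroup N]
  exact Nat.mul_le_mul h2 h1

variable [Finite R] [hp : Fact p.Prime]

variable {X : Type*} [Group X] [Finite X]

theorem isMulCommutative_of_commutator_eq (hp2 : p ≠ 2) {S A : Subgroup X} (hS : IsPGroup p S)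
    (hmc : Cfsg.IsMetacyclic S) (hAS : A ≤ Subgroup.normalizer (S : Set X))
    (hcop : (Nat.card A).Coprime (Nat.card S)) (hSA : ⁅S, A⁆ = S) : IsMulCommutative S := by
  by_contra hnab
  -- pass to the quotient by `(S') ^ p`
  obtain ⟨Q, hQn, hQi, hQa⟩ : ∃ (Q : Subgroup S) (hn : Q.Normal), (∀ α : MulAut S, ∀ q ∈ Q, α q ∈ Q) ∧
      Nat.card ↥((_root_.commutator S).map (@QuotientGroup.mk' S _ Q hn)) = p := by
    set D := _root_.commutator S with hD
    have hDc : IsCyclic D := by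
      obtain ⟨N, hN, hNc, hQc⟩ := hmc
      haveI := hN
      have hle : D ≤ N := Subgroup.Normal.quotient_commutative_iff_commutator_le.mp
        (IsCyclic.isMulCommutative (α := S ⧸ N))
      exact isCyclic_of_injective (Subgroup.inclusion hle) (Subgroup.inclusion_injective hle)
    obtain ⟨a, ha⟩ := hDc.exists_ofOrder_eq_natCard
    obtain ⟨k, hk⟩ := (hS.to_subgroup D).exists_card_eq
    have hk0 : k ≠ 0 := fun h => hnab ((commutator_eq_bot_iff S).mp
      (Subgroup.eq_bot_of_card_eq _ (by rw [hk, h, pow_zero])))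
    have haord : orderOf (a : S) = p ^ k := by rw [Subgroup.orderOf_coe, ha, hk]
    have hgen : Subgroup.zpowers (a : S) = D := Subgroup.eq_of_le_of_card_ge (Subgroup.zpowers_le.mpr a.2)
      (by rw [Nat.card_zpowers, haord, hk])
    set Q := Subgroup.zpowers ((a : S) ^ p) with hQ
    have hinvQ : ∀ α : MulAut S, ∀ q ∈ Q, α q ∈ Q := by
      intro α q hq
      have hαa : α (a : S) ∈ Subgroup.zpowers (a : S) :=
        hgen.ge ((map_commutator_eq (G := S) α.toMonoidHom).le.trans (Subgroup.commutator_mono le_top le_top)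
          (Subgroup.mem_map_of_mem _ a.2))
      obtain ⟨m, hm⟩ := Subgroup.mem_zpowers_iff.mp hαa
      obtain ⟨j, rfl⟩ := Subgroup.mem_zpowers_iff.mp hq
      rw [map_zpow, map_pow, ← hm]
      refine zpow_mem ?_ j
      rw [← zpow_natCast, ← zpow_mul, mul_comm, zpow_mul, zpow_natCast]
      exact zpow_mem (Subgroup.mem_zpowers _) m
    have hQn : Q.Normal := ⟨fun q hq g => by simpa using hinvQ (MulAut.conj g) q hq⟩
    haveI := hQn
    refine ⟨Q, hQn, hinvQ, ?_⟩
    rw [← hgen, MonoidHom.map_zpowers, Nat.card_zpowers]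
    refine orderOf_eq_prime ?_ fun h => ?_
    · rw [← map_pow]
      exact (QuotientGroup.eq_one_iff _).mpr (Subgroup.mem_zpowers _)
    · have hle : Subgroup.zpowers (a : S) ≤ Q := Subgroup.zpowers_le.mpr ((QuotientGroup.eq_one_iff _).mp h)
      have hc := Subgroup.card_dvd_of_le hle
      rw [Nat.card_zpowers, Nat.card_zpowers, haord, orderOf_pow, haord,
        Nat.gcd_eq_right (dvd_pow_self p hk0)] at hc
      have := Nat.le_of_dvd (Nat.div_pos (Nat.le_self_pow hk0 p) hp.out.pos) hc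
      exact absurd this (not_le.mpr (Nat.div_lt_self (pow_pos hp.out.pos k) hp.out.one_lt))
  haveI := hQn
  set π := QuotientGroup.mk' Q with hπ
  have hπs : Function.Surjective π := QuotientGroup.mk'_surjective _
  obtain ⟨h1, h2⟩ := StableAction.stable_of_commutator_eq hAS hcop hSA
  obtain ⟨Ψ, hΨ1, hΨ2⟩ := StableAction.exists_quotient h1 h2 Q fun α _ => hQi α
  have hcomm : _root_.commutator (S ⧸ Q) = (_root_.commutator S).map π := by
    rw [_root_.commutator_def, _root_.commutator_def, Subgroup.map_commutator, Subgroup.map_top_of_surjective π hπs]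
  refine StableAction.false_of_prime_derived (hS.to_quotient Q) hp2 (hcomm ▸ hQa) (fun K hK hp' => ?_) Ψ hΨ1 hΨ2
  haveI := hK
  refine card_le_sq (of_surjective (QuotientGroup.mk' K) (QuotientGroup.mk'_surjective K) (of_surjective π hπs hmc))
    fun q => ?_
  obtain ⟨r, rfl⟩ := QuotientGroup.mk'_surjective K q
  rw [← map_pow]
  exact (QuotientGroup.eq_one_iff _).mpr (hp' r)

/-- Coprime action on a metacyclic `p`-group, `p` odd. -/
theorem split (hp2 : p ≠ 2) (T A : Subgroup X) (hT : IsPGroup p T) (hmc : Cfsg.IsMetacyclic T)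
    (hA : A ≤ Subgroup.normalizer (T : Set X)) (hcop : (Nat.card A).Coprime p) :
    IsMulCommutative ↥⁅T, A⁆ ∧ ⁅T, A⁆ ⊔ (T ⊓ Subgroup.centralizer (A : Set X)) = T ∧
      ⁅T, A⁆ ⊓ (T ⊓ Subgroup.centralizer (A : Set X)) = ⊥ ∧
      (¬ IsMulCommutative T → ¬ A ≤ Subgroup.centralizer (T : Set X) →
        ⁅T, A⁆ ≠ ⊥ ∧ IsCyclic ↥⁅T, A⁆ ∧ (T ⊓ Subgroup.centralizer (A : Set X)) ≠ ⊥ ∧
          IsCyclic ↥(T ⊓ Subgroup.centralizer (A : Set X)) ∧ ⁅T, T⁆ ≤ ⁅T, A⁆) := by
  have hcT : (Nat.card A).Coprime (Nat.card T) := by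
    obtain ⟨k, hk⟩ := hT.exists_card_eq
    rw [hk]; exact hcop.pow_right k
  have hsolv : Group.IsSolvable A ∨ Group.IsSolvable T := Or.inr (by haveI := hT.isNilpotent; infer_instance)
  set W := ⁅T, A⁆ with hW
  set C := T ⊓ Subgroup.centralizer (A : Set X) with hC
  have hWT : W ≤ T := Subgroup.le_normalizer_iff_commutator_le_left.mp hA
  have hAW : A ≤ Subgroup.normalizer (W : Set X) := Subgroup.normalizer_commutator_ge_right T A
  have hTW : T ≤ Subgroup.normalizer (W : Set X) := Subgroup.normalizer_commutator_ge_left T A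
  have hWW : ⁅W, A⁆ = W := Coprime.commutator_commutator_self hA hcT hsolv
  have hsup : W ⊔ C = T := Coprime.commutator_sup_centralizer hA hcT hsolv
  have hcW : (Nat.card A).Coprime (Nat.card W) := hcT.coprime_dvd_right (Subgroup.card_dvd_of_le hWT)
  haveI hWab : IsMulCommutative W := isMulCommutative_of_commutator_eq hp2 (hT.to_le hWT)
    (of_injective (Subgroup.inclusion hWT) (Subgroup.inclusion_injective hWT) hmc) hAW hcW hWW
  have hint : W ⊓ C = ⊥ := by
    refine eq_bot_iff.mpr fun x hx => ?_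
    obtain ⟨hxW, -, hxA⟩ := hx
    rw [← Coprime.centralizer_inf_commutator_eq_bot hAW hcW, hWW]
    exact ⟨⟨hxW, hxA⟩, hxW⟩
  refine ⟨hWab, hsup, hint, fun hnab hnc => ?_⟩
  have hW1 : W ≠ ⊥ := fun h => hnc (by
    rw [← Subgroup.commutator_eq_bot_iff_le_centralizer, Subgroup.commutator_comm]; exact h)
  have hC1 : C ≠ ⊥ := fun h => hnab (by rw [h, sup_bot_eq] at hsup; exact hsup ▸ hWab)
  have hTnc : ¬ IsCyclic T := fun h => hnab (by haveI := h; exact IsCyclic.isMulCommutative)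
  obtain ⟨N, hN, hNc, hQc⟩ := hmc
  haveI := hN
  obtain ⟨K, hK, hKc, hKall⟩ := Fusion.OmegaMetacyclic.exists_eq_omega hT hp2 hTnc hNc hQc
  have hcyc : ∀ U V : Subgroup X, U ≤ T → V ≤ T → U ⊓ V = ⊥ → V ≠ ⊥ → IsCyclic U := by
    intro U V hU hV hUV hV1
    by_contra hnU
    obtain ⟨E, hEU, hEe, hEc⟩ := UniqueTools.exists_isEA_sq hp2 (hT.to_le hU) hnU
    have hEK : E ≤ K.map T.subtype := fun e he =>
      ⟨⟨e, hU (hEU he)⟩, hKall _ (Subtype.ext (by simpa using hEe.2 e he)), rfl⟩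
    have heq := Subgroup.eq_of_le_of_card_ge hEK (by
      rw [Subgroup.card_map_of_injective T.subtype_injective, hKc]; exact hEc)
    obtain ⟨v, hv⟩ := exists_prime_orderOf_dvd_card' (G := V) p
      ((hT.to_le hV).card_eq_or_dvd.resolve_left fun h => hV1 (Subgroup.eq_bot_of_card_eq _ h))
    have hv1 : (v : X) ^ p = 1 := by rw [← hv, ← Subgroup.orderOf_coe, pow_orderOf_eq_one]
    have hvU : (v : X) ∈ U := hEU (heq ▸ ⟨⟨v, hV v.2⟩, hKall _ (Subtype.ext (by simpa using hv1)), rfl⟩)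
    have hvbot : (v : X) = 1 := Subgroup.mem_bot.mp (hUV ▸ Subgroup.mem_inf.mpr ⟨hvU, v.2⟩)
    rw [← Subgroup.orderOf_coe, hvbot, orderOf_one] at hv
    exact hp.out.ne_one hv.symm
  have hCcyc : IsCyclic C := hcyc C W inf_le_left hWT (inf_comm W C ▸ hint) hW1
  refine ⟨hW1, hcyc W C hWT inf_le_left hint hC1, hC1, hCcyc, ?_⟩
  haveI := IsCyclic.isMulCommutative (α := C)
  rw [Subgroup.commutator_le]
  intro g₁ h₁ g₂ h₂
  rw [← hsup, ← SetLike.mem_coe, Subgroup.coe_mul_of_right_le_normalizer_left W C (inf_le_left.trans hTW)] at h₁ h₂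
  obtain ⟨w₁, hw₁, c₁, hc₁, rfl⟩ := Set.mem_mul.mp h₁
  obtain ⟨w₂, hw₂, c₂, hc₂, rfl⟩ := Set.mem_mul.mp h₂
  have hcc : Commute c₁ c₂ := congrArg Subtype.val (mul_comm' (⟨c₁, hc₁⟩ : C) ⟨c₂, hc₂⟩)
  have conj : ∀ a ∈ T, ∀ w ∈ W, a * w * a⁻¹ ∈ W := fun a ha w hw =>
    (Subgroup.mem_normalizer_iff.mp (hTW ha) w).mp hw
  have e : ⁅w₁ * c₁, w₂ * c₂⁆ = w₁ * (c₁ * w₂ * c₁⁻¹) * (c₂ * w₁⁻¹ * c₂⁻¹) * w₂⁻¹ := by
    rw [show w₁ * (c₁ * w₂ * c₁⁻¹) * (c₂ * w₁⁻¹ * c₂⁻¹) * w₂⁻¹ =
      w₁ * c₁ * w₂ * (c₁⁻¹ * c₂) * w₁⁻¹ * c₂⁻¹ * w₂⁻¹ by group, (hcc.inv_left).eq, commutatorElement_def]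
    group
  rw [e]
  exact mul_mem (mul_mem (mul_mem hw₁ (conj _ hc₁.1 _ hw₂)) (conj _ hc₂.1 _ (inv_mem hw₁))) (inv_mem hw₂)

end CfsgLib.OddOrder.Metacyclic
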