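import Cfsg.Prelude.Def_LieExceptional
import Cfsg.Prelude.Def_OddOrderLocal
import Cfsg.Agent.Lib.OddOrder.Basic
import Cfsg.Agent.Lib.OddOrder.FixedPointFree
import Cfsg.Agent.Lib.Coprime.Action
import Cfsg.Agent.Lib.Solvable.FrattiniFitting
import Cfsg.Agent.Lib.Solvable.Cores
import Mathlib.GroupTheory.Sylow

set_option autoImplicit false

namespace CfsgLib.OddOrder.CN

variable {G : Type*} [Group G]

theorem isNilpotent_of_le {H K : Subgroup G} (h : H ≤ K) [Group.IsNilpotent K] : Group.IsNilpotent H :=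
  Group.nilpotent_of_mulEquiv (Subgroup.subgroupOfEquivOfLe h)

theorem centralizer_singleton_le_pow (x : G) (n : ℕ) :
    Subgroup.centralizer ({x} : Set G) ≤ Subgroup.centralizer ({x ^ n} : Set G) := by
  intro y hy
  rw [Subgroup.mem_centralizer_singleton_iff] at hy ⊢
  exact (Commute.pow_right (show Commute y x from hy) n).eq

theorem le_centralizer_singleton {H : Subgroup G} {x : G} (h : ∀ y ∈ H, Commute y x) :
    H ≤ Subgroup.centralizer ({x} : Set G) := fun y hy => by
  rw [Subgroup.mem_centralizer_singleton_iff]; exact (h y hy).eq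

variable [Finite G]

theorem exists_prime_order_pow {x : G} (hx : x ≠ 1) :
    ∃ (p n : ℕ), p.Prime ∧ orderOf (x ^ n) = p := by
  obtain ⟨p, hp, hd⟩ := Nat.exists_prime_and_dvd (fun e => hx (orderOf_eq_one_iff.mp e))
  refine ⟨p, orderOf x / p, hp, ?_⟩
  rw [orderOf_pow_of_dvd (Nat.div_pos (Nat.le_of_dvd (orderOf_pos x) hd) hp.pos).ne' (Nat.div_dvd_of_dvd hd),
    Nat.div_div_self hd (orderOf_pos x).ne']

theorem le_of_primary {C H : Subgroup G}
    (h : ∀ q : ℕ, q.Prime → ∀ d ∈ C, (∃ k, orderOf d = q ^ k) → d ∈ H) : C ≤ H := by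
  intro d hd
  induction hn : orderOf d using Nat.strong_induction_on generalizing d with
  | _ n ih =>
    subst hn
    by_cases h1 : orderOf d = 1
    · rw [orderOf_eq_one_iff.mp h1]; exact one_mem _
    obtain ⟨q, hq, hqd⟩ := Nat.exists_prime_and_dvd h1
    have hn0 : orderOf d ≠ 0 := (orderOf_pos d).ne'
    obtain ⟨k, m, hm, hnm⟩ := Nat.exists_eq_pow_mul_and_not_dvd hn0 q hq.ne_one
    by_cases hm1 : m = 1
    · exact h q hq d hd ⟨k, by simpa [hm1] using hnm⟩
    obtain ⟨s, t, e⟩ : IsCoprime ((q ^ k : ℕ) : ℤ) (m : ℤ) :=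
      Int.isCoprime_iff_nat_coprime.mpr (by simpa using (hq.coprime_iff_not_dvd.mpr hm).pow_left k)
    have hk0 : k ≠ 0 := by
      rintro rfl
      rw [pow_zero, one_mul] at hnm
      exact hm (hnm ▸ hqd)
    have hm0 : m ≠ 0 := by rintro rfl; exact hn0 (by simpa using hnm)
    have hA : d ^ (q ^ k) ∈ H := ih _ (by
      rw [orderOf_pow_of_dvd (pow_ne_zero _ hq.ne_zero) (hnm ▸ Dvd.intro _ rfl)]
      exact Nat.div_lt_self (orderOf_pos d) (Nat.one_lt_pow hk0 hq.one_lt)) (pow_mem hd _) rfl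
    have hB : d ^ m ∈ H := ih _ (by
      rw [orderOf_pow_of_dvd hm0 (hnm ▸ Dvd.intro_left _ rfl)]
      exact Nat.div_lt_self (orderOf_pos d) (by omega)) (pow_mem hd _) rfl
    have : d = (d ^ (q ^ k)) ^ s * (d ^ m) ^ t := by
      rw [← zpow_natCast, ← zpow_natCast d m, ← zpow_mul, ← zpow_mul, ← zpow_add, mul_comm _ s, mul_comm _ t, e, zpow_one]
    rw [this]
    exact mul_mem (zpow_mem hA s) (zpow_mem hB t)

theorem exists_sylow_center_ne_one {p : ℕ} [Fact p.Prime] (S : Sylow p G) (hp : p ∣ Nat.card G) :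
    ∃ z : G, z ≠ 1 ∧ z ∈ (S : Subgroup G) ∧ ∀ s ∈ (S : Subgroup G), Commute z s := by
  haveI : Nontrivial (S : Subgroup G) :=
    (Subgroup.nontrivial_iff_ne_bot _).mpr (S.ne_bot_of_dvd_card hp)
  haveI := S.isPGroup'.center_nontrivial
  obtain ⟨z, hz⟩ := exists_ne (1 : Subgroup.center (S : Subgroup G))
  refine ⟨((z : (S : Subgroup G)) : G), fun e => hz (Subtype.ext (Subtype.ext e)), (z : (S : Subgroup G)).2, fun s hs => ?_⟩
  exact (congrArg Subtype.val (Subgroup.mem_center_iff.mp z.2 ⟨s, hs⟩)).symm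

theorem exists_maximal_nilpotent {K : Subgroup G} (hK : Group.IsNilpotent K) :
    ∃ H : Subgroup G, K ≤ H ∧ Group.IsNilpotent H ∧ ∀ L : Subgroup G, Group.IsNilpotent L → H ≤ L → L = H := by
  obtain ⟨H, hle, hH, hmax⟩ := (Set.toFinite {L : Subgroup G | Group.IsNilpotent L}).exists_le_maximal hK
  exact ⟨H, hle, hH, fun L hL h => le_antisymm (hmax hL h) h⟩

section
variable (hCN : Cfsg.IsCNGroup G) {H : Subgroup G} (hH : Group.IsNilpotent H)
  (hmax : ∀ L : Subgroup G, Group.IsNilpotent L → H ≤ L → L = H)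
include hCN hH hmax

theorem centralizer_eq_of_commute {x : G} (hx1 : x ≠ 1) (hx : ∀ y ∈ H, Commute y x) :
    Subgroup.centralizer ({x} : Set G) = H :=
  hmax _ (hCN x hx1) (le_centralizer_singleton hx)

/-- A maximal nilpotent subgroup of a CN-group contains a Sylow subgroup for each of its primes, whose
centre is central in it. -/
theorem sylow_le {p : ℕ} [Fact p.Prime] (hp : p ∣ Nat.card H) :
    ∃ S : Sylow p G, (S : Subgroup G) ≤ H := by
  haveI := hH
  obtain ⟨P⟩ : Nonempty (Sylow p H) := inferInstance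
  obtain ⟨z, hz1, hzP, hzc⟩ := exists_sylow_center_ne_one P hp
  have hall : ∀ (l : ℕ) (_hl : Fact l.Prime) (Q : Sylow l H), (↑Q : Subgroup H).Normal :=
    Iff.mp (Group.isNilpotent_of_finite_tfae.out 0 3) hH
  haveI := hall p inferInstance P
  have hcent : ∀ y : H, Commute y z := by
    intro y
    have : (⊤ : Subgroup H) ≤ Subgroup.centralizer ({z} : Set H) := by
      refine le_of_primary fun q hq d _ hd => ?_
      rw [Subgroup.mem_centralizer_singleton_iff]
      obtain ⟨k, hk⟩ := hd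
      by_cases hqp : q = p
      · subst hqp
        have hdP : d ∈ (P : Subgroup H) := by
          have := P.isPGroup'
          obtain ⟨R, hR⟩ := (IsPGroup.of_card (n := k) (by rw [Nat.card_zpowers, hk]) : IsPGroup q (Subgroup.zpowers d)).exists_le_sylow
          haveI : Subsingleton (Sylow q H) := by
            haveI := Sylow.unique_of_normal P inferInstance
            infer_instance
          rw [Subsingleton.elim P R]
          exact hR (Subgroup.mem_zpowers d)
        exact (hzc d hdP).symm.eq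
      · obtain ⟨m, hm⟩ := IsPGroup.iff_orderOf.mp P.isPGroup' ⟨z, hzP⟩
        rw [Subgroup.orderOf_mk] at hm
        exact (Basic.commute_of_coprime_orderOf (a := d) (b := z) (by
          rw [hk, hm]; exact Nat.coprime_pow_primes _ _ hq (Fact.out) hqp)).eq
    exact Subgroup.mem_centralizer_singleton_iff.mp (this (Subgroup.mem_top y))
  have hC := centralizer_eq_of_commute hCN hH hmax (x := (z : G)) (fun e => hz1 (Subtype.ext e))
    (fun y hy => congrArg Subtype.val (hcent ⟨y, hy⟩))
  obtain ⟨S, hS⟩ := (P.isPGroup'.map H.subtype).exists_le_sylow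
  obtain ⟨w, hw1, hwS, hwc⟩ := exists_sylow_center_ne_one S (hp.trans (Subgroup.card_subgroup_dvd_card H))
  have hwH : w ∈ H := by
    rw [← hC, Subgroup.mem_centralizer_singleton_iff]
    exact (hwc z (hS ⟨z, hzP, rfl⟩)).eq
  have hwP : (⟨w, hwH⟩ : H) ∈ (P : Subgroup H) := by
    obtain ⟨m, hm⟩ := IsPGroup.iff_orderOf.mp S.isPGroup' ⟨w, hwS⟩
    rw [Subgroup.orderOf_mk] at hm
    have hpw : IsPGroup p (Subgroup.zpowers (⟨w, hwH⟩ : H)) :=
      IsPGroup.of_card (n := m) (by rw [Nat.card_zpowers, Subgroup.orderOf_mk, hm])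
    obtain ⟨R, hR⟩ := hpw.exists_le_sylow
    haveI : Subsingleton (Sylow p H) := by
      haveI := Sylow.unique_of_normal P inferInstance
      infer_instance
    rw [Subsingleton.elim P R]
    exact hR (Subgroup.mem_zpowers _)
  have hwcent : ∀ y ∈ H, Commute y w := by
    intro y hy
    have : H ≤ Subgroup.centralizer ({w} : Set G) := by
      refine le_of_primary fun q hq d hdH hd => ?_
      rw [Subgroup.mem_centralizer_singleton_iff]
      obtain ⟨k, hk⟩ := hd
      by_cases hqp : q = p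
      · subst hqp
        have hpd : IsPGroup q (Subgroup.zpowers (⟨d, hdH⟩ : H)) :=
          IsPGroup.of_card (n := k) (by rw [Nat.card_zpowers, Subgroup.orderOf_mk, hk])
        obtain ⟨R, hR⟩ := hpd.exists_le_sylow
        haveI : Subsingleton (Sylow q H) := by
          haveI := Sylow.unique_of_normal P inferInstance
          infer_instance
        have hdS : d ∈ (S : Subgroup G) :=
          hS ⟨⟨d, hdH⟩, (Subsingleton.elim R P) ▸ hR (Subgroup.mem_zpowers _), rfl⟩
        exact (hwc d hdS).symm.eq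
      · obtain ⟨m, hm⟩ := IsPGroup.iff_orderOf.mp S.isPGroup' ⟨w, hwS⟩
        rw [Subgroup.orderOf_mk] at hm
        exact (Basic.commute_of_mem_nilpotent hdH hwH (by
          rw [hk, hm]; exact Nat.coprime_pow_primes _ _ hq (Fact.out) hqp)).eq
    exact Subgroup.mem_centralizer_singleton_iff.mp (this hy)
  have hCw := centralizer_eq_of_commute hCN hH hmax hw1 hwcent
  refine ⟨S, fun s hs => ?_⟩
  rw [← hCw, Subgroup.mem_centralizer_singleton_iff]
  exact (hwc s hs).symm.eq

/-- Maximal nilpotent subgroups of CN-groups are Hall subgroups. -/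
theorem coprime_index : (Nat.card H).Coprime H.index := by
  by_contra hn
  obtain ⟨p, hp, h1, h2⟩ := Nat.Prime.not_coprime_iff_dvd.mp hn
  haveI := Fact.mk hp
  obtain ⟨S, hS⟩ := sylow_le hCN hH hmax h1
  exact Sylow.not_dvd_index' S Subgroup.index_ne_zero_of_finite (h2.trans (Subgroup.index_dvd_of_le hS))

theorem mem_sylow {p : ℕ} [Fact p.Prime] {S : Sylow p G} (hS : (S : Subgroup G) ≤ H) {d : G} (hd : d ∈ H)
    (hk : ∃ k, orderOf d = p ^ k) : d ∈ (S : Subgroup G) := by
  haveI := hH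
  obtain ⟨k, hk⟩ := hk
  have hall : ∀ (l : ℕ) (_hl : Fact l.Prime) (Q : Sylow l H), (↑Q : Subgroup H).Normal :=
    Iff.mp (Group.isNilpotent_of_finite_tfae.out 0 3) hH
  set P : Sylow p H := S.subtype hS
  haveI := hall p inferInstance P
  have hpd : IsPGroup p (Subgroup.zpowers (⟨d, hd⟩ : H)) :=
    IsPGroup.of_card (n := k) (by rw [Nat.card_zpowers, Subgroup.orderOf_mk, hk])
  obtain ⟨R, hR⟩ := hpd.exists_le_sylow
  haveI : Subsingleton (Sylow p H) := by
    haveI := Sylow.unique_of_normal P inferInstance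
    infer_instance
  have := hR (Subgroup.mem_zpowers _)
  rw [Subsingleton.elim R P] at this
  exact this

theorem centralizer_center_eq {p : ℕ} [Fact p.Prime] {S : Sylow p G} (hS : (S : Subgroup G) ≤ H) {z : G}
    (hz1 : z ≠ 1) (hzS : z ∈ (S : Subgroup G)) (hz : ∀ s ∈ (S : Subgroup G), Commute z s) :
    Subgroup.centralizer ({z} : Set G) = H := by
  refine centralizer_eq_of_commute hCN hH hmax hz1 fun y hy => ?_
  haveI := hH
  have : H ≤ Subgroup.centralizer ({z} : Set G) := by
    refine le_of_primary fun q hq d hdH hd => ?_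
    rw [Subgroup.mem_centralizer_singleton_iff]
    by_cases hqp : q = p
    · subst hqp
      exact (hz d (mem_sylow hCN hH hmax hS hdH hd)).symm.eq
    · obtain ⟨k, hk⟩ := hd
      obtain ⟨m, hm⟩ := IsPGroup.iff_orderOf.mp S.isPGroup' ⟨z, hzS⟩
      rw [Subgroup.orderOf_mk] at hm
      exact (Basic.commute_of_mem_nilpotent hdH (hS hzS) (by
        rw [hk, hm]; exact Nat.coprime_pow_primes _ _ hq (Fact.out) hqp)).eq
  exact Subgroup.mem_centralizer_singleton_iff.mp (this hy)

theorem exists_central {p : ℕ} [Fact p.Prime] (hp : p ∣ Nat.card H) :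
    ∃ z : G, z ≠ 1 ∧ z ∈ H ∧ (∃ k, orderOf z = p ^ k) ∧ Subgroup.centralizer ({z} : Set G) = H := by
  obtain ⟨S, hS⟩ := sylow_le hCN hH hmax hp
  obtain ⟨z, hz1, hzS, hzc⟩ := exists_sylow_center_ne_one S (hp.trans (Subgroup.card_subgroup_dvd_card H))
  obtain ⟨m, hm⟩ := IsPGroup.iff_orderOf.mp S.isPGroup' ⟨z, hzS⟩
  rw [Subgroup.orderOf_mk] at hm
  exact ⟨z, hz1, hS hzS, ⟨m, hm⟩, centralizer_center_eq hCN hH hmax hS hz1 hzS hzc⟩

theorem centralizer_le_of_not_primePow (hnp : ¬ IsPrimePow (Nat.card H)) {x : G} (hx : x ∈ H) (hx1 : x ≠ 1) :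
    Subgroup.centralizer ({x} : Set G) ≤ H := by
  obtain ⟨p, n, hp, hord⟩ := exists_prime_order_pow hx1
  set x' := x ^ n with hx'
  have hx'H : x' ∈ H := pow_mem hx n
  have hx'1 : x' ≠ 1 := fun e => hp.ne_one (by rw [← hord, e, orderOf_one])
  refine le_trans (centralizer_singleton_le_pow x n) ?_
  haveI := Fact.mk hp
  haveI := hH
  haveI := hCN x' hx'1
  have hpH : p ∣ Nat.card H := hord ▸ Stabilize.orderOf_dvd_card_of_mem hx'H
  obtain ⟨q, hq, hqd, hqp⟩ : ∃ q : ℕ, q.Prime ∧ q ∣ Nat.card H ∧ q ≠ p := by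
    by_contra hne
    simp only [not_exists, not_and, not_not] at hne
    have := Nat.eq_prime_pow_of_unique_prime_dvd (n := Nat.card H) Nat.card_pos.ne' (fun {r} hr hd => hne r hr hd)
    apply hnp
    rw [this]
    refine hp.isPrimePow.pow ?_
    intro e
    rw [e, pow_zero] at this
    rw [this] at hpH
    exact hp.not_dvd_one hpH
  haveI := Fact.mk hq
  obtain ⟨y, -, hyH, ⟨ky, hy⟩, hCy⟩ := exists_central hCN hH hmax hqd
  obtain ⟨z, -, hzH, ⟨kz, hz⟩, hCz⟩ := exists_central hCN hH hmax hpH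
  have mem : ∀ w, Subgroup.centralizer ({w} : Set G) = H → w ∈ Subgroup.centralizer ({x'} : Set G) := by
    intro w hw
    have h1 : x' ∈ Subgroup.centralizer ({w} : Set G) := hw.symm ▸ hx'H
    rw [Subgroup.mem_centralizer_singleton_iff] at h1 ⊢
    exact h1.symm
  refine le_of_primary fun r hr u hu hru => ?_
  obtain ⟨k, hk⟩ := hru
  by_cases hrq : r = q
  · subst hrq
    rw [← hCz, Subgroup.mem_centralizer_singleton_iff]
    exact (Basic.commute_of_mem_nilpotent hu (mem z hCz) (by
      rw [hk, hz]; exact Nat.coprime_pow_primes _ _ hr hp hqp)).eq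
  · rw [← hCy, Subgroup.mem_centralizer_singleton_iff]
    exact (Basic.commute_of_mem_nilpotent hu (mem y hCy) (by
      rw [hk, hy]; exact Nat.coprime_pow_primes _ _ hr hq hrq)).eq

end

theorem map_conj_maximal {H : Subgroup G} (hH : Group.IsNilpotent H)
    (hmax : ∀ L : Subgroup G, Group.IsNilpotent L → H ≤ L → L = H) (g : G) :
    Group.IsNilpotent (H.map (MulAut.conj g).toMonoidHom : Subgroup G) ∧
    ∀ L : Subgroup G, Group.IsNilpotent L → H.map (MulAut.conj g).toMonoidHom ≤ L →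
      L = H.map (MulAut.conj g).toMonoidHom := by
  haveI := hH
  refine ⟨Group.nilpotent_of_mulEquiv (H.equivMapOfInjective _ (MulAut.conj g).injective), fun L hL hle => ?_⟩
  haveI := hL
  have h := hmax (L.map (MulAut.conj g⁻¹).toMonoidHom)
    (Group.nilpotent_of_mulEquiv (L.equivMapOfInjective _ (MulAut.conj g⁻¹).injective)) (by
      intro y hy
      exact ⟨g * y * g⁻¹, hle ⟨y, hy, rfl⟩, by simp [mul_assoc]⟩)
  refine le_antisymm (fun y hy => ?_) hle
  have : g⁻¹ * y * g ∈ H := by rw [← h]; exact ⟨y, hy, by simp⟩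
  exact ⟨_, this, by simp [mul_assoc]⟩

/-- A maximal nilpotent subgroup whose order is not a prime power meets its other conjugates trivially. -/
theorem inter_conj_eq_bot (hCN : Cfsg.IsCNGroup G) {H : Subgroup G} (hH : Group.IsNilpotent H)
    (hmax : ∀ L : Subgroup G, Group.IsNilpotent L → H ≤ L → L = H)
    (hnp : ¬ IsPrimePow (Nat.card H)) (h1 : Nat.card H ≠ 1) (g : G)
    (hg : H.map (MulAut.conj g).toMonoidHom ≠ H) : H ⊓ H.map (MulAut.conj g).toMonoidHom = ⊥ := by
  by_contra hne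
  obtain ⟨x, hx, hx1⟩ := (Subgroup.bot_or_exists_ne_one _).resolve_left hne
  obtain ⟨hH', hmax'⟩ := map_conj_maximal hH hmax g
  have hcard : Nat.card (H.map (MulAut.conj g).toMonoidHom : Subgroup G) = Nat.card H :=
    Coprime.card_conj_map H g
  have hC' := centralizer_le_of_not_primePow hCN hH' hmax' (by rwa [hcard]) hx.2 hx1
  obtain ⟨p, hp, hpd⟩ := Nat.exists_prime_and_dvd h1
  haveI := Fact.mk hp
  obtain ⟨z, hz1, hzH, -, hCz⟩ := exists_central hCN hH hmax hpd
  have hzH' : z ∈ H.map (MulAut.conj g).toMonoidHom := by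
    apply hC'
    have h2 : x ∈ Subgroup.centralizer ({z} : Set G) := hCz.symm ▸ hx.1
    rw [Subgroup.mem_centralizer_singleton_iff] at h2 ⊢
    exact h2.symm
  have hle : H ≤ H.map (MulAut.conj g).toMonoidHom :=
    hCz ▸ centralizer_le_of_not_primePow hCN hH' hmax' (by rwa [hcard]) hzH' hz1
  exact hg (hmax _ hH' hle)

theorem centralizer_le_of_ti (hCN : Cfsg.IsCNGroup G) {H : Subgroup G} (hH : Group.IsNilpotent H)
    (hmax : ∀ L : Subgroup G, Group.IsNilpotent L → H ≤ L → L = H)
    (hTI : ∀ g : G, H.map (MulAut.conj g).toMonoidHom ≠ H → H ⊓ H.map (MulAut.conj g).toMonoidHom = ⊥)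
    {x : G} (hx : x ∈ H) (hx1 : x ≠ 1) : Subgroup.centralizer ({x} : Set G) ≤ H := by
  obtain ⟨p, n, hp, hord⟩ := exists_prime_order_pow hx1
  set x' := x ^ n with hx'
  have hx'H : x' ∈ H := pow_mem hx n
  have hx'1 : x' ≠ 1 := fun e => hp.ne_one (by rw [← hord, e, orderOf_one])
  refine le_trans (centralizer_singleton_le_pow x n) ?_
  haveI := Fact.mk hp
  haveI := hCN x' hx'1
  set C := Subgroup.centralizer ({x'} : Set G) with hC
  have hpH : p ∣ Nat.card H := hord ▸ Stabilize.orderOf_dvd_card_of_mem hx'H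
  obtain ⟨S, hS⟩ := sylow_le hCN hH hmax hpH
  obtain ⟨z, hz1, hzH, ⟨kz, hz⟩, hCz⟩ := exists_central hCN hH hmax hpH
  have hzC : z ∈ C := by
    have h1 : x' ∈ Subgroup.centralizer ({z} : Set G) := hCz.symm ▸ hx'H
    rw [hC, Subgroup.mem_centralizer_singleton_iff]
    rw [Subgroup.mem_centralizer_singleton_iff] at h1
    exact h1.symm
  refine le_of_primary fun r hr u hu hru => ?_
  obtain ⟨k, hk⟩ := hru
  by_cases hrp : r = p
  swap
  · rw [← hCz, Subgroup.mem_centralizer_singleton_iff]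
    exact (Basic.commute_of_mem_nilpotent hu hzC (by
      rw [hk, hz]; exact Nat.coprime_pow_primes _ _ hr hp hrp)).eq
  subst hrp
  -- the Sylow subgroup of `C`
  obtain ⟨T, hT⟩ : ∃ T : Sylow r C, (⟨u, hu⟩ : C) ∈ (T : Subgroup C) := by
    obtain ⟨T, hT⟩ := (IsPGroup.of_card (n := k) (by rw [Nat.card_zpowers, Subgroup.orderOf_mk, hk]) :
      IsPGroup r (Subgroup.zpowers (⟨u, hu⟩ : C))).exists_le_sylow
    exact ⟨T, hT (Subgroup.mem_zpowers _)⟩
  set T' := (T : Subgroup C).map C.subtype with hT'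
  by_contra huH
  haveI hT'n : Group.IsNilpotent T' := (T.isPGroup'.map C.subtype).isNilpotent
  have hall : ∀ (l : ℕ) (_hl : Fact l.Prime) (Q : Sylow l C), (↑Q : Subgroup C).Normal :=
    Iff.mp (Group.isNilpotent_of_finite_tfae.out 0 3) (hCN x' hx'1)
  haveI := hall r inferInstance T
  have hx'T : x' ∈ T' := by
    have hxC : x' ∈ C := by rw [hC, Subgroup.mem_centralizer_singleton_iff]
    obtain ⟨R, hR⟩ := (IsPGroup.of_card (n := 1) (by rw [Nat.card_zpowers, Subgroup.orderOf_mk, hord, pow_one]) :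
      IsPGroup r (Subgroup.zpowers (⟨x', hxC⟩ : C))).exists_le_sylow
    haveI : Subsingleton (Sylow r C) := by
      haveI := Sylow.unique_of_normal T inferInstance
      infer_instance
    exact ⟨⟨x', hxC⟩, (Subsingleton.elim R T) ▸ hR (Subgroup.mem_zpowers _), rfl⟩
  have hlt : (H ⊓ T').subgroupOf T' < ⊤ := by
    rw [lt_top_iff_ne_top, Ne, Subgroup.subgroupOf_eq_top]
    intro hle
    exact huH (hle ⟨⟨u, hu⟩, hT, rfl⟩).1
  obtain ⟨g, hg1, hg2⟩ := SetLike.exists_of_lt (Group.normalizerCondition_of_isNilpotent _ hlt)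
  have hgx : (g : G) * x' * (g : G)⁻¹ ∈ H :=
    ((Subgroup.mem_normalizer_iff.mp hg1 ⟨x', hx'T⟩).mp (show x' ∈ H ⊓ T' from ⟨hx'H, hx'T⟩)).1
  have hgN : H.map (MulAut.conj (g : G)).toMonoidHom = H := by
    by_contra hne
    have : (g : G) * x' * (g : G)⁻¹ ∈ H ⊓ H.map (MulAut.conj (g : G)).toMonoidHom := ⟨hgx, ⟨x', hx'H, rfl⟩⟩
    rw [hTI _ hne, Subgroup.mem_bot, conj_eq_one_iff] at this
    exact hx'1 this
  -- `g` normalizes the Sylow subgroup of `H`
  have hgS : Subgroup.zpowers (g : G) ≤ Subgroup.normalizer ((S : Subgroup G) : Set G) := by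
    rw [Subgroup.zpowers_le]
    apply Coprime.mem_normalizer_of_conj_map_le
    intro s hs
    refine mem_sylow hCN hH hmax hS ?_ ?_
    · rw [← hgN]; exact ⟨s, hS hs, rfl⟩
    · obtain ⟨m, hm⟩ := IsPGroup.iff_orderOf.mp S.isPGroup' ⟨s, hs⟩
      rw [Subgroup.orderOf_mk] at hm
      exact ⟨m, by rw [← hm]; exact (MulAut.conj (g : G)).orderOf_eq s⟩
  have hgp : IsPGroup r (Subgroup.zpowers (g : G)) :=
    (T.isPGroup'.map C.subtype).to_le (Subgroup.zpowers_le.mpr g.2)
  have hsup := hgp.to_sup_of_normal_right' S.isPGroup' hgS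
  have hgS' : (g : G) ∈ (S : Subgroup G) := by
    rw [← S.is_maximal' hsup le_sup_right]
    exact Subgroup.mem_sup_left (Subgroup.mem_zpowers _)
  exact hg2 (show (g : G) ∈ H ⊓ T' from ⟨hS hgS', g.2⟩)

/-- Two maximal nilpotent subgroups of a CN-group with a common prime are conjugate. -/
theorem conj_of_common_prime (hCN : Cfsg.IsCNGroup G) {H₁ H₂ : Subgroup G} (hH₁ : Group.IsNilpotent H₁)
    (hm₁ : ∀ L : Subgroup G, Group.IsNilpotent L → H₁ ≤ L → L = H₁) (hH₂ : Group.IsNilpotent H₂)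
    (hm₂ : ∀ L : Subgroup G, Group.IsNilpotent L → H₂ ≤ L → L = H₂) {p : ℕ} (hp : p.Prime)
    (h₁ : p ∣ Nat.card H₁) (h₂ : p ∣ Nat.card H₂) :
    ∃ g : G, H₂ = H₁.map (MulAut.conj g).toMonoidHom := by
  haveI := Fact.mk hp
  obtain ⟨S₁, hS₁⟩ := sylow_le hCN hH₁ hm₁ h₁
  obtain ⟨S₂, hS₂⟩ := sylow_le hCN hH₂ hm₂ h₂
  obtain ⟨g, hg⟩ := MulAction.exists_smul_eq G S₁ S₂
  refine ⟨g, ?_⟩
  obtain ⟨hH', hm'⟩ := map_conj_maximal hH₁ hm₁ g
  have hS₂' : (S₂ : Subgroup G) ≤ H₁.map (MulAut.conj g).toMonoidHom := by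
    rw [← hg]
    intro y hy
    rw [Sylow.coe_subgroup_smul] at hy
    obtain ⟨w, hw, rfl⟩ := hy
    exact ⟨w, hS₁ hw, rfl⟩
  obtain ⟨z, hz1, hzS, hzc⟩ := exists_sylow_center_ne_one S₂ (h₂.trans (Subgroup.card_subgroup_dvd_card H₂))
  rw [← centralizer_center_eq hCN hH₂ hm₂ hS₂ hz1 hzS hzc,
    ← centralizer_center_eq hCN hH' hm' hS₂' hz1 hzS hzc]

/-- An element acting trivially somewhere on the Fitting Hall subgroup lies in it. -/
theorem mem_fittingHall_of_commute (hCN : Cfsg.IsCNGroup G) {e x : G} {r : ℕ} (hr : r.Prime)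
    (he : orderOf e = r) (hx : x ∈ Cfsg.fittingHall G) (hx1 : x ≠ 1) (hex : Commute e x) :
    e ∈ Cfsg.fittingHall G := by
  set F := Cfsg.fittingHall G with hF
  haveI := Fact.mk hr
  haveI := Basic.fittingHall_isNilpotent (G := G)
  have hFc := Basic.fittingHall_coprime (G := G)
  have hallF : ∀ (l : ℕ) (_hl : Fact l.Prime) (Q : Sylow l F), (↑Q : Subgroup F).Normal :=
    Iff.mp (Group.isNilpotent_of_finite_tfae.out 0 3) (Basic.fittingHall_isNilpotent (G := G))
  by_contra heF
  have hrF : ¬ r ∣ Nat.card F := by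
    intro hd
    apply heF
    rw [hF, ← QuotientGroup.eq_one_iff, ← orderOf_eq_one_iff]
    refine Nat.eq_one_of_dvd_coprimes hFc ?_ (orderOf_dvd_natCard _)
    exact (orderOf_map_dvd (QuotientGroup.mk' F) e).trans (he ▸ hd)
  obtain ⟨q, n, hq, hqx⟩ := exists_prime_order_pow hx1
  haveI := Fact.mk hq
  set x' := x ^ n
  have hx' : x' ∈ F := pow_mem hx n
  have hx'1 : x' ≠ 1 := fun h => hq.ne_one (by rw [← hqx, h, orderOf_one])
  have hex' : Commute e x' := hex.pow_right n
  have hqF : q ∣ Nat.card F := hqx ▸ Stabilize.orderOf_dvd_card_of_mem hx'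
  have hqr : q ≠ r := fun h => hrF (h ▸ hqF)
  obtain ⟨Q⟩ : Nonempty (Sylow q F) := inferInstance
  haveI := hallF q inferInstance Q
  obtain ⟨z, hz1, hzQ, hzc⟩ := exists_sylow_center_ne_one Q hqF
  have hzG : (z : G) ≠ 1 := fun h => hz1 (Subtype.ext h)
  obtain ⟨m, hm⟩ := IsPGroup.iff_orderOf.mp Q.isPGroup' ⟨z, hzQ⟩
  rw [Subgroup.orderOf_mk] at hm
  have hFz : F ≤ Subgroup.centralizer ({(z : G)} : Set G) := by
    refine le_of_primary fun l hl d hdF hd => ?_
    rw [Subgroup.mem_centralizer_singleton_iff]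
    obtain ⟨k, hk⟩ := hd
    by_cases hlq : l = q
    · subst hlq
      obtain ⟨R, hR⟩ := (IsPGroup.of_card (n := k) (by rw [Nat.card_zpowers, Subgroup.orderOf_mk, hk]) :
        IsPGroup l (Subgroup.zpowers (⟨d, hdF⟩ : F))).exists_le_sylow
      haveI : Subsingleton (Sylow l F) := by
        haveI := Sylow.unique_of_normal Q inferInstance
        infer_instance
      exact (congrArg Subtype.val (hzc ⟨d, hdF⟩ ((Subsingleton.elim R Q) ▸ hR (Subgroup.mem_zpowers _))).eq).symm
    · exact (Basic.commute_of_mem_nilpotent hdF z.2 (by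
        rw [hk, Subgroup.orderOf_coe, hm]; exact Nat.coprime_pow_primes _ _ hl hq hlq)).eq
  have hez : Commute e (z : G) := by
    haveI := hCN x' hx'1
    have h1 : (z : G) ∈ Subgroup.centralizer ({x'} : Set G) := by
      have := hFz hx'
      rw [Subgroup.mem_centralizer_singleton_iff] at this ⊢
      exact this.symm
    exact Basic.commute_of_mem_nilpotent (K := Subgroup.centralizer ({x'} : Set G))
      (Subgroup.mem_centralizer_singleton_iff.mpr hex'.eq) h1 (by
      rw [he, Subgroup.orderOf_coe, hm]; exact (Nat.coprime_primes hr hq).mpr hqr.symm |>.pow_right m)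
  haveI := hCN (z : G) hzG
  have hcomm : ∀ {d : G}, d ∈ Subgroup.centralizer ({(z : G)} : Set G) → (∃ k, orderOf d = r ^ k) →
      d ∈ Subgroup.centralizer (F : Set G) := by
    intro d hd hdk
    obtain ⟨k, hk⟩ := hdk
    rw [Subgroup.mem_centralizer_iff]
    intro f hf
    exact (Basic.commute_of_mem_nilpotent (hFz hf) hd (by
      rw [hk]; exact ((hr.coprime_iff_not_dvd.mpr fun h => hrF
        (h.trans (Stabilize.orderOf_dvd_card_of_mem hf))).symm.pow_right k))).eq
  set K := Subgroup.centralizer (F : Set G) with hK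
  have heK : e ∈ K := hcomm (Subgroup.mem_centralizer_singleton_iff.mpr hez.eq) ⟨1, by rw [he, pow_one]⟩
  haveI : K.Normal := inferInstance
  haveI hKn : Group.IsNilpotent K := isNilpotent_of_le (K := Subgroup.centralizer ({(z : G)} : Set G))
    (Subgroup.centralizer_le (by simp))
  obtain ⟨R, hR⟩ := (IsPGroup.of_card (n := 1) (by rw [Nat.card_zpowers, he, pow_one]) :
    IsPGroup r (Subgroup.zpowers e)).exists_le_sylow
  obtain ⟨RK, hRK⟩ := (IsPGroup.of_card (n := 1) (by rw [Nat.card_zpowers, Subgroup.orderOf_mk, he, pow_one]) :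
    IsPGroup r (Subgroup.zpowers (⟨e, heK⟩ : K))).exists_le_sylow
  have hallK : ∀ (l : ℕ) (_hl : Fact l.Prime) (Q : Sylow l K), (↑Q : Subgroup K).Normal :=
    Iff.mp (Group.isNilpotent_of_finite_tfae.out 0 3) hKn
  haveI := hallK r inferInstance RK
  haveI : (RK : Subgroup K).Characteristic := RK.characteristic_of_normal inferInstance
  set RK' := (RK : Subgroup K).map K.subtype with hRK'
  haveI : RK'.Normal := inferInstance
  have hle : RK' ≤ (R : Subgroup G) := (RK.isPGroup'.map K.subtype).le_sylow_of_normal R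
  haveI := R.isPGroup'.isNilpotent
  have hne : RK'.subgroupOf (R : Subgroup G) ≠ ⊥ := by
    intro h
    have h1 : (⟨e, hle ⟨⟨e, heK⟩, hRK (Subgroup.mem_zpowers _), rfl⟩⟩ : (R : Subgroup G)) ∈ RK'.subgroupOf (R : Subgroup G) :=
      ⟨⟨e, heK⟩, hRK (Subgroup.mem_zpowers _), rfl⟩
    rw [h, Subgroup.mem_bot] at h1
    have := congrArg Subtype.val h1
    simp only [Subgroup.coe_one] at this
    rw [this, orderOf_one] at he
    exact hr.ne_one he.symm
  obtain ⟨w, hw, hw1⟩ := (Subgroup.bot_or_exists_ne_one _).resolve_left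
    (Solvable.FrattiniFitting.inf_center_ne_bot (RK'.subgroupOf (R : Subgroup G)) hne)
  have hwG : (w : G) ≠ 1 := fun h => hw1 (Subtype.ext h)
  haveI := hCN (w : G) hwG
  have hwK : (w : G) ∈ K := Subgroup.map_subtype_le _ hw.1
  have hRC : (R : Subgroup G) ≤ K := by
    intro d hd
    rw [hK, Subgroup.mem_centralizer_iff]
    intro f hf
    obtain ⟨k, hk⟩ := IsPGroup.iff_orderOf.mp R.isPGroup' ⟨d, hd⟩
    rw [Subgroup.orderOf_mk] at hk
    refine (Basic.commute_of_mem_nilpotent (K := Subgroup.centralizer ({(w : G)} : Set G)) ?_ ?_ (by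
      rw [hk]; exact ((hr.coprime_iff_not_dvd.mpr fun h => hrF
        (h.trans (Stabilize.orderOf_dvd_card_of_mem hf))).symm.pow_right k))).eq
    · rw [Subgroup.mem_centralizer_singleton_iff]
      exact Subgroup.mem_centralizer_iff.mp hwK f hf
    · rw [Subgroup.mem_centralizer_singleton_iff]
      exact congrArg Subtype.val (Subgroup.mem_center_iff.mp hw.2 ⟨d, hd⟩)
  haveI hRn : (R : Subgroup G).Normal := by
    haveI := hallK r inferInstance (R.subtype hRC)
    haveI : ((R.subtype hRC : Sylow r K) : Subgroup K).Characteristic :=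
      (R.subtype hRC).characteristic_of_normal inferInstance
    have e1 : ((R.subtype hRC : Sylow r K) : Subgroup K).map K.subtype = (R : Subgroup G) := by
      rw [Sylow.coe_subtype, Subgroup.map_subgroupOf_eq_of_le hRC]
    rw [← e1]; infer_instance
  exact heF (Basic.le_fittingHall (R.isPGroup'.isNilpotent) (by
    obtain ⟨n, hn⟩ := IsPGroup.iff_card.mp R.isPGroup'
    rw [hn]; exact Nat.Coprime.pow_left n (hr.coprime_iff_not_dvd.mpr
      (Sylow.not_dvd_index' R Subgroup.index_ne_zero_of_finite))) (hR (Subgroup.mem_zpowers e)))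

/-- The quotient of a CN-group by a minimal normal abelian `q`-subgroup is CN. -/
theorem quotient_aux (hCN : Cfsg.IsCNGroup G) (V : Subgroup G) [V.Normal] [IsMulCommutative V] {q : ℕ}
    [Fact q.Prime] (hV : IsPGroup q V) (hV1 : V ≠ ⊥) : Cfsg.IsCNGroup (G ⧸ V) := by
  suffices key : ∀ (p : ℕ), p.Prime → ∀ u : G ⧸ V, orderOf u = p →
      Group.IsNilpotent (Subgroup.centralizer ({u} : Set (G ⧸ V))) by
    intro u hu
    obtain ⟨p, n, hp, hpn⟩ := exists_prime_order_pow hu
    haveI := key p hp _ hpn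
    exact isNilpotent_of_le (centralizer_singleton_le_pow u n)
  intro p hp u hu
  haveI := Fact.mk hp
  set π := QuotientGroup.mk' V with hπ
  set T := (Subgroup.centralizer ({u} : Set (G ⧸ V))).comap π with hT
  suffices hTn : Group.IsNilpotent (T.map π) by
    rwa [hT, Subgroup.map_comap_eq_self_of_surjective (QuotientGroup.mk'_surjective V)] at hTn
  obtain ⟨g, rfl⟩ := QuotientGroup.mk'_surjective V u
  have hcomm : ∀ a ∈ T, ∀ g' : G, π g' = π g → a * g' * a⁻¹ * g'⁻¹ ∈ V := by
    intro a ha g' hg'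
    rw [← QuotientGroup.eq_one_iff]
    show π _ = 1
    rw [hT, Subgroup.mem_comap, Subgroup.mem_centralizer_singleton_iff] at ha
    simp only [map_mul, map_inv, hg']
    rw [ha, mul_inv_cancel_right, mul_inv_cancel]
  by_cases hpq : p = q
  · subst hpq
    obtain ⟨k, hk⟩ := IsPGroup.iff_card.mp hV
    set W := V ⊔ Subgroup.zpowers g with hW
    have hgW : g ∈ W := Subgroup.mem_sup_right (Subgroup.mem_zpowers g)
    have hgp : IsPGroup p (Subgroup.zpowers g) := by
      refine IsPGroup.iff_orderOf.mpr fun x => ?_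
      have h1 : g ^ p ∈ V := by
        rw [← QuotientGroup.eq_one_iff, QuotientGroup.mk_pow, ← hu]
        exact pow_orderOf_eq_one (π g)
      have h2 : orderOf g ∣ p * p ^ k := by
        apply orderOf_dvd_of_pow_eq_one
        rw [pow_mul, ← hk, ← orderOf_dvd_iff_pow_eq_one]
        exact Stabilize.orderOf_dvd_card_of_mem h1
      have h3 : orderOf x ∣ p ^ (k + 1) := by
        rw [pow_succ', ← Subgroup.orderOf_coe]
        exact (Nat.card_zpowers g ▸ Stabilize.orderOf_dvd_card_of_mem x.2).trans h2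
      obtain ⟨i, -, hi⟩ := (Nat.dvd_prime_pow hp).mp h3
      exact ⟨i, hi⟩
    have hWp : IsPGroup p W := hV.to_sup_of_normal_left hgp
    have hgV : g ∉ V := by
      intro h
      have : π g = 1 := (QuotientGroup.eq_one_iff g).mpr h
      rw [this, orderOf_one] at hu
      exact hp.ne_one hu.symm
    -- the subgroup `C_V(g)` is invariant under `T`
    set Z := V ⊓ Subgroup.centralizer ({g} : Set G) with hZ
    have hVc : ∀ v ∈ V, ∀ v' ∈ V, Commute v v' := fun v hv v' hv' => setLike_mul_comm hv hv'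
    have hZinv : ∀ a ∈ T, ∀ z ∈ Z, a * z * a⁻¹ ∈ Z := by
      intro a ha z hz
      have hm : a * z * a⁻¹ ∈ V := ‹V.Normal›.conj_mem z hz.1 a
      refine ⟨hm, ?_⟩
      show a * z * a⁻¹ ∈ Subgroup.centralizer ({g} : Set G)
      rw [Subgroup.mem_centralizer_singleton_iff]
      set v := a * g * a⁻¹ * g⁻¹ with hv
      have hvV : v ∈ V := hcomm a ha g rfl
      have hzg : Commute z g := Subgroup.mem_centralizer_singleton_iff.mp hz.2
      have h1 : Commute (a * z * a⁻¹) (a * g * a⁻¹) := by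
        show a * z * a⁻¹ * (a * g * a⁻¹) = a * g * a⁻¹ * (a * z * a⁻¹)
        calc a * z * a⁻¹ * (a * g * a⁻¹) = a * (z * g) * a⁻¹ := by group
          _ = a * (g * z) * a⁻¹ := by rw [hzg.eq]
          _ = _ := by group
      have h2 : g = v⁻¹ * (a * g * a⁻¹) := by rw [hv]; group
      have h3 : Commute (a * z * a⁻¹) g := by
        rw [h2]; exact ((hVc _ hm _ hvV).inv_right).mul_right h1
      exact h3.eq
    have hZne : Z ≠ ⊥ := by
      haveI := hWp.isNilpotent
      haveI : (V.subgroupOf W).Normal := inferInstance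
      have hne : V.subgroupOf W ≠ ⊥ := by
        intro h
        rw [Subgroup.subgroupOf_eq_bot, disjoint_iff, inf_eq_left.mpr (le_sup_left : V ≤ W)] at h
        exact hV1 h
      obtain ⟨w, hw, hw1⟩ := (Subgroup.bot_or_exists_ne_one _).resolve_left
        (Solvable.FrattiniFitting.inf_center_ne_bot (V.subgroupOf W) hne)
      intro h
      apply hw1
      have : (w : G) ∈ Z := ⟨hw.1, Subgroup.mem_centralizer_singleton_iff.mpr
        (congrArg Subtype.val (Subgroup.mem_center_iff.mp hw.2 ⟨g, hgW⟩)).symm⟩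
      rw [h, Subgroup.mem_bot] at this
      exact Subtype.ext this
    have hVT : V ≤ T := by
      intro v hv
      rw [hT, Subgroup.mem_comap, show π v = 1 from (QuotientGroup.eq_one_iff v).mpr hv]
      exact one_mem _
    -- a nontrivial element fixed by a Sylow subgroup of `T`
    obtain ⟨Q⟩ : Nonempty (Sylow p T) := inferInstance
    set Q' := (Q : Subgroup T).map T.subtype with hQ'
    have hQT : Q' ≤ T := Subgroup.map_subtype_le _
    haveI hQn : Group.IsNilpotent Q' := (Q.isPGroup'.map T.subtype).isNilpotent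
    have hVQ : V ≤ Q' := by
      rw [← Subgroup.map_subgroupOf_eq_of_le hVT]
      exact Subgroup.map_mono ((hV.of_equiv (Subgroup.subgroupOfEquivOfLe hVT).symm).le_sylow_of_normal Q)
    haveI : (Z.subgroupOf Q').Normal := ⟨fun z hz a => hZinv a (hQT a.2) z hz⟩
    have hne : Z.subgroupOf Q' ≠ ⊥ := by
      intro h
      rw [Subgroup.subgroupOf_eq_bot, disjoint_iff, inf_eq_left.mpr (le_trans inf_le_left hVQ)] at h
      exact hZne h
    obtain ⟨z, hz, hz1⟩ := (Subgroup.bot_or_exists_ne_one _).resolve_left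
      (Solvable.FrattiniFitting.inf_center_ne_bot (Z.subgroupOf Q') hne)
    have hzG : (z : G) ≠ 1 := fun h => hz1 (Subtype.ext h)
    have hTz : T ≤ Subgroup.centralizer ({(z : G)} : Set G) := by
      rw [← Subgroup.subgroupOf_eq_top]
      refine Solvable.Cores.eq_top_of_sylow_le _ fun r hr => ?_
      haveI := Fact.mk hr
      by_cases hrp : r = p
      · subst hrp
        refine ⟨Q, fun a ha => ?_⟩
        rw [Subgroup.mem_subgroupOf, Subgroup.mem_centralizer_singleton_iff]
        exact congrArg Subtype.val (Subgroup.mem_center_iff.mp hz.2 ⟨(a : G), ⟨a, ha, rfl⟩⟩)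
      obtain ⟨R⟩ : Nonempty (Sylow r T) := inferInstance
      refine ⟨R, fun aT haR => ?_⟩
      obtain ⟨j, hj⟩ := IsPGroup.iff_orderOf.mp R.isPGroup' ⟨aT, haR⟩
      rw [Subgroup.orderOf_mk, ← Subgroup.orderOf_coe] at hj
      rw [Subgroup.mem_subgroupOf, Subgroup.mem_centralizer_singleton_iff]
      obtain ⟨a, ha⟩ := aT
      have hcopA : (Nat.card (Subgroup.zpowers a)).Coprime (Nat.card V) := by
        rw [Nat.card_zpowers, hj, hk]; exact Nat.coprime_pow_primes _ _ hr hp hrp
      have hAN : Subgroup.zpowers a ≤ Subgroup.normalizer (V : Set G) := by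
        rw [Subgroup.normalizer_eq_top]; exact le_top
      obtain ⟨n, hn, hng⟩ := Coprime.exists_mul_mem_centralizer hAN hcopA (Or.inr (Group.isSolvable_of_comm fun x y => mul_comm' x y)) (k := g) (by
        intro b hb
        exact hcomm b (Subgroup.zpowers_le.mpr ha hb) g rfl)
      have hg'a : Commute a (n * g) := (Subgroup.mem_centralizer_iff.mp hng a (Subgroup.mem_zpowers a))
      have hg'1 : n * g ≠ 1 := fun h => hgV (by rw [eq_inv_of_mul_eq_one_right h]; exact inv_mem hn)
      haveI := hCN _ hg'1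
      have hzg' : Commute (z : G) (n * g) :=
        (hVc _ hz.1.1 _ hn).mul_right (Subgroup.mem_centralizer_singleton_iff.mp hz.1.2)
      obtain ⟨m, hm⟩ : ∃ m, orderOf (z : G) = p ^ m := by
        obtain ⟨m, hm⟩ := IsPGroup.iff_orderOf.mp hV ⟨(z : G), hz.1.1⟩
        exact ⟨m, by rw [← hm]; exact Subgroup.orderOf_coe (⟨(z : G), hz.1.1⟩ : V)⟩
      exact (Basic.commute_of_mem_nilpotent (K := Subgroup.centralizer ({n * g} : Set G))
        (Subgroup.mem_centralizer_singleton_iff.mpr hg'a.eq) (Subgroup.mem_centralizer_singleton_iff.mpr hzg'.eq)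
        (by rw [hj, hm]; exact Nat.coprime_pow_primes _ _ hr hp hrp)).eq
    haveI := hCN _ hzG
    haveI := isNilpotent_of_le hTz
    exact Group.nilpotent_of_surjective (π.subgroupMap T) (π.subgroupMap_surjective T)
  · -- a lift of coprime order
    obtain ⟨k, hk⟩ := IsPGroup.iff_card.mp hV
    have hA : (Nat.card V).Coprime p := by
      rw [hk]; exact ((Nat.coprime_primes (Fact.out) hp).mpr (Ne.symm hpq)).pow_left k
    obtain ⟨g', hg', hg'g⟩ : ∃ g' : G, (orderOf g').Coprime (Nat.card V) ∧ π g' = π g := by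
      obtain ⟨s, t, e⟩ : IsCoprime ((q ^ k : ℕ) : ℤ) (p : ℤ) :=
        Int.isCoprime_iff_nat_coprime.mpr (by simpa [← hk] using hA)
      have h1 : g ^ p ∈ V := by
        rw [← QuotientGroup.eq_one_iff, QuotientGroup.mk_pow, ← hu]
        exact pow_orderOf_eq_one (π g)
      refine ⟨(g ^ (q ^ k)) ^ s, ?_, ?_⟩
      · refine Nat.Coprime.coprime_dvd_left ?_ hA.symm
        apply orderOf_dvd_of_pow_eq_one
        rw [← zpow_natCast, ← zpow_mul, mul_comm, zpow_mul, zpow_natCast, ← pow_mul, mul_comm, pow_mul, ← hk,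
          orderOf_dvd_iff_pow_eq_one.mp (Stabilize.orderOf_dvd_card_of_mem h1), one_zpow]
      · have h2 : (π g) ^ ((p : ℤ) * t) = 1 := by
          rw [zpow_mul, zpow_natCast, ← hu, pow_orderOf_eq_one, one_zpow]
        rw [map_zpow, map_pow, ← zpow_natCast, ← zpow_mul]
        conv_rhs => rw [← zpow_one (π g), ← e, zpow_add, mul_comm t, h2, mul_one, mul_comm s]
    have hne : g' ≠ 1 := by
      intro h
      rw [h, map_one] at hg'g
      rw [← hg'g, orderOf_one] at hu
      exact hp.ne_one hu.symm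
    have hle : T.map π ≤ (Subgroup.centralizer ({g'} : Set G)).map π := by
      rintro _ ⟨a, ha, rfl⟩
      obtain ⟨n, hn, hna⟩ := Coprime.exists_mul_mem_centralizer (A := Subgroup.zpowers g') (N := V)
        (by rw [Subgroup.normalizer_eq_top]; exact le_top) (by rwa [Nat.card_zpowers])
        (Or.inl (Coprime.isSolvable_zpowers g')) (k := a) (by
          intro b hb
          obtain ⟨i, rfl⟩ := Subgroup.mem_zpowers_iff.mp hb
          rw [← QuotientGroup.eq_one_iff]
          show π _ = 1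
          have ha : π a * π g = π g * π a := Subgroup.mem_centralizer_singleton_iff.mp ha
          rw [commutatorElement_def]
          simp only [map_mul, map_inv, map_zpow, hg'g]
          rw [((show Commute (π a) (π g) from ha).zpow_right i).symm.eq]
          group)
      refine ⟨n * a, ?_, by rw [map_mul, show π n = 1 from (QuotientGroup.eq_one_iff n).mpr hn, one_mul]⟩
      rw [SetLike.mem_coe, Subgroup.mem_centralizer_singleton_iff]
      exact (Subgroup.mem_centralizer_iff.mp hna g' (Subgroup.mem_zpowers g')).symm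
    haveI := hCN g' hne
    haveI : Group.IsNilpotent ((Subgroup.centralizer ({g'} : Set G)).map π) :=
      Group.nilpotent_of_surjective _ (π.subgroupMap_surjective _)
    exact isNilpotent_of_le hle

end CfsgLib.OddOrder.CN
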