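import Cfsg.Agent.Lib.OddOrder.CNIsolated
import Cfsg.Agent.Lib.OddOrder.CN
import Cfsg.Agent.Lib.FrobRealize.Theorem
import Cfsg.Agent.Lib.Char.TICover.Main
import Cfsg.Agent.S1473

/-!
# Groups of odd order with nilpotent centralizers are solvable
-/

set_option autoImplicit false

namespace CfsgLib.OddOrder.CNTheorem

universe u

variable {G : Type u} [Group G] [Finite G]

omit [Finite G] in
theorem zpowers_isNilpotent (g : G) : Group.IsNilpotent (Subgroup.zpowers g) := by
  let _ : CommGroup (Subgroup.zpowers g) :=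
    { (inferInstance : Group (Subgroup.zpowers g)) with
      mul_comm := fun a b => Subgroup.mul_comm_of_mem_isMulCommutative _ a.2 b.2 |> Subtype.ext }
  infer_instance

section Minimal

variable [IsSimpleGroup G] (hns : ¬ Group.IsSolvable G) (hodd : Odd (Nat.card G))
  (hsol : ∀ K : Subgroup G, K ≠ ⊤ → Group.IsSolvable K) (hCN : Cfsg.IsCNGroup G)
include hns hodd hsol hCN

omit hsol in
theorem ne_bot_and_ne_top {H : Subgroup G} (hH : Group.IsNilpotent H)
    (hmax : ∀ L : Subgroup G, Group.IsNilpotent L → H ≤ L → L = H) : H ≠ ⊥ ∧ H ≠ ⊤ := by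
  refine ⟨?_, ?_⟩
  · intro hb
    obtain ⟨g, hg⟩ : ∃ g : G, g ≠ 1 := exists_ne 1
    have hn : Group.IsNilpotent (Subgroup.zpowers g) := zpowers_isNilpotent g
    have := hmax _ hn (hb ▸ bot_le)
    rw [hb] at this
    exact hg (Subgroup.mem_bot.mp (this ▸ Subgroup.mem_zpowers g))
  · intro ht
    subst ht
    haveI := hH
    exact hns (Group.isSolvable_of_surjective (f := (⊤ : Subgroup G).subtype)
      fun x => ⟨⟨x, trivial⟩, rfl⟩)

theorem ti_of_maximal {H : Subgroup G} (hH : Group.IsNilpotent H)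
    (hmax : ∀ L : Subgroup G, Group.IsNilpotent L → H ≤ L → L = H) (g : G)
    (hg : H.map (MulAut.conj g).toMonoidHom ≠ H) :
    H ⊓ H.map (MulAut.conj g).toMonoidHom = ⊥ := by
  have h1 : Nat.card H ≠ 1 := fun h =>
    (ne_bot_and_ne_top hns hodd hCN hH hmax).1 (Subgroup.eq_bot_of_card_eq _ h)
  by_cases hnp : IsPrimePow (Nat.card H)
  swap
  · exact CN.inter_conj_eq_bot hCN hH hmax hnp h1 g hg
  obtain ⟨p, k, hp, hk, hpk⟩ := (isPrimePow_nat_iff _).mp hnp
  haveI := Fact.mk hp
  have hHp : IsPGroup p H := IsPGroup.of_card hpk.symm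
  have hd : p ∣ Nat.card H := hpk ▸ dvd_pow_self p hk.ne'
  obtain ⟨S, hS⟩ := CN.sylow_le hCN hH hmax hd
  have hSH : H = (S : Subgroup G) := S.is_maximal' hHp hS
  obtain ⟨z, hz1, hzS, hzc⟩ :=
    CN.exists_sylow_center_ne_one S (hd.trans (Subgroup.card_subgroup_dvd_card H))
  have hCz : Subgroup.centralizer ({z} : Set G) = H :=
    CN.centralizer_center_eq hCN hH hmax hS hz1 hzS hzc
  obtain ⟨j, hj⟩ := IsPGroup.iff_orderOf.mp S.isPGroup' ⟨z, hzS⟩
  rw [Subgroup.orderOf_mk] at hj
  have hiso : CNIsolated.Isolated p G := by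
    intro y x hy hyk hx hc
    obtain ⟨k', hk'⟩ := hyk
    obtain ⟨T, hT⟩ := (IsPGroup.of_card (n := k') (by rw [Nat.card_zpowers, hk']) :
      IsPGroup p (Subgroup.zpowers y)).exists_le_sylow
    obtain ⟨c, hc'⟩ := MulAction.exists_smul_eq G T S
    have hmem : c * y * c⁻¹ ∈ (S : Subgroup G) := by
      rw [← hc', Sylow.coe_subgroup_smul]
      exact ⟨y, hT (Subgroup.mem_zpowers y), rfl⟩
    have hy' : c * y * c⁻¹ ≠ 1 := by simpa using hy
    haveI := hCN _ hy'
    have hzC : z ∈ Subgroup.centralizer ({c * y * c⁻¹} : Set G) :=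
      Subgroup.mem_centralizer_singleton_iff.mpr (hzc _ hmem).eq
    have hxC : c * x * c⁻¹ ∈ Subgroup.centralizer ({c * y * c⁻¹} : Set G) := by
      rw [Subgroup.mem_centralizer_singleton_iff]
      calc c * x * c⁻¹ * (c * y * c⁻¹) = c * (x * y) * c⁻¹ := by group
        _ = c * (y * x) * c⁻¹ := by rw [hc.eq]
        _ = c * y * c⁻¹ * (c * x * c⁻¹) := by group
    have hord : orderOf (c * x * c⁻¹) = orderOf x := (MulAut.conj c).orderOf_eq x
    have hcomm := Basic.commute_of_mem_nilpotent hxC hzC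
      (by rw [hord, hj]; exact hx.pow_right j)
    have hxH : c * x * c⁻¹ ∈ H := by
      rw [← hCz, Subgroup.mem_centralizer_singleton_iff]; exact hcomm.eq
    obtain ⟨i, hi⟩ := IsPGroup.iff_orderOf.mp hHp ⟨_, hxH⟩
    rw [Subgroup.orderOf_mk, hord] at hi
    have : orderOf x = 1 := by
      have h := hx
      rw [hi] at h ⊢
      rcases Nat.eq_zero_or_pos i with rfl | hi0
      · exact pow_zero p
      · exact absurd ((Nat.coprime_pow_left_iff hi0 p p).mp h)
          (by simpa [Nat.coprime_self] using hp.ne_one)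
    exact orderOf_eq_one_iff.mp this
  rw [hSH] at hg ⊢
  have hne : S ≠ g • S := fun h => hg (congrArg (fun T : Sylow p G => (T : Subgroup G)) h).symm
  exact CNIsolated.inf_eq_bot hns hodd hsol hiso S (g • S) hne

theorem normalizer_ne {H : Subgroup G} (hH : Group.IsNilpotent H)
    (hmax : ∀ L : Subgroup G, Group.IsNilpotent L → H ≤ L → L = H) :
    H < Subgroup.normalizer (H : Set G) := by
  refine lt_of_le_of_ne Subgroup.le_normalizer fun heq => ?_
  obtain ⟨hb, ht⟩ := ne_bot_and_ne_top hns hodd hCN hH hmax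
  have hF : Cfsg.IsFrobeniusComplement H := ⟨hb, ht, fun g hg => by
    refine ti_of_maximal hns hodd hsol hCN hH hmax g fun h => hg ?_
    rw [heq, Subgroup.mem_normalizer_iff]
    intro x
    constructor
    · intro hx; rw [← h]; exact ⟨x, hx, rfl⟩
    · intro hx
      rw [← h] at hx
      obtain ⟨w, hw, hwx⟩ := hx
      rwa [← (MulAut.conj g).injective hwx]⟩
  obtain ⟨N, -, hN, hc⟩ := FrobRealize.exists_normal_kernel hF
  rcases IsSimpleGroup.eq_bot_or_eq_top_of_normal N hN with h | h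
  · subst h; exact ht (Subgroup.isComplement'_bot_left.1 hc)
  · subst h; exact hb (Subgroup.isComplement'_top_left.1 hc)

theorem false_of_minimal : False := by
  classical
  cases nonempty_fintype G
  have hbig : ∀ p ∈ (Nat.card G).primeFactors, ∃ H : Subgroup G, Group.IsNilpotent H ∧
      (∀ L : Subgroup G, Group.IsNilpotent L → H ≤ L → L = H) ∧ p ∣ Nat.card H := by
    intro p hp
    haveI := Fact.mk (Nat.prime_of_mem_primeFactors hp)
    obtain ⟨x, hx⟩ := exists_prime_orderOf_dvd_card' (G := G) p (Nat.dvd_of_mem_primeFactors hp)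
    obtain ⟨H, hle, h1, h2⟩ := CN.exists_maximal_nilpotent
      (zpowers_isNilpotent x)
    exact ⟨H, h1, h2, hx ▸ Subgroup.orderOf_dvd_natCard H (hle (Subgroup.mem_zpowers x))⟩
  choose! Hp hH hmax hdvd using hbig
  let ι := {p : ℕ // p ∈ (Nat.card G).primeFactors ∧ (Nat.card (Hp p)).minFac = p}
  haveI : Finite ι := Finite.of_injective
    (fun i : ι => (⟨i.1, i.2.1⟩ : {p : ℕ // p ∈ (Nat.card G).primeFactors}))
    fun a b h => Subtype.ext (congrArg (fun x => x.1) h)
  cases nonempty_fintype ι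
  have hcov : ∀ g : G, g ≠ 1 → ∃ i : ι, ∃ x : G, x⁻¹ * g * x ∈ Hp i.1 := by
    intro g hg
    obtain ⟨H, hle, h1, h2⟩ := CN.exists_maximal_nilpotent
      (zpowers_isNilpotent g)
    have hne : Nat.card H ≠ 1 := fun h =>
      (ne_bot_and_ne_top hns hodd hCN h1 h2).1 (Subgroup.eq_bot_of_card_eq _ h)
    set q := (Nat.card H).minFac with hq
    have hqp : q.Prime := Nat.minFac_prime hne
    have hqG : q ∈ (Nat.card G).primeFactors := Nat.mem_primeFactors.mpr
      ⟨hqp, (Nat.minFac_dvd _).trans (Subgroup.card_subgroup_dvd_card H), Nat.card_pos.ne'⟩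
    obtain ⟨c, hc⟩ := CN.conj_of_common_prime hCN (hH q hqG) (hmax q hqG) h1 h2 hqp (hdvd q hqG)
      (Nat.minFac_dvd _)
    have hcard : Nat.card H = Nat.card (Hp q) := by
      rw [hc]; exact Coprime.card_conj_map _ c
    refine ⟨⟨q, hqG, by rw [← hcard]⟩, c, ?_⟩
    have h := hle (Subgroup.mem_zpowers g)
    rw [hc] at h
    obtain ⟨w, hw, rfl⟩ := h
    simpa [mul_assoc] using hw
  obtain ⟨g, hg⟩ : ∃ g : G, g ≠ 1 := exists_ne 1
  haveI : Nonempty ι := ⟨(hcov g hg).choose⟩
  have hnorm : ∀ (i : ι) (x : G), x ∈ Subgroup.normalizer (Hp i.1 : Set G) → ∀ a ∈ Hp i.1,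
      x⁻¹ * a * x ∈ Hp i.1 := fun i x hx a ha => by
    simpa using (Subgroup.mem_normalizer_iff.mp (inv_mem hx) a).mp ha
  refine Char.TICover.false_of_cover hodd (fun i : ι => Subgroup.normalizer (Hp i.1 : Set G))
    (fun i => Hp i.1) (fun i => ?_) ?_ fun y hy => ?_
  · have hti := ti_of_maximal hns hodd hsol hCN (hH i.1 i.2.1) (hmax i.1 i.2.1)
    refine ⟨normalizer_ne hns hodd hsol hCN (hH i.1 i.2.1) (hmax i.1 i.2.1),
      (ne_bot_and_ne_top hns hodd hCN (hH i.1 i.2.1) (hmax i.1 i.2.1)).1, hnorm i, ?_, ?_⟩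
    · intro a ha ha1 x _ hxa
      exact CN.centralizer_le_of_ti hCN (hH i.1 i.2.1) (hmax i.1 i.2.1) hti ha ha1
        (Subgroup.mem_centralizer_singleton_iff.mpr hxa)
    · intro x a ha ha1 hxa
      by_contra hn
      have hne : (Hp i.1).map (MulAut.conj x).toMonoidHom ≠ Hp i.1 := by
        intro h
        refine hn (Subgroup.mem_normalizer_iff.mpr fun y => ⟨fun hy => ?_, fun hy => ?_⟩)
        · rw [← h]; exact ⟨y, hy, rfl⟩
        · rw [← h] at hy
          obtain ⟨w, hw, hwy⟩ := hy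
          rwa [← (MulAut.conj x).injective hwy]
      have hmem : a ∈ Hp i.1 ⊓ (Hp i.1).map (MulAut.conj x).toMonoidHom :=
        ⟨ha, _, hxa, by simp [mul_assoc]⟩
      rw [hti x hne, Subgroup.mem_bot] at hmem
      exact ha1 hmem
  · intro i j hij
    by_contra hn
    obtain ⟨r, hr, h1, h2⟩ := Nat.Prime.not_coprime_iff_dvd.mp hn
    obtain ⟨c, hc⟩ := CN.conj_of_common_prime hCN (hH i.1 i.2.1) (hmax i.1 i.2.1) (hH j.1 j.2.1)
      (hmax j.1 j.2.1) hr h1 h2
    refine hij (Subtype.ext ?_)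
    have hcard : Nat.card (Hp j.1) = Nat.card (Hp i.1) := by
      rw [hc]; exact Coprime.card_conj_map _ c
    rw [← i.2.2, ← j.2.2, hcard]
  · obtain ⟨i, x, hx⟩ := hcov y hy
    exact ⟨i, hy, x, hx⟩

end Minimal

theorem isCNGroup_subgroup (hCN : Cfsg.IsCNGroup G) (K : Subgroup G) : Cfsg.IsCNGroup K := by
  intro g hg
  haveI := hCN (g : G) fun h => hg (Subtype.ext h)
  have hle : (Subgroup.centralizer ({g} : Set K)).map K.subtype ≤
      Subgroup.centralizer ({(g : G)} : Set G) := by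
    rintro _ ⟨x, hx, rfl⟩
    exact Subgroup.mem_centralizer_singleton_iff.mpr
      (congrArg Subtype.val (Subgroup.mem_centralizer_singleton_iff.mp hx))
  haveI := CN.isNilpotent_of_le hle
  exact Group.nilpotent_of_mulEquiv
    ((Subgroup.centralizer ({g} : Set K)).equivMapOfInjective _ K.subtype_injective).symm

omit [Finite G] in
theorem isSolvable_aux : ∀ (n : ℕ) (G : Type u) [Group G] [Finite G], Nat.card G = n →
    Odd (Nat.card G) → Cfsg.IsCNGroup G → Group.IsSolvable G := by
  intro n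
  induction n using Nat.strong_induction_on with
  | _ n ih =>
    intro G _ _ hn hodd hCN
    by_contra hns
    have hsol : ∀ K : Subgroup G, K ≠ ⊤ → Group.IsSolvable K := fun K hK => by
      have hlt : Nat.card K < n := hn ▸ lt_of_le_of_ne (Subgroup.card_le_card_group K)
        fun h => hK (Subgroup.eq_top_of_card_eq K h)
      exact ih _ hlt K rfl (hodd.of_dvd_nat (Subgroup.card_subgroup_dvd_card K))
        (isCNGroup_subgroup hCN K)
    haveI : Nontrivial G := by
      rcases subsingleton_or_nontrivial G with h | h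
      · exact absurd (inferInstance : Group.IsSolvable G) hns
      · exact h
    haveI : IsSimpleGroup G := ⟨fun N hN => by
      by_contra hc
      push Not at hc
      haveI := hN
      haveI hNs := hsol N hc.2
      have hlt : Nat.card (G ⧸ N) < n := hn ▸ Solvable.Basic.card_quotient_lt N hc.1
      haveI := ih _ hlt (G ⧸ N) rfl (hodd.of_dvd_nat (Subgroup.card_quotient_dvd_card N))
        (Cfsg.Agent.S1473.result hCN N hNs)
      exact hns (Group.isSolvable_of_ker_le_range N.subtype (QuotientGroup.mk' N)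
        (by rw [QuotientGroup.ker_mk', Subgroup.range_subtype]))⟩
    exact false_of_minimal hns hodd hsol hCN

/-- The CN theorem for odd order. -/
theorem isSolvable (hodd : Odd (Nat.card G)) (hCN : Cfsg.IsCNGroup G) : Group.IsSolvable G :=
  isSolvable_aux _ G rfl hodd hCN

end CfsgLib.OddOrder.CNTheorem
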