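import Mathlib

set_option autoImplicit false

/-!
A group `Q` of class two whose commutators act as non-trivial scalars, with an automorphism of odd prime order
without fixed points on `Q / Z`, realised by `X` without fixed points: no such representation exists.
-/

namespace CfsgLib.OddOrder.ExtraspecialDim

open scoped commutatorElement

variable {K : Type*} [Field K] {W : Type*} [AddCommGroup W] [Module K W] {Q : Type*} [Group Q] {Z : Subgroup Q}
  {ρ : Q →* Module.End K W}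

/-- Commutators lie in `Z`, which acts by scalars, non-degenerately. -/
structure Data (Z : Subgroup Q) (ρ : Q →* Module.End K W) : Prop where
  comm : ∀ g k : Q, ⁅g, k⁆ ∈ Z
  scalar : ∀ z ∈ Z, ∃ c : K, ρ z = c • 1
  nondeg : ∀ k : Q, k ∉ Z → ∃ g : Q, ρ ⁅g, k⁆ ≠ 1

theorem map_inv_mul (g : Q) : ρ g⁻¹ * ρ g = 1 := by rw [← map_mul, inv_mul_cancel, map_one]

theorem map_mul_inv (g : Q) : ρ g * ρ g⁻¹ = 1 := by rw [← map_mul, mul_inv_cancel, map_one]

theorem Data.commute (h : Data Z ρ) {z : Q} (hz : z ∈ Z) (T : Module.End K W) : Commute (ρ z) T := by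
  obtain ⟨c, hc⟩ := h.scalar z hz
  rw [hc]; exact (Commute.one_left T).smul_left c

theorem Data.map_conj (h : Data Z ρ) {z : Q} (hz : z ∈ Z) (g : Q) : ρ (g * z * g⁻¹) = ρ z := by
  rw [map_mul, map_mul, ← (h.commute hz (ρ g)).eq, mul_assoc, map_mul_inv, mul_one]

theorem Data.comm_mul (h : Data Z ρ) (g g' k : Q) : ρ ⁅g * g', k⁆ = ρ ⁅g', k⁆ * ρ ⁅g, k⁆ := by
  rw [show ⁅g * g', k⁆ = g * ⁅g', k⁆ * g⁻¹ * ⁅g, k⁆ by simp only [commutatorElement_def]; group, map_mul,
    h.map_conj (h.comm g' k)]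

theorem Data.comm_left (h : Data Z ρ) {z : Q} (hz : z ∈ Z) (k : Q) : ρ ⁅z, k⁆ = 1 := by
  rw [commutatorElement_def, show z * k * z⁻¹ * k⁻¹ = z * (k * z⁻¹ * k⁻¹) by group, map_mul,
    h.map_conj (inv_mem hz), map_mul_inv]

theorem Data.comm_right (h : Data Z ρ) {z : Q} (hz : z ∈ Z) (k : Q) : ρ ⁅k, z⁆ = 1 := by
  rw [commutatorElement_def, map_mul, h.map_conj hz, map_mul_inv]

/-- Conjugation by `ρ g`. -/
noncomputable def ad (ρ : Q →* Module.End K W) (g : Q) : Module.End K W →ₗ[K] Module.End K W :=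
  (LinearMap.mulRight K (ρ g⁻¹)).comp (LinearMap.mulLeft K (ρ g))

theorem ad_apply (g : Q) (T : Module.End K W) : ad ρ g T = ρ g * T * ρ g⁻¹ := rfl

theorem ad_ad (g g' : Q) (T : Module.End K W) : ad ρ g (ad ρ g' T) = ad ρ (g * g') T := by
  simp only [ad_apply, mul_inv_rev, map_mul, mul_assoc]

theorem Data.ad_mem (h : Data Z ρ) {z : Q} (hz : z ∈ Z) (T : Module.End K W) : ad ρ z T = T := by
  rw [ad_apply, (h.commute hz T).eq, mul_assoc, map_mul_inv, mul_one]

theorem Data.ad_mul_mem (h : Data Z ρ) {z : Q} (hz : z ∈ Z) (g : Q) (T : Module.End K W) :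
    ad ρ (g * z) T = ad ρ g T := by
  rw [← ad_ad, h.ad_mem hz]

/-- The commutant. -/
def commutant (ρ : Q →* Module.End K W) : Submodule K (Module.End K W) where
  carrier := {T | ∀ g, ρ g * T = T * ρ g}
  add_mem' := fun {a b} ha hb g => by rw [mul_add, add_mul, ha g, hb g]
  zero_mem' := fun g => by rw [mul_zero, zero_mul]
  smul_mem' := fun c a ha g => by rw [mul_smul_comm, smul_mul_assoc, ha g]

variable [Finite Q] [Z.Normal]

/-- The average over `Q / Z`. -/
noncomputable def avg (Z : Subgroup Q) [Z.Normal] (ρ : Q →* Module.End K W) :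
    Module.End K W →ₗ[K] Module.End K W :=
  ∑ᶠ s : Q ⧸ Z, ad ρ s.out

theorem avg_apply [Fintype (Q ⧸ Z)] (T : Module.End K W) : avg Z ρ T = ∑ s : Q ⧸ Z, ad ρ s.out T := by
  rw [avg, finsum_eq_sum_of_fintype, LinearMap.sum_apply]

theorem avg_mem (h : Data Z ρ) (T : Module.End K W) : avg Z ρ T ∈ commutant ρ := by
  classical
  letI := Fintype.ofFinite (Q ⧸ Z)
  intro g
  have e : ad ρ g (avg Z ρ T) = avg Z ρ T := by
    rw [avg_apply, map_sum]
    refine Fintype.sum_equiv (Equiv.mulLeft (g : Q ⧸ Z)) _ _ fun s => ?_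
    rw [ad_ad]
    show _ = ad ρ ((g : Q ⧸ Z) * s).out T
    obtain ⟨z, hz⟩ := QuotientGroup.mk_out_eq_mul Z (g * s.out)
    have e2 : ((g : Q ⧸ Z) * s) = ((g * s.out : Q) : Q ⧸ Z) := by
      rw [QuotientGroup.mk_mul, QuotientGroup.out_eq']
    rw [e2, hz, h.ad_mul_mem z.2]
  conv_rhs => rw [← e, ad_apply, mul_assoc, map_inv_mul, mul_one]

theorem avg_mul (T β : Module.End K W) (hβ : β ∈ commutant ρ) : avg Z ρ (T * β) = avg Z ρ T * β := by
  classical
  letI := Fintype.ofFinite (Q ⧸ Z)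
  rw [avg_apply, avg_apply, Finset.sum_mul]
  refine Finset.sum_congr rfl fun s _ => ?_
  rw [ad_apply, ad_apply]
  simp only [mul_assoc]
  rw [hβ s.out⁻¹]

theorem Data.avg_map_mem (h : Data Z ρ) {z : Q} (hz : z ∈ Z) :
    avg Z ρ (ρ z) = (Nat.card (Q ⧸ Z) : K) • ρ z := by
  classical
  letI := Fintype.ofFinite (Q ⧸ Z)
  rw [avg_apply, Nat.card_eq_fintype_card, Nat.cast_smul_eq_nsmul, ← Finset.card_univ, ← Finset.sum_const]
  refine Finset.sum_congr rfl fun s _ => ?_
  rw [ad_apply, ← map_mul, ← map_mul, h.map_conj hz]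

theorem Data.sum_comm [Fintype (Q ⧸ Z)] (h : Data Z ρ) {k : Q} (hk : k ∉ Z) :
    ∑ s : Q ⧸ Z, ρ ⁅s.out, k⁆ = 0 := by
  obtain ⟨g, hg⟩ := h.nondeg k hk
  obtain ⟨c, hc⟩ := h.scalar _ (h.comm g k)
  have e : (∑ s : Q ⧸ Z, ρ ⁅s.out, k⁆) * ρ ⁅g, k⁆ = ∑ s : Q ⧸ Z, ρ ⁅s.out, k⁆ := by
    rw [Finset.sum_mul]
    refine Fintype.sum_equiv (Equiv.mulLeft (g : Q ⧸ Z)) _ _ fun s => ?_
    obtain ⟨z, hz⟩ := QuotientGroup.mk_out_eq_mul Z (g * s.out)
    show _ = ρ ⁅((g : Q ⧸ Z) * s).out, k⁆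
    rw [show ((g : Q ⧸ Z) * s) = ((g * s.out : Q) : Q ⧸ Z) by
      rw [QuotientGroup.mk_mul, QuotientGroup.out_eq'], hz, h.comm_mul (g * s.out) z, h.comm_mul g s.out,
      h.comm_left z.2, one_mul]
  rw [hc, mul_smul_comm, mul_one] at e
  have hc1 : c - 1 ≠ 0 := fun h0 => hg (by rw [hc, sub_eq_zero.mp h0, one_smul])
  refine (smul_eq_zero.mp (?_ : (c - 1) • (∑ s : Q ⧸ Z, ρ ⁅s.out, k⁆) = 0)).resolve_left hc1
  rw [sub_smul, one_smul, e, sub_self]

theorem Data.avg_map_not_mem (h : Data Z ρ) {k : Q} (hk : k ∉ Z) : avg Z ρ (ρ k) = 0 := by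
  classical
  letI := Fintype.ofFinite (Q ⧸ Z)
  have e : ∀ s : Q, ad ρ s (ρ k) = ρ ⁅s, k⁆ * ρ k := fun s => by
    rw [ad_apply, ← map_mul, ← map_mul, ← map_mul, commutatorElement_def, inv_mul_cancel_right]
  rw [avg_apply, Finset.sum_congr rfl fun s _ => e _, ← Finset.sum_mul, h.sum_comm hk, zero_mul]

theorem decomp [Fintype (Q ⧸ Z)] (h : Data Z ρ) (T : Module.End K W) :
    ∑ s : Q ⧸ Z, ρ s.out * avg Z ρ (ρ s.out⁻¹ * T) = (Nat.card (Q ⧸ Z) : K) • T := by
  classical
  have e : ∀ s : Q ⧸ Z, ρ s.out * avg Z ρ (ρ s.out⁻¹ * T) =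
      ∑ k : Q ⧸ Z, ρ ⁅s.out, k.out⁆ * ad ρ k.out T := fun s => by
    rw [avg_apply, Finset.mul_sum]
    refine Finset.sum_congr rfl fun k _ => ?_
    simp only [ad_apply, ← mul_assoc]
    rw [← map_mul, ← map_mul, ← map_mul, show s.out * k.out * s.out⁻¹ = ⁅s.out, k.out⁆ * k.out by
      rw [commutatorElement_def, inv_mul_cancel_right]]
  rw [Finset.sum_congr rfl fun s _ => e s, Finset.sum_comm]
  simp only [← Finset.sum_mul]
  have h1 : (1 : Q ⧸ Z).out ∈ Z := (QuotientGroup.eq_one_iff _).mp (QuotientGroup.out_eq' 1)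
  rw [Finset.sum_eq_single (1 : Q ⧸ Z)]
  · rw [h.ad_mem h1, Finset.sum_congr rfl fun s _ => h.comm_right h1 _, Finset.sum_const, Finset.card_univ,
      smul_one_mul, Nat.card_eq_fintype_card, Nat.cast_smul_eq_nsmul]
  · intro k _ hk
    rw [h.sum_comm fun hm => hk (by rw [← QuotientGroup.out_eq' k]; exact (QuotientGroup.eq_one_iff _).mpr hm),
      zero_mul]
  · intro hn; exact absurd (Finset.mem_univ _) hn

theorem card_mul_finrank_le [Module.Finite K W] (h : Data Z ρ) (hD : (Nat.card (Q ⧸ Z) : K) ≠ 0) :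
    Nat.card (Q ⧸ Z) * Module.finrank K (commutant ρ) ≤ Module.finrank K (Module.End K W) := by
  classical
  letI := Fintype.ofFinite (Q ⧸ Z)
  let Φ : ((Q ⧸ Z) → commutant ρ) →ₗ[K] Module.End K W :=
    ∑ s : Q ⧸ Z, (LinearMap.mulLeft K (ρ s.out)).comp ((commutant ρ).subtype.comp (LinearMap.proj s))
  have hΦ : ∀ β, Φ β = ∑ s : Q ⧸ Z, ρ s.out * (β s : Module.End K W) := fun β => by
    simp [Φ, LinearMap.sum_apply]
  have hinj : Function.Injective Φ := by
    refine (injective_iff_map_eq_zero Φ).mpr fun β hβ => funext fun t => Subtype.ext ?_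
    have h0 : avg Z ρ (ρ t.out⁻¹ * Φ β) = 0 := by rw [hβ, mul_zero, map_zero]
    rw [hΦ, Finset.mul_sum, map_sum, Finset.sum_eq_single t] at h0
    · rw [← mul_assoc, ← map_mul, inv_mul_cancel, avg_mul _ _ (β t).2, h.avg_map_mem (one_mem Z), map_one,
        smul_one_mul] at h0
      exact (smul_eq_zero.mp h0).resolve_left hD
    · intro s _ hs
      rw [← mul_assoc, ← map_mul, avg_mul _ _ (β s).2, h.avg_map_not_mem fun hm => hs ?_, zero_mul]
      rw [← QuotientGroup.out_eq' s, ← QuotientGroup.out_eq' t]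
      exact (QuotientGroup.eq.mpr hm).symm
    · intro hn; exact absurd (Finset.mem_univ _) hn
  have := LinearMap.finrank_le_finrank_of_injective hinj
  rwa [Module.finrank_pi_fintype, Finset.sum_const, Finset.card_univ, smul_eq_mul, ← Nat.card_eq_fintype_card] at this

theorem finrank_le_card_mul [Module.Finite K W] (h : Data Z ρ) (hD : (Nat.card (Q ⧸ Z) : K) ≠ 0) :
    Module.finrank K (Module.End K W) ≤ Nat.card (Q ⧸ Z) * Module.finrank K (commutant ρ) := by
  classical
  letI := Fintype.ofFinite (Q ⧸ Z)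
  let Ψ : Module.End K W →ₗ[K] ((Q ⧸ Z) → commutant ρ) :=
    LinearMap.pi fun s => ((avg Z ρ).comp (LinearMap.mulLeft K (ρ s.out⁻¹))).codRestrict _ fun T => avg_mem h _
  have hinj : Function.Injective Ψ := by
    refine (injective_iff_map_eq_zero Ψ).mpr fun T hT => ?_
    have h0 : ∀ s : Q ⧸ Z, avg Z ρ (ρ s.out⁻¹ * T) = 0 := fun s => congrArg Subtype.val (congrFun hT s)
    have h2 := decomp h T
    rw [Finset.sum_congr rfl fun s _ => by rw [h0 s, mul_zero], Finset.sum_const_zero] at h2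
    exact (smul_eq_zero.mp h2.symm).resolve_left hD
  have := LinearMap.finrank_le_finrank_of_injective hinj
  rwa [Module.finrank_pi_fintype, Finset.sum_const, Finset.card_univ, smul_eq_mul, ← Nat.card_eq_fintype_card] at this

/-- The centraliser of `X`. -/
def fixed (X : Module.End K W) : Submodule K (Module.End K W) where
  carrier := {T | X * T = T * X}
  add_mem' := fun {a b} (ha : X * a = a * X) (hb : X * b = b * X) => by
    show X * (a + b) = (a + b) * X
    rw [mul_add, add_mul, ha, hb]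
  zero_mem' := by show X * 0 = 0 * X; rw [mul_zero, zero_mul]
  smul_mem' := fun c a (ha : X * a = a * X) => by
    show X * (c • a) = (c • a) * X
    rw [mul_smul_comm, smul_mul_assoc, ha]

theorem finrank_fixed_le [Module.Finite K W] (h : Data Z ρ) (hD : (Nat.card (Q ⧸ Z) : K) ≠ 0) {r : ℕ}
    (hr : r.Prime) (σ : Q ≃* Q) (hσr : ∀ g, σ^[r] g = g) (hσZ : ∀ z ∈ Z, σ z ∈ Z)
    (hfpf : ∀ g, g⁻¹ * σ g ∈ Z → g ∈ Z) {X : Module.End K W} (hXr : X ^ r = 1)
    (hX : ∀ g, X * ρ g = ρ (σ g) * X) :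
    ∃ m : ℕ, r * m + 1 = Nat.card (Q ⧸ Z) + r ∧
      Module.finrank K (fixed X) ≤ m * Module.finrank K (commutant ρ) := by
  classical
  letI := Fintype.ofFinite (Q ⧸ Z)
  let f : Q ⧸ Z →* Q ⧸ Z := QuotientGroup.map Z Z σ.toMonoidHom fun z hz => hσZ z hz
  have hf : ∀ g : Q, f (g : Q ⧸ Z) = ((σ g : Q) : Q ⧸ Z) := fun g => rfl
  have hiter : ∀ (n : ℕ) (g : Q), f^[n] (g : Q ⧸ Z) = ((σ^[n] g : Q) : Q ⧸ Z) := by
    intro n
    induction n with
    | zero => intro g; rfl
    | succ n ih =>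
      intro g
      rw [Function.iterate_succ_apply', ih, hf, Function.iterate_succ_apply' (f := σ)]
  have hfr : ∀ s, f^[r] s = s := fun s => by
    obtain ⟨g, rfl⟩ := QuotientGroup.mk_surjective s
    rw [hiter, hσr]
  have hfb : Function.Bijective f := by
    refine Finite.injective_iff_bijective.mp fun a b hab => ?_
    rw [← hfr a, ← hfr b, ← Nat.succ_pred_eq_of_pos hr.pos, Function.iterate_succ_apply,
      Function.iterate_succ_apply, hab]
  let π : Equiv.Perm (Q ⧸ Z) := Equiv.ofBijective f hfb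
  have hπ : ∀ n : ℕ, ⇑(π ^ n) = f^[n] := fun n => by
    rw [Equiv.Perm.coe_pow]; rfl
  have hπr : π ^ r = 1 := Equiv.ext fun s => by rw [hπ, hfr]; rfl
  let H := Subgroup.zpowers π
  let Ω := MulAction.orbitRel.Quotient H (Q ⧸ Z)
  letI : Fintype Ω := Fintype.ofFinite Ω
  have hHr : Nat.card H ∣ r := by rw [Nat.card_zpowers]; exact orderOf_dvd_of_pow_eq_one hπr
  -- orbit lengths
  have hlen : ∀ ω : Ω, ω ≠ Quotient.mk'' 1 → Nat.card ω.orbit = r := by
    intro ω hω
    rw [← Quotient.out_eq ω] at hω ⊢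
    set s := ω.out
    have hd : Nat.card (MulAction.orbit H s) ∣ r := by
      refine dvd_trans ⟨Nat.card (MulAction.stabilizer H s), ?_⟩ hHr
      letI := Fintype.ofFinite H
      rw [Nat.card_eq_fintype_card, Nat.card_eq_fintype_card, Nat.card_eq_fintype_card,
        MulAction.card_orbit_mul_card_stabilizer_eq_card_group]
    rw [show (MulAction.orbitRel.Quotient.orbit (⟦s⟧ : Ω)) = MulAction.orbit H s from rfl]
    refine ((Nat.dvd_prime hr).mp hd).resolve_left fun h1 => hω ?_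
    have hs : f s = s := by
      have hmem : f s ∈ MulAction.orbit H s := ⟨⟨π, Subgroup.mem_zpowers π⟩, rfl⟩
      have hss := (Nat.card_eq_one_iff_unique.mp h1).1
      exact congrArg Subtype.val (hss.elim ⟨_, hmem⟩ ⟨s, MulAction.mem_orbit_self s⟩)
    obtain ⟨g, hg⟩ := QuotientGroup.mk_surjective s
    rw [← hg, hf] at hs
    have hgZ : g ∈ Z := hfpf g (QuotientGroup.eq.mp hs.symm)
    rw [← hg, (QuotientGroup.eq_one_iff g).mpr hgZ]
  have hone : Nat.card (MulAction.orbitRel.Quotient.orbit (Quotient.mk'' 1 : Ω)) = 1 := by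
    rw [MulAction.orbitRel.Quotient.orbit_mk]
    refine Nat.card_eq_one_iff_unique.mpr ⟨⟨?_⟩, ⟨⟨1, MulAction.mem_orbit_self 1⟩⟩⟩
    rintro ⟨a, ⟨⟨u, hu⟩, rfl⟩⟩ ⟨b, ⟨⟨v, hv⟩, rfl⟩⟩
    have key : ∀ u ∈ H, u (1 : Q ⧸ Z) = 1 := fun u hu => by
      have : π ∈ MulAction.stabilizer (Equiv.Perm (Q ⧸ Z)) (1 : Q ⧸ Z) := by
        rw [MulAction.mem_stabilizer_iff]; exact map_one f
      exact MulAction.mem_stabilizer_iff.mp (Subgroup.zpowers_le.mpr this hu)
    exact Subtype.ext ((key u hu).trans (key v hv).symm)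
  have hcount : Nat.card (Q ⧸ Z) + r = r * Fintype.card Ω + 1 := by
    rw [Nat.card_congr (MulAction.selfEquivSigmaOrbits' H (Q ⧸ Z)), Nat.card_sigma,
      ← Finset.add_sum_erase _ _ (Finset.mem_univ (Quotient.mk'' 1 : Ω)), hone,
      Finset.sum_congr rfl fun ω hω => hlen ω (Finset.ne_of_mem_erase hω), Finset.sum_const,
      Finset.card_erase_of_mem (Finset.mem_univ _), Finset.card_univ, smul_eq_mul]
    have hpos : 0 < Fintype.card Ω := Fintype.card_pos_iff.mpr ⟨Quotient.mk'' 1⟩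
    obtain ⟨m, hm⟩ := Nat.exists_eq_succ_of_ne_zero hpos.ne'
    rw [hm, Nat.succ_sub_one, Nat.mul_succ, mul_comm r m]
    omega
  refine ⟨Fintype.card Ω, hcount.symm, ?_⟩
  -- components
  let comp : Q → Module.End K W → Module.End K W := fun g T => ρ g * avg Z ρ (ρ g⁻¹ * T)
  have hcompZ : ∀ g z, z ∈ Z → ∀ T, comp (g * z) T = comp g T := by
    intro g z hz T
    show ρ (g * z) * avg Z ρ (ρ (g * z)⁻¹ * T) = ρ g * avg Z ρ (ρ g⁻¹ * T)
    obtain ⟨c, hc⟩ := h.scalar z⁻¹ (inv_mem hz)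
    rw [mul_inv_rev, map_mul ρ z⁻¹, hc, smul_mul_assoc, one_mul, smul_mul_assoc, map_smul, map_mul, mul_assoc,
      mul_smul_comm]
    rw [← smul_mul_assoc, ← mul_one (ρ z), ← mul_smul_comm, ← hc, map_mul_inv, one_mul]
  have hσad : ∀ (g : Q) (T T' : Module.End K W), X * T = T' * X → X * ad ρ g T = ad ρ (σ g) T' * X := by
    intro g T T' hT
    rw [ad_apply, ad_apply, ← mul_assoc, ← mul_assoc, hX, mul_assoc (ρ (σ g)), hT, ← mul_assoc, mul_assoc _ X, hX,
      map_inv]
    simp only [mul_assoc]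
  have hσavg : ∀ T T' : Module.End K W, X * T = T' * X → X * avg Z ρ T = avg Z ρ T' * X := by
    intro T T' hT
    rw [avg_apply, avg_apply, Finset.mul_sum, Finset.sum_mul]
    refine Fintype.sum_equiv π _ _ fun s => ?_
    rw [hσad _ _ _ hT]
    obtain ⟨z, hz⟩ := QuotientGroup.mk_out_eq_mul Z (σ s.out)
    rw [show π s = ((σ s.out : Q) : Q ⧸ Z) by rw [← hf, QuotientGroup.out_eq']; rfl, hz, h.ad_mul_mem z.2]
  have hXc : ∀ {T : Module.End K W}, T ∈ fixed X → ∀ g, X * comp g T = comp (σ g) T * X := by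
    intro T hT g
    show X * (ρ g * avg Z ρ (ρ g⁻¹ * T)) = ρ (σ g) * avg Z ρ (ρ (σ g)⁻¹ * T) * X
    rw [← mul_assoc, hX, mul_assoc (ρ (σ g)), hσavg _ (ρ (σ g)⁻¹ * T) (by
      rw [← mul_assoc, hX, map_inv σ, mul_assoc, hT, mul_assoc]), mul_assoc]
  let Ψ : fixed X →ₗ[K] (Ω → commutant ρ) := LinearMap.pi fun ω =>
    (((avg Z ρ).comp (LinearMap.mulLeft K (ρ ω.out.out⁻¹))).comp (fixed X).subtype).codRestrict _
      fun T => avg_mem h _
  have hinj : Function.Injective Ψ := by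
    refine (injective_iff_map_eq_zero Ψ).mpr fun T hT => Subtype.ext ?_
    have h0 : ∀ ω : Ω, comp ω.out.out T = 0 := fun ω => by
      show ρ _ * avg Z ρ _ = 0
      rw [show avg Z ρ (ρ ω.out.out⁻¹ * (T : Module.End K W)) = 0 from congrArg Subtype.val (congrFun hT ω),
        mul_zero]
    have hstep : ∀ g, comp g T = 0 → comp (σ g) T = 0 := by
      intro g hg
      have h1 := hXc T.2 g
      rw [hg, mul_zero] at h1
      have h2 := congrArg (fun S => S * X ^ (r - 1)) h1.symm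
      simp only [zero_mul] at h2
      rwa [mul_assoc, ← pow_succ', Nat.sub_add_cancel hr.one_le, hXr, mul_one] at h2
    have hall : ∀ (n : ℕ) (g : Q), comp g T = 0 → comp (σ^[n] g) T = 0 := by
      intro n
      induction n with
      | zero => intro g hg; exact hg
      | succ n ih => intro g hg; rw [Function.iterate_succ_apply']; exact hstep _ (ih g hg)
    have hzero : ∀ s : Q ⧸ Z, comp s.out T = 0 := by
      intro s
      have hs : s ∈ MulAction.orbit H (Quotient.mk'' s : Ω).out := by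
        rw [← MulAction.orbitRel_apply]
        exact (MulAction.orbitRel H (Q ⧸ Z)).symm (Quotient.mk_out (s := MulAction.orbitRel H (Q ⧸ Z)) s)
      obtain ⟨⟨u, hu⟩, hus⟩ := hs
      obtain ⟨n, rfl⟩ := (mem_powers_iff_mem_zpowers.mpr hu : u ∈ Submonoid.powers π)
      set s₀ := (Quotient.mk'' s : Ω).out
      have e : s = ((σ^[n] s₀.out : Q) : Q ⧸ Z) := by
        rw [← hiter, QuotientGroup.out_eq', ← hπ]; exact hus.symm
      obtain ⟨z, hz⟩ := QuotientGroup.mk_out_eq_mul Z (σ^[n] s₀.out)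
      rw [e, hz, hcompZ _ _ z.2]
      exact hall n _ (h0 _)
    have h2 := decomp h (T : Module.End K W)
    rw [Finset.sum_congr rfl fun s _ => hzero s, Finset.sum_const_zero] at h2
    exact (smul_eq_zero.mp h2.symm).resolve_left hD
  have := LinearMap.finrank_le_finrank_of_injective hinj
  rwa [Module.finrank_pi_fintype, Finset.sum_const, Finset.card_univ, smul_eq_mul] at this

theorem sq_finrank_le [IsAlgClosed K] [Module.Finite K W] {r : ℕ} (hr : r.Prime) (hrK : (r : K) ≠ 0)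
    {X : Module.End K W} (hXr : X ^ r = 1) (hsum : ∑ i ∈ Finset.range r, X ^ i = 0) :
    Module.finrank K W ^ 2 ≤ (r - 1) * Module.finrank K (fixed X) := by
  classical
  haveI : NeZero (r : K) := ⟨hrK⟩
  haveI : NeZero r := ⟨hr.ne_zero⟩
  obtain ⟨ζ, hζ⟩ := HasEnoughRootsOfUnity.exists_primitiveRoot K r
  have hζ0 : ζ ≠ 0 := hζ.ne_zero hr.ne_zero
  -- projections
  let pr : ℕ → Module.End K W := fun i => (r : K)⁻¹ • ∑ k ∈ Finset.range r, (ζ⁻¹ ^ i) ^ k • X ^ k
  have hXpr : ∀ i, X * pr i = ζ ^ i • pr i := by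
    intro i
    simp only [pr, mul_smul_comm, Finset.mul_sum]
    rw [smul_comm (ζ ^ i)]
    congr 1
    rw [Finset.smul_sum]
    have e : ∀ k, (ζ⁻¹ ^ i) ^ k • (X * X ^ k) = ζ ^ i • ((ζ⁻¹ ^ i) ^ (k + 1) • X ^ (k + 1)) := by
      intro k
      rw [smul_smul, ← pow_succ', pow_succ' (ζ⁻¹ ^ i), ← mul_assoc, ← mul_pow, mul_inv_cancel₀ hζ0, one_pow, one_mul]
    simp only [e]
    have h1 := Finset.sum_range_succ' (fun k => ζ ^ i • ((ζ⁻¹ ^ i) ^ k • X ^ k)) r
    rw [Finset.sum_range_succ (fun k => ζ ^ i • ((ζ⁻¹ ^ i) ^ k • X ^ k)) r, hXr,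
      show (ζ⁻¹ ^ i) ^ r = 1 by rw [← pow_mul, mul_comm, pow_mul, inv_pow, hζ.pow_eq_one, inv_one, one_pow]] at h1
    rw [pow_zero, pow_zero] at h1
    exact (add_right_cancel h1).symm
  have hprX : ∀ i, pr i * X = ζ ^ i • pr i := fun i => by
    rw [← hXpr i]
    simp only [pr, mul_smul_comm, smul_mul_assoc, Finset.mul_sum, Finset.sum_mul]
    simp only [mul_smul_comm, smul_mul_assoc, ← pow_succ, ← pow_succ']
  have hsum1 : ∑ i ∈ Finset.range r, pr i = 1 := by
    simp only [pr, ← Finset.smul_sum]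
    rw [Finset.sum_comm, Finset.sum_eq_single 0]
    · simp [← Nat.cast_smul_eq_nsmul K, smul_smul, hrK]
    · intro k hk hk0
      rw [← Finset.sum_smul]
      have hne : ζ⁻¹ ^ k ≠ 1 := hζ.inv.pow_ne_one_of_pos_of_lt hk0 (Finset.mem_range.mp hk)
      have : ∑ i ∈ Finset.range r, (ζ⁻¹ ^ i) ^ k = 0 := by
        simp only [← pow_mul, mul_comm _ k]
        simp only [pow_mul]
        rw [geom_sum_eq hne, ← pow_mul, mul_comm, pow_mul, hζ.inv.pow_eq_one, one_pow, sub_self, zero_div]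
      rw [this, zero_smul]
    · intro hn; exact absurd (Finset.mem_range.mpr hr.pos) hn
  have hpr0 : pr 0 = 0 := by
    simp only [pr, pow_zero, one_pow, one_smul, hsum, smul_zero]
  have heig : ∀ i j, pr i * pr j = if i % r = j % r then pr j else 0 := by
    intro i j
    have e : ∀ k, X ^ k * pr j = (ζ ^ j) ^ k • pr j := by
      intro k
      induction k with
      | zero => rw [pow_zero, pow_zero, one_mul, one_smul]
      | succ k ih => rw [pow_succ, mul_assoc, hXpr, mul_smul_comm, ih, smul_smul, pow_succ']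
    conv_lhs => rw [show pr i = (r : K)⁻¹ • ∑ k ∈ Finset.range r, (ζ⁻¹ ^ i) ^ k • X ^ k from rfl]
    rw [smul_mul_assoc, Finset.sum_mul]
    simp only [smul_mul_assoc, e, smul_smul, ← mul_pow]
    rw [← Finset.sum_smul]
    split_ifs with hij
    · have h1 : ζ⁻¹ ^ i * ζ ^ j = 1 := by
        rw [inv_pow, pow_eq_pow_mod i hζ.pow_eq_one, pow_eq_pow_mod j hζ.pow_eq_one, hij,
          inv_mul_cancel₀ (pow_ne_zero _ hζ0)]
      simp only [h1, one_pow]
      simp [smul_smul, hrK]
    · have h1 : ζ⁻¹ ^ i * ζ ^ j ≠ 1 := by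
        rw [inv_pow, Ne, inv_mul_eq_one₀ (pow_ne_zero _ hζ0)]
        intro h
        apply hij
        have := pow_eq_pow_iff_modEq.mp (show (hζ.isUnit hr.ne_zero).unit ^ i = (hζ.isUnit hr.ne_zero).unit ^ j from
          Units.ext (by simpa using h))
        rwa [← (hζ.isUnit_unit hr.ne_zero).eq_orderOf] at this
      rw [geom_sum_eq h1, mul_pow, ← pow_mul, ← pow_mul, mul_comm i, mul_comm j, pow_mul, pow_mul, inv_pow,
        hζ.pow_eq_one, inv_one, one_pow, one_pow, one_mul, sub_self, zero_div, zero_smul, smul_zero]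
  -- the eigenspaces
  let I := (Finset.range r).erase 0
  let Wi : I → Submodule K W := fun i => LinearMap.range (pr i)
  have hfix : ∀ (i : I) (w : Wi i), pr i (w : W) = w := by
    rintro i ⟨_, w, rfl⟩
    show (pr i * pr i) w = pr i w
    rw [heig, if_pos rfl]
  have hcard : I.card = r - 1 := by
    rw [Finset.card_erase_of_mem (Finset.mem_range.mpr hr.pos), Finset.card_range]
  have hN : Module.finrank K W ≤ ∑ i : I, Module.finrank K (Wi i) := by
    let S : ((i : I) → Wi i) →ₗ[K] W := ∑ i : I, (Wi i).subtype.comp (LinearMap.proj i)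
    have hS : Function.Surjective S := by
      intro w
      refine ⟨fun i => ⟨pr i w, LinearMap.mem_range_self _ w⟩, ?_⟩
      simp only [S, LinearMap.sum_apply, LinearMap.comp_apply, LinearMap.proj_apply, Submodule.subtype_apply]
      rw [Finset.sum_coe_sort I (fun i => pr i w), Finset.sum_erase _ (by rw [hpr0]; rfl), ← LinearMap.sum_apply,
        hsum1]
      rfl
    have := LinearMap.finrank_le_finrank_of_surjective hS
    rwa [Module.finrank_pi_fintype] at this
  have hsq : ∑ i : I, Module.finrank K (Wi i) ^ 2 ≤ Module.finrank K (fixed X) := by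
    let pc : (i : I) → W →ₗ[K] Wi i := fun i => (pr i).rangeRestrict
    let J : ((i : I) → Module.End K (Wi i)) →ₗ[K] Module.End K W :=
      ∑ i : I, (((Wi i).subtype.compRight K).comp (LinearMap.lcomp K (Wi i) (pc i))).comp (LinearMap.proj i)
    have hJa : ∀ F w, J F w = ∑ i : I, ((F i (pc i w) : Wi i) : W) := fun F w => by
      simp [J, LinearMap.sum_apply]
    have hJfix : ∀ F, J F ∈ fixed X := by
      intro F
      refine LinearMap.ext fun w => ?_
      rw [Module.End.mul_apply, Module.End.mul_apply, hJa, hJa, map_sum]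
      refine Finset.sum_congr rfl fun i _ => ?_
      have e1 : pc i (X w) = ζ ^ (i : ℕ) • pc i w := Subtype.ext (by
        show (pr i * X) w = _
        rw [hprX]; rfl)
      have e2 : ∀ u : Wi i, X (u : W) = ζ ^ (i : ℕ) • (u : W) := fun u => by
        conv_lhs => rw [← hfix i u]
        show (X * pr i) (u : W) = _
        rw [hXpr, LinearMap.smul_apply, hfix]
      rw [e1, map_smul, e2]
      rfl
    have hJinj : Function.Injective (J.codRestrict _ hJfix) := by
      refine (injective_iff_map_eq_zero _).mpr fun F hF => funext fun i => LinearMap.ext fun u => ?_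
      have h1 := LinearMap.congr_fun (congrArg Subtype.val hF) (u : W)
      simp only [LinearMap.codRestrict_apply, hJa] at h1
      rw [Finset.sum_eq_single i] at h1
      · have : pc i (u : W) = u := Subtype.ext (hfix i u)
        rw [this] at h1
        exact Subtype.ext h1
      · intro j _ hji
        have : pc j (u : W) = 0 := Subtype.ext (by
          show pr j (u : W) = 0
          rw [← hfix i u]
          show (pr j * pr i) (u : W) = 0
          rw [heig, if_neg, LinearMap.zero_apply]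
          rw [Nat.mod_eq_of_lt (Finset.mem_range.mp (Finset.mem_of_mem_erase j.2)),
            Nat.mod_eq_of_lt (Finset.mem_range.mp (Finset.mem_of_mem_erase i.2))]
          exact fun he => hji (Subtype.ext he))
        rw [this, map_zero, Submodule.coe_zero]
      · intro hn; exact absurd (Finset.mem_univ _) hn
    have := LinearMap.finrank_le_finrank_of_injective hJinj
    rw [Module.finrank_pi_fintype] at this
    refine le_of_eq_of_le (Finset.sum_congr rfl fun i _ => ?_) this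
    rw [sq]
    exact (Module.finrank_linearMap K K (Wi i) (Wi i)).symm
  calc Module.finrank K W ^ 2 ≤ (∑ i : I, Module.finrank K (Wi i)) ^ 2 := Nat.pow_le_pow_left hN 2
    _ ≤ (Finset.univ : Finset I).card * ∑ i : I, Module.finrank K (Wi i) ^ 2 := sq_sum_le_card_mul_sum_sq
    _ ≤ _ := by
      rw [Finset.card_univ, Fintype.card_coe, hcard]
      exact Nat.mul_le_mul_left _ hsq

theorem exists_card_eq_sq [IsAlgClosed K] [Module.Finite K W] [Nontrivial W] (h : Data Z ρ)
    (hD : (Nat.card (Q ⧸ Z) : K) ≠ 0) : ∃ n : ℕ, Nat.card (Q ⧸ Z) = n ^ 2 := by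
  classical
  -- a minimal invariant subspace
  obtain ⟨L, ⟨hL0, hLinv⟩, hmin⟩ := (wellFounded_lt (α := Submodule K W)).has_min
    {L : Submodule K W | L ≠ ⊥ ∧ ∀ g, ∀ w ∈ L, ρ g w ∈ L} ⟨⊤, top_ne_bot, fun _ _ _ => trivial⟩
  haveI : Nontrivial L := (Submodule.nontrivial_iff_ne_bot).mpr hL0
  let ρL : Q →* Module.End K L :=
    { toFun := fun g => (ρ g).restrict (hLinv g)
      map_one' := LinearMap.ext fun w => Subtype.ext (by simp [LinearMap.restrict_apply])
      map_mul' := fun a b => LinearMap.ext fun w => Subtype.ext (by simp [LinearMap.restrict_apply]) }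
  have hL : Data Z ρL := by
    refine ⟨h.comm, fun z hz => ?_, fun k hk => ?_⟩
    · obtain ⟨c, hc⟩ := h.scalar z hz
      exact ⟨c, LinearMap.ext fun w => Subtype.ext (by
        show ρ z (w : W) = c • (w : W)
        rw [hc]; rfl)⟩
    · obtain ⟨g, hg⟩ := h.nondeg k hk
      refine ⟨g, fun h1 => hg ?_⟩
      obtain ⟨c, hc⟩ := h.scalar _ (h.comm g k)
      obtain ⟨w, hw⟩ := exists_ne (0 : L)
      have h2 : c • (w : W) = w := by
        have := congrArg Subtype.val (LinearMap.congr_fun h1 w)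
        rw [show ((ρL ⁅g, k⁆ w : L) : W) = ρ ⁅g, k⁆ (w : W) from rfl, hc] at this
        exact this
      have hc1 : c = 1 := by
        have h3 : (c - 1) • (w : W) = 0 := by rw [sub_smul, one_smul, h2, sub_self]
        exact sub_eq_zero.mp ((smul_eq_zero.mp h3).resolve_right fun h0 => hw (Subtype.ext h0))
      rw [hc, hc1, one_smul]
  have hB : Module.finrank K (commutant ρL) = 1 := by
    refine finrank_eq_one (⟨1, fun g => by rw [mul_one, one_mul]⟩ : commutant ρL)
      (fun h0 => one_ne_zero (congrArg Subtype.val h0)) fun T => ?_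
    obtain ⟨c, hc⟩ := Module.End.exists_eigenvalue (T : Module.End K L)
    refine ⟨c, Subtype.ext (LinearMap.ext fun w => ?_)⟩
    show c • w = (T : Module.End K L) w
    set E' := Module.End.eigenspace (T : Module.End K L) c with hE'
    have hEL : E'.map L.subtype ≤ L := Submodule.map_subtype_le L E'
    have htop : E'.map L.subtype = L := by
      refine eq_of_le_of_not_lt hEL fun hlt => hmin _ ⟨?_, ?_⟩ hlt
      · intro h0
        exact hc (Submodule.map_injective_of_injective L.subtype_injective (h0.trans (Submodule.map_bot _).symm))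
      · rintro g _ ⟨u, hu, rfl⟩
        refine ⟨ρL g u, ?_, rfl⟩
        rw [SetLike.mem_coe, Module.End.mem_eigenspace_iff] at hu ⊢
        rw [← Module.End.mul_apply, ← T.2 g, Module.End.mul_apply, hu, map_smul]
    have hw : (w : W) ∈ E'.map L.subtype := by rw [htop]; exact w.2
    obtain ⟨u, hu, hue⟩ := hw
    rw [show w = u from Subtype.ext hue.symm]
    exact (Module.End.mem_eigenspace_iff.mp hu).symm
  refine ⟨Module.finrank K L, ?_⟩
  have h1 := card_mul_finrank_le hL hD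
  have h2 := finrank_le_card_mul hL hD
  rw [hB, mul_one, show Module.finrank K (Module.End K L) = _ from Module.finrank_linearMap K K L L] at h1 h2
  rw [sq]; exact le_antisymm h1 h2

/-- No such representation exists. -/
theorem false_of_rep [IsAlgClosed K] [Module.Finite K W] [Nontrivial W] (h : Data Z ρ)
    (hD : (Nat.card (Q ⧸ Z) : K) ≠ 0) (hDo : Odd (Nat.card (Q ⧸ Z))) (hD1 : Nat.card (Q ⧸ Z) ≠ 1) {r : ℕ}
    (hr : r.Prime) (hr2 : r ≠ 2) (hrK : (r : K) ≠ 0) (σ : Q ≃* Q) (hσr : ∀ g, σ^[r] g = g)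
    (hσZ : ∀ z ∈ Z, σ z ∈ Z) (hfpf : ∀ g, g⁻¹ * σ g ∈ Z → g ∈ Z) {X : Module.End K W} (hXr : X ^ r = 1)
    (hsum : ∑ i ∈ Finset.range r, X ^ i = 0) (hX : ∀ g, X * ρ g = ρ (σ g) * X) : False := by
  obtain ⟨m, hm, hle⟩ := finrank_fixed_le h hD hr σ hσr hσZ hfpf hXr hX
  obtain ⟨n, hn⟩ := exists_card_eq_sq h hD
  have h1 := sq_finrank_le hr hrK hXr hsum
  have h2 := card_mul_finrank_le h hD
  have hb : 0 < Module.finrank K (commutant ρ) := by
    haveI : Nontrivial (commutant ρ) := ⟨⟨⟨1, fun g => by rw [mul_one, one_mul]⟩, 0, fun h0 =>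
      one_ne_zero (congrArg Subtype.val h0)⟩⟩
    exact Module.finrank_pos
  rw [show Module.finrank K (Module.End K W) = _ from Module.finrank_linearMap K K W W, ← sq] at h2
  set D := Nat.card (Q ⧸ Z)
  set b := Module.finrank K (commutant ρ)
  have h3 : D * b ≤ (r - 1) * m * b := by
    calc D * b ≤ _ := h2
      _ ≤ (r - 1) * Module.finrank K (fixed X) := h1
      _ ≤ (r - 1) * (m * b) := Nat.mul_le_mul_left _ hle
      _ = _ := (mul_assoc _ _ _).symm
  have h4 : D ≤ (r - 1) * m := Nat.le_of_mul_le_mul_right h3 hb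
  obtain ⟨r', rfl⟩ : ∃ r', r = r' + 1 := ⟨r - 1, (Nat.sub_add_cancel hr.one_le).symm⟩
  simp only [Nat.add_sub_cancel] at h4
  have h5 : D ≤ r' ^ 2 := by nlinarith
  rw [hn] at h5 hm hDo hD1
  have hno : Odd n := (Nat.odd_pow_iff two_ne_zero).mp hDo
  have hnr : n ≤ r' := (Nat.pow_le_pow_iff_left two_ne_zero).mp h5
  obtain ⟨k, rfl⟩ := hno
  have hk : k ≠ 0 := fun h0 => hD1 (by simp [h0])
  have hdvd : r' + 1 ∣ (2 * k) * (2 * k + 2) := by
    have hm1 : 1 ≤ m := Nat.one_le_iff_ne_zero.mpr fun h0 => by rw [h0] at hm; nlinarith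
    refine ⟨m - 1, ?_⟩
    obtain ⟨m', rfl⟩ : ∃ m', m = m' + 1 := ⟨m - 1, (Nat.sub_add_cancel hm1).symm⟩
    simp only [Nat.add_sub_cancel]
    nlinarith
  rcases hr.dvd_mul.mp hdvd with hd | hd
  · exact absurd (Nat.le_of_dvd (by omega) hd) (by omega)
  · have hle' := Nat.le_of_dvd (by omega) hd
    have heq : r' + 1 = 2 * k + 2 := by omega
    have := hr.eq_one_or_self_of_dvd 2 ⟨k + 1, by omega⟩
    omega

end CfsgLib.OddOrder.ExtraspecialDim
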