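import Cfsg.Agent.Lib.OddOrder.UniqueTools
import Mathlib

set_option autoImplicit false

/-!
A `p`-group of rank at least three (`p` odd) has a characteristic subgroup of exponent `p` and class at most two
whose subgroups of order `p ^ 2` have centralisers of rank at least three.
-/

namespace CfsgLib.OddOrder.CharOmega

open scoped commutatorElement

variable {R : Type*} [Group R] [Finite R] {p : ℕ} [hp : Fact p.Prime]

theorem pair_mem (hp2 : p ≠ 2) (hR : IsPGroup p R) {M M₀ Z : Subgroup R} [hMn : M.Normal]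
    (hcomm₀ : ∀ a ∈ M, ∀ g : R, ⁅a, g⁆ ∈ M₀) (hsmall : ∀ z ∈ M₀, z ^ p = 1 → z ∈ Z)
    (hZc : ∀ z ∈ Z, ∀ c ∈ M, Commute z c) (hZp : ∀ z ∈ Z, z ^ p = 1)
    {a b : R} (ha : a ∈ M) (hb : b ∈ M) (hap : a ^ p = 1) (hbp : b ^ p = 1) (hab : a⁻¹ * b ∈ M₀) :
    a⁻¹ * b ∈ Z := by
  induction hn : Nat.card (Subgroup.closure ({a, b} : Set R)) using Nat.strong_induction_on generalizing a b with
  | _ n ih =>
    subst hn
    by_cases hcab : Commute a b
    · exact hsmall _ hab (by rw [hcab.inv_left.mul_pow, inv_pow, hap, hbp, inv_one, one_mul])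
    set a' := b⁻¹ * a * b with ha'
    have ha'M : a' ∈ M := by simpa using hMn.conj_mem _ ha b⁻¹
    have hap' : a' ^ p = 1 := by
      rw [ha', show b⁻¹ * a * b = b⁻¹ * a * b⁻¹⁻¹ by group, conj_pow, hap]; group
    have hlt : Nat.card (Subgroup.closure ({a, a'} : Set R)) < Nat.card (Subgroup.closure ({a, b} : Set R)) :=
      PGroup.Regular.card_lt_of_lt (PGroup.Regular.closure_conj_lt hR fun h => hcab h)
    have hW1 : a⁻¹ * a' ∈ Z := ih _ hlt ha ha'M hap hap' (by
      have h1 : ⁅a⁻¹, b⁻¹⁆ ∈ M₀ := hcomm₀ _ (inv_mem ha) b⁻¹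
      rwa [show a⁻¹ * a' = ⁅a⁻¹, b⁻¹⁆ by simp [ha', commutatorElement_def, mul_assoc]]) rfl
    refine hsmall _ hab ?_
    set z := a⁻¹ * a' with hz
    have hzc := hZc z hW1
    refine SCN3.pow_eq_one_of_class_two hp2 (by rw [inv_pow, hap, inv_one]) hbp (z := z) ?_
      (hzc b hb) (hzc a⁻¹ (inv_mem ha)) (hZp z hW1)
    have hba : b * a * z = a * b := by rw [hz, ha']; group
    calc b * a⁻¹ = a⁻¹ * (b * a * z) * a⁻¹ := by rw [hba]; group
      _ = a⁻¹ * (z * (b * a)) * a⁻¹ := by rw [((hzc b hb).mul_right (hzc a ha)).eq]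
      _ = a⁻¹ * z * b := by group
      _ = z * (a⁻¹ * b) := by rw [← (hzc a⁻¹ (inv_mem ha)).eq]; group

theorem closure_invariant_characteristic (s : Set R) (h : ∀ e : R ≃* R, ∀ x ∈ s, e x ∈ s) :
    (Subgroup.closure s).Characteristic := by
  refine Subgroup.characteristic_iff_map_le.mpr fun e => ?_
  rw [MonoidHom.map_closure, Subgroup.closure_le]
  rintro _ ⟨x, hx, rfl⟩
  exact Subgroup.subset_closure (h e x hx)

theorem map_mem {K : Subgroup R} [hK : K.Characteristic] (e : R ≃* R) {x : R} (hx : x ∈ K) : e x ∈ K :=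
  Subgroup.characteristic_iff_map_le.mp hK e ⟨x, hx, rfl⟩

theorem centralizer_characteristic (T : Subgroup R) [T.Characteristic] :
    (Subgroup.centralizer (T : Set R)).Characteristic := by
  refine Subgroup.characteristic_iff_map_le.mpr fun e => ?_
  rintro _ ⟨x, hx, rfl⟩
  rw [Subgroup.mem_centralizer_iff]
  intro t ht
  have h1 := Subgroup.mem_centralizer_iff.mp hx _ (map_mem e.symm ht)
  have h2 := congrArg e h1
  simpa using h2

theorem inf_characteristic (A B : Subgroup R) [A.Characteristic] [B.Characteristic] :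
    (A ⊓ B).Characteristic :=
  Subgroup.characteristic_iff_map_le.mpr fun e => by
    rintro _ ⟨x, hx, rfl⟩
    exact ⟨map_mem e hx.1, map_mem e hx.2⟩

theorem commutator_sup_characteristic (T Z : Subgroup R) [T.Characteristic] [Z.Characteristic] :
    (⁅T, (⊤ : Subgroup R)⁆ ⊔ Z).Characteristic := by
  refine Subgroup.characteristic_iff_map_le.mpr fun e => ?_
  rw [Subgroup.map_sup, Subgroup.map_commutator]
  exact sup_le_sup (Subgroup.commutator_mono (Subgroup.characteristic_iff_map_le.mp inferInstance e) le_top)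
    (Subgroup.characteristic_iff_map_le.mp inferInstance e)

theorem not_le_commutator_sup (hR : IsPGroup p R) {M Z : Subgroup R} [Z.Normal] (h : ¬ M ≤ Z) :
    ¬ M ≤ ⁅M, (⊤ : Subgroup R)⁆ ⊔ Z := by
  intro hle
  haveI := hR.isNilpotent
  have hall : ∀ n, M ≤ Subgroup.lowerCentralSeries (⊤ : Subgroup R) n ⊔ Z := by
    intro n
    induction n with
    | zero => simp
    | succ n ih =>
      refine hle.trans (sup_le ?_ le_sup_right)
      rw [Subgroup.commutator_le]
      intro a ha g _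
      obtain ⟨l, hl, w, hw, rfl⟩ := Subgroup.mem_sup_of_normal_right.mp (ih ha)
      have e : ⁅l * w, g⁆ = (l * ⁅w, g⁆ * l⁻¹) * ⁅l, g⁆ := by
        simp only [commutatorElement_def]; group
      rw [e]
      exact mul_mem (Subgroup.mem_sup_right (‹Z.Normal›.conj_mem _
        (Subgroup.commutator_le_left Z ⊤ (Subgroup.commutator_mem_commutator hw (Subgroup.mem_top g))) l))
        (Subgroup.mem_sup_left (Subgroup.commutator_mem_commutator hl (Subgroup.mem_top g)))
  obtain ⟨c, hc⟩ : ∃ c, Subgroup.lowerCentralSeries (⊤ : Subgroup R) c = ⊥ :=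
    Subgroup.nilpotent_iff_lowerCentralSeries.mp inferInstance
  have := hall c
  rw [hc, bot_sup_eq] at this
  exact h this

/-- Exponent `p` and class at most two. -/
def Good (p : ℕ) (T : Subgroup R) : Prop :=
  (∀ x ∈ T, x ^ p = 1) ∧ ∀ a ∈ T, ∀ b ∈ T, ⁅a, b⁆ ∈ Subgroup.centralizer (T : Set R)

theorem exists_maximal (hp2 : p ≠ 2) (hR : IsPGroup p R) :
    ∃ T : Subgroup R, T.Characteristic ∧ Good p T ∧
      ∀ x ∈ Subgroup.centralizer (T : Set R), x ^ p = 1 → x ∈ T := by
  classical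
  obtain ⟨T, -, hT⟩ := Finite.exists_le_maximal (p := fun T : Subgroup R => T.Characteristic ∧ Good p T)
    (show (⊥ : Subgroup R).Characteristic ∧ Good p (⊥ : Subgroup R) from ⟨inferInstance, fun x hx => by
      rw [Subgroup.mem_bot.mp hx, one_pow], fun a ha b hb => by
      rw [Subgroup.mem_bot.mp ha, commutatorElement_one_left]; exact one_mem _⟩)
  obtain ⟨hTc, hTp, hT2⟩ := hT.prop
  refine ⟨T, hTc, ⟨hTp, hT2⟩, ?_⟩
  haveI := hTc
  haveI := centralizer_characteristic T
  set C := Subgroup.centralizer (T : Set R) with hC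
  haveI := inf_characteristic T C
  set Z := T ⊓ C with hZ
  by_contra hex
  push Not at hex
  obtain ⟨x, hxC, hxp, hxT⟩ := hex
  obtain ⟨M, hM⟩ := (Set.toFinite {M : Subgroup R | M.Characteristic ∧ Z ≤ M ∧ M ≤ C ∧
    ∃ y ∈ M, y ^ p = 1 ∧ y ∉ T}).exists_minimal ⟨C, inferInstance, inf_le_right, le_rfl, x, hxC, hxp, hxT⟩
  obtain ⟨⟨hMc, hZM, hMC, y, hyM, hyp, hyT⟩, hmin⟩ := hM
  haveI := hMc
  set M₀ := ⁅M, (⊤ : Subgroup R)⁆ ⊔ Z with hM₀
  haveI := commutator_sup_characteristic M Z
  have hM₀M : M₀ ≤ M := sup_le (Subgroup.commutator_le_left _ _) hZM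
  have hlt : ¬ M ≤ M₀ := not_le_commutator_sup hR fun h => hyT (h hyM).1
  have hsmall : ∀ z ∈ M₀, z ^ p = 1 → z ∈ Z := by
    intro z hz hzp
    refine ⟨?_, hMC (hM₀M hz)⟩
    by_contra hzT
    exact hlt (hmin ⟨inferInstance, le_sup_right, hM₀M.trans hMC, z, hz, hzp, hzT⟩ hM₀M)
  have hcomm₀ : ∀ a ∈ M, ∀ g : R, ⁅a, g⁆ ∈ M₀ := fun a ha g =>
    Subgroup.mem_sup_left (Subgroup.commutator_mem_commutator ha (Subgroup.mem_top g))
  have hZc : ∀ z ∈ Z, ∀ c ∈ M, Commute z c := fun z hz c hc =>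
    Subgroup.mem_centralizer_iff.mp (hMC hc) z hz.1
  have hZp : ∀ z ∈ Z, z ^ p = 1 := fun z hz => hTp z hz.1
  set s : Set R := (T : Set R) ∪ {w | w ∈ M ∧ w ^ p = 1} with hs
  set T' := Subgroup.closure s with hT'
  haveI hT'c : T'.Characteristic := closure_invariant_characteristic s fun e w hw => by
    rcases hw with hw | ⟨hw, hwp⟩
    · exact Or.inl (map_mem e hw)
    · exact Or.inr ⟨map_mem e hw, by rw [← map_pow, hwp, map_one]⟩
  have hZc' : ∀ z ∈ Z, z ∈ Subgroup.centralizer (T' : Set R) := by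
    intro z hz
    rw [hT', Subgroup.centralizer_closure, Subgroup.mem_centralizer_iff]
    rintro w (hw | ⟨hw, -⟩)
    · exact Subgroup.mem_centralizer_iff.mp hz.2 w hw
    · exact (hZc z hz w hw).eq.symm
  have hgen : ∀ a ∈ s, ∀ b ∈ s, ⁅a, b⁆ ∈ Z := by
    rintro a (ha | ⟨ha, hap⟩) b (hb | ⟨hb, hbp⟩)
    · exact ⟨Subgroup.commutator_le_right T T (Subgroup.commutator_mem_commutator ha hb), hT2 a ha b hb⟩
    · rw [commutatorElement_eq_one_iff_commute.mpr (Subgroup.mem_centralizer_iff.mp (hMC hb) a ha)]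
      exact one_mem _
    · rw [commutatorElement_eq_one_iff_commute.mpr (Subgroup.mem_centralizer_iff.mp (hMC ha) b hb).symm]
      exact one_mem _
    · have hia : a⁻¹ ^ p = 1 := by rw [inv_pow, hap, inv_one]
      have h' : (b * a⁻¹ * b⁻¹) ^ p = 1 := by rw [conj_pow, hia]; group
      have h1 := pair_mem hp2 hR hcomm₀ hsmall hZc hZp (inv_mem ha) ((inferInstance : M.Normal).conj_mem _ (inv_mem ha) b)
        hia h' (by
          have h2 := hcomm₀ a ha b
          rwa [show a⁻¹⁻¹ * (b * a⁻¹ * b⁻¹) = ⁅a, b⁆ by simp [commutatorElement_def, mul_assoc]])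
      rwa [show a⁻¹⁻¹ * (b * a⁻¹ * b⁻¹) = ⁅a, b⁆ by simp [commutatorElement_def, mul_assoc]] at h1
  have hcommT' : ∀ a ∈ T', ∀ b ∈ T', ⁅a, b⁆ ∈ Z := by
    have step : ∀ b ∈ s, ∀ a ∈ T', ⁅a, b⁆ ∈ Z := by
      intro b hb a ha
      induction ha using Subgroup.closure_induction with
      | mem a ha => exact hgen a ha b hb
      | one => rw [commutatorElement_one_left]; exact one_mem _
      | mul a₁ a₂ h₁ h₂ ih₁ ih₂ =>
        have hc : Commute ⁅a₂, b⁆ a₁ := (Subgroup.mem_centralizer_iff.mp (hZc' _ ih₂) a₁ h₁).symm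
        rw [Replacement.comm_mul_left hc]
        exact mul_mem ih₂ ih₁
      | inv a h ih =>
        have hc : Commute ⁅a, b⁆ a := (Subgroup.mem_centralizer_iff.mp (hZc' _ ih) a h).symm
        rw [show ⁅a⁻¹, b⁆ = a⁻¹ * ⁅a, b⁆⁻¹ * a by simp only [commutatorElement_def]; group,
          (hc.inv_left.inv_right).symm.eq, mul_assoc, inv_mul_cancel, mul_one]
        exact inv_mem ih
    intro a ha b hb
    induction hb using Subgroup.closure_induction with
    | mem b hb => exact step b hb a ha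
    | one => rw [commutatorElement_one_right]; exact one_mem _
    | mul b₁ b₂ h₁ h₂ ih₁ ih₂ =>
      have hc : Commute ⁅a, b₂⁆ b₁ := (Subgroup.mem_centralizer_iff.mp (hZc' _ ih₂) b₁ h₁).symm
      rw [Replacement.comm_mul_right hc]
      exact mul_mem ih₁ ih₂
    | inv b h ih =>
      have hc : Commute ⁅a, b⁆ b := (Subgroup.mem_centralizer_iff.mp (hZc' _ ih) b h).symm
      rw [show ⁅a, b⁻¹⁆ = b⁻¹ * ⁅a, b⁆⁻¹ * b by simp only [commutatorElement_def]; group,
        (hc.inv_left.inv_right).symm.eq, mul_assoc, inv_mul_cancel, mul_one]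
      exact inv_mem ih
  have hexp : ∀ w ∈ T', w ^ p = 1 := by
    intro w hw
    induction hw using Subgroup.closure_induction with
    | mem w hw => exact hw.elim (hTp w) fun h => h.2
    | one => exact one_pow p
    | mul a b ha hb iha ihb =>
      have hz := hcommT' b hb a ha
      refine SCN3.pow_eq_one_of_class_two hp2 iha ihb (z := ⁅b, a⁆) ?_ ?_ ?_ (hZp _ hz)
      · simp only [commutatorElement_def]; group
      · exact (Subgroup.mem_centralizer_iff.mp (hZc' _ hz) b hb).symm
      · exact (Subgroup.mem_centralizer_iff.mp (hZc' _ hz) a ha).symm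
    | inv a _ iha => rw [inv_pow, iha, inv_one]
  have hle : T ≤ T' := fun t ht => Subgroup.subset_closure (Or.inl ht)
  have := hT.le_of_ge ⟨hT'c, hexp, fun a ha b hb => hZc' _ (hcommT' a ha b hb)⟩ hle
  exact hyT (this (Subgroup.subset_closure (Or.inr ⟨hyM, hyp⟩)))

theorem not_isMulCommutative_iff {T : Subgroup R} (h : ¬ IsMulCommutative T) :
    ∃ a ∈ T, ∃ b ∈ T, ¬ Commute a b := by
  by_contra hn
  push Not at hn
  exact h ⟨⟨fun a b => Subtype.ext (hn a a.2 b b.2)⟩⟩

theorem commutative_of_card_le {T : Subgroup R} (hR : IsPGroup p R) (h : Nat.card T ≤ p ^ 2) :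
    IsMulCommutative T := by
  obtain ⟨k, hk⟩ := (hR.to_subgroup T).exists_card_eq
  have hk2 : k ≤ 2 := (Nat.pow_le_pow_iff_right hp.out.one_lt).mp (hk ▸ h)
  interval_cases k
  · rw [pow_zero] at hk
    haveI := (Nat.card_eq_one_iff_unique.mp hk).1
    exact ⟨⟨fun a b => Subsingleton.elim _ _⟩⟩
  · rw [pow_one] at hk
    haveI := isCyclic_of_prime_card hk
    infer_instance
  · exact ⟨⟨fun a b => IsPGroup.commutative_of_card_eq_prime_sq hk a b⟩⟩

theorem exists_char (hp2 : p ≠ 2) (hR : IsPGroup p R) (hr : ¬ Cfsg.PRankLE p 2 R) :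
    ∃ T : Subgroup R, T.Characteristic ∧ Good p T ∧
      ((IsMulCommutative T ∧ p ^ 2 ≤ Nat.card T) ∨ p ^ 4 ≤ Nat.card T) := by
  obtain ⟨T, hTc, hTg, hC⟩ := exists_maximal hp2 hR
  haveI := hTc
  simp only [Cfsg.PRankLE] at hr
  push Not at hr
  obtain ⟨E, hEc, hEp, hE⟩ := hr
  haveI := hEc
  obtain ⟨k, hk⟩ := (hR.to_subgroup T).exists_card_eq
  by_cases hTab : IsMulCommutative T
  · refine ⟨T, hTc, hTg, Or.inl ⟨hTab, ?_⟩⟩
    by_contra hlt
    push Not at hlt
    have hk1 : k ≤ 1 := by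
      rw [hk] at hlt
      exact Nat.lt_succ_iff.mp ((Nat.pow_lt_pow_iff_right hp.out.one_lt).mp hlt)
    have hTZ : T ≤ Subgroup.center R := by
      rcases eq_or_ne T ⊥ with hb | hb
      · rw [hb]; exact bot_le
      haveI := hR.isNilpotent
      have hne := Solvable.FrattiniFitting.inf_center_ne_bot T hb
      obtain ⟨j, hj⟩ := (hR.to_subgroup (T ⊓ Subgroup.center R : Subgroup R)).exists_card_eq
      have hj1 : 1 ≤ j := Nat.one_le_iff_ne_zero.mpr fun h => hne (Subgroup.eq_bot_of_card_eq _ (by rw [hj, h, pow_zero]))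
      exact inf_eq_left.mp (Subgroup.eq_of_le_of_card_ge inf_le_left
        (by rw [hj, hk]; exact Nat.pow_le_pow_right hp.out.pos (hk1.trans hj1)))
    have hEC : E ≤ T := fun e he => hC e (Subgroup.mem_centralizer_iff.mpr fun t ht =>
      (Subgroup.mem_center_iff.mp (hTZ ht) e).symm) (hEp e he)
    exact absurd (lt_of_lt_of_le hE ((Subgroup.card_le_of_le hEC).trans (hk ▸ Nat.pow_le_pow_right hp.out.pos hk1)))
      (not_lt.mpr (Nat.pow_le_pow_right hp.out.pos one_le_two))
  rcases le_or_gt 4 k with h4 | h4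
  · exact ⟨T, hTc, hTg, Or.inr (hk ▸ Nat.pow_le_pow_right hp.out.pos h4)⟩
  have hk3 : k = 3 := by
    by_contra hne
    exact hTab (commutative_of_card_le hR (hk ▸ Nat.pow_le_pow_right hp.out.pos (by omega)))
  subst hk3
  set C := Subgroup.centralizer (T : Set R) with hCdef
  haveI := centralizer_characteristic T
  haveI := inf_characteristic T C
  set Z := T ⊓ C with hZ
  obtain ⟨a, ha, b, hb, hab⟩ := not_isMulCommutative_iff hTab
  have hTgen : Subgroup.closure ({a, b} : Set R) = T := by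
    refine Subgroup.eq_of_le_of_card_ge ((Subgroup.closure_le T).mpr (by rintro w (rfl | rfl) <;> assumption)) ?_
    by_contra hlt
    push Not at hlt
    obtain ⟨j, hj⟩ := (hR.to_subgroup (Subgroup.closure ({a, b} : Set R))).exists_card_eq
    rw [hk, hj] at hlt
    have hc := commutative_of_card_le (p := p) (T := Subgroup.closure ({a, b} : Set R)) hR
      (hj ▸ Nat.pow_le_pow_right hp.out.pos (Nat.lt_succ_iff.mp ((Nat.pow_lt_pow_iff_right hp.out.one_lt).mp hlt)))
    exact hab (congrArg Subtype.val (hc.1.comm ⟨a, Subgroup.subset_closure (by simp)⟩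
      ⟨b, Subgroup.subset_closure (by simp)⟩))
  have hcardZ : Nat.card Z ≤ p := by
    obtain ⟨j, hj⟩ := (hR.to_subgroup Z).exists_card_eq
    rw [hj]
    have hlt : Z < T := lt_of_le_of_ne inf_le_left fun h => hab
      (Subgroup.mem_centralizer_iff.mp ((h.ge ha).2) b hb).symm
    have hj3 : j < 3 := (Nat.pow_lt_pow_iff_right hp.out.one_lt).mp
      (hj ▸ hk ▸ Set.ncard_lt_ncard (SetLike.coe_ssubset_coe.mpr hlt))
    calc p ^ j ≤ p ^ 1 := Nat.pow_le_pow_right hp.out.pos (by
          by_contra hj2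
          push Not at hj2
          have h2 : j = 2 := by omega
          subst h2
          -- then `a` and `b` commute
          have hsup : Z ⊔ Subgroup.zpowers a = T := by
            refine Subgroup.eq_of_le_of_card_ge (sup_le inf_le_left (Subgroup.zpowers_le.mpr ha)) ?_
            have h1 : Nat.card Z < Nat.card ↥(Z ⊔ Subgroup.zpowers a) := by
              refine Set.ncard_lt_ncard (SetLike.coe_ssubset_coe.mpr (lt_of_le_of_ne le_sup_left fun h => hab ?_))
              have haZ : a ∈ Z := h ▸ Subgroup.mem_sup_right (Subgroup.mem_zpowers a)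
              exact (Subgroup.mem_centralizer_iff.mp haZ.2 b hb).symm
            obtain ⟨i, hi⟩ := (hR.to_subgroup (Z ⊔ Subgroup.zpowers a : Subgroup R)).exists_card_eq
            rw [hj, hi] at h1
            rw [hk, hi]
            exact Nat.pow_le_pow_right hp.out.pos ((Nat.pow_lt_pow_iff_right hp.out.one_lt).mp h1)
          apply hab
          have hle : Z ⊔ Subgroup.zpowers a ≤ Subgroup.centralizer ({a} : Set R) :=
            sup_le (fun z hz => Subgroup.mem_centralizer_singleton_iff.mpr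
              (Subgroup.mem_centralizer_iff.mp hz.2 a ha).symm)
              (Subgroup.zpowers_le.mpr (Subgroup.mem_centralizer_singleton_iff.mpr rfl))
          exact (Subgroup.mem_centralizer_singleton_iff.mp (hle (hsup.ge hb))).symm)
      _ = p := pow_one p
  by_cases hin : ⁅T, (⊤ : Subgroup R)⁆ ≤ Z
  · exfalso
    -- then `R = T C`
    have hidx : C.index ≤ p * p := by
      let f : R ⧸ C → Z × Z := fun x =>
        (⟨⁅a, x.out⁆, hin (Subgroup.commutator_mem_commutator ha (Subgroup.mem_top _))⟩,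
          ⟨⁅b, x.out⁆, hin (Subgroup.commutator_mem_commutator hb (Subgroup.mem_top _))⟩)
      refine le_trans (Nat.card_le_card_of_injective f ?_) ?_
      · intro x y hxy
        rw [← Quotient.out_eq x, ← Quotient.out_eq y]
        refine QuotientGroup.eq.mpr ?_
        have key : ∀ t : R, ⁅t, x.out⁆ = ⁅t, y.out⁆ → t * (x.out⁻¹ * y.out) = x.out⁻¹ * y.out * t := by
          intro t h
          set u := x.out
          set v := y.out
          have h2 : u * t⁻¹ * u⁻¹ = v * t⁻¹ * v⁻¹ := by simpa [commutatorElement_def, mul_assoc] using h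
          have h3 : u * t * u⁻¹ = v * t * v⁻¹ := by
            have := congrArg (·⁻¹) h2
            simpa [mul_assoc] using this
          calc t * (u⁻¹ * v) = u⁻¹ * (u * t * u⁻¹) * v := by group
            _ = u⁻¹ * (v * t * v⁻¹) * v := by rw [h3]
            _ = u⁻¹ * v * t := by group
        suffices hmem : x.out⁻¹ * y.out ∈ Subgroup.centralizer ((Subgroup.closure ({a, b} : Set R) : Subgroup R) : Set R) by
          rwa [hTgen] at hmem
        rw [Subgroup.centralizer_closure, Subgroup.mem_centralizer_iff]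
        rintro t (rfl | rfl)
        · exact key _ (congrArg (fun w : Z × Z => (w.1 : R)) hxy)
        · exact key _ (congrArg (fun w : Z × Z => (w.2 : R)) hxy)
      · rw [Nat.card_prod]; exact Nat.mul_le_mul hcardZ hcardZ
    have hTC : T ⊔ C = ⊤ := by
      haveI : C.Normal := inferInstance
      refine Subgroup.eq_top_of_le_card _ ?_
      have h1 := Subgroup.relIndex_sup_right T C
      have h2 : Nat.card ↥(T ⊔ C) = Nat.card C * C.relIndex T := by
        rw [← h1, ← Subgroup.card_mul_index (C.subgroupOf (T ⊔ C)),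
          Nat.card_congr (Subgroup.subgroupOfEquivOfLe le_sup_right).toEquiv]
        rfl
      have h3 : p * p ≤ C.relIndex T := by
        have h4 : Nat.card T = Nat.card Z * C.relIndex T := by
          conv_lhs => rw [← Subgroup.card_mul_index (Z.subgroupOf T)]
          rw [Nat.card_congr (Subgroup.subgroupOfEquivOfLe (inf_le_left : Z ≤ T)).toEquiv]
          congr 1
          show Z.relIndex T = _
          rw [hZ, inf_comm, Subgroup.inf_relIndex_right]
        have h5 : p * (p * p) ≤ p * C.relIndex T :=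
          calc p * (p * p) = Nat.card T := by rw [hk]; ring
            _ = Nat.card Z * C.relIndex T := h4
            _ ≤ p * C.relIndex T := Nat.mul_le_mul_right _ hcardZ
        exact Nat.le_of_mul_le_mul_left h5 hp.out.pos
      calc Nat.card R = Nat.card C * C.index := (Subgroup.card_mul_index C).symm
        _ ≤ Nat.card C * C.relIndex T := Nat.mul_le_mul_left _ (hidx.trans h3)
        _ = _ := h2.symm
    have hET : E ≤ T := by
      intro e he
      have h := hTC.symm ▸ Subgroup.mem_top e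
      haveI : C.Normal := inferInstance
      obtain ⟨t, ht, c, hc, rfl⟩ := Subgroup.mem_sup_of_normal_right.mp h
      have htc : Commute t c := Subgroup.mem_centralizer_iff.mp hc t ht
      have hcp : c ^ p = 1 := by
        have := hEp _ he
        rwa [htc.mul_pow, hTg.1 t ht, one_mul] at this
      exact mul_mem ht (hC c hc hcp)
    have hlt : E < T := lt_of_le_of_ne hET fun h => hab
      (congrArg Subtype.val (hEc.1.comm ⟨a, h.ge ha⟩ ⟨b, h.ge hb⟩))
    obtain ⟨j, hj⟩ := (hR.to_subgroup E).exists_card_eq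
    have h1 : Nat.card E < p ^ 3 := hk ▸ Set.ncard_lt_ncard (SetLike.coe_ssubset_coe.mpr hlt)
    rw [hj] at h1 hE
    have := (Nat.pow_lt_pow_iff_right hp.out.one_lt).mp h1
    have := (Nat.pow_lt_pow_iff_right hp.out.one_lt).mp hE
    omega
  · haveI := commutator_sup_characteristic T Z
    set Y := ⁅T, (⊤ : Subgroup R)⁆ ⊔ Z with hY
    have hYT : Y ≤ T := sup_le (Subgroup.commutator_le_left _ _) inf_le_left
    have hYlt : Y < T := lt_of_le_of_ne hYT fun h =>
      not_le_commutator_sup hR (fun (hle : T ≤ Z) => hab (Subgroup.mem_centralizer_iff.mp (Subgroup.mem_inf.mp (hle ha)).2 b hb).symm) h.ge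
    have hZY : Z < Y := lt_of_le_of_ne le_sup_right fun h => hin (h.symm ▸ le_sup_left)
    obtain ⟨j, hj⟩ := (hR.to_subgroup Y).exists_card_eq
    obtain ⟨i, hi⟩ := (hR.to_subgroup Z).exists_card_eq
    have h1 : p ^ i < p ^ j := hi ▸ hj ▸ Set.ncard_lt_ncard (SetLike.coe_ssubset_coe.mpr hZY)
    have h2 : p ^ j < p ^ 3 := hj ▸ hk ▸ Set.ncard_lt_ncard (SetLike.coe_ssubset_coe.mpr hYlt)
    have hj3 := (Nat.pow_lt_pow_iff_right hp.out.one_lt).mp h2
    have hij := (Nat.pow_lt_pow_iff_right hp.out.one_lt).mp h1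
    have hi1 : 1 ≤ i := by
      by_contra h0
      have hb' : Z = ⊥ := Subgroup.eq_bot_of_card_eq _ (by rw [hi, show i = 0 by omega, pow_zero])
      exact hab (commutatorElement_eq_one_iff_commute.mp (Subgroup.mem_bot.mp (hb' ▸
        (⟨Subgroup.commutator_le_right T T (Subgroup.commutator_mem_commutator ha hb), hTg.2 a ha b hb⟩ : ⁅a, b⁆ ∈ Z))))
    haveI hYc := commutative_of_card_le (T := Y) hR (hj ▸ Nat.pow_le_pow_right hp.out.pos (by omega))
    refine ⟨Y, inferInstance, ⟨fun x hx => hTg.1 x (hYT hx), fun x hx y hy => ?_⟩,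
      Or.inl ⟨hYc, hj ▸ Nat.pow_le_pow_right hp.out.pos (by omega)⟩⟩
    rw [commutatorElement_eq_one_iff_commute.mpr (congrArg Subtype.val (hYc.1.comm ⟨x, hx⟩ ⟨y, hy⟩))]
    exact one_mem _

/-- Subgroups of order `p ^ 2` of such a subgroup have centralisers of rank three. -/
theorem rich_sq (hR : IsPGroup p R) (hr : ¬ Cfsg.PRankLE p 2 R) {T : Subgroup R} [hTn : T.Normal] (hT : Good p T)
    (hbig : (IsMulCommutative T ∧ p ^ 2 ≤ Nat.card T) ∨ p ^ 4 ≤ Nat.card T)
    {Y : Subgroup R} (hYT : Y ≤ T) (hYe : Cfsg.IsElementaryAbelian p Y) (hY : p ^ 2 ≤ Nat.card Y) :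
    ¬ Cfsg.PRankLE p 2 ↥(Subgroup.centralizer (Y : Set R)) := by
  haveI := hYe.1
  by_cases h3 : p ^ 3 ≤ Nat.card Y
  · exact UniqueTools.not_pRankLE_of_isEA hYe h3 Y.le_centralizer
  have hY2 : Nat.card Y = p ^ 2 := by
    obtain ⟨j, hj⟩ := (hR.to_subgroup Y).exists_card_eq
    rw [hj] at hY h3 ⊢
    push Not at h3
    have h1 := (Nat.pow_le_pow_iff_right hp.out.one_lt).mp hY
    have h2 := (Nat.pow_lt_pow_iff_right hp.out.one_lt).mp h3
    rw [show j = 2 by omega]
  by_cases hC : T ⊓ Subgroup.centralizer (Y : Set R) ≤ Y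
  swap
  · obtain ⟨z, ⟨hzT, hzC⟩, hzY⟩ := SetLike.not_le_iff_exists.mp hC
    have he := Replacement.isEA_sup hYe (Replacement.isEA_zpowers (hT.1 z hzT)) (by
      rw [Subgroup.le_centralizer_iff, Subgroup.zpowers_le]; exact hzC)
    refine UniqueTools.not_pRankLE_of_isEA he ?_ (sup_le Y.le_centralizer (Subgroup.zpowers_le.mpr hzC))
    obtain ⟨j, hj⟩ := (hR.to_subgroup (Y ⊔ Subgroup.zpowers z : Subgroup R)).exists_card_eq
    have hlt : Nat.card Y < Nat.card ↥(Y ⊔ Subgroup.zpowers z) :=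
      Set.ncard_lt_ncard (SetLike.coe_ssubset_coe.mpr (lt_of_le_of_ne le_sup_left fun h => hzY
        (h.ge (Subgroup.mem_sup_right (Subgroup.mem_zpowers z)))))
    rw [hY2, hj] at hlt
    rw [hj]
    exact Nat.pow_le_pow_right hp.out.pos ((Nat.pow_lt_pow_iff_right hp.out.one_lt).mp hlt)
  rcases hbig with ⟨hTc, -⟩ | h4
  · haveI := hTc
    have hTY : T = Y := le_antisymm ((le_inf le_rfl (T.le_centralizer.trans (Subgroup.centralizer_le hYT))).trans hC) hYT
    subst hTY
    obtain ⟨E, -, hEe, hE3⟩ := UniqueTools.exists_isEA_of_not_rankLE (K := (⊤ : Subgroup R)) (p := p) (k := 2)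
      (fun h => hr fun B h1 h2 => by
        have h' := h (B.subgroupOf ⊤) (Fusion.Thompson.isEA_subgroupOf ⟨h1, h2⟩ ⊤).1
          (Fusion.Thompson.isEA_subgroupOf ⟨h1, h2⟩ ⊤).2
        rwa [Nat.card_congr (Subgroup.subgroupOfEquivOfLe le_top).toEquiv] at h')
    have h2 := UniqueTools.card_centralizer_inf (hR.to_subgroup ⊤) (le_top : T ≤ ⊤)
      (by rw [Subgroup.normalizer_eq_top]) hY2 le_top hE3
    set E' := E ⊓ Subgroup.centralizer (T : Set R) with hE'
    by_cases hle : E' ≤ T
    · have hTE : T ≤ E := (Subgroup.eq_of_le_of_card_ge hle (hY2.le.trans h2)).ge.trans inf_le_left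
      haveI := hEe.1
      exact UniqueTools.not_pRankLE_of_isEA hEe hE3 (E.le_centralizer.trans (Subgroup.centralizer_le hTE))
    · obtain ⟨z, hz, hzT⟩ := SetLike.not_le_iff_exists.mp hle
      have he := Replacement.isEA_sup hYe (Replacement.isEA_zpowers (hEe.2 z hz.1)) (by
        rw [Subgroup.le_centralizer_iff, Subgroup.zpowers_le]; exact hz.2)
      refine UniqueTools.not_pRankLE_of_isEA he ?_ (sup_le T.le_centralizer (Subgroup.zpowers_le.mpr hz.2))
      obtain ⟨j, hj⟩ := (hR.to_subgroup (T ⊔ Subgroup.zpowers z : Subgroup R)).exists_card_eq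
      have hlt : Nat.card T < Nat.card ↥(T ⊔ Subgroup.zpowers z) :=
        Set.ncard_lt_ncard (SetLike.coe_ssubset_coe.mpr (lt_of_le_of_ne le_sup_left fun h => hzT
          (h.ge (Subgroup.mem_sup_right (Subgroup.mem_zpowers z)))))
      rw [hY2, hj] at hlt
      rw [hj]
      exact Nat.pow_le_pow_right hp.out.pos ((Nat.pow_lt_pow_iff_right hp.out.one_lt).mp hlt)
  · exfalso
    set Z := T ⊓ Subgroup.centralizer (T : Set R) with hZ
    have hZY : Z ≤ Y := (inf_le_inf_left _ (Subgroup.centralizer_le hYT)).trans hC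
    have hne : Z ≠ Y := by
      intro h
      have hTY : T ≤ Y := (le_inf le_rfl (Subgroup.le_centralizer_iff.mp (h.ge.trans inf_le_right))).trans hC
      have := h4.trans ((Subgroup.card_le_of_le hTY).trans hY2.le)
      exact absurd ((Nat.pow_le_pow_iff_right hp.out.one_lt).mp this) (by norm_num)
    obtain ⟨y, hy, hyZ⟩ := SetLike.exists_of_lt (lt_of_le_of_ne hZY hne)
    have hZc : Nat.card Z ≤ p := by
      obtain ⟨i, hi⟩ := (hR.to_subgroup Z).exists_card_eq
      have h1 : Nat.card Z < p ^ 2 := hY2 ▸ Set.ncard_lt_ncard (SetLike.coe_ssubset_coe.mpr (lt_of_le_of_ne hZY hne))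
      rw [hi] at h1 ⊢
      calc p ^ i ≤ p ^ 1 := Nat.pow_le_pow_right hp.out.pos
            (Nat.lt_succ_iff.mp ((Nat.pow_lt_pow_iff_right hp.out.one_lt).mp h1))
        _ = p := pow_one p
    have hZ1 : Z ≠ ⊥ := by
      intro hb
      have hc : IsMulCommutative T := ⟨⟨fun u v => Subtype.ext (commutatorElement_eq_one_iff_commute.mp
        (Subgroup.mem_bot.mp (hb ▸ (⟨Subgroup.commutator_le_right T T
          (Subgroup.commutator_mem_commutator u.2 v.2), hT.2 u u.2 v v.2⟩ : ⁅(u : R), (v : R)⁆ ∈ Z))))⟩⟩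
      haveI := hc
      have hTY : T ≤ Y := (le_inf le_rfl (T.le_centralizer.trans (Subgroup.centralizer_le hYT))).trans hC
      have := h4.trans ((Subgroup.card_le_of_le hTY).trans hY2.le)
      exact absurd ((Nat.pow_le_pow_iff_right hp.out.one_lt).mp this) (by norm_num)
    have hsup : Z ⊔ Subgroup.zpowers y = Y := by
      refine Subgroup.eq_of_le_of_card_ge (sup_le hZY (Subgroup.zpowers_le.mpr hy)) ?_
      obtain ⟨i, hi⟩ := (hR.to_subgroup Z).exists_card_eq
      obtain ⟨j, hj⟩ := (hR.to_subgroup (Z ⊔ Subgroup.zpowers y : Subgroup R)).exists_card_eq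
      have hi1 : 1 ≤ i := Nat.one_le_iff_ne_zero.mpr fun h0 => hZ1 (Subgroup.eq_bot_of_card_eq _ (by rw [hi, h0, pow_zero]))
      have hlt : Nat.card Z < Nat.card ↥(Z ⊔ Subgroup.zpowers y) :=
        Set.ncard_lt_ncard (SetLike.coe_ssubset_coe.mpr (lt_of_le_of_ne le_sup_left fun h => hyZ
          (h.ge (Subgroup.mem_sup_right (Subgroup.mem_zpowers y)))))
      rw [hi, hj] at hlt
      rw [hY2, hj]
      have := (Nat.pow_lt_pow_iff_right hp.out.one_lt).mp hlt
      exact Nat.pow_le_pow_right hp.out.pos (by omega)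
    have hidx : (Subgroup.centralizer ({y} : Set R)).relIndex T ≤ p := by
      refine le_trans ?_ hZc
      let f : T ⧸ (Subgroup.centralizer ({y} : Set R)).subgroupOf T → Z := fun x =>
        ⟨⁅y, ((x.out : T) : R)⁆, Subgroup.commutator_le_right T T
          (Subgroup.commutator_mem_commutator (hYT hy) (x.out : T).2), hT.2 y (hYT hy) _ (x.out : T).2⟩
      refine Nat.card_le_card_of_injective f ?_
      intro x z hxz
      rw [← Quotient.out_eq x, ← Quotient.out_eq z]
      refine QuotientGroup.eq.mpr ?_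
      rw [Subgroup.mem_subgroupOf, Subgroup.mem_centralizer_singleton_iff]
      have h := congrArg Subtype.val hxz
      set u := ((x.out : T) : R)
      set v := ((z.out : T) : R)
      have h2 : u * y⁻¹ * u⁻¹ = v * y⁻¹ * v⁻¹ := by simpa [f, commutatorElement_def, mul_assoc] using h
      have h3 : u * y * u⁻¹ = v * y * v⁻¹ := by
        have := congrArg (·⁻¹) h2
        simpa [mul_assoc] using this
      show u⁻¹ * v * y = y * (u⁻¹ * v)
      calc u⁻¹ * v * y = u⁻¹ * (v * y * v⁻¹) * v := by group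
        _ = u⁻¹ * (u * y * u⁻¹) * v := by rw [h3]
        _ = _ := by group
    have hle : T ⊓ Subgroup.centralizer ({y} : Set R) ≤ Y := by
      rintro t ⟨ht, hty⟩
      refine hC ⟨ht, ?_⟩
      have hY' : Y ≤ Subgroup.centralizer ({t} : Set R) := by
        rw [← hsup]
        refine sup_le (fun z hz => ?_) (Subgroup.zpowers_le.mpr ?_)
        · exact Subgroup.mem_centralizer_singleton_iff.mpr (Subgroup.mem_centralizer_iff.mp hz.2 t ht).symm
        · exact Subgroup.mem_centralizer_singleton_iff.mpr (Subgroup.mem_centralizer_singleton_iff.mp hty).symm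
      exact Subgroup.mem_centralizer_iff.mpr fun w hw => Subgroup.mem_centralizer_singleton_iff.mp (hY' hw)
    have hcard : Nat.card T ≤ p ^ 2 * p := by
      rw [← Subgroup.card_mul_index ((Subgroup.centralizer ({y} : Set R)).subgroupOf T)]
      refine Nat.mul_le_mul ?_ hidx
      rw [← Subgroup.inf_subgroupOf_right,
        Nat.card_congr (Subgroup.subgroupOfEquivOfLe inf_le_right).toEquiv, ← hY2, inf_comm]
      exact Subgroup.card_le_of_le hle
    rw [← pow_succ] at hcard
    exact absurd ((Nat.pow_le_pow_iff_right hp.out.one_lt).mp (h4.trans hcard)) (by norm_num)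

/-- Elements of such a subgroup have centralisers of rank three. -/
theorem rich_elem (hR : IsPGroup p R) (hr : ¬ Cfsg.PRankLE p 2 R) {T : Subgroup R} [T.Normal] (hT : Good p T)
    (hbig : (IsMulCommutative T ∧ p ^ 2 ≤ Nat.card T) ∨ p ^ 4 ≤ Nat.card T) {x : R} (hx : x ∈ T) :
    ¬ Cfsg.PRankLE p 2 ↥(Subgroup.centralizer ({x} : Set R)) := by
  suffices h : ∃ Y : Subgroup R, Y ≤ T ∧ Cfsg.IsElementaryAbelian p Y ∧ p ^ 2 ≤ Nat.card Y ∧ x ∈ Y by
    obtain ⟨Y, hYT, hYe, hY, hxY⟩ := h
    obtain ⟨E, hE, hEe, hE3⟩ := UniqueTools.exists_isEA_of_not_rankLE (rich_sq hR hr hT hbig hYT hYe hY)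
    exact UniqueTools.not_pRankLE_of_isEA hEe hE3
      (hE.trans (Subgroup.centralizer_le (Set.singleton_subset_iff.mpr hxY)))
  have hT2 : p ^ 2 ≤ Nat.card T := hbig.elim (fun h => h.2) fun h =>
    (Nat.pow_le_pow_right hp.out.pos (by norm_num)).trans h
  set Z := T ⊓ Subgroup.centralizer (T : Set R) with hZ
  have hXe : Cfsg.IsElementaryAbelian p (Subgroup.zpowers x) := Replacement.isEA_zpowers (hT.1 x hx)
  have hXc : Nat.card (Subgroup.zpowers x) ≤ p := by
    rw [Nat.card_zpowers]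
    exact Nat.le_of_dvd hp.out.pos (orderOf_dvd_of_pow_eq_one (hT.1 x hx))
  have hstep : ∀ w ∈ T, Commute w x → w ∉ Subgroup.zpowers x → x ≠ 1 →
      ∃ Y : Subgroup R, Y ≤ T ∧ Cfsg.IsElementaryAbelian p Y ∧ p ^ 2 ≤ Nat.card Y ∧ x ∈ Y := by
    intro w hw hwx hwX hx1
    refine ⟨Subgroup.zpowers x ⊔ Subgroup.zpowers w, sup_le (Subgroup.zpowers_le.mpr hx) (Subgroup.zpowers_le.mpr hw),
      Replacement.isEA_sup hXe (Replacement.isEA_zpowers (hT.1 w hw)) ?_, ?_,
      Subgroup.mem_sup_left (Subgroup.mem_zpowers x)⟩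
    · rw [Subgroup.zpowers_le, Subgroup.mem_centralizer_iff]
      intro g hg
      obtain ⟨i, rfl⟩ := Subgroup.mem_zpowers_iff.mp hg
      exact (hwx.zpow_left i).eq
    · obtain ⟨j, hj⟩ := (hR.to_subgroup (Subgroup.zpowers x ⊔ Subgroup.zpowers w : Subgroup R)).exists_card_eq
      have hlt : Nat.card (Subgroup.zpowers x) < Nat.card ↥(Subgroup.zpowers x ⊔ Subgroup.zpowers w) :=
        Set.ncard_lt_ncard (SetLike.coe_ssubset_coe.mpr (lt_of_le_of_ne le_sup_left fun h => hwX
          (h.ge (Subgroup.mem_sup_right (Subgroup.mem_zpowers w)))))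
      rw [Nat.card_zpowers, orderOf_eq_prime (hT.1 x hx) hx1, hj] at hlt
      rw [hj]
      exact Nat.pow_le_pow_right hp.out.pos ((Nat.pow_lt_pow_iff_right hp.out.one_lt).mp (by rwa [pow_one]))
  have hbigT : ∀ y : R, y ∈ T → ∃ w ∈ T, w ∉ Subgroup.zpowers y := by
    intro y hy
    by_contra hn
    push Not at hn
    have h1 := Subgroup.card_le_of_le (H := T) (K := Subgroup.zpowers y) hn
    rw [Nat.card_zpowers] at h1
    have h2 := hT2.trans (h1.trans (Nat.le_of_dvd hp.out.pos (orderOf_dvd_of_pow_eq_one (hT.1 y hy))))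
    exact absurd h2 (not_le.mpr (by simpa using Nat.pow_lt_pow_right hp.out.one_lt one_lt_two))
  by_cases hx1 : x = 1
  · subst hx1
    obtain ⟨w, hw, hw1⟩ := hbigT 1 (one_mem _)
    obtain ⟨Y, hY1, hY2, hY3, -⟩ : ∃ Y : Subgroup R, Y ≤ T ∧ Cfsg.IsElementaryAbelian p Y ∧
        p ^ 2 ≤ Nat.card Y ∧ True := by
      have hT1 : T ≠ ⊥ := fun h => hw1 (by rw [h, Subgroup.mem_bot] at hw; rw [hw]; exact one_mem _)
      haveI := hR.isNilpotent
      have hne := Solvable.FrattiniFitting.inf_center_ne_bot T hT1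
      obtain ⟨z, hz, hz1⟩ : ∃ z ∈ T ⊓ Subgroup.center R, z ≠ 1 := by
        by_contra hn
        push Not at hn
        exact hne (eq_bot_iff.mpr fun z hz => Subgroup.mem_bot.mpr (hn z hz))
      obtain ⟨u, hu, huz⟩ := hbigT z hz.1
      have he := Replacement.isEA_sup (Replacement.isEA_zpowers (hT.1 z hz.1))
        (Replacement.isEA_zpowers (hT.1 u hu)) (by
          rw [Subgroup.zpowers_le]
          exact Subgroup.mem_centralizer_iff.mpr fun g _ => Subgroup.mem_center_iff.mp hz.2 g)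
      refine ⟨_, sup_le (Subgroup.zpowers_le.mpr hz.1) (Subgroup.zpowers_le.mpr hu), he, ?_, trivial⟩
      obtain ⟨j, hj⟩ := (hR.to_subgroup (Subgroup.zpowers z ⊔ Subgroup.zpowers u : Subgroup R)).exists_card_eq
      have hlt : Nat.card (Subgroup.zpowers z) < Nat.card ↥(Subgroup.zpowers z ⊔ Subgroup.zpowers u) :=
        Set.ncard_lt_ncard (SetLike.coe_ssubset_coe.mpr (lt_of_le_of_ne le_sup_left fun h => huz
          (h.ge (Subgroup.mem_sup_right (Subgroup.mem_zpowers u)))))
      rw [Nat.card_zpowers, orderOf_eq_prime (hT.1 z hz.1) hz1, hj] at hlt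
      rw [hj]
      exact Nat.pow_le_pow_right hp.out.pos ((Nat.pow_lt_pow_iff_right hp.out.one_lt).mp (by rwa [pow_one]))
    exact ⟨Y, hY1, hY2, hY3, one_mem _⟩
  · by_cases hZX : Z ≤ Subgroup.zpowers x
    · obtain ⟨w, hw, hwX⟩ := hbigT x hx
      refine hstep w hw ?_ hwX hx1
      by_cases hZb : Z = ⊥
      · exact commutatorElement_eq_one_iff_commute.mp (Subgroup.mem_bot.mp (hZb ▸
          (⟨Subgroup.commutator_le_right T T (Subgroup.commutator_mem_commutator hw hx), hT.2 w hw x hx⟩ : ⁅w, x⁆ ∈ Z)))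
      · have hxe : Z = Subgroup.zpowers x := by
          refine Subgroup.eq_of_le_of_card_ge hZX (hXc.trans ?_)
          obtain ⟨i, hi⟩ := (hR.to_subgroup Z).exists_card_eq
          rw [hi]
          exact Nat.le_self_pow (fun h0 => hZb (Subgroup.eq_bot_of_card_eq _ (by rw [hi, h0, pow_zero]))) p
        exact Subgroup.mem_centralizer_iff.mp (hxe.ge (Subgroup.mem_zpowers x)).2 w hw
    · obtain ⟨w, hw, hwX⟩ := SetLike.not_le_iff_exists.mp hZX
      exact hstep w hw.1 (Subgroup.mem_centralizer_iff.mp hw.2 x hx).symm hwX hx1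

end CfsgLib.OddOrder.CharOmega
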