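import Cfsg.Agent.Lib.OddOrder.StableAction
import Cfsg.Agent.Lib.OddOrder.UniqueTools
import Cfsg.Agent.Lib.OddOrder.RankTwo
import Cfsg.Agent.Lib.OddOrder.CharOmega
import Cfsg.Agent.Lib.Components.Signalizer.Basic
import Mathlib

set_option autoImplicit false

/-!
`p`-groups of rank two with a stable action of odd order prime to `p`.
-/

namespace CfsgLib.OddOrder.RankTwoStable

open scoped commutatorElement

variable {X : Type*} [Group X] [Finite X] {p : ℕ} [hp : Fact p.Prime]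

/-- A `p`-group whose elements of order `p` lie in a subgroup of order at most `p` is cyclic. -/
theorem isCyclic_of_omega_le (hp2 : p ≠ 2) {S Z : Subgroup X} (hS : IsPGroup p S) (hZ : Nat.card Z ≤ p)
    (h : ∀ x ∈ S, x ^ p = 1 → x ∈ Z) : IsCyclic S := by
  refine FixedPointFree.isCyclic_of_unique_order_p hp2 hS fun x y hx hy hx1 => ?_
  have hx' : (x : X) ^ p = 1 := by simpa using congrArg Subtype.val hx
  have hy' : (y : X) ^ p = 1 := by simpa using congrArg Subtype.val hy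
  have hx1' : (x : X) ≠ 1 := fun e => hx1 (Subtype.ext e)
  have heq : Subgroup.zpowers (x : X) = Z := Subgroup.eq_of_le_of_card_ge (Subgroup.zpowers_le.mpr (h x x.2 hx'))
    (by rw [Nat.card_zpowers, orderOf_eq_prime hx' hx1']; exact hZ)
  obtain ⟨k, hk⟩ := Subgroup.mem_zpowers_iff.mp (heq.ge (h y y.2 hy'))
  exact Subgroup.mem_zpowers_iff.mpr ⟨k, Subtype.ext (by simpa using hk)⟩

/-- A nontrivial normal subgroup of a `p`-group contains a central element of order `p`. -/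
theorem exists_central {R N : Subgroup X} (hR : IsPGroup p R) (hNR : N ≤ R)
    (hn : R ≤ Subgroup.normalizer (N : Set X)) (h : N ≠ ⊥) :
    ∃ d ∈ N, d ≠ 1 ∧ d ^ p = 1 ∧ d ∈ Subgroup.centralizer (R : Set X) := by
  induction hk : Nat.card N using Nat.strong_induction_on generalizing N with
  | _ k ih =>
    subst hk
    by_cases hb : ⁅N, R⁆ = ⊥
    · obtain ⟨d, hd⟩ := exists_prime_orderOf_dvd_card' (G := N) p
        ((hR.to_le hNR).card_eq_or_dvd.resolve_left fun e => h (Subgroup.eq_bot_of_card_eq _ e))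
      refine ⟨d, d.2, fun e => ?_, ?_, Subgroup.commutator_eq_bot_iff_le_centralizer.mp hb d.2⟩
      · rw [← Subgroup.orderOf_coe, e, orderOf_one] at hd
        exact hp.out.ne_one hd.symm
      · rw [← hd, ← Subgroup.orderOf_coe, pow_orderOf_eq_one]
    · have hlt := Coprime.commutator_lt_of_isPGroup hR (hR.to_le hNR) hn h
      obtain ⟨d, hd, h'⟩ := ih _ (Set.ncard_lt_ncard (SetLike.coe_ssubset_coe.mpr hlt))
        (hlt.le.trans hNR) (Subgroup.normalizer_commutator_ge_right N R) hb rfl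
      exact ⟨d, hlt.le hd, h'⟩

/-- A proper normal subgroup is not reached by commutators with a `p`-group. -/
theorem not_le_commutator_sup {R C M : Subgroup X} (hR : IsPGroup p R) (hCR : C ≤ R) (hMR : M ≤ R)
    (hn : R ≤ Subgroup.normalizer (M : Set X)) (h : ¬ C ≤ M) : ¬ C ≤ ⁅C, R⁆ ⊔ M := by
  haveI : (M.subgroupOf R).Normal := (Subgroup.normal_subgroupOf_iff_le_normalizer hMR).mpr hn
  have h' := CharOmega.not_le_commutator_sup (M := C.subgroupOf R) (Z := M.subgroupOf R) hR fun h' =>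
    h fun x hx => h' (show (⟨x, hCR hx⟩ : R) ∈ C.subgroupOf R from hx)
  intro hle
  refine h' fun x hx => ?_
  have : (⁅C.subgroupOf R, (⊤ : Subgroup R)⁆ ⊔ M.subgroupOf R).map R.subtype = ⁅C, R⁆ ⊔ M := by
    rw [Subgroup.map_sup, Subgroup.map_commutator, Subgroup.map_subgroupOf_eq_of_le hCR,
      Subgroup.map_subgroupOf_eq_of_le hMR, ← MonoidHom.range_eq_map, Subgroup.range_subtype]
  obtain ⟨y, hy, hyx⟩ := this.ge (hle hx)
  exact Subtype.ext hyx ▸ hy

/-- The derived subgroup of a product. -/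
theorem derived_le_of_prod {S T V H : Subgroup X} (hprod : ∀ g ∈ S, ∃ t ∈ T, ∃ v ∈ V, g = t * v)
    (hT : T ≤ Subgroup.normalizer (H : Set X)) (hV : V ≤ Subgroup.normalizer (H : Set X))
    (hVab : ∀ a ∈ V, ∀ b ∈ V, a * b = b * a) (hTT : ∀ a ∈ T, ∀ b ∈ T, ⁅a, b⁆ ∈ H)
    (hTV : ∀ a ∈ V, ∀ b ∈ T, ⁅a, b⁆ ∈ H) : ⁅S, S⁆ ≤ H := by
  rw [Subgroup.commutator_le]
  intro g₁ h₁ g₂ h₂
  obtain ⟨t₁, ht₁, v₁, hv₁, rfl⟩ := hprod g₁ h₁
  obtain ⟨t₂, ht₂, v₂, hv₂, rfl⟩ := hprod g₂ h₂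
  have conjT : ∀ a ∈ T, ∀ w ∈ H, a * w * a⁻¹ ∈ H := fun a ha w hw =>
    (Subgroup.mem_normalizer_iff.mp (hT ha) w).mp hw
  have e : ⁅t₁ * v₁, t₂ * v₂⁆ = t₁ * (⁅v₁, t₂⁆ * (t₂ * ⁅v₁, v₂⁆ * t₂⁻¹)) * t₁⁻¹ *
      (⁅t₁, t₂⁆ * (t₂ * ⁅t₁, v₂⁆ * t₂⁻¹)) := by simp only [commutatorElement_def]; group
  rw [e]
  refine mul_mem (conjT _ ht₁ _ (mul_mem (hTV _ hv₁ _ ht₂) ?_)) (mul_mem (hTT _ ht₁ _ ht₂) (conjT _ ht₂ _ ?_))
  · rw [commutatorElement_eq_one_iff_mul_comm.mpr (hVab _ hv₁ _ hv₂)]; simp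
  · rw [← commutatorElement_inv]; exact inv_mem (hTV _ hv₂ _ ht₁)

/-- The standing configuration: `C = C_R(E)` of index `p` for a plane `E = W`. -/
structure Config (p : ℕ) (R A C E : Subgroup X) (x z : X) : Prop where
  hp2 : p ≠ 2
  hR : IsPGroup p R
  hAR : A ≤ Subgroup.normalizer (R : Set X)
  hcop : (Nat.card A).Coprime (Nat.card R)
  hAodd : Odd (Nat.card A)
  hRA : ⁅R, A⁆ = R
  hEC : E ≤ C
  hCR : C ≤ R
  hCn : R ≤ Subgroup.normalizer (C : Set X)
  hAC : A ≤ Subgroup.normalizer (C : Set X)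
  hCE : ∀ u ∈ C, ∀ e ∈ E, u * e = e * u
  hAE : A ≤ Subgroup.normalizer (E : Set X)
  hE2 : Nat.card E = p ^ 2
  hEp : ∀ f ∈ E, f ^ p = 1
  hΩ : ∀ u ∈ C, u ^ p = 1 → u ∈ E
  hx : x ∈ R
  hxC : x ∉ C
  hxp : x ^ p ∈ C
  hgen : ∀ r ∈ R, ∃ u ∈ C, ∃ i : ℕ, r = u * x ^ i
  hz : z ≠ 1
  hzp : z ^ p = 1
  hzR : z ∈ R ⊓ Subgroup.centralizer (R : Set X)
  hZ0 : ∀ u ∈ R, u ^ p = 1 → u ∈ Subgroup.centralizer (R : Set X) → u ∈ Subgroup.zpowers z
  hEx : ∃ e ∈ E, ⁅x, e⁆ = z
  hEZ : ∀ e ∈ E, ⁅x, e⁆ ∈ Subgroup.zpowers z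

namespace Config

variable {R A C E : Subgroup X} {x z : X}

theorem z_mem_E (h : Config p R A C E x z) : z ∈ E := by
  obtain ⟨e, he, hze⟩ := h.hEx
  refine h.hΩ z ?_ h.hzp
  rw [← hze, commutatorElement_def]
  have := (Subgroup.mem_normalizer_iff.mp (h.hCn h.hx) e).mp (h.hEC he)
  exact mul_mem this (inv_mem (h.hEC he))

theorem orderOf_z (h : Config p R A C E x z) : orderOf z = p := orderOf_eq_prime h.hzp h.hz

theorem pow_z_eq (h : Config p R A C E x z) {a b : ℕ} : z ^ a = z ^ b ↔ (a : ZMod p) = (b : ZMod p) := by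
  rw [pow_eq_pow_iff_modEq, h.orderOf_z, ZMod.natCast_eq_natCast_iff]

theorem conj_mem (h : Config p R A C E x z) {a u : X} (ha : a ∈ A) (hu : u ∈ C) : a * u * a⁻¹ ∈ C :=
  (Subgroup.mem_normalizer_iff.mp (h.hAC ha) u).mp hu

theorem xpow_conj_mem (h : Config p R A C E x z) {u : X} (hu : u ∈ C) (i : ℕ) : ⁅x ^ i, u⁆ ∈ C :=
  mul_mem ((Subgroup.mem_normalizer_iff.mp (h.hCn (pow_mem h.hx i)) u).mp hu) (inv_mem hu)

/-- The character data of an element of `A`: `a z = z ^ n`, `a⁻¹ x ∈ C x ^ j`. -/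
theorem exists_chars (h : Config p R A C E x z) {a : X} (ha : a ∈ A) :
    ∃ n j : ℕ, (n : ZMod p) ≠ 0 ∧ (j : ZMod p) ≠ 0 ∧ a * z * a⁻¹ = z ^ n ∧
      (∃ u ∈ C, a⁻¹ * x * a = u * x ^ j) ∧ ((j : ZMod p) ≠ 1 → (j : ZMod p) ^ 2 ≠ 1) := by
  have hz' : a * z * a⁻¹ ∈ Subgroup.zpowers z := by
    refine h.hZ0 _ ((Subgroup.mem_normalizer_iff.mp (h.hAR ha) z).mp h.hzR.1)
      (by rw [conj_pow, h.hzp, mul_one, mul_inv_cancel]) (Subgroup.mem_centralizer_iff.mpr fun r hr => ?_)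
    have hr' : a⁻¹ * r * a ∈ R := (Subgroup.mem_normalizer_iff''.mp (h.hAR ha) r).mp hr
    have := Subgroup.mem_centralizer_iff.mp h.hzR.2 _ hr'
    calc r * (a * z * a⁻¹) = a * ((a⁻¹ * r * a) * z) * a⁻¹ := by group
      _ = a * (z * (a⁻¹ * r * a)) * a⁻¹ := by rw [this]
      _ = _ := by group
  obtain ⟨n, hn⟩ := mem_powers_iff_mem_zpowers.mpr hz'
  simp only at hn
  obtain ⟨u, hu, j, hj⟩ := h.hgen _ ((Subgroup.mem_normalizer_iff''.mp (h.hAR ha) x).mp h.hx)
  have hj0 : (j : ZMod p) ≠ 0 := by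
    intro hj'
    obtain ⟨i, rfl⟩ := (ZMod.natCast_eq_zero_iff j p).mp hj'
    refine h.hxC ?_
    have : a⁻¹ * x * a ∈ C := by rw [hj, pow_mul]; exact mul_mem hu (pow_mem h.hxp i)
    simpa [mul_assoc] using h.conj_mem ha this
  refine ⟨n, j, ?_, hj0, hn.symm, ⟨u, hu, hj⟩, fun hj1 hj2 => ?_⟩
  · intro hn'
    refine h.hz ?_
    have h1 : a * z * a⁻¹ = 1 := by
      rw [← hn, ← pow_zero z]; exact h.pow_z_eq.mpr (by simpa using hn')
    simpa using h1
  -- `j` has odd multiplicative order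
  have hconj : ∀ (i : ℕ) (v : X), v ∈ C → ∃ w ∈ C, a⁻¹ * (v * x ^ i) * a = w * x ^ (j * i) := by
    intro i v hv
    have hpow : ∀ i : ℕ, ∃ w ∈ C, (u * x ^ j) ^ i = w * x ^ (j * i) := by
      intro i
      induction i with
      | zero => exact ⟨1, one_mem _, by simp⟩
      | succ i ih =>
        obtain ⟨w, hw, he⟩ := ih
        refine ⟨w * (x ^ (j * i) * u * (x ^ (j * i))⁻¹),
          mul_mem hw ((Subgroup.mem_normalizer_iff.mp (h.hCn (pow_mem h.hx _)) u).mp hu), ?_⟩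
        rw [pow_succ, he, show j * (i + 1) = j * i + j by ring, pow_add]
        group
    obtain ⟨w, hw, he⟩ := hpow i
    refine ⟨(a⁻¹ * v * a) * w, mul_mem ((Subgroup.mem_normalizer_iff''.mp (h.hAC ha) v).mp hv) hw, ?_⟩
    calc a⁻¹ * (v * x ^ i) * a = (a⁻¹ * v * a) * (a⁻¹ * x * a⁻¹⁻¹) ^ i := by rw [conj_pow]; group
      _ = (a⁻¹ * v * a) * (u * x ^ j) ^ i := by rw [inv_inv, hj]
      _ = _ := by rw [he]; group
  have hiter : ∀ N : ℕ, ∃ w ∈ C, (a ^ N)⁻¹ * x * a ^ N = w * x ^ j ^ N := by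
    intro N
    induction N with
    | zero => exact ⟨1, one_mem _, by simp⟩
    | succ N ih =>
      obtain ⟨w, hw, he⟩ := ih
      obtain ⟨w', hw', he'⟩ := hconj (j ^ N) w hw
      refine ⟨w', hw', ?_⟩
      rw [← he] at he'
      rw [pow_succ' j, ← he', pow_succ]
      group
  obtain ⟨w, hw, he⟩ := hiter (orderOf a)
  rw [pow_orderOf_eq_one, inv_one, one_mul, mul_one] at he
  have hodd : Odd (orderOf a) := h.hAodd.of_dvd_nat (Subgroup.orderOf_dvd_natCard A ha)
  obtain ⟨k, hk⟩ := hodd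
  have hjN : ((j ^ orderOf a : ℕ) : ZMod p) = (j : ZMod p) := by
    rw [hk, Nat.cast_pow, pow_succ, pow_mul, hj2, one_pow, one_mul]
  by_cases hjN1 : ((j ^ orderOf a : ℕ) : ZMod p) = 1
  · exact hj1 (hjN.symm.trans hjN1)
  refine h.hxC ?_
  set M := j ^ orderOf a with hM
  -- `x ^ (M - 1)` lies in `C`
  have hpos : 1 ≤ M := by
    rcases Nat.eq_zero_or_pos M with h0 | h0
    · rw [h0] at he
      rw [pow_zero, mul_one] at he
      exact absurd (he ▸ hw) h.hxC
    · exact h0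
  have hxM : x ^ (M - 1) ∈ C := by
    have e : x ^ (M - 1) = x⁻¹ * (w⁻¹ * x) := by
      rw [show w⁻¹ * x = x ^ M from inv_mul_eq_of_eq_mul he,
        show x ^ M = x * x ^ (M - 1) by rw [← pow_succ', Nat.sub_add_cancel hpos]]
      group
    rw [e, ← mul_assoc]
    exact (Subgroup.mem_normalizer_iff''.mp (h.hCn h.hx) _).mp (inv_mem hw)
  have hcop : Nat.Coprime (M - 1) p := by
    refine ((hp.out.coprime_iff_not_dvd).mpr fun hd => hjN1 ?_).symm
    have h0 := (ZMod.natCast_eq_zero_iff (M - 1) p).mpr hd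
    rw [Nat.cast_sub hpos, Nat.cast_one, sub_eq_zero] at h0
    exact h0
  have h1 := Nat.Coprime.gcd_eq_one hcop
  have hbez := Nat.gcd_eq_gcd_ab (M - 1) p
  rw [h1] at hbez
  have : x = (x ^ (M - 1)) ^ (Nat.gcdA (M - 1) p) * (x ^ p) ^ (Nat.gcdB (M - 1) p) := by
    rw [← zpow_natCast, ← zpow_natCast x p, ← zpow_mul, ← zpow_mul, ← zpow_add, ← hbez, Nat.cast_one, zpow_one]
  rw [this]
  exact mul_mem (zpow_mem hxM _) (zpow_mem h.hxp _)

theorem exists_char_ne_one (h : Config p R A C E x z) :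
    ∃ a ∈ A, ∃ n j : ℕ, (n : ZMod p) ≠ 0 ∧ (j : ZMod p) ≠ 0 ∧ a * z * a⁻¹ = z ^ n ∧
      (∃ u ∈ C, a⁻¹ * x * a = u * x ^ j) ∧ (j : ZMod p) ^ 2 ≠ 1 := by
  by_contra hno
  refine h.hxC ?_
  have hle : ⁅R, A⁆ ≤ C := by
    rw [Subgroup.commutator_le]
    intro r hr a' ha'
    obtain ⟨n, j, hn, hj, hz', ⟨u, hu, he⟩, himp⟩ := h.exists_chars (inv_mem ha')
    have hj1 : (j : ZMod p) = 1 := by
      by_contra hj1
      exact hno ⟨_, inv_mem ha', n, j, hn, hj, hz', ⟨u, hu, he⟩, himp hj1⟩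
    have hd : x⁻¹ * (a' * x * a'⁻¹) ∈ C := by
      rw [inv_inv] at he
      rw [he]
      have hjd : x⁻¹ * x ^ j ∈ C := by
        have h1 : (1 : ℕ) ≤ j := Nat.pos_of_ne_zero fun e => hj (by rw [e, Nat.cast_zero])
        have h0 : (((j - 1 : ℕ)) : ZMod p) = 0 := by rw [Nat.cast_sub h1, hj1, Nat.cast_one, sub_self]
        obtain ⟨i, hi⟩ := (ZMod.natCast_eq_zero_iff _ p).mp h0
        rw [show x ^ j = x * x ^ (j - 1) by rw [← pow_succ', Nat.sub_add_cancel h1], inv_mul_cancel_left, hi, pow_mul]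
        exact pow_mem h.hxp i
      have := mul_mem ((Subgroup.mem_normalizer_iff''.mp (h.hCn h.hx) u).mp hu) hjd
      simpa [mul_assoc] using this
    -- all of `R` is fixed modulo `C`
    obtain ⟨v, hv, i, rfl⟩ := h.hgen r hr
    have hxi : ∀ i : ℕ, (x ^ i)⁻¹ * (a' * x ^ i * a'⁻¹) ∈ C := by
      intro i
      induction i with
      | zero => simp
      | succ i ih =>
        have := mul_mem ((Subgroup.mem_normalizer_iff''.mp (h.hCn h.hx) _).mp ih) hd
        convert this using 1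
        rw [pow_succ]; group
    have h1 : ⁅v * x ^ i, a'⁆ = v * (x ^ i * ((x ^ i)⁻¹ * (a' * x ^ i * a'⁻¹))⁻¹ * (x ^ i)⁻¹) *
        (a' * v⁻¹ * a'⁻¹) := by simp only [commutatorElement_def]; group
    rw [h1]
    refine mul_mem (mul_mem hv ((Subgroup.mem_normalizer_iff.mp (h.hCn (pow_mem h.hx i)) _).mp (inv_mem (hxi i)))) ?_
    exact h.conj_mem ha' (inv_mem hv)
  exact hle (h.hRA.symm ▸ h.hx)

theorem split (h : Config p R A C E x z) :
    ⁅C, A⁆ ⊔ (C ⊓ Subgroup.centralizer (A : Set X)) = C ∧ IsMulCommutative ↥⁅C, A⁆ ∧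
      ⁅C, A⁆ ⊓ (C ⊓ Subgroup.centralizer (A : Set X)) = ⊥ := by
  have hcC : (Nat.card A).Coprime (Nat.card C) := h.hcop.coprime_dvd_right (Subgroup.card_dvd_of_le h.hCR)
  haveI := (h.hR.to_le h.hCR).isNilpotent
  have hsolv : Group.IsSolvable A ∨ Group.IsSolvable C := Or.inr inferInstance
  have hPC : ⁅C, A⁆ ≤ C := Subgroup.le_normalizer_iff_commutator_le_left.mp h.hAC
  have hAP : A ≤ Subgroup.normalizer (⁅C, A⁆ : Subgroup X) := Subgroup.normalizer_commutator_ge_right C A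
  have hPP := Coprime.commutator_commutator_self h.hAC hcC hsolv
  have hcP : (Nat.card A).Coprime (Nat.card ↥⁅C, A⁆) := hcC.coprime_dvd_right (Subgroup.card_dvd_of_le hPC)
  haveI hab : IsMulCommutative ↥⁅C, A⁆ := StableAction.commutative_of_pcentral_sub h.hp2 ((h.hR.to_le h.hCR).to_le hPC)
    hAP hcP hPP (fun u hu hup => Subgroup.mem_centralizer_iff.mpr fun v hv =>
      h.hCE v (hPC hv) u (h.hΩ u (hPC hu) hup)) (by
      rw [← h.hE2]
      exact Nat.card_mono (Set.toFinite _) fun u hu => h.hΩ u (hPC hu.1) hu.2)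
  refine ⟨Coprime.commutator_sup_centralizer h.hAC hcC hsolv, hab, eq_bot_iff.mpr fun u hu => ?_⟩
  obtain ⟨hu1, -, hu2⟩ := hu
  rw [← Coprime.centralizer_inf_commutator_eq_bot hAP hcP, hPP]
  exact ⟨⟨hu1, hu2⟩, hu1⟩

theorem false_of_fixed (h : Config p R A C E x z) {e : X} (he : e ∈ E) (heZ : e ∉ Subgroup.zpowers z)
    (heA : e ∈ Subgroup.centralizer (A : Set X)) : False := by
  obtain ⟨a, ha, n, j, hn, hj, hz', ⟨u₀, hu₀, hx'⟩, hj2⟩ := h.exists_char_ne_one
  obtain ⟨hsup, hab, hint⟩ := h.split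
  set P := ⁅C, A⁆ with hP
  set C₁ := C ⊓ Subgroup.centralizer (A : Set X) with hC₁
  have hPC : P ≤ C := Subgroup.le_normalizer_iff_commutator_le_left.mp h.hAC
  have hAP : A ≤ Subgroup.normalizer (P : Set X) := Subgroup.normalizer_commutator_ge_right C A
  have hCP : C ≤ Subgroup.normalizer (P : Set X) := Subgroup.normalizer_commutator_ge_left C A
  have hj1 : (j : ZMod p) ≠ 1 := fun h1 => hj2 (by rw [h1, one_pow])
  have hae : a * e * a⁻¹ = e := by
    rw [Subgroup.mem_centralizer_iff.mp heA a ha, mul_inv_cancel_right]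
  obtain ⟨e', he', hxe'⟩ := h.hEx
  -- `E` is generated by `z` and `e`
  have hE : ∀ f ∈ E, ∃ i k : ℕ, f = e ^ i * z ^ k := by
    have hle : Subgroup.zpowers e ⊔ Subgroup.zpowers z = E := by
      refine Subgroup.eq_of_le_of_card_ge (sup_le (Subgroup.zpowers_le.mpr he) (Subgroup.zpowers_le.mpr h.z_mem_E)) ?_
      obtain ⟨i, hi⟩ := ((h.hR.to_le (h.hEC.trans h.hCR)).to_le (sup_le (Subgroup.zpowers_le.mpr he)
        (Subgroup.zpowers_le.mpr h.z_mem_E) : Subgroup.zpowers e ⊔ Subgroup.zpowers z ≤ E)).exists_card_eq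
      have hlt : Nat.card (Subgroup.zpowers z) < Nat.card ↥(Subgroup.zpowers e ⊔ Subgroup.zpowers z) :=
        Set.ncard_lt_ncard (SetLike.coe_ssubset_coe.mpr (lt_of_le_of_ne le_sup_right fun h' => heZ
          (h' ▸ Subgroup.mem_sup_left (Subgroup.mem_zpowers e))))
      rw [Nat.card_zpowers, h.orderOf_z, hi] at hlt
      rw [hi, h.hE2]
      refine Nat.pow_le_pow_right hp.out.pos ?_
      exact (Nat.pow_lt_pow_iff_right hp.out.one_lt).mp (by rwa [pow_one])
    intro f hf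
    rw [← hle, ← SetLike.mem_coe, Subgroup.coe_mul_of_right_le_normalizer_left _ _ ((Subgroup.zpowers_le.mpr
      (Subgroup.mem_centralizer_iff.mpr fun w hw => by
        obtain ⟨i, rfl⟩ := Subgroup.mem_zpowers_iff.mp hw
        exact ((show Commute e z from h.hCE e (h.hEC he) z h.z_mem_E).zpow_left i).eq)).trans
      (Subgroup.centralizer_le_normalizer _))] at hf
    obtain ⟨w₁, h₁, w₂, h₂, rfl⟩ := Set.mem_mul.mp hf
    obtain ⟨i, rfl⟩ := mem_powers_iff_mem_zpowers.mpr h₁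
    obtain ⟨k, rfl⟩ := mem_powers_iff_mem_zpowers.mpr h₂
    exact ⟨i, k, rfl⟩
  have hnj : (n : ZMod p) * j = 1 := by
    obtain ⟨i, k, hik⟩ := hE e' he'
    have hxz : ⁅x, z ^ k⁆ = 1 :=
      commutatorElement_eq_one_iff_mul_comm.mpr (Subgroup.mem_centralizer_iff.mp (pow_mem h.hzR.2 k) x h.hx)
    have hxe : ∀ m i : ℕ, ⁅x ^ m, e ^ i⁆ = ⁅x, e⁆ ^ (m * i) := by
      intro m i
      have hc : ∀ r ∈ R, r * ⁅x, e⁆ = ⁅x, e⁆ * r := fun r hr => by
        obtain ⟨k, hk⟩ := Subgroup.mem_zpowers_iff.mp (h.hEZ e he)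
        rw [← hk]
        exact ((show Commute r z from Subgroup.mem_centralizer_iff.mp h.hzR.2 r hr).zpow_right k).eq
      have h1 : ∀ i : ℕ, ⁅x, e ^ i⁆ = ⁅x, e⁆ ^ i := by
        intro i
        induction i with
        | zero => simp
        | succ i ih =>
          rw [pow_succ, commutatorElement_mul_right_eq_mul_conj, ih, pow_succ, mul_assoc (⁅x, e⁆ ^ i) (e ^ i),
            hc _ (pow_mem (h.hCR (h.hEC he)) i)]
          group
      induction m with
      | zero => simp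
      | succ m ih =>
        rw [pow_succ', commutatorElement_mul_left_eq_conj_mul, ih, h1, add_mul, one_mul, pow_add,
          ((show Commute x ⁅x, e⁆ from hc x h.hx).pow_right (m * i)).eq]
        group
    have hze : z = ⁅x, e⁆ ^ i := by
      rw [← hxe', hik, commutatorElement_mul_right_eq_mul_conj, hxz]
      have := hxe 1 i
      rw [pow_one, one_mul] at this
      simp [this]
    have h1 : a * ⁅a⁻¹ * x * a, e ^ i⁆ * a⁻¹ = z := by
      rw [conjugate_commutatorElement, show a * (a⁻¹ * x * a) * a⁻¹ = x by group, ← conj_pow, hae]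
      have := hxe 1 i
      rw [pow_one, one_mul] at this
      rw [this, hze]
    rw [hx', commutatorElement_mul_left_eq_conj_mul, hxe, mul_comm j i, pow_mul, ← hze,
      commutatorElement_eq_one_iff_mul_comm.mpr (h.hCE u₀ hu₀ _ (pow_mem he i)), mul_one,
      Subgroup.mem_centralizer_iff.mp (pow_mem h.hzR.2 j) u₀ (h.hCR hu₀), mul_inv_cancel_right,
      ← conj_pow, hz', ← pow_mul] at h1
    have := h.pow_z_eq.mp (h1.trans (pow_one z).symm)
    push_cast at this
    exact this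
  have hn1 : (n : ZMod p) ≠ 1 := fun h1 => hj1 (by rw [h1, one_mul] at hnj; exact hnj)
  -- `z ∈ P`, and both factors are cyclic
  have hPne : P ≠ ⊥ := by
    intro hb
    rw [hb, bot_sup_eq] at hsup
    have hzA : z ∈ Subgroup.centralizer (A : Set X) := (inf_le_right : C₁ ≤ _) (hsup.ge (h.hEC h.z_mem_E))
    refine hn1 ?_
    have h1 : z ^ n = z ^ 1 := by
      rw [← hz', Subgroup.mem_centralizer_iff.mp hzA a ha, mul_inv_cancel_right, pow_one]
    simpa using h.pow_z_eq.mp h1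
  have hPz : z ∈ P := by
    obtain ⟨f, hf⟩ := exists_prime_orderOf_dvd_card' (G := P) p
      (((h.hR.to_le h.hCR).to_le hPC).card_eq_or_dvd.resolve_left fun e' => hPne (Subgroup.eq_bot_of_card_eq _ e'))
    have hf1 : (f : X) ≠ 1 := fun e' => by
      rw [← Subgroup.orderOf_coe, e', orderOf_one] at hf; exact hp.out.ne_one hf.symm
    have hfp : (f : X) ^ p = 1 := by rw [← hf, ← Subgroup.orderOf_coe, pow_orderOf_eq_one]
    obtain ⟨i, k, hik⟩ := hE f (h.hΩ _ (hPC f.2) hfp)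
    have hmem : (f : X)⁻¹ * (a * f * a⁻¹) ∈ P :=
      mul_mem (inv_mem f.2) ((Subgroup.mem_normalizer_iff.mp (hAP ha) _).mp f.2)
    rw [hik, show a * (e ^ i * z ^ k) * a⁻¹ = (a * e * a⁻¹) ^ i * (a * z * a⁻¹) ^ k by
      rw [conj_pow, conj_pow]; group, hae, hz', ← pow_mul, mul_inv_rev, mul_assoc, inv_mul_cancel_left] at hmem
    by_cases hk : (k : ZMod p) = 0
    · exfalso
      have hzk : z ^ k = 1 := by rw [← pow_zero z]; exact h.pow_z_eq.mpr (by simpa using hk)
      refine hf1 ?_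
      have : (f : X) ∈ P ⊓ C₁ := ⟨f.2, by
        rw [hik, hzk, mul_one]; exact pow_mem (Subgroup.mem_inf.mpr ⟨h.hEC he, heA⟩ : e ∈ C₁) i⟩
      rw [hint, Subgroup.mem_bot] at this
      exact this
    · have hne : (z ^ k)⁻¹ * z ^ (n * k) ≠ 1 := fun e' => by
        have := h.pow_z_eq.mp (inv_mul_eq_one.mp e')
        push_cast at this
        exact hn1 (mul_right_cancel₀ hk (by rw [one_mul]; exact this.symm))
      have hzz : (z ^ k)⁻¹ * z ^ (n * k) ∈ Subgroup.zpowers z :=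
        mul_mem (inv_mem (pow_mem (Subgroup.mem_zpowers z) _)) (pow_mem (Subgroup.mem_zpowers z) _)
      have heq : Subgroup.zpowers ((z ^ k)⁻¹ * z ^ (n * k)) = Subgroup.zpowers z :=
        Subgroup.eq_of_le_of_card_ge (Subgroup.zpowers_le.mpr hzz) (by
          rw [Nat.card_zpowers, Nat.card_zpowers, h.orderOf_z, orderOf_eq_prime (p := p) ?_ hne]
          obtain ⟨m, hm⟩ := Subgroup.mem_zpowers_iff.mp hzz
          rw [← hm, ← zpow_natCast, ← zpow_mul, mul_comm, zpow_mul, zpow_natCast, h.hzp, one_zpow])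
      exact (heq.ge.trans (Subgroup.zpowers_le.mpr hmem)) (Subgroup.mem_zpowers z)
  have hPcyc : IsCyclic P := by
    refine isCyclic_of_omega_le h.hp2 (Z := Subgroup.zpowers z) ((h.hR.to_le h.hCR).to_le hPC)
      (by rw [Nat.card_zpowers, h.orderOf_z]) fun f hfP hfp => ?_
    obtain ⟨i, k, rfl⟩ := hE f (h.hΩ f (hPC hfP) hfp)
    have hei : e ^ i ∈ P ⊓ C₁ := ⟨by simpa using mul_mem hfP (inv_mem (pow_mem hPz k)),
      pow_mem (Subgroup.mem_inf.mpr ⟨h.hEC he, heA⟩ : e ∈ C₁) i⟩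
    rw [hint, Subgroup.mem_bot] at hei
    rw [hei, one_mul]
    exact pow_mem (Subgroup.mem_zpowers z) k
  have hC₁cyc : IsCyclic C₁ := by
    refine isCyclic_of_omega_le h.hp2 (Z := Subgroup.zpowers e) (h.hR.to_le (inf_le_left.trans h.hCR)) ?_
      fun f hfC hfp => ?_
    · rw [Nat.card_zpowers]
      exact Nat.le_of_dvd hp.out.pos (orderOf_dvd_of_pow_eq_one (h.hEp e he))
    · obtain ⟨i, k, hik⟩ := hE f (h.hΩ f hfC.1 hfp)
      have hzk : z ^ k ∈ P ⊓ C₁ := by
        refine ⟨pow_mem hPz k, ?_⟩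
        have hei : e ^ i ∈ C₁ := pow_mem (Subgroup.mem_inf.mpr ⟨h.hEC he, heA⟩) i
        simpa [hik] using mul_mem (inv_mem hei) hfC
      rw [hint, Subgroup.mem_bot] at hzk
      rw [hik, hzk, mul_one]
      exact pow_mem (Subgroup.mem_zpowers e) i
  obtain ⟨qq, hqq⟩ := hPcyc.exists_generator
  obtain ⟨cc, hcc⟩ := hC₁cyc.exists_generator
  set q := (qq : X) with hq
  set c := (cc : X) with hc
  have hqP : q ∈ P := qq.2
  have hcC₁ : c ∈ C₁ := cc.2
  have hqC : q ∈ C := hPC hqP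
  have hcC : c ∈ C := hcC₁.1
  have hC₁P : C₁ ≤ Subgroup.normalizer (P : Set X) := inf_le_left.trans hCP
  have hdec : ∀ u ∈ C, ∃ i k : ℕ, u = q ^ i * c ^ k := by
    intro u hu
    rw [← hsup, ← SetLike.mem_coe, Subgroup.coe_mul_of_right_le_normalizer_left P C₁ hC₁P] at hu
    obtain ⟨w₁, h₁, w₂, h₂, rfl⟩ := Set.mem_mul.mp hu
    obtain ⟨i, hi⟩ := mem_powers_iff_mem_zpowers.mpr (hqq ⟨w₁, h₁⟩)
    obtain ⟨k, hk⟩ := mem_powers_iff_mem_zpowers.mpr (hcc ⟨w₂, h₂⟩)
    exact ⟨i, k, by rw [show w₁ = q ^ i from (congrArg Subtype.val hi).symm.trans (by simp [hq]),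
      show w₂ = c ^ k from (congrArg Subtype.val hk).symm.trans (by simp [hc])]⟩
  have hC₁ab : ∀ v ∈ C₁, ∀ w ∈ C₁, v * w = w * v := fun v hv w hw =>
    haveI := hC₁cyc
    congrArg Subtype.val ((IsCyclic.isMulCommutative (α := C₁)).is_comm.comm ⟨v, hv⟩ ⟨w, hw⟩)
  have hC'P : ⁅C, C⁆ ≤ P := derived_le_of_prod (T := P) (V := C₁)
    (fun g hg => by
      rw [← hsup, ← SetLike.mem_coe, Subgroup.coe_mul_of_right_le_normalizer_left P C₁ hC₁P] at hg
      obtain ⟨w₁, h₁, w₂, h₂, rfl⟩ := Set.mem_mul.mp hg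
      exact ⟨w₁, h₁, w₂, h₂, rfl⟩)
    Subgroup.le_normalizer hC₁P hC₁ab (fun v hv w hw => Subgroup.commutator_le_self P
      (Subgroup.commutator_mem_commutator hv hw))
    (fun v hv w hw => by
      rw [commutatorElement_def]
      exact mul_mem ((Subgroup.mem_normalizer_iff.mp (hC₁P hv) w).mp hw) (inv_mem hw))
  set H := P ⊔ Subgroup.zpowers (c ^ p) with hH
  have hHC : H ≤ C := sup_le hPC (Subgroup.zpowers_le.mpr (pow_mem hcC p))
  have hcommH : ∀ v ∈ C, ∀ w ∈ C, ⁅v, w⁆ ∈ H := fun v hv w hw =>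
    Subgroup.mem_sup_left (hC'P (Subgroup.commutator_mem_commutator hv hw))
  have hCH : ∀ v ∈ C, ∀ w ∈ H, v * w * v⁻¹ ∈ H := fun v hv w hw => by
    rw [show v * w * v⁻¹ = ⁅v, w⁆ * w by rw [commutatorElement_def]; group]
    exact mul_mem (hcommH v hv w (hHC hw)) hw
  set M := Subgroup.closure {w | ∃ u ∈ C, u ^ p = w} ⊔ ⁅C, C⁆ with hM
  have hMH : M ≤ H := by
    refine sup_le ((Subgroup.closure_le H).mpr ?_) (hC'P.trans le_sup_left)
    rintro _ ⟨u, hu, rfl⟩
    obtain ⟨i, k, rfl⟩ := hdec u hu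
    have : ∀ m : ℕ, ∃ w ∈ H, (q ^ i * c ^ k) ^ m = w * (c ^ k) ^ m := by
      intro m
      induction m with
      | zero => exact ⟨1, one_mem _, by simp⟩
      | succ m ih =>
        obtain ⟨w, hw, he⟩ := ih
        refine ⟨w * ((c ^ k) ^ m * q ^ i * ((c ^ k) ^ m)⁻¹),
          mul_mem hw (hCH _ (pow_mem (pow_mem hcC k) m) _ (Subgroup.mem_sup_left (pow_mem hqP i))), ?_⟩
        rw [pow_succ, he, pow_succ]; group
    obtain ⟨w, hw, he⟩ := this p
    rw [SetLike.mem_coe, he, ← pow_mul, mul_comm k, pow_mul]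
    exact mul_mem hw (pow_mem (Subgroup.mem_sup_right (Subgroup.mem_zpowers _)) k)
  have hMC : M ≤ C := hMH.trans hHC
  have hRM : R ≤ Subgroup.normalizer (M : Set X) := by
    refine Subgroup.le_normalizer_iff.mpr fun r hr w hw => ?_
    have hle : M ≤ M.comap (MulAut.conj r).toMonoidHom := by
      refine sup_le ((Subgroup.closure_le _).mpr ?_) ?_
      · rintro _ ⟨u, hu, rfl⟩
        refine Subgroup.mem_sup_left (Subgroup.subset_closure ⟨r * u * r⁻¹,
          (Subgroup.mem_normalizer_iff.mp (h.hCn hr) u).mp hu, ?_⟩)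
        simp [conj_pow]
      · rw [Subgroup.commutator_le]
        intro v hv v' hv'
        refine Subgroup.mem_sup_right ?_
        show r * ⁅v, v'⁆ * r⁻¹ ∈ ⁅C, C⁆
        rw [conjugate_commutatorElement]
        exact Subgroup.commutator_mem_commutator ((Subgroup.mem_normalizer_iff.mp (h.hCn hr) v).mp hv)
          ((Subgroup.mem_normalizer_iff.mp (h.hCn hr) v').mp hv')
    exact hle hw
  haveI : (M.subgroupOf C).Normal :=
    (Subgroup.normal_subgroupOf_iff_le_normalizer hMC).mpr (h.hCR.trans hRM)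
  have hMi : M.relIndex C ≤ p ^ 2 := by
    set π := QuotientGroup.mk' (M.subgroupOf C) with hπ
    have hpp : ∀ (w : X) (hw : w ∈ C), π ⟨w, hw⟩ ^ p = 1 := fun w hw => by
      rw [← map_pow]
      exact (QuotientGroup.eq_one_iff _).mpr (Subgroup.mem_sup_left (Subgroup.subset_closure ⟨w, hw, rfl⟩))
    have hs : Function.Surjective fun ik : Fin p × Fin p => π ⟨q, hqC⟩ ^ (ik.1 : ℕ) * π ⟨c, hcC⟩ ^ (ik.2 : ℕ) := by
      intro y
      obtain ⟨⟨u, hu⟩, rfl⟩ := QuotientGroup.mk'_surjective (M.subgroupOf C) y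
      obtain ⟨i, k, rfl⟩ := hdec u hu
      refine ⟨(⟨i % p, Nat.mod_lt _ hp.out.pos⟩, ⟨k % p, Nat.mod_lt _ hp.out.pos⟩), ?_⟩
      show π ⟨q, hqC⟩ ^ (i % p) * π ⟨c, hcC⟩ ^ (k % p) = _
      rw [← pow_eq_pow_mod i (hpp q hqC), ← pow_eq_pow_mod k (hpp c hcC), ← map_pow, ← map_pow, ← map_mul]
      rfl
    refine le_trans (Nat.card_le_card_of_surjective _ hs) (le_of_eq ?_)
    rw [Nat.card_prod, Nat.card_fin, sq]
  set D := ⁅C, R⁆ ⊔ M with hD
  have hDC : D ≤ C := sup_le (Subgroup.le_normalizer_iff_commutator_le_left.mp h.hCn) hMC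
  have hD2 : ⁅D, R⁆ ≤ M := by
    by_cases hDM : D ≤ M
    · exact (Subgroup.commutator_mono hDM le_rfl).trans (Subgroup.le_normalizer_iff_commutator_le_left.mp hRM)
    set D2 := ⁅D, R⁆ ⊔ M with hD2
    have h1 : ¬ C ≤ D := not_le_commutator_sup h.hR h.hCR (hMC.trans h.hCR) hRM fun h' => hDM (hDC.trans h')
    have h2 : ¬ D ≤ D2 := not_le_commutator_sup h.hR (hDC.trans h.hCR) (hMC.trans h.hCR) hRM hDM
    have hD2D : D2 ≤ D := sup_le ((Subgroup.commutator_mono hDC le_rfl).trans le_sup_left) le_sup_right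
    have hD2M : D2 ≤ M := by
      by_contra h3
      have c3 : Nat.card M < Nat.card D2 := Set.ncard_lt_ncard
        (SetLike.coe_ssubset_coe.mpr (lt_of_le_not_ge le_sup_right h3))
      have c2 : Nat.card D2 < Nat.card D := Set.ncard_lt_ncard
        (SetLike.coe_ssubset_coe.mpr (lt_of_le_not_ge hD2D h2))
      have c1 : Nat.card D < Nat.card C := Set.ncard_lt_ncard (SetLike.coe_ssubset_coe.mpr (lt_of_le_not_ge hDC h1))
      obtain ⟨i0, e0⟩ := (h.hR.to_le (hMC.trans h.hCR)).exists_card_eq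
      obtain ⟨i1, e1⟩ := (h.hR.to_le (hD2D.trans (hDC.trans h.hCR))).exists_card_eq
      obtain ⟨i2, e2⟩ := (h.hR.to_le (hDC.trans h.hCR)).exists_card_eq
      obtain ⟨i3, e3⟩ := (h.hR.to_le h.hCR).exists_card_eq
      have hmul := Subgroup.relIndex_mul_relIndex ⊥ M C bot_le hMC
      rw [Subgroup.relIndex_bot_left, Subgroup.relIndex_bot_left] at hmul
      have hle : Nat.card C ≤ Nat.card M * p ^ 2 := hmul ▸ Nat.mul_le_mul_left _ hMi
      rw [e0, e1] at c3
      rw [e1, e2] at c2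
      rw [e2, e3] at c1
      rw [e0, e3, ← pow_add] at hle
      have := (Nat.pow_lt_pow_iff_right hp.out.one_lt).mp c3
      have := (Nat.pow_lt_pow_iff_right hp.out.one_lt).mp c2
      have := (Nat.pow_lt_pow_iff_right hp.out.one_lt).mp c1
      have := (Nat.pow_le_pow_iff_right hp.out.one_lt).mp hle
      omega
    exact le_sup_left.trans hD2M
  have hδD : ∀ (i : ℕ), ∀ u ∈ C, ⁅x ^ i, u⁆ ∈ D := fun i u hu => by
    rw [← commutatorElement_inv]
    exact Subgroup.mem_sup_left (inv_mem (Subgroup.commutator_mem_commutator hu (pow_mem h.hx i)))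
  have hcong_trans : ∀ {A B D : X}, A⁻¹ * B ∈ H → B⁻¹ * D ∈ H → A⁻¹ * D ∈ H := fun {A B D} h1 h2 => by
    have := mul_mem h1 h2
    simpa [mul_assoc] using this
  have hpow : ∀ u ∈ C, ∀ m : ℕ, (⁅x, u⁆ ^ m)⁻¹ * ⁅x ^ m, u⁆ ∈ H := by
    intro u hu m
    induction m with
    | zero => simp
    | succ m ih =>
      set w := ⁅x ^ m, u⁆ with hw
      set d := ⁅x, u⁆ with hd
      have hdC : d ∈ C := by simpa using h.xpow_conj_mem hu 1
      have hwD : w ∈ D := hδD m u hu
      have hm1 : ⁅x, w⁆ ∈ H := hMH (by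
        rw [← commutatorElement_inv]; exact inv_mem (hD2 (Subgroup.commutator_mem_commutator hwD h.hx)))
      have e : ⁅x ^ (m + 1), u⁆ = ⁅x, w⁆ * w * d := by
        rw [pow_succ', commutatorElement_mul_left_eq_conj_mul, ← hw, ← hd]
        simp only [commutatorElement_def]; group
      rw [e]
      have e2 : (d ^ (m + 1))⁻¹ * (⁅x, w⁆ * w * d) =
          d⁻¹ * (((d ^ m)⁻¹ * ⁅x, w⁆ * d ^ m) * ((d ^ m)⁻¹ * w)) * d⁻¹⁻¹ := by rw [pow_succ]; group
      rw [e2]
      refine hCH _ (inv_mem hdC) _ (mul_mem ?_ ih)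
      simpa using hCH _ (inv_mem (pow_mem hdC m)) _ hm1
  have hpow2 : ∀ u ∈ C, ∀ m : ℕ, (⁅x, u⁆ ^ m)⁻¹ * ⁅x, u ^ m⁆ ∈ H := by
    intro u hu m
    induction m with
    | zero => simp
    | succ m ih =>
      set d := ⁅x, u⁆ with hd
      have hdC : d ∈ C := by simpa using h.xpow_conj_mem hu 1
      rw [pow_succ u, commutatorElement_mul_right_eq_mul_conj, ← hd]
      have e2 : (d ^ (m + 1))⁻¹ * (⁅x, u ^ m⁆ * u ^ m * d * (u ^ m)⁻¹) =
          d⁻¹ * ((d ^ m)⁻¹ * ⁅x, u ^ m⁆) * d⁻¹⁻¹ * ⁅d⁻¹, u ^ m⁆ := by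
        simp only [pow_succ, commutatorElement_def]; group
      rw [e2]
      exact mul_mem (hCH _ (inv_mem hdC) _ ih) (hcommH _ (inv_mem hdC) _ (pow_mem hu m))
  have haH : ∀ u ∈ C, u⁻¹ * (a * u * a⁻¹) ∈ H := by
    intro u hu
    obtain ⟨i, k, rfl⟩ := hdec u hu
    have hca : a * c * a⁻¹ = c := by rw [Subgroup.mem_centralizer_iff.mp hcC₁.2 a ha, mul_inv_cancel_right]
    have e : (q ^ i * c ^ k)⁻¹ * (a * (q ^ i * c ^ k) * a⁻¹) =
        (c ^ k)⁻¹ * ((q ^ i)⁻¹ * (a * q ^ i * a⁻¹)) * (a * c * a⁻¹) ^ k := by rw [conj_pow]; group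
    rw [e, hca]
    simpa using hCH _ (inv_mem (pow_mem hcC k)) _ (Subgroup.mem_sup_left
      (mul_mem (inv_mem (pow_mem hqP i)) ((Subgroup.mem_normalizer_iff.mp (hAP ha) _).mp (pow_mem hqP i))))
  have hkill : ∀ u ∈ C, ∀ m : ℕ, a * u * a⁻¹ = u ^ m → (m : ZMod p) ≠ j → ⁅x, u⁆ ∈ H := by
    intro u hu m hm hmj
    set d := ⁅x, u⁆ with hd
    have hdC : d ∈ C := by simpa using h.xpow_conj_mem hu 1
    set w := ⁅x ^ j, u⁆ with hw
    have hwC : w ∈ C := h.xpow_conj_mem hu j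
    have hy : a * ⁅u₀ * x ^ j, u⁆ * a⁻¹ = ⁅x, u ^ m⁆ := by
      rw [← hx', conjugate_commutatorElement, hm]; group
    set y := ⁅u₀ * x ^ j, u⁆ with hy'
    have hyC : y ∈ C := by
      rw [hy', commutatorElement_mul_left_eq_conj_mul, ← hw]
      exact mul_mem (mul_mem (mul_mem hu₀ hwC) (inv_mem hu₀)) (hHC (hcommH u₀ hu₀ u hu))
    have h1 : (d ^ m)⁻¹ * y ∈ H := by
      refine hcong_trans (hpow2 u hu m) ?_
      rw [← hy]
      have := inv_mem (haH y hyC)
      simpa [mul_assoc] using this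
    have h2 : y⁻¹ * d ^ j ∈ H := by
      refine hcong_trans (B := w) ?_ (by have := inv_mem (hpow u hu j); rwa [mul_inv_rev, inv_inv] at this)
      have e : y⁻¹ * w = ⁅u₀, u⁆⁻¹ * (⁅u₀, w⁻¹⁆) := by
        rw [hy', commutatorElement_mul_left_eq_conj_mul, ← hw]; simp only [commutatorElement_def]; group
      rw [e]
      exact mul_mem (inv_mem (hcommH u₀ hu₀ u hu)) (hcommH u₀ hu₀ _ (inv_mem hwC))
    have h3 : d ^ ((j : ℤ) - (m : ℤ)) ∈ H := by
      have := hcong_trans h1 h2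
      rwa [← zpow_natCast, ← zpow_natCast d j, ← zpow_neg, ← zpow_add, neg_add_eq_sub] at this
    have h4 : d ^ (p : ℤ) ∈ H := by
      rw [zpow_natCast]; exact hMH (Subgroup.mem_sup_left (Subgroup.subset_closure ⟨d, hdC, rfl⟩))
    have hcop : IsCoprime ((j : ℤ) - m) (p : ℤ) := by
      refine (((Nat.prime_iff_prime_int.mp hp.out).coprime_iff_not_dvd).mpr fun hd' => hmj ?_).symm
      have := (ZMod.intCast_zmod_eq_zero_iff_dvd _ p).mpr hd'
      push_cast at this
      exact (sub_eq_zero.mp this).symm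
    obtain ⟨s, t, hst⟩ := hcop
    have := mul_mem (zpow_mem h3 s) (zpow_mem h4 t)
    rwa [← zpow_mul, ← zpow_mul, ← zpow_add, mul_comm _ s, mul_comm _ t, hst, zpow_one] at this
  have hδc : ⁅x, c⁆ ∈ H := hkill c hcC 1
    (by rw [Subgroup.mem_centralizer_iff.mp hcC₁.2 a ha, mul_inv_cancel_right, pow_one])
    (by rw [Nat.cast_one]; exact hj1.symm)
  have hδq : ⁅x, q⁆ ∈ H := by
    obtain ⟨m, hm⟩ := mem_powers_iff_mem_zpowers.mpr (hqq ⟨a * q * a⁻¹, (Subgroup.mem_normalizer_iff.mp (hAP ha) q).mp hqP⟩)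
    have hm' : a * q * a⁻¹ = q ^ m := by simpa [hq] using (congrArg Subtype.val hm).symm
    refine hkill q hqC m hm' fun hmj => ?_
    obtain ⟨i, hi⟩ := mem_powers_iff_mem_zpowers.mpr (hqq ⟨z, hPz⟩)
    have hi' : q ^ i = z := by simpa [hq] using congrArg Subtype.val hi
    have hmn : z ^ n = z ^ m := by
      rw [← hz', ← hi', ← conj_pow, hm', ← pow_mul, ← pow_mul, mul_comm]
    have := h.pow_z_eq.mp hmn
    rw [hmj] at this
    exact hj2 (by rw [sq]; rw [this] at hnj; exact hnj)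
  have hδ : ∀ u ∈ C, ⁅x, u⁆ ∈ H := by
    intro u hu
    obtain ⟨i, k, rfl⟩ := hdec u hu
    have hp2' : ∀ w ∈ C, ⁅x, w⁆ ∈ H → ∀ m : ℕ, ⁅x, w ^ m⁆ ∈ H := fun w hw hwH m => by
      have := mul_mem (pow_mem hwH m) (hpow2 w hw m)
      simpa using this
    rw [commutatorElement_mul_right_eq_mul_conj, mul_assoc ⁅x, q ^ i⁆, mul_assoc ⁅x, q ^ i⁆]
    exact mul_mem (hp2' q hqC hδq i) (hCH _ (pow_mem hqC i) _ (hp2' c hcC hδc k))
  have hxH : ∀ m : ℕ, ∀ w ∈ H, x ^ m * w * (x ^ m)⁻¹ ∈ H := by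
    intro m w hw
    have h1 : ⁅x ^ m, w⁆ ∈ H := by
      have := mul_mem (pow_mem (hδ w (hHC hw)) m) (hpow w (hHC hw) m)
      simpa using this
    simpa [commutatorElement_def, mul_assoc] using mul_mem h1 hw
  have hVn : Subgroup.zpowers x ≤ Subgroup.normalizer (H : Set X) := by
    refine Subgroup.le_normalizer_iff.mpr fun v hv w hw => ?_
    obtain ⟨m, rfl⟩ := mem_powers_iff_mem_zpowers.mpr hv
    exact hxH m w hw
  have hR' : ⁅R, R⁆ ≤ H := derived_le_of_prod (T := C) (V := Subgroup.zpowers x)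
    (fun g hg => by
      obtain ⟨v, hv, i, rfl⟩ := h.hgen g hg
      exact ⟨v, hv, x ^ i, pow_mem (Subgroup.mem_zpowers x) i, rfl⟩)
    (Subgroup.le_normalizer_iff.mpr hCH) hVn
    (fun v hv w hw => by
      obtain ⟨i, rfl⟩ := Subgroup.mem_zpowers_iff.mp hv
      obtain ⟨k, rfl⟩ := Subgroup.mem_zpowers_iff.mp hw
      rw [← zpow_add, ← zpow_add, add_comm])
    hcommH
    (fun v hv w hw => by
      obtain ⟨m, rfl⟩ := mem_powers_iff_mem_zpowers.mpr hv
      have := mul_mem (pow_mem (hδ w hw) m) (hpow w hw m)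
      simpa using this)
  -- `c` is fixed on the abelian quotient `R / H`
  have hHA : ∀ b ∈ A, ∀ w ∈ H, b * w * b⁻¹ ∈ H := by
    intro b hb w hw
    have hle : H ≤ H.comap (MulAut.conj b).toMonoidHom := by
      refine sup_le (fun v hv => Subgroup.mem_sup_left ((Subgroup.mem_normalizer_iff.mp (hAP hb) v).mp hv)) ?_
      rw [Subgroup.zpowers_le]
      show b * c ^ p * b⁻¹ ∈ H
      rw [← conj_pow, Subgroup.mem_centralizer_iff.mp hcC₁.2 b hb, mul_inv_cancel_right]
      exact Subgroup.mem_sup_right (Subgroup.mem_zpowers _)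
    exact hle hw
  obtain ⟨-, hnofix⟩ := StableAction.stable_of_commutator_eq h.hAR h.hcop h.hRA
  have hHR : _root_.commutator R ≤ H.subgroupOf R := by
    intro w hw
    exact hR' (Subgroup.map_subtype_commutator R ▸ Subgroup.mem_map_of_mem R.subtype hw)
  have hcH : c ∈ H := by
    refine hnofix (H.subgroupOf R) (Subgroup.Normal.of_commutator_le (G := R) hHR) hHR ?_ ⟨c, h.hCR hcC⟩ ?_
    · rintro _ ⟨b, rfl⟩ w hw
      rw [Subgroup.mem_subgroupOf, Coprime.conjHom_apply]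
      exact hHA b b.2 _ hw
    · rintro _ ⟨b, rfl⟩
      rw [Subgroup.mem_subgroupOf, Subgroup.coe_mul, Subgroup.coe_inv, Coprime.conjHom_apply,
        Subgroup.mem_centralizer_iff.mp hcC₁.2 b b.2, mul_inv_cancel_right, inv_mul_cancel]
      exact one_mem _
  rw [hH, ← SetLike.mem_coe, Subgroup.coe_mul_of_right_le_normalizer_left P _
    ((Subgroup.zpowers_le.mpr (pow_mem hcC₁ p)).trans hC₁P)] at hcH
  obtain ⟨w₁, h₁, w₂, h₂, hw⟩ := Set.mem_mul.mp hcH
  obtain ⟨k, rfl⟩ := mem_powers_iff_mem_zpowers.mpr h₂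
  simp only at hw
  have hw1 : w₁ ∈ P ⊓ C₁ := ⟨h₁, by
    rw [eq_mul_inv_of_mul_eq hw]; exact C₁.mul_mem hcC₁ (C₁.inv_mem (C₁.pow_mem (C₁.pow_mem hcC₁ p) k))⟩
  rw [hint, Subgroup.mem_bot] at hw1
  rw [hw1, one_mul, ← pow_mul] at hw
  have hc1 : c = 1 := by
    obtain ⟨s, hs⟩ := (h.hR.to_le h.hCR) ⟨c, hcC⟩
    have hs' : c ^ p ^ s = 1 := by simpa using congrArg Subtype.val hs
    have hiter : ∀ r : ℕ, c ^ (p * k) ^ r = c := by
      intro r
      induction r with
      | zero => simp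
      | succ r ih => rw [pow_succ, pow_mul, ih, hw]
    rw [← hiter s, mul_pow, pow_mul, hs', one_pow]
  refine heZ ?_
  obtain ⟨i, hi⟩ := Subgroup.mem_zpowers_iff.mp (hcc ⟨e, h.hEC he, heA⟩)
  have : e = c ^ i := by simpa [hc] using (congrArg Subtype.val hi).symm
  rw [this, hc1, one_zpow]
  exact one_mem _

/-- Outside the fixed case the derived group is `⟨z⟩`. -/
theorem derived_le (h : Config p R A C E x z)
    (hfix : ∀ e ∈ E, e ∈ Subgroup.centralizer (A : Set X) → e ∈ Subgroup.zpowers z) :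
    ⁅R, R⁆ ≤ Subgroup.zpowers z := by
  obtain ⟨hsup, hab, hint⟩ := h.split
  set P := ⁅C, A⁆ with hP
  set C₁ := C ⊓ Subgroup.centralizer (A : Set X) with hC₁
  have hPC : P ≤ C := Subgroup.le_normalizer_iff_commutator_le_left.mp h.hAC
  have hC₁P : C₁ ≤ Subgroup.normalizer (P : Set X) := inf_le_left.trans (Subgroup.normalizer_commutator_ge_left C A)
  have hC₁cyc : IsCyclic C₁ := isCyclic_of_omega_le h.hp2 (Z := Subgroup.zpowers z)
    (h.hR.to_le (inf_le_left.trans h.hCR)) (by rw [Nat.card_zpowers, h.orderOf_z])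
    fun f hf hfp => hfix f (h.hΩ f hf.1 hfp) hf.2
  have hC'P : ⁅C, C⁆ ≤ P := derived_le_of_prod (T := P) (V := C₁)
    (fun g hg => by
      rw [← hsup, ← SetLike.mem_coe, Subgroup.coe_mul_of_right_le_normalizer_left P C₁ hC₁P] at hg
      obtain ⟨w₁, h₁, w₂, h₂, rfl⟩ := Set.mem_mul.mp hg
      exact ⟨w₁, h₁, w₂, h₂, rfl⟩)
    Subgroup.le_normalizer hC₁P
    (fun v hv w hw =>
      haveI := hC₁cyc
      congrArg Subtype.val ((IsCyclic.isMulCommutative (α := C₁)).is_comm.comm ⟨v, hv⟩ ⟨w, hw⟩))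
    (fun v hv w hw => Subgroup.commutator_le_self P (Subgroup.commutator_mem_commutator hv hw))
    (fun v hv w hw => by
      rw [commutatorElement_def]
      exact mul_mem ((Subgroup.mem_normalizer_iff.mp (hC₁P hv) w).mp hw) (inv_mem hw))
  -- `C` is abelian
  have hcom : ∀ u ∈ C, ∀ v ∈ C, u * v = v * u := by
    by_cases hC1 : ⁅C, C⁆ = ⊥
    · intro u hu v hv
      exact commutatorElement_eq_one_iff_mul_comm.mp
        (Subgroup.mem_bot.mp (hC1 ▸ Subgroup.commutator_mem_commutator hu hv))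
    exfalso
    have hn : R ≤ Subgroup.normalizer (⁅C, C⁆ : Subgroup X) := by
      refine Subgroup.le_normalizer_iff.mpr fun r hr w hw => ?_
      have hle : ⁅C, C⁆ ≤ (⁅C, C⁆).comap (MulAut.conj r).toMonoidHom := by
        rw [Subgroup.commutator_le]
        intro v hv v' hv'
        show r * ⁅v, v'⁆ * r⁻¹ ∈ ⁅C, C⁆
        rw [conjugate_commutatorElement]
        exact Subgroup.commutator_mem_commutator ((Subgroup.mem_normalizer_iff.mp (h.hCn hr) v).mp hv)
          ((Subgroup.mem_normalizer_iff.mp (h.hCn hr) v').mp hv')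
      exact hle hw
    obtain ⟨d, hd, hd1, hdp, hdc⟩ := exists_central h.hR ((Subgroup.commutator_le_self C).trans h.hCR) hn hC1
    have hdz : Subgroup.zpowers d = Subgroup.zpowers z := Subgroup.eq_of_le_of_card_ge
      (Subgroup.zpowers_le.mpr (h.hZ0 d (h.hCR (Subgroup.commutator_le_self C hd)) hdp hdc))
      (by rw [Nat.card_zpowers, Nat.card_zpowers, h.orderOf_z, orderOf_eq_prime hdp hd1])
    have hzP : z ∈ P := (Subgroup.zpowers_le.mpr (hC'P hd)) (hdz.ge (Subgroup.mem_zpowers z))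
    have hC₁bot : C₁ = ⊥ := by
      by_contra hne
      obtain ⟨f, hf⟩ := exists_prime_orderOf_dvd_card' (G := C₁) p
        ((h.hR.to_le (inf_le_left.trans h.hCR)).card_eq_or_dvd.resolve_left fun e => hne (Subgroup.eq_bot_of_card_eq _ e))
      have hfp : (f : X) ^ p = 1 := by rw [← hf, ← Subgroup.orderOf_coe, pow_orderOf_eq_one]
      have hfP : (f : X) ∈ P ⊓ C₁ :=
        ⟨(Subgroup.zpowers_le.mpr hzP) (hfix f (h.hΩ f f.2.1 hfp) f.2.2), f.2⟩
      rw [hint, Subgroup.mem_bot] at hfP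
      rw [← Subgroup.orderOf_coe, hfP, orderOf_one] at hf
      exact hp.out.ne_one hf.symm
    rw [hC₁bot, sup_bot_eq] at hsup
    haveI := hab
    refine hC1 ?_
    rw [← hsup, Subgroup.commutator_self_eq_bot_iff]
    exact hab
  have hcC : ∀ u ∈ C, ∀ w ∈ C, Commute u w := hcom
  have hmemC : ∀ u ∈ C, ∀ i : ℕ, ⁅x ^ i, u⁆ ∈ C := fun u hu i => h.xpow_conj_mem hu i
  have hmem1 : ∀ u ∈ C, ⁅x, u⁆ ∈ C := fun u hu => by simpa using hmemC u hu 1
  have hmul : ∀ u ∈ C, ∀ w ∈ C, ⁅x, u * w⁆ = ⁅x, u⁆ * ⁅x, w⁆ := by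
    intro u hu w hw
    rw [commutatorElement_mul_right_eq_mul_conj, mul_assoc ⁅x, u⁆ u, (hcC u hu _ (hmem1 w hw)).eq]
    group
  have hpowr : ∀ u ∈ C, ∀ m : ℕ, ⁅x, u ^ m⁆ = ⁅x, u⁆ ^ m := by
    intro u hu m
    induction m with
    | zero => simp
    | succ m ih => rw [pow_succ, hmul _ (pow_mem hu m) _ hu, ih, pow_succ]
  have hinvr : ∀ u ∈ C, ⁅x, u⁻¹⁆ = ⁅x, u⁆⁻¹ := fun u hu =>
    eq_inv_of_mul_eq_one_left (by rw [← hmul _ (inv_mem hu) _ hu, inv_mul_cancel, commutatorElement_one_right])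
  have hcentx : ∀ w ∈ C, ⁅x, w⁆ = 1 → ∀ i : ℕ, ⁅x ^ i, w⁆ = 1 := fun w _ hw i =>
    commutatorElement_eq_one_iff_mul_comm.mpr
      ((show Commute x w from commutatorElement_eq_one_iff_mul_comm.mp hw).pow_left i).eq
  have hfix1 : ∀ d ∈ C, d ^ p = 1 → ⁅x, d⁆ = 1 → d ∈ Subgroup.zpowers z := by
    intro d hd hdp hdx
    refine h.hZ0 d (h.hCR hd) hdp (Subgroup.mem_centralizer_iff.mpr fun r hr => ?_)
    obtain ⟨v, hv, i, rfl⟩ := h.hgen r hr
    exact ((hcC v hv d hd).mul_left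
      ((show Commute x d from commutatorElement_eq_one_iff_mul_comm.mp hdx).pow_left i)).eq
  have hzC : z ∈ C := h.hEC h.z_mem_E
  have hxz : ⁅x, z⁆ = 1 :=
    commutatorElement_eq_one_iff_mul_comm.mpr (Subgroup.mem_centralizer_iff.mp h.hzR.2 x h.hx)
  -- the square of the commutation with `x` vanishes
  have hsq : ∀ u ∈ C, ⁅x, ⁅x, u⁆⁆ = 1 := by
    let D : Subgroup X :=
      { carrier := {w | ∃ u ∈ C, ⁅x, ⁅x, u⁆⁆ = w}
        one_mem' := ⟨1, one_mem _, by simp⟩
        mul_mem' := by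
          rintro _ _ ⟨u, hu, rfl⟩ ⟨w, hw, rfl⟩
          exact ⟨u * w, mul_mem hu hw, by rw [hmul u hu w hw, hmul _ (hmem1 u hu) _ (hmem1 w hw)]⟩
        inv_mem' := by
          rintro _ ⟨u, hu, rfl⟩
          exact ⟨u⁻¹, inv_mem hu, by rw [hinvr u hu, hinvr _ (hmem1 u hu)]⟩ }
    have hDC : D ≤ C := by
      rintro _ ⟨u, hu, rfl⟩
      exact hmem1 _ (hmem1 u hu)
    by_cases hD : D = ⊥
    · intro u hu
      exact Subgroup.mem_bot.mp (hD ▸ (⟨u, hu, rfl⟩ : ⁅x, ⁅x, u⁆⁆ ∈ D))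
    exfalso
    have hDn : R ≤ Subgroup.normalizer (D : Set X) := by
      refine Subgroup.le_normalizer_iff.mpr fun r hr w hw => ?_
      obtain ⟨v, hv, i, rfl⟩ := h.hgen r hr
      obtain ⟨u, hu, rfl⟩ := hw
      have hu' := (Subgroup.mem_normalizer_iff.mp (h.hCn (pow_mem h.hx i)) u).mp hu
      refine ⟨x ^ i * u * (x ^ i)⁻¹, hu', ?_⟩
      have e1 : x ^ i * ⁅x, ⁅x, u⁆⁆ * (x ^ i)⁻¹ = ⁅x, ⁅x, x ^ i * u * (x ^ i)⁻¹⁆⁆ := by
        rw [conjugate_commutatorElement, conjugate_commutatorElement,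
          ((Commute.refl x).pow_left i).eq, mul_inv_cancel_right]
      rw [← e1]
      calc x ^ i * ⁅x, ⁅x, u⁆⁆ * (x ^ i)⁻¹
          = v * (x ^ i * ⁅x, ⁅x, u⁆⁆ * (x ^ i)⁻¹) * v⁻¹ := by
            rw [(hcC v hv _ (by rw [e1]; exact hmem1 _ (hmem1 _ hu'))).eq, mul_inv_cancel_right]
        _ = v * x ^ i * ⁅x, ⁅x, u⁆⁆ * (v * x ^ i)⁻¹ := by group
    obtain ⟨d, ⟨u₁, hu₁, hud⟩, hd1, hdp, hdc⟩ := exists_central h.hR (hDC.trans h.hCR) hDn hD
    obtain ⟨i₁, hi₁⟩ := mem_powers_iff_mem_zpowers.mpr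
      (h.hZ0 d (h.hCR (hDC ⟨u₁, hu₁, hud⟩)) hdp hdc)
    simp only at hi₁
    have hi0 : (i₁ : ZMod p) ≠ 0 := fun e => hd1 (by
      rw [← hi₁, ← pow_zero z]; exact h.pow_z_eq.mpr (by simpa using e))
    obtain ⟨a, ha, n, j, hn, hj, hz', ⟨u₀, hu₀, hx'⟩, hj2⟩ := h.exists_char_ne_one
    set α : X → X := fun u => a * u * a⁻¹ with hα
    have hαC : ∀ u ∈ C, α u ∈ C := fun u hu => h.conj_mem ha hu
    have htw : ∀ u ∈ C, ⁅a⁻¹ * x * a, u⁆ = ⁅x ^ j, u⁆ := by
      intro u hu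
      rw [hx', commutatorElement_mul_left_eq_conj_mul, (hcC u₀ hu₀ _ (hmemC u hu j)).eq, mul_inv_cancel_right,
        commutatorElement_eq_one_iff_mul_comm.mpr (hcC u₀ hu₀ u hu).eq, mul_one]
    have hαδ : ∀ u ∈ C, ⁅x, α u⁆ = α ⁅x ^ j, u⁆ := by
      intro u hu
      rw [← htw u hu]
      show ⁅x, a * u * a⁻¹⁆ = a * ⁅a⁻¹ * x * a, u⁆ * a⁻¹
      rw [conjugate_commutatorElement]; group
    -- powers of `x` on a Jordan chain ending in `⟨z⟩`
    have hchain : ∀ u ∈ C, ∀ t : ℕ, ⁅x, ⁅x, u⁆⁆ = z ^ t → ∀ i : ℕ,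
        ⁅x ^ i, u⁆ = ⁅x, u⁆ ^ i * z ^ (t * i.choose 2) := by
      intro u hu t ht i
      induction i with
      | zero => simp
      | succ i ih =>
        set w := ⁅x, u⁆ with hw
        have hwC := hmem1 u hu
        have hzc : ∀ r ∈ R, Commute r z := fun r hr => Subgroup.mem_centralizer_iff.mp h.hzR.2 r hr
        have e1 : x * (w ^ i * z ^ (t * i.choose 2)) * x⁻¹ = z ^ (t * i) * w ^ i * z ^ (t * i.choose 2) := by
          have e0 : x * w * x⁻¹ = z ^ t * w := by rw [← ht]; simp [commutatorElement_def, mul_assoc]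
          calc _ = (x * w * x⁻¹) ^ i * (x * z ^ (t * i.choose 2) * x⁻¹) := by rw [conj_pow]; group
            _ = (z ^ t * w) ^ i * z ^ (t * i.choose 2) := by
              rw [e0, ((hzc x h.hx).pow_right _).eq, mul_inv_cancel_right]
            _ = _ := by rw [((hcC z hzC w hwC).pow_left t).mul_pow, ← pow_mul]
        rw [pow_succ', commutatorElement_mul_left_eq_conj_mul, ih, e1, ← hw,
          ((hcC z hzC (w ^ i) (pow_mem hwC i)).pow_left (t * i)).eq,
          mul_assoc, mul_assoc, (hcC (z ^ (t * i.choose 2)) (pow_mem hzC _) w hwC).eq,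
          (hcC (z ^ (t * i)) (pow_mem hzC _) (w * z ^ (t * i.choose 2)) (mul_mem hwC (pow_mem hzC _))).eq,
          ← mul_assoc, ← mul_assoc, ← pow_succ, mul_assoc, ← pow_add]
        congr 2
        rw [Nat.choose_succ_succ' i 1, Nat.choose_one_right]; ring
    have hQα : ∀ u ∈ C, ∀ t : ℕ, ⁅x, ⁅x, u⁆⁆ = z ^ t → ⁅x, ⁅x, α u⁆⁆ = z ^ (n * j * j * t) := by
      intro u hu t ht
      have hw' : ⁅x, ⁅x, u⁆ ^ j * z ^ (t * j.choose 2)⁆ = z ^ (t * j) := by
        rw [hmul _ (pow_mem (hmem1 u hu) j) _ (pow_mem hzC _), hpowr _ (hmem1 u hu) j, ht,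
          hpowr z hzC, hxz, one_pow, mul_one, ← pow_mul]
      rw [hαδ u hu, hαδ _ (hmemC u hu j), hchain u hu t ht j]
      have hzero : ⁅x, ⁅x, ⁅x, u⁆ ^ j * z ^ (t * j.choose 2)⁆⁆ = z ^ 0 := by
        rw [hw', hpowr z hzC, hxz, one_pow, pow_zero]
      rw [hchain _ (mul_mem (pow_mem (hmem1 u hu) j) (pow_mem hzC _)) 0 hzero j, hw', zero_mul, pow_zero, mul_one,
        ← pow_mul]
      show a * z ^ (t * j * j) * a⁻¹ = _
      rw [← conj_pow, hz', ← pow_mul]
      congr 1; ring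
    obtain ⟨e, he, hxe⟩ := h.hEx
    have heC := h.hEC he
    set m := n * j with hm
    have hαe : ∃ i : ℕ, α e = e ^ m * z ^ i := by
      have h1 : ⁅x, α e⁆ = z ^ m := by
        have h0 : ⁅x, ⁅x, e⁆⁆ = z ^ 0 := by rw [hxe, hxz, pow_zero]
        rw [hαδ e heC, hchain e heC 0 h0 j, hxe, zero_mul, pow_zero, mul_one]
        show a * z ^ j * a⁻¹ = _
        rw [← conj_pow, hz', ← pow_mul]
      have hmemE : (e ^ m)⁻¹ * α e ∈ E := mul_mem (inv_mem (pow_mem he m))
        ((Subgroup.mem_normalizer_iff.mp (h.hAE ha) e).mp he)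
      obtain ⟨i, hi⟩ := mem_powers_iff_mem_zpowers.mpr (hfix1 _ (h.hEC hmemE) (h.hEp _ hmemE) (by
        rw [hmul _ (inv_mem (pow_mem heC m)) _ (hαC e heC), hinvr _ (pow_mem heC m), hpowr e heC, hxe, h1,
          inv_mul_cancel]))
      exact ⟨i, by rw [show z ^ i = (e ^ m)⁻¹ * α e from hi, mul_inv_cancel_left]⟩
    set F : X → X := fun u => α (α u) * ((α u) ^ (n + m))⁻¹ * u ^ (n * m) with hF
    have hFC : ∀ u ∈ C, F u ∈ C := fun u hu =>
      mul_mem (mul_mem (hαC _ (hαC u hu)) (inv_mem (pow_mem (hαC u hu) _))) (pow_mem hu _)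
    have hFpow : ∀ u ∈ C, ∀ N : ℕ, F (u ^ N) = F u ^ N := by
      intro u hu N
      have c1 : Commute (α (α u)) ((α u) ^ (n + m))⁻¹ :=
        hcC _ (hαC _ (hαC u hu)) _ (inv_mem (pow_mem (hαC u hu) _))
      have c2 : Commute (α (α u) * ((α u) ^ (n + m))⁻¹) (u ^ (n * m)) :=
        hcC _ (mul_mem (hαC _ (hαC u hu)) (inv_mem (pow_mem (hαC u hu) _))) _ (pow_mem hu _)
      have hαp : ∀ (v : X) (N : ℕ), α (v ^ N) = α v ^ N := fun v N => conj_pow.symm
      show α (α (u ^ N)) * ((α (u ^ N)) ^ (n + m))⁻¹ * (u ^ N) ^ (n * m) = _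
      rw [c2.mul_pow, c1.mul_pow, inv_pow, hαp, hαp, pow_right_comm (α u), pow_right_comm u]
    have hFz : ∀ k : ℕ, F (z ^ k) = 1 := by
      intro k
      simp only [hF, hα, ← conj_pow, hz', ← pow_mul]
      rw [mul_assoc, ((Commute.refl z).pow_pow (n * k * (n + m)) (k * (n * m))).inv_left.eq, ← mul_assoc, ← pow_add,
        show n * (n * k) + k * (n * m) = n * k * (n + m) by ring, mul_inv_cancel]
    have hFe : F e = 1 := by
      obtain ⟨i, hi⟩ := hαe
      have hce : ∀ r k : ℕ, Commute (e ^ r) (z ^ k) := fun r k => (hcC e heC z hzC).pow_pow r k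
      have hi' : a * e * a⁻¹ = e ^ m * z ^ i := hi
      have h2 : α (α e) = e ^ (m * m) * z ^ (i * m + n * i) := by
        show a * α e * a⁻¹ = _
        rw [hi, show a * (e ^ m * z ^ i) * a⁻¹ = (a * e * a⁻¹) ^ m * (a * z * a⁻¹) ^ i by
          rw [conj_pow, conj_pow]; group, hi', hz', (hce m i).mul_pow, ← pow_mul, ← pow_mul, ← pow_mul, mul_assoc,
          ← pow_add]
      show α (α e) * ((α e) ^ (n + m))⁻¹ * e ^ (n * m) = 1
      rw [h2, hi, (hce m i).mul_pow, ← pow_mul, ← pow_mul, mul_inv_rev,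
        show i * (n + m) = i * m + n * i by ring, mul_assoc (e ^ (m * m)), mul_inv_cancel_left,
        mul_assoc, (((Commute.refl e).pow_pow (m * (n + m)) (n * m)).inv_left).eq, ← mul_assoc, ← pow_add,
        show m * m + n * m = m * (n + m) by ring, mul_inv_cancel]
    have hFmul : ∀ u ∈ C, ∀ w ∈ C, F (u * w) = F u * F w := by
      intro u hu w hw
      have hαm : α (u * w) = α u * α w := by simp only [hα]; group
      have hαm2 : α (α u * α w) = α (α u) * α (α w) := by simp only [hα]; group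
      simp only [hF]
      rw [hαm, hαm2, (hcC _ (hαC u hu) _ (hαC w hw)).mul_pow, (hcC u hu w hw).mul_pow, mul_inv_rev,
        ((hcC _ (pow_mem (hαC w hw) (n + m)) _ (pow_mem (hαC u hu) (n + m))).inv_inv).eq]
      have c1 : Commute (α (α w)) ((α u) ^ (n + m))⁻¹ :=
        hcC _ (hαC _ (hαC w hw)) _ (inv_mem (pow_mem (hαC u hu) _))
      have c2 : Commute (α (α w) * ((α w) ^ (n + m))⁻¹) (u ^ (n * m)) :=
        hcC _ (mul_mem (hαC _ (hαC w hw)) (inv_mem (pow_mem (hαC w hw) _))) _ (pow_mem hu _)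
      calc α (α u) * α (α w) * (((α u) ^ (n + m))⁻¹ * ((α w) ^ (n + m))⁻¹) * (u ^ (n * m) * w ^ (n * m))
          = α (α u) * (α (α w) * ((α u) ^ (n + m))⁻¹) * ((α w) ^ (n + m))⁻¹ * u ^ (n * m) * w ^ (n * m) := by group
        _ = α (α u) * ((α u) ^ (n + m))⁻¹ * ((α (α w) * ((α w) ^ (n + m))⁻¹) * u ^ (n * m)) * w ^ (n * m) := by
          rw [c1.eq]; group
        _ = _ := by rw [c2.eq]; group
    have hFE : ∀ f ∈ E, F f = 1 := by
      intro f hf
      -- write `f` through `e` and `z`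
      obtain ⟨k, hk⟩ := mem_powers_iff_mem_zpowers.mpr (h.hEZ f hf)
      simp only at hk
      have hmemE : (e ^ k)⁻¹ * f ∈ E := mul_mem (inv_mem (pow_mem he k)) hf
      obtain ⟨i, hi⟩ := mem_powers_iff_mem_zpowers.mpr (hfix1 _ (h.hEC hmemE) (h.hEp _ hmemE) (by
        rw [hmul _ (inv_mem (pow_mem heC k)) _ (h.hEC hf), hinvr _ (pow_mem heC k), hpowr e heC, hxe, hk,
          inv_mul_cancel]))
      rw [show f = e ^ k * z ^ i by rw [show z ^ i = (e ^ k)⁻¹ * f from hi, mul_inv_cancel_left],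
        hFmul _ (pow_mem heC k) _ (pow_mem hzC i), hFpow e heC k, hFe, hFz, one_pow, one_mul]
    have hnil : ∀ i : ℕ, ∀ u ∈ C, u ^ p ^ i = 1 → F^[i] u = 1 := by
      intro i
      induction i with
      | zero => intro u _ hu; simpa using hu
      | succ i ih =>
        intro u hu hup
        rw [Function.iterate_succ_apply]
        refine ih _ (hFC u hu) ?_
        rw [← hFpow u hu]
        exact hFE _ (h.hΩ _ (pow_mem hu _) (by rw [← pow_mul, ← pow_succ]; exact hup))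
    set l := n * j * j with hl
    -- `F` multiplies the end of the chain by `S`
    set S : ZMod p := (l : ZMod p) * l - (n + m) * l + n * m with hS
    have hQinv : ∀ u ∈ C, ∀ t : ℕ, ⁅x, ⁅x, u⁆⁆ = z ^ t → ∀ N : ℕ, ∃ t' : ℕ,
        ⁅x, ⁅x, F^[N] u⁆⁆ = z ^ t' ∧ (t' : ZMod p) = t * S ^ N := by
      intro u hu t ht N
      induction N generalizing u t with
      | zero => exact ⟨t, ht, by simp⟩
      | succ N ih =>
        rw [Function.iterate_succ_apply]
        have h1 := hQα u hu t ht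
        have h2 := hQα _ (hαC u hu) _ h1
        have hFu : ⁅x, ⁅x, F u⁆⁆ = z ^ (l * (l * t)) * (z ^ (l * t * (n + m)))⁻¹ * z ^ (t * (n * m)) := by
          simp only [hF]
          have cA := hαC _ (hαC u hu)
          have cB := pow_mem (hαC u hu) (n + m)
          have cD := pow_mem hu (n * m)
          rw [hmul _ (mul_mem cA (inv_mem cB)) _ cD, hmul _ cA _ (inv_mem cB), hinvr _ cB,
            hpowr _ (hαC u hu), hpowr u hu, hmul _ (mul_mem (hmem1 _ cA) (inv_mem (pow_mem (hmem1 _ (hαC u hu)) _))) _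
              (pow_mem (hmem1 u hu) _), hmul _ (hmem1 _ cA) _ (inv_mem (pow_mem (hmem1 _ (hαC u hu)) _)),
            hinvr _ (pow_mem (hmem1 _ (hαC u hu)) _), hpowr _ (hmem1 _ (hαC u hu)), hpowr _ (hmem1 u hu), h2, h1, ht,
            ← pow_mul, ← pow_mul]
        have hzm : ⁅x, ⁅x, F u⁆⁆ ∈ Subgroup.zpowers z := by
          rw [hFu]
          exact mul_mem (mul_mem (pow_mem (Subgroup.mem_zpowers z) _) (inv_mem (pow_mem (Subgroup.mem_zpowers z) _)))
            (pow_mem (Subgroup.mem_zpowers z) _)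
        obtain ⟨t1, ht1⟩ := mem_powers_iff_mem_zpowers.mpr hzm
        simp only at ht1
        obtain ⟨t', ht', hval⟩ := ih (F u) (hFC u hu) t1 ht1.symm
        refine ⟨t', ht', ?_⟩
        have heq : z ^ (t1 + l * t * (n + m)) = z ^ (l * (l * t) + t * (n * m)) := by
          rw [pow_add, ht1, hFu, pow_add, mul_assoc, ← pow_mul_comm, mul_assoc, ← mul_assoc (z ^ (l * t * (n + m)))⁻¹,
            inv_mul_cancel, one_mul]
        have hcast := h.pow_z_eq.mp heq
        push_cast at hcast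
        rw [hval, pow_succ']
        have hv : (t1 : ZMod p) = t * S := by rw [hS]; linear_combination hcast
        rw [hv]; ring
    obtain ⟨s, hs⟩ := (h.hR.to_le h.hCR) ⟨u₁, hu₁⟩
    have hs' : u₁ ^ p ^ s = 1 := by simpa using congrArg Subtype.val hs
    obtain ⟨t', ht', hval⟩ := hQinv u₁ hu₁ i₁ (hud.trans hi₁.symm) s
    rw [hnil s u₁ hu₁ hs'] at ht'
    simp only [commutatorElement_one_right] at ht'
    have ht0 : (t' : ZMod p) = 0 := by
      have := h.pow_z_eq.mp (ht'.symm.trans (pow_zero z).symm)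
      simpa using this
    rw [ht0] at hval
    have hS0 : S = 0 := by
      rcases mul_eq_zero.mp hval.symm with h' | h'
      · exact absurd h' hi0
      · exact pow_eq_zero_iff'.mp h' |>.1
    have hfac : ((n : ZMod p) * ((j : ZMod p) * j - 1)) * ((n : ZMod p) * j * ((j : ZMod p) - 1)) = 0 := by
      rw [← hS0, hS, hl, hm]; push_cast; ring
    rcases mul_eq_zero.mp hfac with h' | h'
    · rcases mul_eq_zero.mp h' with h'' | h''
      · exact hn h''
      · exact hj2 (by rw [sq]; exact sub_eq_zero.mp h'')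
    · rcases mul_eq_zero.mp h' with h'' | h''
      · exact (mul_eq_zero.mp h'').elim hn hj
      · exact hj2 (by rw [sub_eq_zero.mp h'', one_pow])
  have hpowl : ∀ u ∈ C, ∀ i : ℕ, ⁅x ^ i, u⁆ = ⁅x, u⁆ ^ i := by
    intro u hu i
    induction i with
    | zero => simp
    | succ i ih =>
      rw [pow_succ', commutatorElement_mul_left_eq_conj_mul, ih, pow_succ]
      have hc : Commute x ⁅x, u⁆ := commutatorElement_eq_one_iff_mul_comm.mp (hsq u hu)
      rw [(hc.pow_right i).eq, mul_inv_cancel_right]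
  have hδ : ∀ u ∈ C, ⁅x, u⁆ ∈ Subgroup.zpowers z := fun u hu => by
    refine hfix1 _ (hmem1 u hu) ?_ (hsq u hu)
    rw [← hpowl u hu, commutatorElement_eq_one_iff_mul_comm.mpr (hcC _ h.hxp u hu).eq]
  have hZn : ∀ S : Subgroup X, S ≤ R → S ≤ Subgroup.normalizer (Subgroup.zpowers z : Set X) := fun S hS =>
    (le_trans hS (fun r hr => Subgroup.mem_centralizer_iff.mpr fun w hw => by
      obtain ⟨i, rfl⟩ := Subgroup.mem_zpowers_iff.mp hw
      exact ((show Commute r z from Subgroup.mem_centralizer_iff.mp h.hzR.2 r hr).zpow_right i).eq.symm)).trans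
      (Subgroup.centralizer_le_normalizer _)
  refine derived_le_of_prod (T := C) (V := Subgroup.zpowers x) (fun g hg => ?_) (hZn C h.hCR)
    (hZn _ (Subgroup.zpowers_le.mpr h.hx)) ?_ ?_ ?_
  · obtain ⟨v, hv, i, rfl⟩ := h.hgen g hg
    exact ⟨v, hv, x ^ i, pow_mem (Subgroup.mem_zpowers x) i, rfl⟩
  · intro v hv w hw
    obtain ⟨i, rfl⟩ := Subgroup.mem_zpowers_iff.mp hv
    obtain ⟨k, rfl⟩ := Subgroup.mem_zpowers_iff.mp hw
    rw [← zpow_add, ← zpow_add, add_comm]
  · intro v hv w hw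
    rw [commutatorElement_eq_one_iff_mul_comm.mpr (hcom v hv w hw)]
    exact one_mem _
  · intro v hv w hw
    obtain ⟨i, rfl⟩ := mem_powers_iff_mem_zpowers.mpr hv
    show ⁅x ^ i, w⁆ ∈ _
    rw [hpowl w hw i]
    exact pow_mem (hδ w hw) i

theorem false_of_config (h : Config p R A C E x z)
    (hW : ∀ w ∈ R, w ^ p = 1 → (∀ r ∈ R, ⁅r, w⁆ ∈ Subgroup.zpowers z) → w ∈ E) : False := by
  by_cases hex : ∀ e ∈ E, e ∈ Subgroup.centralizer (A : Set X) → e ∈ Subgroup.zpowers z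
  swap
  · push Not at hex
    obtain ⟨e, he, heA, heZ⟩ := hex
    exact h.false_of_fixed he heZ heA
  have hR' := h.derived_le hex
  have hle : ∀ w ∈ _root_.commutator R, (w : X) ∈ Subgroup.zpowers z := fun w hw =>
    hR' (Subgroup.map_subtype_commutator R ▸ Subgroup.mem_map_of_mem R.subtype hw)
  have hcard : Nat.card (_root_.commutator R) = p := by
    obtain ⟨e, he, hxe⟩ := h.hEx
    have hmap : (_root_.commutator R).map R.subtype = Subgroup.zpowers z := by
      refine le_antisymm (by rw [Subgroup.map_subtype_commutator]; exact hR') ?_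
      rw [Subgroup.zpowers_le, Subgroup.map_subtype_commutator, ← hxe]
      exact Subgroup.commutator_mem_commutator h.hx (h.hCR (h.hEC he))
    rw [← Subgroup.card_map_of_injective (f := R.subtype) R.subtype_injective, hmap, Nat.card_zpowers, h.orderOf_z]
  obtain ⟨hfull, hnofix⟩ := StableAction.stable_of_commutator_eq h.hAR h.hcop h.hRA
  have hc := StableAction.derived_le_center h.hR hcard
  have he : ∀ d ∈ _root_.commutator R, d ^ p = 1 := fun d hd => by
    have := pow_card_eq_one' (x := (⟨d, hd⟩ : _root_.commutator R))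
    rw [hcard] at this
    simpa using congrArg Subtype.val this
  set φ := StableAction.powEnd h.hp2 hc he 0 with hφ
  refine StableAction.false_of_prime_derived h.hR h.hp2 hcard (fun K _ hK => ?_) _ hfull hnofix
  have hrK : φ.range ≤ K := by
    rintro _ ⟨r, rfl⟩
    show r ^ p ^ (0 + 1) ∈ K
    rw [zero_add, pow_one]
    exact hK r
  refine (Nat.le_of_dvd (Nat.pos_of_ne_zero Subgroup.index_ne_zero_of_finite) (Subgroup.index_dvd_of_le hrK)).trans ?_
  have hri : φ.range.index = Nat.card φ.ker := by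
    refine Nat.eq_of_mul_eq_mul_left (Nat.card_pos (α := φ.range)) ?_
    rw [Subgroup.card_mul_index, ← Subgroup.card_mul_index φ.ker, Subgroup.index_ker, mul_comm]
  rw [hri, ← h.hE2]
  refine Nat.card_le_card_of_injective (fun r : φ.ker => (⟨((r : R) : X), ?_⟩ : E)) fun r s hrs => ?_
  · refine hW _ (r : R).2 ?_ fun g hg => hR' (Subgroup.commutator_mem_commutator hg (r : R).2)
    have hr : (r : R) ^ p ^ (0 + 1) = 1 := r.2
    rw [zero_add, pow_one] at hr
    simpa using congrArg Subtype.val hr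
  · injection hrs with h'
    exact Subtype.ext (Subtype.ext h')

end Config

/-- The structure of a non-abelian `p`-group of rank at most two with a stable coprime action of odd order. -/
theorem structure_of_stable (hp2 : p ≠ 2) {R A : Subgroup X} (hR : IsPGroup p R) (hr : Cfsg.PRankLE p 2 R)
    (hAR : A ≤ Subgroup.normalizer (R : Set X)) (hcop : (Nat.card A).Coprime p) (hAodd : Odd (Nat.card A))
    (hRA : ⁅R, A⁆ = R) (hnab : ¬ IsMulCommutative R) :
    ∃ R₁ R₂ : Subgroup X, R₁ ⊔ R₂ = R ∧ (∀ a ∈ R₁, ∀ b ∈ R₂, a * b = b * a) ∧ ¬ IsMulCommutative R₁ ∧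
      Nat.card R₁ = p ^ 3 ∧ Monoid.exponent R₁ = p ∧ IsCyclic R₂ ∧
      Subgroup.closure {x : X | x ∈ R₂ ∧ x ^ p = 1} = ⁅R₁, R₁⁆ := by
  have hcop' : (Nat.card A).Coprime (Nat.card R) := by
    obtain ⟨k, hk⟩ := hR.exists_card_eq
    rw [hk]; exact hcop.pow_right k
  have hRne : R ≠ ⊥ := fun h => hnab ⟨⟨fun a b => Subtype.ext (by
    simp [Subgroup.mem_bot.mp (h.le a.2), Subgroup.mem_bot.mp (h.le b.2)])⟩⟩
  let Z0 : Subgroup X :=
    { carrier := {x | x ∈ R ∧ x ∈ Subgroup.centralizer (R : Set X) ∧ x ^ p = 1}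
      one_mem' := ⟨one_mem _, one_mem _, one_pow _⟩
      mul_mem' := fun {a b} ha hb => ⟨mul_mem ha.1 hb.1, mul_mem ha.2.1 hb.2.1, by
        have hab : Commute a b := Subgroup.mem_centralizer_iff.mp hb.2.1 a ha.1
        rw [hab.mul_pow, ha.2.2, hb.2.2, one_mul]⟩
      inv_mem' := fun {a} ha => ⟨inv_mem ha.1, inv_mem ha.2.1, by rw [inv_pow, ha.2.2, inv_one]⟩ }
  have hZe : Cfsg.IsElementaryAbelian p Z0 := ⟨IsMulCommutative.of_comm fun a b =>
    Subtype.ext (Subgroup.mem_centralizer_iff.mp b.2.2.1 a a.2.1), fun x hx => hx.2.2⟩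
  have hZR : Z0 ≤ R := fun x hx => hx.1
  have hcent : ∀ w ∈ Z0, ∀ r ∈ R, Commute w r := fun w hw r hr' =>
    (Subgroup.mem_centralizer_iff.mp hw.2.1 r hr').symm
  have hadd : ∀ E : Subgroup X, Cfsg.IsElementaryAbelian p E → E ≤ R → p ^ 2 ≤ Nat.card E →
      ∀ x ∈ R, (∀ e ∈ E, Commute x e) → x ^ p = 1 → x ∈ E := by
    intro E hE hER hc x hxR hxC hxp
    have hle := RankTwo.card_le_sq hr (Replacement.isEA_sup hE (Replacement.isEA_zpowers hxp)
      (Subgroup.le_centralizer_iff.mp (Subgroup.zpowers_le.mpr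
        (Subgroup.mem_centralizer_iff.mpr fun e he => (hxC e he).eq.symm))))
      (sup_le hER (Subgroup.zpowers_le.mpr hxR))
    rw [Subgroup.eq_of_le_of_card_ge (le_sup_left : E ≤ E ⊔ Subgroup.zpowers x) (hle.trans hc)]
    exact Subgroup.mem_sup_right (Subgroup.mem_zpowers x)
  -- the centre has a unique subgroup of order `p`
  obtain ⟨z, hzR, hz1, hzp, hzc⟩ := exists_central hR le_rfl Subgroup.le_normalizer hRne
  have hzZ : z ∈ Z0 := ⟨hzR, hzc, hzp⟩
  have hzo : orderOf z = p := orderOf_eq_prime hzp hz1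
  have hZ0 : Z0 = Subgroup.zpowers z := by
    refine (Subgroup.eq_of_le_of_card_ge (Subgroup.zpowers_le.mpr hzZ) ?_).symm
    rw [Nat.card_zpowers, hzo]
    by_contra hlt
    have h2 : p ^ 2 ≤ Nat.card Z0 := by
      obtain ⟨i, hi⟩ := (hR.to_le hZR).exists_card_eq
      rw [hi] at hlt ⊢
      refine Nat.pow_le_pow_right hp.out.pos ?_
      by_contra h'
      exact hlt ((Nat.pow_le_pow_right hp.out.pos (by omega : i ≤ 1)).trans (pow_one p).le)
    have hall : ∀ x ∈ R, x ^ p = 1 → x ∈ Z0 := fun x hx hxp' =>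
      hadd Z0 hZe hZR h2 x hx (fun w hw => (hcent w hw x hx).symm) hxp'
    refine hnab (StableAction.commutative_of_pcentral_sub hp2 hR hAR hcop' hRA (fun x hx hxp' => (hall x hx hxp').2.1) ?_)
    exact (Nat.card_mono (Set.toFinite _) fun x hx => hall x hx.1 hx.2).trans (RankTwo.card_le_sq hr hZe hZR)
  have hRcyc : ¬ IsCyclic R := fun h => hnab (by haveI := h; exact IsCyclic.isMulCommutative)
  obtain ⟨E₀, -, hEn, hEe₀, hEc₀⟩ := Fusion.NormalRankTwo.exists_normal_rankTwo hR hp2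
    (S := (⊤ : Subgroup R)) (fun h => hRcyc (Subgroup.topEquiv.isCyclic.mp h))
  set E := E₀.map R.subtype with hEdef
  have hE : Cfsg.IsElementaryAbelian p E := Fusion.Thompson.isEA_map _ hEe₀
  have hER : E ≤ R := Subgroup.map_subtype_le _
  have hEc : Nat.card E = p ^ 2 := by
    rw [hEdef, Subgroup.card_map_of_injective R.subtype_injective, hEc₀]
  have hRE : R ≤ Subgroup.normalizer (E : Set X) := by
    have := Subgroup.le_normalizer_map (H := E₀) R.subtype
    rwa [Subgroup.normalizer_eq_top (H := E₀), ← MonoidHom.range_eq_map, Subgroup.range_subtype] at this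
  have hzE : z ∈ E := hadd E hE hER hEc.ge z hzR (fun e he => hcent z hzZ e (hER he)) hzp
  -- `[R, E] ≤ ⟨z⟩`
  have hRE' : ∀ r ∈ R, ∀ e ∈ E, ⁅r, e⁆ ∈ Z0 := by
    set F := ⁅E, R⁆ with hF
    have hFlt : F < E := Coprime.commutator_lt_of_isPGroup hR (hR.to_le hER) hRE (by
      intro h
      rw [h, Subgroup.card_bot] at hEc
      exact absurd hEc.symm (Nat.one_lt_pow (by norm_num) hp.out.one_lt).ne')
    have hFn : R ≤ Subgroup.normalizer (F : Set X) := Subgroup.normalizer_commutator_ge_right E R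
    have hFc : ⁅F, R⁆ = ⊥ := by
      by_contra hne
      have hFne : F ≠ ⊥ := fun h => hne (by rw [h, Subgroup.commutator_bot_left])
      have hlt2 := Coprime.commutator_lt_of_isPGroup hR (hR.to_le (hFlt.le.trans hER)) hFn hFne
      obtain ⟨i, hi⟩ := (hR.to_le (hFlt.le.trans hER)).exists_card_eq
      obtain ⟨k, hk⟩ := (hR.to_le (hlt2.le.trans (hFlt.le.trans hER))).exists_card_eq
      have c1 : Nat.card F < p ^ 2 := hEc ▸ Set.ncard_lt_ncard (SetLike.coe_ssubset_coe.mpr hFlt)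
      have c2 : Nat.card (⁅F, R⁆ : Subgroup X) < Nat.card F :=
        Set.ncard_lt_ncard (SetLike.coe_ssubset_coe.mpr hlt2)
      rw [hi] at c1 c2
      rw [hk] at c2
      have := (Nat.pow_lt_pow_iff_right hp.out.one_lt).mp c1
      have := (Nat.pow_lt_pow_iff_right hp.out.one_lt).mp c2
      rw [show k = 0 by omega, pow_zero] at hk
      exact hne (Subgroup.card_eq_one.mp hk)
    intro r hr' e he
    have hm : ⁅r, e⁆ ∈ F := by
      rw [hF, Subgroup.commutator_comm]; exact Subgroup.commutator_mem_commutator hr' he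
    exact ⟨hER (hFlt.le hm), Subgroup.commutator_eq_bot_iff_le_centralizer.mp hFc hm, hE.2 _ (hFlt.le hm)⟩
  let W : Subgroup X :=
    { carrier := {x | x ∈ R ∧ x ^ p = 1 ∧ ∀ t ∈ R, ⁅t, x⁆ ∈ Z0}
      one_mem' := ⟨one_mem _, one_pow _, fun t _ => by simp⟩
      mul_mem' := fun {a b} ha hb => by
        refine ⟨mul_mem ha.1 hb.1, ?_, fun t ht => ?_⟩
        · set w := ⁅b, a⁆ with hw
          have hwm : w ∈ Z0 := ha.2.2 b hb.1
          rw [OmegaLemma.mul_pow_central (u := a) (v := b) (z := w) (by simp only [hw, commutatorElement_def]; group)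
            (hcent w hwm b hb.1) (hcent w hwm a ha.1) p, ha.2.1, hb.2.1]
          obtain ⟨c, hc⟩ : p ∣ p.choose 2 :=
            hp.out.dvd_choose_self (by norm_num) (lt_of_le_of_ne hp.out.two_le (Ne.symm hp2))
          rw [hc, pow_mul, hwm.2.2]; simp
        · rw [Replacement.comm_mul_right (hcent _ (hb.2.2 t ht) a ha.1)]
          exact mul_mem (ha.2.2 t ht) (hb.2.2 t ht)
      inv_mem' := fun {a} ha => ⟨inv_mem ha.1, by rw [inv_pow, ha.2.1, inv_one], fun t ht => by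
        have h := ha.2.2 t ht
        have e : ⁅t, a⁻¹⁆ = a⁻¹ * ⁅t, a⁆⁻¹ * a := by simp only [commutatorElement_def]; group
        rw [e, ((hcent _ (inv_mem h) a ha.1).symm.inv_left).eq, mul_assoc, inv_mul_cancel, mul_one]
        exact inv_mem h⟩ }
  have hWR : W ≤ R := fun x hx => hx.1
  have hEW : E ≤ W := fun e he => ⟨hER he, hE.2 e he, fun t ht => hRE' t ht e he⟩
  have hAZ : ∀ a ∈ A, ∀ w ∈ Z0, a * w * a⁻¹ ∈ Z0 := fun a ha w hw => by
    refine ⟨(Subgroup.mem_normalizer_iff.mp (hAR ha) w).mp hw.1, Subgroup.mem_centralizer_iff.mpr fun r hr' => ?_, by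
      rw [conj_pow, hw.2.2, mul_one, mul_inv_cancel]⟩
    have := (hcent w hw _ ((Subgroup.mem_normalizer_iff''.mp (hAR ha) r).mp hr')).eq
    calc r * (a * w * a⁻¹) = a * ((a⁻¹ * r * a) * w) * a⁻¹ := by group
      _ = a * (w * (a⁻¹ * r * a)) * a⁻¹ := by rw [this]
      _ = _ := by group
  have hAW : A ≤ Subgroup.normalizer (W : Set X) := Subgroup.le_normalizer_iff.mpr fun a ha x hx => by
    refine ⟨(Subgroup.mem_normalizer_iff.mp (hAR ha) x).mp hx.1, by rw [conj_pow, hx.2.1, mul_one, mul_inv_cancel],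
      fun t ht => ?_⟩
    have := hAZ a ha _ (hx.2.2 (a⁻¹ * t * a) ((Subgroup.mem_normalizer_iff''.mp (hAR ha) t).mp ht))
    rwa [conjugate_commutatorElement, show a * (a⁻¹ * t * a) * a⁻¹ = t by group] at this
  obtain ⟨e, he, heZ⟩ := SetLike.exists_of_lt (lt_of_le_of_ne (Subgroup.zpowers_le.mpr hzE) fun h => by
    rw [← h, Nat.card_zpowers, hzo] at hEc
    exact absurd hEc (ne_of_lt (lt_self_pow₀ hp.out.one_lt (by norm_num))))
  have hgenE : Subgroup.zpowers z ⊔ Subgroup.zpowers e = E := by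
    refine Subgroup.eq_of_le_of_card_ge (sup_le (Subgroup.zpowers_le.mpr hzE) (Subgroup.zpowers_le.mpr he)) ?_
    obtain ⟨i, hi⟩ := (hR.to_le (sup_le (Subgroup.zpowers_le.mpr hzR) (Subgroup.zpowers_le.mpr (hER he)) :
      Subgroup.zpowers z ⊔ Subgroup.zpowers e ≤ R)).exists_card_eq
    have hlt : Nat.card (Subgroup.zpowers z) < Nat.card ↥(Subgroup.zpowers z ⊔ Subgroup.zpowers e) :=
      Set.ncard_lt_ncard (SetLike.coe_ssubset_coe.mpr (lt_of_le_of_ne le_sup_left fun h' => heZ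
        (h' ▸ Subgroup.mem_sup_right (Subgroup.mem_zpowers e))))
    rw [Nat.card_zpowers, hzo, hi] at hlt
    rw [hi, hEc]
    exact Nat.pow_le_pow_right hp.out.pos ((Nat.pow_lt_pow_iff_right hp.out.one_lt).mp (by rwa [pow_one]))
  have hcommE : ∀ u ∈ R, Commute u e → ∀ f ∈ E, Commute u f := by
    intro u hu hue f hf
    have hle : E ≤ Subgroup.centralizer ({u} : Set X) := by
      rw [← hgenE]
      exact sup_le (Subgroup.zpowers_le.mpr (Subgroup.mem_centralizer_singleton_iff.mpr (hcent z hzZ u hu).eq))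
        (Subgroup.zpowers_le.mpr (Subgroup.mem_centralizer_singleton_iff.mpr hue.eq.symm))
    exact (Subgroup.mem_centralizer_singleton_iff.mp (hle hf)).symm
  have hidx : ∀ v ∈ W, (Subgroup.centralizer ({v} : Set X)).relIndex R ≤ p := by
    intro v hv
    refine le_trans ?_ (le_of_eq (show Nat.card Z0 = p by rw [hZ0, Nat.card_zpowers, hzo]))
    let f : R ⧸ (Subgroup.centralizer ({v} : Set X)).subgroupOf R → Z0 := fun x =>
      ⟨⁅((x.out : R) : X), v⁆, hv.2.2 _ (x.out : R).2⟩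
    refine Nat.card_le_card_of_injective f ?_
    intro x y hxy
    rw [← Quotient.out_eq x, ← Quotient.out_eq y]
    refine QuotientGroup.eq.mpr ?_
    rw [Subgroup.mem_subgroupOf, Subgroup.mem_centralizer_singleton_iff]
    have h : ⁅((x.out : R) : X), v⁆ = ⁅((y.out : R) : X), v⁆ := congrArg Subtype.val hxy
    simp only [commutatorElement_def] at h
    set a := ((x.out : R) : X)
    set b := ((y.out : R) : X)
    have h2 : a * v * a⁻¹ = b * v * b⁻¹ := mul_right_cancel h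
    show a⁻¹ * b * v = v * (a⁻¹ * b)
    calc a⁻¹ * b * v = a⁻¹ * (b * v * b⁻¹) * b := by group
      _ = a⁻¹ * (a * v * a⁻¹) * b := by rw [h2]
      _ = _ := by group
  have hWe : ∀ w ∈ W, Commute w e → w ∈ E := fun w hw hwe =>
    hadd E hE hER hEc.ge w hw.1 (hcommE w hw.1 hwe) hw.2.1
  by_cases hW2 : W ≤ E
  · -- `W = E`: impossible
    exfalso
    obtain ⟨x, hx, hxe⟩ : ∃ x ∈ R, ⁅x, e⁆ ≠ 1 := by
      by_contra hall
      push Not at hall
      exact heZ (hZ0.le ⟨hER he, Subgroup.mem_centralizer_iff.mpr fun r hr' =>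
        commutatorElement_eq_one_iff_mul_comm.mp (hall r hr'), hE.2 e he⟩)
    set y := ⁅x, e⁆ with hy
    have hyZ : y ∈ Z0 := hRE' x hx e he
    have hZy : Subgroup.zpowers y = Z0 := Subgroup.eq_of_le_of_card_ge (Subgroup.zpowers_le.mpr hyZ)
      (by rw [hZ0, Nat.card_zpowers, Nat.card_zpowers, hzo, orderOf_eq_prime hyZ.2.2 hxe])
    have hpow : ∀ i : ℕ, ⁅x ^ i, e⁆ = y ^ i := by
      intro i
      induction i with
      | zero => simp
      | succ i ih =>
        rw [pow_succ', commutatorElement_mul_left_eq_conj_mul, ih, pow_succ,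
          ((hcent y hyZ x hx).symm.pow_right i).eq, mul_inv_cancel_right]
    set C := R ⊓ Subgroup.centralizer (E : Set X) with hC
    have hmemC : ∀ u ∈ R, Commute u e → u ∈ C := fun u hu hue =>
      ⟨hu, Subgroup.mem_centralizer_iff.mpr fun f hf => (hcommE u hu hue f hf).eq.symm⟩
    have hAE : A ≤ Subgroup.normalizer (E : Set X) := le_antisymm hW2 hEW ▸ hAW
    have hCmp : ∀ S : Subgroup X, S ≤ Subgroup.normalizer (R : Set X) → S ≤ Subgroup.normalizer (E : Set X) →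
        S ≤ Subgroup.normalizer (C : Set X) := fun S h1 h2 =>
      le_trans (le_inf h1 (Subgroup.le_normalizer_iff.mpr fun g hg c hc => Subgroup.mem_centralizer_iff.mpr
        fun f hf => by
          have hf' := (Subgroup.mem_normalizer_iff''.mp (h2 hg) f).mp hf
          have := Subgroup.mem_centralizer_iff.mp hc _ hf'
          calc f * (g * c * g⁻¹) = g * ((g⁻¹ * f * g) * c) * g⁻¹ := by group
            _ = g * (c * (g⁻¹ * f * g)) * g⁻¹ := by rw [this]
            _ = _ := by group))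
        Subgroup.inf_normalizer_le_normalizer_inf
    have hcfg : Config p R A C E x y := by
      refine ⟨hp2, hR, hAR, hcop', hAodd, hRA, fun f hf => ⟨hER hf, ?_⟩, inf_le_left,
        hCmp R Subgroup.le_normalizer hRE, hCmp A hAR hAE,
        fun u hu f hf => (Subgroup.mem_centralizer_iff.mp hu.2 f hf).symm, hAE, hEc, hE.2, fun u hu hup => ?_, hx,
        fun hxC => ?_, ?_, fun r hr' => ?_, hxe, hyZ.2.2, ⟨hyZ.1, hyZ.2.1⟩,
        fun u hu hup huc => hZy.ge ⟨hu, huc, hup⟩, ⟨e, he, rfl⟩, fun f hf => hZy.ge (hRE' x hx f hf)⟩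
      · haveI := hE.1
        exact E.le_centralizer hf
      · exact hadd E hE hER hEc.ge u hu.1 (fun f hf => (Subgroup.mem_centralizer_iff.mp hu.2 f hf).symm) hup
      · exact hxe (commutatorElement_eq_one_iff_mul_comm.mpr (Subgroup.mem_centralizer_iff.mp hxC.2 e he).symm)
      · refine hmemC _ (pow_mem hx p) (commutatorElement_eq_one_iff_mul_comm.mp ?_)
        rw [hpow, hyZ.2.2]
      · obtain ⟨i, hi⟩ := mem_powers_iff_mem_zpowers.mpr (hZy.ge (hRE' r hr' e he))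
        simp only at hi
        refine ⟨r * (x ^ i)⁻¹, ?_, i, by group⟩
        have h1 : ⁅r, e⁆ = ⁅x ^ i, e⁆ := by rw [hpow, hi]
        simp only [commutatorElement_def] at h1
        have h2 : r * e * r⁻¹ = x ^ i * e * (x ^ i)⁻¹ := mul_right_cancel h1
        have h3 : (x ^ i)⁻¹ * r ∈ C := by
          refine hmemC _ (mul_mem (inv_mem (pow_mem hx i)) hr') ?_
          show (x ^ i)⁻¹ * r * e = e * ((x ^ i)⁻¹ * r)
          calc (x ^ i)⁻¹ * r * e = (x ^ i)⁻¹ * (r * e * r⁻¹) * r := by group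
            _ = (x ^ i)⁻¹ * (x ^ i * e * (x ^ i)⁻¹) * r := by rw [h2]
            _ = _ := by group
        have h4 := (Subgroup.mem_normalizer_iff.mp (hCmp R Subgroup.le_normalizer hRE (pow_mem hx i)) _).mp h3
        rwa [mul_assoc, mul_assoc, mul_inv_cancel_left] at h4
    refine hcfg.false_of_config fun w hw hwp hwc => hW2 ⟨hw, hwp, fun t ht => hZy.le (hwc t ht)⟩
  · -- `W` is non-abelian of order `p ^ 3`
    obtain ⟨w, hw, hwE⟩ := SetLike.not_le_iff_exists.mp hW2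
    have hEWe : ∀ v ∈ W, v ∈ W ⊓ Subgroup.centralizer ({e} : Set X) → v ∈ E := fun v hv hv' =>
      hWe v hv (Subgroup.mem_centralizer_singleton_iff.mp hv'.2)
    have hW3 : Nat.card W = p ^ 3 := by
      obtain ⟨i, hi⟩ := (hR.to_le hWR).exists_card_eq
      have hlt : Nat.card E < Nat.card W :=
        Set.ncard_lt_ncard (SetLike.coe_ssubset_coe.mpr (lt_of_le_of_ne hEW fun h' => hwE (h' ▸ hw)))
      have h1 := Subgroup.relIndex_mul_relIndex ⊥ (W ⊓ Subgroup.centralizer ({e} : Set X)) W bot_le inf_le_left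
      rw [Subgroup.relIndex_bot_left, Subgroup.relIndex_bot_left, inf_comm, Subgroup.inf_relIndex_right] at h1
      have hup : Nat.card W ≤ p ^ 3 := by
        rw [← h1, inf_comm]
        calc _ ≤ p ^ 2 * p := Nat.mul_le_mul ((Subgroup.card_le_of_le (fun v (hv : v ∈ W ⊓ Subgroup.centralizer ({e} : Set X)) => hEWe v hv.1 hv)).trans hEc.le)
              ((Subgroup.relIndex_le_of_le_right hWR Subgroup.index_ne_zero_of_finite).trans (hidx e (hEW he)))
          _ = p ^ 3 := by ring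
      rw [hEc, hi] at hlt
      rw [hi] at hup ⊢
      have := (Nat.pow_lt_pow_iff_right hp.out.one_lt).mp hlt
      have := (Nat.pow_le_pow_iff_right hp.out.one_lt).mp hup
      rw [show i = 3 by omega]
    have hgenW : E ⊔ Subgroup.zpowers w = W := by
      refine Subgroup.eq_of_le_of_card_ge (sup_le hEW (Subgroup.zpowers_le.mpr hw)) ?_
      obtain ⟨i, hi⟩ := (hR.to_le (sup_le hER (Subgroup.zpowers_le.mpr hw.1) : E ⊔ Subgroup.zpowers w ≤ R)).exists_card_eq
      have hlt : Nat.card E < Nat.card ↥(E ⊔ Subgroup.zpowers w) :=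
        Set.ncard_lt_ncard (SetLike.coe_ssubset_coe.mpr (lt_of_le_of_ne le_sup_left fun h' =>
          hwE (h' ▸ Subgroup.mem_sup_right (Subgroup.mem_zpowers w))))
      rw [hEc, hi] at hlt
      rw [hW3, hi]
      exact Nat.pow_le_pow_right hp.out.pos ((Nat.pow_lt_pow_iff_right hp.out.one_lt).mp hlt)
    have hwe : ¬ Commute w e := fun h => hwE (hWe w hw h)
    set K := R ⊓ Subgroup.centralizer (W : Set X) with hK
    have hKR : K ≤ R := inf_le_left
    have hKZ : ∀ x ∈ E, Commute x w → x ∈ Subgroup.zpowers z := by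
      intro x hx hxw
      by_contra hxz
      have hgen' : Subgroup.zpowers z ⊔ Subgroup.zpowers x = E := by
        refine Subgroup.eq_of_le_of_card_ge (sup_le (Subgroup.zpowers_le.mpr hzE) (Subgroup.zpowers_le.mpr hx)) ?_
        obtain ⟨i, hi⟩ := (hR.to_le (sup_le (Subgroup.zpowers_le.mpr hzR) (Subgroup.zpowers_le.mpr (hER hx)) :
          Subgroup.zpowers z ⊔ Subgroup.zpowers x ≤ R)).exists_card_eq
        have hlt : Nat.card (Subgroup.zpowers z) < Nat.card ↥(Subgroup.zpowers z ⊔ Subgroup.zpowers x) :=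
          Set.ncard_lt_ncard (SetLike.coe_ssubset_coe.mpr (lt_of_le_of_ne le_sup_left fun h' => hxz
            (h' ▸ Subgroup.mem_sup_right (Subgroup.mem_zpowers x))))
        rw [Nat.card_zpowers, hzo, hi] at hlt
        rw [hi, hEc]
        exact Nat.pow_le_pow_right hp.out.pos ((Nat.pow_lt_pow_iff_right hp.out.one_lt).mp (by rwa [pow_one]))
      have hle : E ≤ Subgroup.centralizer ({w} : Set X) := by
        rw [← hgen']
        exact sup_le (Subgroup.zpowers_le.mpr (Subgroup.mem_centralizer_singleton_iff.mpr (hcent z hzZ w hw.1).eq))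
          (Subgroup.zpowers_le.mpr (Subgroup.mem_centralizer_singleton_iff.mpr hxw.eq))
      exact hwe (Subgroup.mem_centralizer_singleton_iff.mp (hle he)).symm
    have hWKE : W ⊓ K ≤ Subgroup.zpowers z := fun x hx =>
      hKZ x (hWe x hx.1 (Subgroup.mem_centralizer_iff.mp hx.2.2 e (hEW he)).symm)
        (Subgroup.mem_centralizer_iff.mp hx.2.2 w hw).symm
    have hKi : K.relIndex R ≤ p ^ 2 := by
      have hle : R ⊓ (Subgroup.centralizer ({e} : Set X) ⊓ Subgroup.centralizer ({w} : Set X)) ≤ K := by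
        rintro u ⟨hu, hue, huw⟩
        refine ⟨hu, Subgroup.mem_centralizer_iff.mpr fun v hv => ?_⟩
        have hWC : W ≤ Subgroup.centralizer ({u} : Set X) := by
          rw [← hgenW]
          refine sup_le (fun f hf => Subgroup.mem_centralizer_singleton_iff.mpr ?_)
            (Subgroup.zpowers_le.mpr (Subgroup.mem_centralizer_singleton_iff.mpr
              (Subgroup.mem_centralizer_singleton_iff.mp huw).symm))
          exact (hcommE u hu (Subgroup.mem_centralizer_singleton_iff.mp hue) f hf).eq.symm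
        exact Subgroup.mem_centralizer_singleton_iff.mp (hWC hv)
      refine (Subgroup.relIndex_le_of_le_left hle Subgroup.index_ne_zero_of_finite).trans ?_
      rw [Subgroup.inf_relIndex_left]
      exact Subgroup.relIndex_inf_le.trans (by rw [sq]; exact Nat.mul_le_mul (hidx e (hEW he)) (hidx w hw))
    have hWK : W ⊔ K = R := by
      refine le_antisymm (sup_le hWR hKR) (Subgroup.relIndex_eq_one.mp ?_)
      have h2 : p ^ 2 ≤ K.relIndex W := by
        have h1 := Subgroup.relIndex_mul_relIndex ⊥ (W ⊓ K) W bot_le inf_le_left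
        rw [Subgroup.relIndex_bot_left, Subgroup.relIndex_bot_left, Subgroup.inf_relIndex_left, hW3] at h1
        have h3 : Nat.card ↥(W ⊓ K) ≤ p :=
          (Subgroup.card_le_of_le hWKE).trans (by rw [Nat.card_zpowers, hzo])
        by_contra hlt
        have : Nat.card ↥(W ⊓ K) * K.relIndex W < p * p ^ 2 := Nat.mul_lt_mul_of_le_of_lt h3 (not_le.mp hlt) hp.out.pos
        rw [h1, show p ^ 3 = p * p ^ 2 by ring] at this
        exact lt_irrefl _ this
      have hm := Subgroup.relIndex_mul_relIndex K (W ⊔ K) R le_sup_right (sup_le hWR hKR)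
      have h4 : K.relIndex W ≤ K.relIndex (W ⊔ K) :=
        Subgroup.relIndex_le_of_le_right le_sup_left Subgroup.index_ne_zero_of_finite
      have h5 : 0 < (W ⊔ K).relIndex R := Nat.pos_of_ne_zero Subgroup.index_ne_zero_of_finite
      have h7 : p ^ 2 * (W ⊔ K).relIndex R ≤ p ^ 2 * 1 := by
        rw [mul_one]
        exact (Nat.mul_le_mul_right _ (h2.trans h4)).trans (hm.le.trans hKi)
      exact le_antisymm (Nat.le_of_mul_le_mul_left h7 (pow_pos hp.out.pos 2)) h5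
    have hWnab : ¬ IsMulCommutative W := fun h => hwe
      (congrArg Subtype.val (h.is_comm.comm (⟨w, hw⟩ : W) ⟨e, hEW he⟩))
    have hKΩ : ∀ x ∈ K, x ^ p = 1 → x ∈ Subgroup.zpowers z := fun x hx hxp =>
      hKZ x (hadd E hE hER hEc.ge x hx.1
        (fun f hf => (Subgroup.mem_centralizer_iff.mp hx.2 f (hEW hf)).symm) hxp)
        (Subgroup.mem_centralizer_iff.mp hx.2 w hw).symm
    refine ⟨W, K, hWK, fun a ha b hb => Subgroup.mem_centralizer_iff.mp hb.2 a ha, hWnab, hW3, ?_, ?_, ?_⟩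
    · have hdvd : Monoid.exponent W ∣ p := Monoid.exponent_dvd_of_forall_pow_eq_one fun v =>
        Subtype.ext (by simpa using v.2.2.1)
      refine ((Nat.dvd_prime hp.out).mp hdvd).resolve_left fun h1 => hwe ?_
      have := congrArg Subtype.val (h1 ▸ Monoid.pow_exponent_eq_one (⟨w, hw⟩ : W) : (⟨w, hw⟩ : W) ^ 1 = 1)
      simp only [pow_one] at this
      rw [show w = 1 from this]
      exact Commute.one_left e
    · exact isCyclic_of_omega_le hp2 (Z := Subgroup.zpowers z) (hR.to_le hKR)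
        (by rw [Nat.card_zpowers, hzo]) hKΩ
    · have hW' : ⁅W, W⁆ = Subgroup.zpowers z := by
        have hle : ⁅W, W⁆ ≤ Subgroup.zpowers z := by
          rw [Subgroup.commutator_le]
          intro a ha b hb
          exact hZ0.le (hb.2.2 a ha.1)
        rcases (Nat.dvd_prime hp.out).mp ((Subgroup.card_dvd_of_le hle).trans (by rw [Nat.card_zpowers, hzo])) with h | h
        · exact absurd (Subgroup.commutator_self_eq_bot_iff.mp (Subgroup.eq_bot_of_card_eq _ h)) hWnab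
        · exact Subgroup.eq_of_le_of_card_ge hle (by rw [h, Nat.card_zpowers, hzo])
      rw [hW']
      refine le_antisymm ((Subgroup.closure_le _).mpr fun x hx => hKΩ x hx.1 hx.2) (Subgroup.zpowers_le.mpr
        (Subgroup.subset_closure ⟨⟨hzR, Subgroup.mem_centralizer_iff.mpr fun v hv => ?_⟩, hzp⟩))
      exact (hcent z hzZ v hv.1).eq.symm

/-- A nontrivial stable action forces `p > 3`. -/
theorem three_lt (hp2 : p ≠ 2) {R A : Subgroup X} (hR : IsPGroup p R) (hR1 : R ≠ ⊥) (hr : Cfsg.PRankLE p 2 R)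
    (hAR : A ≤ Subgroup.normalizer (R : Set X)) (hcop : (Nat.card A).Coprime p) (hAodd : Odd (Nat.card A))
    (hRA : ⁅R, A⁆ = R) : 3 < p := by
  by_contra hle
  have hp3 : p = 3 := by
    have := hp.out.two_le
    omega
  have hcop' : (Nat.card A).Coprime (Nat.card R) := by
    obtain ⟨k, hk⟩ := hR.exists_card_eq
    rw [hk]; exact hcop.pow_right k
  have hcardRA : Nat.card ↥(R ⊔ A) = Nat.card R * Nat.card A :=
    Coprime.card_sup_of_le_normalizer hAR (disjoint_iff.mpr (Subgroup.inf_eq_bot_of_coprime hcop'.symm))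
  have hoddR : Odd (Nat.card R) := by
    obtain ⟨k, hk⟩ := hR.exists_card_eq
    rw [hk]; exact (hp.out.odd_of_ne_two hp2).pow
  refine hR1 ?_
  rw [← hRA, Subgroup.commutator_comm, Subgroup.commutator_eq_bot_iff_le_centralizer]
  refine Subgroup.relIndex_eq_one.mp ?_
  set B := Subgroup.centralizer (R : Set X) with hB
  by_contra hne
  obtain ⟨q, hq, hqd⟩ := Nat.exists_prime_and_dvd hne
  haveI := Fact.mk hq
  have hqA : q ∣ Nat.card A := hqd.trans (Subgroup.index_dvd_card _)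
  have hqp : p < q := by
    have h2 : q ≠ 2 := fun e => Nat.not_even_iff_odd.mpr hAodd (even_iff_two_dvd.mpr (e ▸ hqA))
    have h3 : q ≠ p := fun e => hq.ne_one (Nat.eq_one_of_dvd_coprimes hcop hqA (e ▸ dvd_refl q))
    have := hq.two_le
    omega
  obtain ⟨S⟩ : Nonempty (Sylow q A) := inferInstance
  have hSB : (S : Subgroup A) ≤ B.subgroupOf A := by
    intro g hg
    set G₀ := R ⊔ Subgroup.zpowers (g : X) with hG₀
    have hgR : Subgroup.zpowers (g : X) ≤ Subgroup.normalizer (R : Set X) := Subgroup.zpowers_le.mpr (hAR g.2)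
    haveI hsol : Group.IsSolvable G₀ := Components.Signalizer.isSolvable_sup hgR
      (by haveI := hR.isNilpotent; infer_instance) (Coprime.isSolvable_zpowers _)
    have hle : G₀ ≤ R ⊔ A := sup_le_sup_left (Subgroup.zpowers_le.mpr g.2) _
    have hodd : Odd (Nat.card G₀) :=
      Odd.of_dvd_nat (hcardRA ▸ hoddR.mul hAodd) (Subgroup.card_dvd_of_le hle)
    haveI : (R.subgroupOf G₀).Normal := (Subgroup.normal_subgroupOf_iff_le_normalizer le_sup_left).mpr
      (sup_le Subgroup.le_normalizer hgR)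
    have hT : Cfsg.PRankLE p 2 (R.subgroupOf G₀) := by
      intro Q hQc hQe
      set f := (Subgroup.subgroupOfEquivOfLe (le_sup_left : R ≤ G₀)).toMonoidHom with hf
      have h := Fusion.Thompson.isEA_map f (A := Q) ⟨hQc, hQe⟩
      have := hr _ h.1 h.2
      rwa [Subgroup.card_map_of_injective (Subgroup.subgroupOfEquivOfLe (le_sup_left : R ≤ G₀)).injective] at this
    obtain ⟨k, hk⟩ := S.isPGroup' ⟨g, hg⟩
    have hgk : (g : X) ^ q ^ k = 1 := by simpa using congrArg (fun t : (S : Subgroup A) => ((t : A) : X)) hk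
    set g₀ : G₀ := ⟨(g : X), Subgroup.mem_sup_right (Subgroup.mem_zpowers _)⟩ with hg₀
    have hgo : ∃ k', orderOf g₀ = q ^ k' := by
      obtain ⟨k', -, h⟩ := (Nat.dvd_prime_pow hq).mp (orderOf_dvd_of_pow_eq_one hgk)
      exact ⟨k', by rw [← Subgroup.orderOf_coe]; exact h⟩
    have hmem := (RankTwo.coreAct hodd hp2 (R.subgroupOf G₀) (hR.comap_of_injective G₀.subtype G₀.subtype_injective)
      hT).2 q hq hqp g₀ hgo
    refine Subgroup.mem_centralizer_iff.mpr fun r hr' => ?_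
    exact congrArg Subtype.val (Subgroup.mem_centralizer_iff.mp hmem ⟨r, Subgroup.mem_sup_left hr'⟩ hr')
  exact S.not_dvd_index (hqd.trans (Subgroup.index_dvd_of_le hSB))

end CfsgLib.OddOrder.RankTwoStable
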