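import Cfsg.Agent.Lib.OddOrder.CharOmega
import Cfsg.Agent.Lib.OddOrder.RankTwo
import Cfsg.Agent.Lib.OddOrder.RankTwoStable
import Cfsg.Agent.Lib.Components.Signalizer.Basic
import Cfsg.Agent.Lib.Coprime.Abelian
import Mathlib

set_option autoImplicit false

/-!
Odd solvable groups acting faithfully on narrow `p`-groups.
-/

namespace CfsgLib.OddOrder.NarrowAction

open scoped commutatorElement

variable {R : Type*} [Group R] {p : ℕ}

/-- An automorphism of order prime to `p` stabilising a series of a `p`-group fixes its top. -/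
theorem fix_of_series [Finite R] [hp : Fact p.Prime] (hR : IsPGroup p R) (α : MulAut R)
    (hα : (orderOf α).Coprime p) (L : ℕ → Subgroup R) (N : ℕ) (hN : L N = ⊥)
    (hanti : ∀ i, L (i + 1) ≤ L i) (hst : ∀ i, ∀ x ∈ L i, x⁻¹ * α x ∈ L (i + 1)) :
    ∀ x ∈ L 0, α x = x := by
  suffices h : ∀ d i, i + d = N → ∀ x ∈ L i, α x = x from h N 0 (by omega)
  intro d
  induction d with
  | zero =>
    intro i hi x hx
    rw [show i = N by omega, hN, Subgroup.mem_bot] at hx
    rw [hx, map_one]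
  | succ d ih =>
    intro i hi x hx
    set c := x⁻¹ * α x with hc
    have hfix : α c = c := ih (i + 1) (by omega) c (hst i x hx)
    have hiter : ∀ k : ℕ, (α ^ k) x = x * c ^ k := by
      intro k
      induction k with
      | zero => simp
      | succ k ihk =>
        rw [pow_succ', MulAut.mul_apply, ihk, map_mul, map_pow, hfix, pow_succ',
          show α x = x * c by rw [hc, mul_inv_cancel_left], mul_assoc]
    have h1 : c ^ orderOf α = 1 := by
      have := hiter (orderOf α)
      rw [pow_orderOf_eq_one, MulAut.one_apply] at this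
      simpa using this.symm
    obtain ⟨k, hk⟩ := hR c
    have hc1 : c = 1 := orderOf_eq_one_iff.mp (Nat.eq_one_of_dvd_coprimes (hα.pow_right k)
      (orderOf_dvd_of_pow_eq_one h1) (orderOf_dvd_of_pow_eq_one hk))
    rw [hc, inv_mul_eq_one] at hc1
    exact hc1.symm

/-- The automorphisms of a group of order dividing `p` commute and have exponent dividing `p - 1`. -/
theorem mulAut_small {Q : Type*} [Group Q] [Finite Q] [hp : Fact p.Prime] (h : Nat.card Q ∣ p) :
    (∀ a b : MulAut Q, a * b = b * a) ∧ ∀ a : MulAut Q, a ^ (p - 1) = 1 := by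
  rcases (Nat.dvd_prime hp.out).mp h with h1 | h1
  · haveI : Subsingleton Q := Finite.card_le_one_iff_subsingleton.mp h1.le
    exact ⟨fun a b => MulEquiv.ext fun x => Subsingleton.elim _ _, fun a => MulEquiv.ext fun x => Subsingleton.elim _ _⟩
  · refine ⟨RankTwo.commute_of_card_prime (h1 ▸ hp.out), fun a => ?_⟩
    haveI : IsCyclic Q := isCyclic_of_prime_card h1
    have hc := IsCyclic.card_mulAut Q
    rw [h1, Nat.totient_prime hp.out] at hc
    rw [← hc]
    exact pow_card_eq_one'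

/-- On a section of order dividing `p`, commutators and `(p-1)`-th powers act trivially. -/
theorem trivial_on_layer [Finite R] [hp : Fact p.Prime] {L M : Subgroup R} [L.Characteristic] [M.Characteristic]
    (hML : M ≤ L) (h : M.relIndex L ∣ p) {A : Type*} [Group A] (φ : A →* MulAut R) :
    (∀ a ∈ _root_.commutator A, ∀ x ∈ L, x⁻¹ * φ a x ∈ M) ∧
      ∀ a : A, ∀ x ∈ L, x⁻¹ * φ (a ^ (p - 1)) x ∈ M := by
  haveI : (M.subgroupOf L).Normal := Subgroup.Normal.subgroupOf inferInstance _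
  have hL : ∀ (α : MulAut R), ∀ x ∈ L, α x ∈ L := fun α x hx => CharOmega.map_mem α hx
  let res : MulAut R → MulAut L := fun α =>
    { toFun := fun x => ⟨α x, hL α x x.2⟩
      invFun := fun x => ⟨α.symm x, hL α.symm x x.2⟩
      left_inv := fun x => Subtype.ext (α.symm_apply_apply x)
      right_inv := fun x => Subtype.ext (α.apply_symm_apply x)
      map_mul' := fun x y => Subtype.ext (map_mul α (x : R) y) }
  have hcongr : ∀ α : MulAut R, (M.subgroupOf L).map (res α).toMonoidHom = M.subgroupOf L := by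
    intro α
    ext x
    constructor
    · rintro ⟨y, hy, rfl⟩
      exact CharOmega.map_mem α (Subgroup.mem_subgroupOf.mp hy)
    · intro hx
      exact ⟨(res α).symm x, CharOmega.map_mem α.symm (Subgroup.mem_subgroupOf.mp hx), (res α).apply_symm_apply x⟩
  let ψ : A →* MulAut (L ⧸ M.subgroupOf L) :=
    { toFun := fun a => QuotientGroup.congr _ _ (res (φ a)) (hcongr (φ a))
      map_one' := MulEquiv.ext fun x => by
        obtain ⟨x, rfl⟩ := QuotientGroup.mk'_surjective _ x
        show QuotientGroup.mk (res (φ 1) x) = QuotientGroup.mk x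
        congr 1
        exact Subtype.ext (by simp [res])
      map_mul' := fun a b => MulEquiv.ext fun x => by
        obtain ⟨x, rfl⟩ := QuotientGroup.mk'_surjective _ x
        show QuotientGroup.mk (res (φ (a * b)) x) = QuotientGroup.mk (res (φ a) (res (φ b) x))
        congr 1
        exact Subtype.ext (by simp [res]) }
  obtain ⟨hcomm, hpow⟩ := mulAut_small (p := p) (Q := L ⧸ M.subgroupOf L) h
  have key : ∀ a : A, ψ a = 1 → ∀ x ∈ L, x⁻¹ * φ a x ∈ M := by
    intro a ha x hx
    have h1 : (QuotientGroup.mk (res (φ a) ⟨x, hx⟩) : L ⧸ M.subgroupOf L) = QuotientGroup.mk ⟨x, hx⟩ :=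
      congrArg (fun f : MulAut (L ⧸ M.subgroupOf L) => f (QuotientGroup.mk ⟨x, hx⟩)) ha
    have h2 := QuotientGroup.eq.mp h1.symm
    rw [Subgroup.mem_subgroupOf] at h2
    exact h2
  refine ⟨fun a ha => key a ?_, fun a => key _ (by rw [map_pow, hpow])⟩
  have hle : _root_.commutator A ≤ ψ.ker := by
    rw [_root_.commutator_def, Subgroup.commutator_le]
    intro b _ c _
    rw [MonoidHom.mem_ker, map_commutatorElement, commutatorElement_eq_one_iff_mul_comm]
    exact hcomm _ _
  exact hle ha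

/-- Counting a conjugacy class inside a normal subgroup. -/
theorem card_le_mul [Finite R] (L M : Subgroup R) (r : R) (h : ∀ d ∈ L, ⁅d, r⁆ ∈ M) :
    Nat.card L ≤ Nat.card ↥(L ⊓ Subgroup.centralizer ({r} : Set R)) * Nat.card M := by
  have h1 := Subgroup.relIndex_mul_relIndex ⊥ (L ⊓ Subgroup.centralizer ({r} : Set R)) L bot_le inf_le_left
  rw [Subgroup.relIndex_bot_left, Subgroup.relIndex_bot_left, Subgroup.inf_relIndex_left] at h1
  rw [← h1]
  refine Nat.mul_le_mul_left _ ?_
  let f : L ⧸ (Subgroup.centralizer ({r} : Set R)).subgroupOf L → M := fun x =>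
    ⟨⁅((x.out : L) : R)⁻¹, r⁆, h _ (inv_mem (x.out : L).2)⟩
  refine Nat.card_le_card_of_injective (fun x => (⟨⁅((x.out : L) : R), r⁆, h _ (x.out : L).2⟩ : M)) ?_
  intro x y hxy
  rw [← Quotient.out_eq x, ← Quotient.out_eq y]
  refine QuotientGroup.eq.mpr ?_
  rw [Subgroup.mem_subgroupOf, Subgroup.mem_centralizer_singleton_iff]
  have h : ⁅((x.out : L) : R), r⁆ = ⁅((y.out : L) : R), r⁆ := congrArg Subtype.val hxy
  simp only [commutatorElement_def] at h
  set a := ((x.out : L) : R)
  set b := ((y.out : L) : R)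
  have h2 : a * r * a⁻¹ = b * r * b⁻¹ := mul_right_cancel h
  show a⁻¹ * b * r = r * (a⁻¹ * b)
  calc a⁻¹ * b * r = a⁻¹ * (b * r * b⁻¹) * b := by group
    _ = a⁻¹ * (a * r * a⁻¹) * b := by rw [h2]
    _ = _ := by group

variable [Finite R] [hp : Fact p.Prime]

/-- The series of a narrow group of rank at least three. -/
theorem exists_series (hp2 : p ≠ 2) (hR : IsPGroup p R) (hnar : Cfsg.IsNarrow p R)
    (hr : ¬ Cfsg.PRankLE p 2 R) :
    ∃ (L : ℕ → Subgroup R) (N : ℕ), L N = ⊥ ∧ (∀ i, L (i + 1) ≤ L i) ∧ (∀ i, (L i).Characteristic) ∧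
      (∀ i, (L (i + 1)).relIndex (L i) ∣ p) ∧
      ∀ x ∈ Subgroup.centralizer (L 0 : Set R), x ^ p = 1 → x ∈ L 0 := by
  obtain ⟨R₀, R₁, hR₀, hR₁, hint, hcomm, hsup⟩ := hnar.resolve_left hr
  haveI := hR₁
  obtain ⟨r, hrR₀, hr1⟩ : ∃ r ∈ R₀, r ≠ 1 := (Subgroup.bot_or_exists_ne_one R₀).resolve_left fun h =>
    hp.out.ne_one (by rw [← hR₀, h, Subgroup.card_bot])
  have hgen₀ : Subgroup.zpowers r = R₀ := Subgroup.eq_of_le_of_card_ge (Subgroup.zpowers_le.mpr hrR₀) (by
    rw [hR₀, Nat.card_zpowers]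
    have hdvd : orderOf r ∣ p := hR₀ ▸ Subgroup.orderOf_dvd_natCard R₀ hrR₀
    rcases (Nat.dvd_prime hp.out).mp hdvd with h | h
    · exact absurd (orderOf_eq_one_iff.mp h) hr1
    · exact h.ge)
  have hrp : r ^ p = 1 := orderOf_dvd_iff_pow_eq_one.mp (hR₀ ▸ Subgroup.orderOf_dvd_natCard R₀ hrR₀)
  have hCr : ∀ x : R, Commute x r → x ∈ R₀ ⊔ R₁ := by
    intro x hx
    rw [hsup, ← hgen₀]
    exact Subgroup.mem_centralizer_iff.mpr fun w hw => by
      obtain ⟨i, rfl⟩ := Subgroup.mem_zpowers_iff.mp hw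
      exact (hx.zpow_right i).eq.symm
  have hnorm : R₁ ≤ Subgroup.normalizer (R₀ : Set R) := fun b hb =>
    Subgroup.centralizer_le_normalizer _ (Subgroup.mem_centralizer_iff.mpr fun a ha => hcomm a ha b hb)
  have hC0 : ∀ x ∈ R₀ ⊔ R₁, ∀ y ∈ R₀ ⊔ R₁, Commute x y := by
    haveI : IsMulCommutative R₁ := IsCyclic.isMulCommutative
    haveI : Fact (Nat.card R₀).Prime := ⟨hR₀ ▸ hp.out⟩
    haveI : IsCyclic R₀ := isCyclic_of_prime_card rfl
    haveI : IsMulCommutative R₀ := IsCyclic.isMulCommutative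
    intro x hx y hy
    rw [← SetLike.mem_coe, Subgroup.coe_mul_of_right_le_normalizer_left R₀ R₁ hnorm] at hx hy
    obtain ⟨a, ha, b, hb, rfl⟩ := Set.mem_mul.mp hx
    obtain ⟨a', ha', b', hb', rfl⟩ := Set.mem_mul.mp hy
    have haa : Commute a a' := congrArg Subtype.val (mul_comm' (⟨a, ha⟩ : R₀) ⟨a', ha'⟩)
    have hbb : Commute b b' := congrArg Subtype.val (mul_comm' (⟨b, hb⟩ : R₁) ⟨b', hb'⟩)
    exact Commute.mul_left (haa.mul_right (hcomm a ha b' hb'))
      ((show Commute b a' from (hcomm a' ha' b hb).symm).mul_right hbb)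
  let E : Subgroup R :=
    { carrier := {x | x ∈ R₀ ⊔ R₁ ∧ x ^ p = 1}
      one_mem' := ⟨one_mem _, one_pow _⟩
      mul_mem' := fun {a b} ha hb => ⟨mul_mem ha.1 hb.1, by rw [(hC0 a ha.1 b hb.1).mul_pow, ha.2, hb.2, one_mul]⟩
      inv_mem' := fun {a} ha => ⟨inv_mem ha.1, by rw [inv_pow, ha.2, inv_one]⟩ }
  have hmemE : ∀ x : R, Commute x r → x ^ p = 1 → x ∈ E := fun x hx hxp => ⟨hCr x hx, hxp⟩
  have hrE : r ∈ E := hmemE r (Commute.refl r) hrp
  have hEr : ∀ x ∈ E, Commute x r := fun x hx => hC0 x hx.1 r (Subgroup.mem_sup_left hrR₀)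
  have hE2 : Nat.card E ≤ p ^ 2 := by
    have h1 := Subgroup.relIndex_mul_relIndex ⊥ (E ⊓ R₁) E bot_le inf_le_left
    rw [Subgroup.relIndex_bot_left, Subgroup.relIndex_bot_left, Subgroup.inf_relIndex_left] at h1
    rw [← h1, sq]
    refine Nat.mul_le_mul ?_ ?_
    · haveI : IsCyclic ↥(E ⊓ R₁) :=
        isCyclic_of_injective (Subgroup.inclusion inf_le_right) (Subgroup.inclusion_injective _)
      rw [← IsCyclic.exponent_eq_card]
      exact Nat.le_of_dvd hp.out.pos (Monoid.exponent_dvd_of_forall_pow_eq_one fun x => Subtype.ext (by simpa using x.2.1.2))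
    · refine (Subgroup.relIndex_le_of_le_right (show E ≤ R₀ ⊔ R₁ from fun x hx => hx.1)
        Subgroup.index_ne_zero_of_finite).trans ?_
      rw [← hR₀]
      refine Nat.card_le_card_of_surjective
        (fun a : R₀ => (QuotientGroup.mk ⟨(a : R), Subgroup.mem_sup_left a.2⟩ :
          ↥(R₀ ⊔ R₁) ⧸ R₁.subgroupOf (R₀ ⊔ R₁))) ?_
      intro y
      obtain ⟨⟨w, hw⟩, rfl⟩ := QuotientGroup.mk_surjective y
      have hw' := hw
      rw [← SetLike.mem_coe, Subgroup.coe_mul_of_right_le_normalizer_left R₀ R₁ hnorm] at hw'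
      obtain ⟨a, ha, b, hb, rfl⟩ := Set.mem_mul.mp hw'
      exact ⟨⟨a, ha⟩, QuotientGroup.eq.mpr (by simpa [Subgroup.mem_subgroupOf] using hb)⟩
  -- central elements of order `p` are outside `R₀`
  have hcz : ∀ x : R, x ∈ Subgroup.center R → x ≠ 1 → x ^ p = 1 → x ∈ E ∧ x ∉ R₀ := by
    intro x hx hx1 hxp
    refine ⟨hmemE x (Subgroup.mem_center_iff.mp hx r).symm hxp, fun hx0 => hr fun A hAc hAp => ?_⟩
    have hcen : r ∈ Subgroup.center R := by
      have : Subgroup.zpowers x = R₀ := Subgroup.eq_of_le_of_card_ge (Subgroup.zpowers_le.mpr hx0) (by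
        rw [hR₀, Nat.card_zpowers, orderOf_eq_prime hxp hx1])
      exact (this ▸ Subgroup.zpowers_le.mpr hx) hrR₀
    exact (Subgroup.card_le_of_le (fun a ha => hmemE a (Subgroup.mem_center_iff.mp hcen a) (hAp a ha) : A ≤ E)).trans hE2
  -- a normal elementary abelian subgroup avoids `r`
  have havoid : ∀ V : Subgroup R, V.Normal → (∀ x ∈ V, x ^ p = 1) → IsMulCommutative V → r ∉ V := by
    intro V hVn hVp hVc hrV
    haveI := hVn
    obtain ⟨z, hzV, hz1, hzp, hzc⟩ := RankTwoStable.exists_central (R := (⊤ : Subgroup R)) (hR.to_subgroup _)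
      (le_top : V ≤ ⊤) (by rw [Subgroup.normalizer_eq_top]) (fun h => hr1 (Subgroup.mem_bot.mp (h ▸ hrV)))
    have hzc' : z ∈ Subgroup.center R :=
      Subgroup.mem_center_iff.mpr fun g => Subgroup.mem_centralizer_iff.mp hzc g (Subgroup.mem_top g)
    have hVE : V = E := by
      refine Subgroup.eq_of_le_of_card_ge (fun x hx =>
        hmemE x (congrArg Subtype.val (hVc.is_comm.comm ⟨x, hx⟩ ⟨r, hrV⟩)) (hVp x hx)) (hE2.trans ?_)
      obtain ⟨i, hi⟩ := (hR.to_subgroup V).exists_card_eq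
      have hlt : Nat.card R₀ < Nat.card V := Set.ncard_lt_ncard (SetLike.coe_ssubset_coe.mpr
        (lt_of_le_of_ne (hgen₀ ▸ Subgroup.zpowers_le.mpr hrV) fun h => (hcz z hzc' hz1 hzp).2 (h ▸ hzV)))
      rw [hR₀, hi] at hlt
      rw [hi]
      exact Nat.pow_le_pow_right hp.out.pos ((Nat.pow_lt_pow_iff_right hp.out.one_lt).mp (by rwa [pow_one]))
    refine hr fun A hAc hAp => ?_
    have hVT : ⁅V, (⊤ : Subgroup R)⁆ < V := Coprime.commutator_lt_of_isPGroup (hR.to_subgroup _) (hR.to_subgroup _)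
      (by rw [Subgroup.normalizer_eq_top]) (fun h => hr1 (Subgroup.mem_bot.mp (h ▸ hrV)))
    have hVTc : Nat.card ↥⁅V, (⊤ : Subgroup R)⁆ ≤ p := by
      obtain ⟨i, hi⟩ := (hR.to_subgroup ⁅V, (⊤ : Subgroup R)⁆).exists_card_eq
      have hlt : Nat.card ↥⁅V, (⊤ : Subgroup R)⁆ < p ^ 2 := lt_of_lt_of_le
        (Set.ncard_lt_ncard (SetLike.coe_ssubset_coe.mpr hVT)) (hVE ▸ hE2)
      rw [hi] at hlt ⊢
      calc p ^ i ≤ p ^ 1 := Nat.pow_le_pow_right hp.out.pos (by
            have := (Nat.pow_lt_pow_iff_right hp.out.one_lt).mp hlt; omega)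
        _ = p := pow_one p
    have h2 := card_le_mul A ⁅V, (⊤ : Subgroup R)⁆ r fun d _ => by
      rw [Subgroup.commutator_comm]
      exact Subgroup.commutator_mem_commutator (Subgroup.mem_top d) hrV
    by_contra hA
    have hA3 : p ^ 3 ≤ Nat.card A := by
      obtain ⟨i, hi⟩ := (hR.to_subgroup A).exists_card_eq
      rw [hi] at hA ⊢
      exact Nat.pow_le_pow_right hp.out.pos ((Nat.pow_lt_pow_iff_right hp.out.one_lt).mp (not_le.mp hA))
    set AC := A ⊓ Subgroup.centralizer ({r} : Set R) with hAC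
    have hACV : AC ≤ V := fun x hx => hVE ▸ hmemE x (Subgroup.mem_centralizer_singleton_iff.mp hx.2) (hAp x hx.1)
    have hACc : p ^ 2 ≤ Nat.card AC := by
      refine Nat.le_of_mul_le_mul_right ?_ hp.out.pos
      calc p ^ 2 * p = p ^ 3 := by ring
        _ ≤ Nat.card AC * Nat.card ↥⁅V, (⊤ : Subgroup R)⁆ := hA3.trans h2
        _ ≤ Nat.card AC * p := Nat.mul_le_mul_left _ hVTc
    have hrA : r ∈ A := by
      have hEq : AC = V := Subgroup.eq_of_le_of_card_ge hACV ((hVE ▸ hE2).trans hACc)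
      exact ((hEq ▸ hrV : r ∈ AC)).1
    have hAE : A ≤ E := fun x hx => hmemE x (congrArg Subtype.val (hAc.is_comm.comm ⟨x, hx⟩ ⟨r, hrA⟩)) (hAp x hx)
    exact hA ((Subgroup.card_le_of_le hAE).trans hE2)
  obtain ⟨D, hDc, ⟨hDp, hD2⟩, hDmax⟩ := CharOmega.exists_maximal hp2 hR
  haveI := hDc
  let L : ℕ → Subgroup R := fun i => (fun K => ⁅K, (⊤ : Subgroup R)⁆)^[i] D
  have hLs : ∀ i, L (i + 1) = ⁅L i, (⊤ : Subgroup R)⁆ := fun i => Function.iterate_succ_apply' _ i D
  have hL0 : L 0 = D := rfl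
  have hLc : ∀ i, (L i).Characteristic := by
    intro i
    induction i with
    | zero => exact hDc
    | succ i ih =>
      haveI := ih
      refine Subgroup.characteristic_iff_map_le.mpr fun e => ?_
      rw [hLs, Subgroup.map_commutator]
      exact Subgroup.commutator_mono (Subgroup.characteristic_iff_map_le.mp ih e) le_top
  have hanti : ∀ i, L (i + 1) ≤ L i := fun i => by
    haveI := hLc i
    rw [hLs]; exact Subgroup.commutator_le_left _ _
  have hLD : ∀ i, L i ≤ D := by
    intro i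
    induction i with
    | zero => exact le_rfl
    | succ i ih => exact (hanti i).trans ih
  have hlt : ∀ i, L i ≠ ⊥ → L (i + 1) < L i := fun i hi => by
    haveI := hLc i
    rw [hLs]
    exact Coprime.commutator_lt_of_isPGroup (hR.to_subgroup _) (hR.to_subgroup _)
      (by rw [Subgroup.normalizer_eq_top]) hi
  have hN : L (Nat.card D) = ⊥ := by
    have h : ∀ i, L i = ⊥ ∨ Nat.card (L i) + i ≤ Nat.card D := by
      intro i
      induction i with
      | zero => exact Or.inr (by simp [hL0])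
      | succ i ih =>
        by_cases hb : L i = ⊥
        · exact Or.inl (le_bot_iff.mp (hb ▸ hanti i))
        · refine Or.inr ?_
          have hlt' : Nat.card (L (i + 1)) < Nat.card (L i) :=
            Set.ncard_lt_ncard (SetLike.coe_ssubset_coe.mpr (hlt i hb))
          have := ih.resolve_left hb
          omega
    rcases h (Nat.card D) with h' | h'
    · exact h'
    · have := Nat.card_pos (α := L (Nat.card D))
      omega
  refine ⟨L, Nat.card D, hN, hanti, hLc, fun i => ?_, fun x hx hxp => hDmax x hx hxp⟩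
  have hidx : ∃ k, (L (i + 1)).relIndex (L i) = p ^ k :=
    (hR.to_subgroup (L i)).index ((L (i + 1)).subgroupOf (L i))
  obtain ⟨k, hk⟩ := hidx
  suffices hk1 : (L (i + 1)).relIndex (L i) ≤ p by
    rw [hk] at hk1 ⊢
    refine (pow_dvd_pow p ?_).trans (pow_one p).dvd
    exact (Nat.pow_le_pow_iff_right hp.out.one_lt).mp (hk1.trans (pow_one p).ge)
  have hbound : r ∉ L i → (L (i + 1)).relIndex (L i) ≤ p := by
    intro hri
    have h1 := card_le_mul (L i) (L (i + 1)) r fun d hd => by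
      rw [hLs]; exact Subgroup.commutator_mem_commutator hd (Subgroup.mem_top r)
    have hm := Subgroup.relIndex_mul_relIndex ⊥ (L (i + 1)) (L i) bot_le (hanti i)
    rw [Subgroup.relIndex_bot_left, Subgroup.relIndex_bot_left] at hm
    have h2 : Nat.card ↥(L i ⊓ Subgroup.centralizer ({r} : Set R)) ≤ p := by
      have hle : L i ⊓ Subgroup.centralizer ({r} : Set R) ≤ E := fun x hx =>
        hmemE x (Subgroup.mem_centralizer_singleton_iff.mp hx.2) (hDp x (hLD i hx.1))
      have hlt' : Nat.card ↥(L i ⊓ Subgroup.centralizer ({r} : Set R)) < p ^ 2 :=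
        lt_of_lt_of_le (Set.ncard_lt_ncard (SetLike.coe_ssubset_coe.mpr
          (lt_of_le_of_ne hle fun h => hri (h.ge hrE).1))) hE2
      obtain ⟨j, hj⟩ := (hR.to_subgroup (L i ⊓ Subgroup.centralizer ({r} : Set R))).exists_card_eq
      rw [hj] at hlt' ⊢
      calc p ^ j ≤ p ^ 1 := Nat.pow_le_pow_right hp.out.pos (by
            have := (Nat.pow_lt_pow_iff_right hp.out.one_lt).mp hlt'; omega)
        _ = p := pow_one p
    refine Nat.le_of_mul_le_mul_left ?_ (Nat.card_pos (α := L (i + 1)))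
    rw [hm, mul_comm (Nat.card (L (i + 1)))]
    exact h1.trans (Nat.mul_le_mul_right _ h2)
  by_cases hrD : r ∈ D
  swap
  · exact hbound fun h => hrD (hLD i h)
  -- `D` is extraspecial of order `p ^ 3`
  haveI := CharOmega.centralizer_characteristic D
  haveI := CharOmega.inf_characteristic D (Subgroup.centralizer (D : Set R))
  set ZD := D ⊓ Subgroup.centralizer (D : Set R) with hZD
  have hZDp : Nat.card ZD ≤ p := by
    have hZDr : r ∉ ZD := havoid ZD inferInstance (fun x hx => hDp x hx.1)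
      ⟨⟨fun a b => Subtype.ext (Subgroup.mem_centralizer_iff.mp b.2.2 a a.2.1)⟩⟩
    have hle : ZD ≤ E := fun x hx => hmemE x (Subgroup.mem_centralizer_iff.mp hx.2 r hrD).symm (hDp x hx.1)
    have hlt' : Nat.card ZD < p ^ 2 := lt_of_lt_of_le (Set.ncard_lt_ncard (SetLike.coe_ssubset_coe.mpr
      (lt_of_le_of_ne hle fun h => hZDr (h.ge hrE)))) hE2
    obtain ⟨j, hj⟩ := (hR.to_subgroup ZD).exists_card_eq
    rw [hj] at hlt' ⊢
    calc p ^ j ≤ p ^ 1 := Nat.pow_le_pow_right hp.out.pos (by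
          have := (Nat.pow_lt_pow_iff_right hp.out.one_lt).mp hlt'; omega)
      _ = p := pow_one p
  have hDnc : ¬ IsMulCommutative D := fun h => havoid D inferInstance hDp h hrD
  have hD3 : Nat.card D ≤ p ^ 3 := by
    have h1 := card_le_mul D ZD r fun d hd =>
      ⟨Subgroup.commutator_le_self D (Subgroup.commutator_mem_commutator hd hrD), hD2 d hd r hrD⟩
    refine h1.trans ?_
    calc Nat.card ↥(D ⊓ Subgroup.centralizer ({r} : Set R)) * Nat.card ZD ≤ p ^ 2 * p := Nat.mul_le_mul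
          ((Subgroup.card_le_of_le (fun x (hx : x ∈ D ⊓ Subgroup.centralizer ({r} : Set R)) =>
            hmemE x (Subgroup.mem_centralizer_singleton_iff.mp hx.2) (hDp x hx.1))).trans hE2) hZDp
      _ = p ^ 3 := by ring
  rcases i with _ | i
  swap
  · refine hbound fun h => ?_
    have h1 : r ∈ L 1 := by
      have : ∀ j, L (j + 1) ≤ L 1 := by
        intro j
        induction j with
        | zero => exact le_rfl
        | succ j ih => exact (hanti (j + 1)).trans ih
      exact this i h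
    have hDne : D ≠ ⊥ := fun e => hr1 (Subgroup.mem_bot.mp (e ▸ hrD))
    have hlt1 : Nat.card (L 1) < Nat.card D := Set.ncard_lt_ncard (SetLike.coe_ssubset_coe.mpr (hlt 0 hDne))
    haveI := hLc 1
    refine havoid (L 1) inferInstance (fun x hx => hDp x (hLD 1 hx)) ?_ h1
    exact CharOmega.commutative_of_card_le hR (by
      obtain ⟨j, hj⟩ := (hR.to_subgroup (L 1)).exists_card_eq
      have := lt_of_lt_of_le hlt1 hD3
      rw [hj] at this ⊢
      exact Nat.pow_le_pow_right hp.out.pos (by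
        have := (Nat.pow_lt_pow_iff_right hp.out.one_lt).mp this; omega))
  -- the top layer
  by_contra hbad
  haveI := hLc 1
  have hm := Subgroup.relIndex_mul_relIndex ⊥ (L 1) (L 0) bot_le (hanti 0)
  rw [Subgroup.relIndex_bot_left, Subgroup.relIndex_bot_left] at hm
  have hL1 : Nat.card (L 1) ≤ p := by
    have hk2 : p ^ 2 ≤ p ^ k := by
      refine Nat.pow_le_pow_right hp.out.pos ?_
      have : p ^ 1 < p ^ k := by rw [pow_one, ← hk]; exact not_le.mp hbad
      exact (Nat.pow_lt_pow_iff_right hp.out.one_lt).mp this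
    refine Nat.le_of_mul_le_mul_right ?_ (pow_pos hp.out.pos 2)
    calc Nat.card (L 1) * p ^ 2 ≤ Nat.card (L 1) * p ^ k := Nat.mul_le_mul_left _ hk2
      _ = Nat.card (L 0) := by rw [← hk]; exact hm
      _ ≤ p ^ 3 := hD3
      _ = p * p ^ 2 := by ring
  -- then `R = D C(D)` has rank at most two
  obtain ⟨w, hwD, hwr⟩ : ∃ w ∈ D, ¬ Commute w r := by
    by_contra hall
    push Not at hall
    refine hDnc ⟨⟨fun a b => Subtype.ext ?_⟩⟩
    exact (hC0 _ (hCr a (hall a a.2)) _ (hCr b (hall b b.2))).eq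
  set K := Subgroup.centralizer (D : Set R) with hK
  have hgenD : ∀ u : R, Commute u r → Commute u w → u ∈ K := by
    intro u hur huw
    refine Subgroup.mem_centralizer_iff.mpr fun v hv => ?_
    set C := Subgroup.centralizer ({u} : Set R) ⊓ D with hC
    have hCc : C ≤ D := inf_le_right
    have hrC : r ∈ C := ⟨Subgroup.mem_centralizer_singleton_iff.mpr hur.eq.symm, hrD⟩
    have hwC : w ∈ C := ⟨Subgroup.mem_centralizer_singleton_iff.mpr huw.eq.symm, hwD⟩
    have hCnc : ¬ IsMulCommutative C := fun h =>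
      hwr (congrArg Subtype.val (h.is_comm.comm ⟨w, hwC⟩ ⟨r, hrC⟩))
    have hCD : C = D := by
      refine Subgroup.eq_of_le_of_card_ge hCc (hD3.trans ?_)
      obtain ⟨j, hj⟩ := (hR.to_subgroup C).exists_card_eq
      rw [hj]
      refine Nat.pow_le_pow_right hp.out.pos ?_
      by_contra hj2
      exact hCnc (CharOmega.commutative_of_card_le hR (by
        rw [hj]; exact Nat.pow_le_pow_right hp.out.pos (by omega)))
    exact Subgroup.mem_centralizer_singleton_iff.mp (hCD.ge hv).1
  have hKidx : ∀ v ∈ D, (Subgroup.centralizer ({v} : Set R)).relIndex (⊤ : Subgroup R) ≤ p := by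
    intro v hv
    have h1 := card_le_mul (⊤ : Subgroup R) (L 1) v fun d _ => by
      rw [hLs, hL0, Subgroup.commutator_comm]
      exact Subgroup.commutator_mem_commutator (Subgroup.mem_top d) hv
    rw [top_inf_eq] at h1
    have h2 := Subgroup.relIndex_mul_relIndex ⊥ (Subgroup.centralizer ({v} : Set R)) ⊤ bot_le le_top
    rw [Subgroup.relIndex_bot_left, Subgroup.relIndex_bot_left] at h2
    refine Nat.le_of_mul_le_mul_left ?_ (Nat.card_pos (α := Subgroup.centralizer ({v} : Set R)))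
    rw [h2]
    exact h1.trans (Nat.mul_le_mul_left _ hL1)
  have hKi : K.relIndex ⊤ ≤ p ^ 2 := by
    refine (Subgroup.relIndex_le_of_le_left (show Subgroup.centralizer ({r} : Set R) ⊓
      Subgroup.centralizer ({w} : Set R) ≤ K from fun u hu => hgenD u
        (Subgroup.mem_centralizer_singleton_iff.mp hu.1) (Subgroup.mem_centralizer_singleton_iff.mp hu.2))
      Subgroup.index_ne_zero_of_finite).trans ?_
    exact Subgroup.relIndex_inf_le.trans (by rw [sq]; exact Nat.mul_le_mul (hKidx r hrD) (hKidx w hwD))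
  have hDK : D ⊔ K = ⊤ := by
    have hD2 : p ^ 2 ≤ K.relIndex D := by
      have h1 := Subgroup.relIndex_mul_relIndex ⊥ ZD D bot_le inf_le_left
      rw [Subgroup.relIndex_bot_left, Subgroup.relIndex_bot_left, hZD, Subgroup.inf_relIndex_left] at h1
      by_contra hlt'
      have hlt3 : Nat.card D < p ^ 3 := by
        rw [← h1, show p ^ 3 = p * p ^ 2 by ring]
        exact Nat.mul_lt_mul_of_le_of_lt hZDp (not_le.mp hlt') hp.out.pos
      refine hDnc (CharOmega.commutative_of_card_le hR ?_)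
      obtain ⟨j, hj⟩ := (hR.to_subgroup D).exists_card_eq
      rw [hj] at hlt3 ⊢
      exact Nat.pow_le_pow_right hp.out.pos (by
        have := (Nat.pow_lt_pow_iff_right hp.out.one_lt).mp hlt3; omega)
    have hm' := Subgroup.relIndex_mul_relIndex K (D ⊔ K) ⊤ le_sup_right le_top
    have h4 : K.relIndex D ≤ K.relIndex (D ⊔ K) :=
      Subgroup.relIndex_le_of_le_right le_sup_left Subgroup.index_ne_zero_of_finite
    have h5 : 0 < (D ⊔ K).relIndex ⊤ := Nat.pos_of_ne_zero Subgroup.index_ne_zero_of_finite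
    have h7 : p ^ 2 * (D ⊔ K).relIndex ⊤ ≤ p ^ 2 * 1 := by
      rw [mul_one]
      exact (Nat.mul_le_mul_right _ (hD2.trans h4)).trans (hm'.le.trans hKi)
    exact top_le_iff.mp (Subgroup.relIndex_eq_one.mp
      (le_antisymm (Nat.le_of_mul_le_mul_left h7 (pow_pos hp.out.pos 2)) h5))
  refine hr fun A hAc hAp => ?_
  have hAD : A ≤ D := by
    intro x hx
    have hx' : x ∈ ((D ⊔ K : Subgroup R) : Set R) := by rw [hDK]; exact Subgroup.mem_top x
    rw [Subgroup.coe_mul_of_left_le_normalizer_right D K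
      ((le_top : D ≤ ⊤).trans (by rw [Subgroup.normalizer_eq_top]))] at hx'
    obtain ⟨d, hd, u, hu, rfl⟩ := Set.mem_mul.mp hx'
    have hdu : Commute d u := Subgroup.mem_centralizer_iff.mp hu d hd
    have hxp := hAp _ hx
    rw [hdu.mul_pow, hDp d hd, one_mul] at hxp
    exact mul_mem hd (hDmax u hu hxp)
  by_contra hA
  refine hDnc ?_
  have hAeq : A = D := by
    refine Subgroup.eq_of_le_of_card_ge hAD (hD3.trans ?_)
    obtain ⟨j, hj⟩ := (hR.to_subgroup A).exists_card_eq
    rw [hj] at hA ⊢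
    exact Nat.pow_le_pow_right hp.out.pos ((Nat.pow_lt_pow_iff_right hp.out.one_lt).mp (not_le.mp hA))
  exact hAeq ▸ hAc

variable {G : Type*} [Group G] [Finite G]

/-- Detection on a characteristic subgroup containing the elements of order `p` of its centraliser. -/
theorem centralizes_of_fix (hp2 : p ≠ 2) {S A : Subgroup G} (hS : IsPGroup p S)
    (hAS : A ≤ Subgroup.normalizer (S : Set G)) (D : Subgroup S) [D.Characteristic]
    (hD : ∀ x ∈ Subgroup.centralizer (D : Set S), x ^ p = 1 → x ∈ D)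
    (a : A) (hcop : (orderOf a).Coprime p) (hfix : ∀ d ∈ D, Coprime.conjHom hAS a d = d) :
    (a : G) ∈ Subgroup.centralizer (S : Set G) := by
  set α := Coprime.conjHom hAS a with hα
  haveI := CharOmega.centralizer_characteristic D
  set K := Subgroup.centralizer (D : Set S) with hK
  set H := K.map S.subtype with hH
  set B := Subgroup.zpowers (a : G) with hB
  have hBn : B ≤ Subgroup.normalizer (H : Set G) := by
    rw [hB, Subgroup.zpowers_le]
    refine Subgroup.mem_normalizer_iff.mpr fun g => ⟨?_, ?_⟩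
    · rintro ⟨k, hk, rfl⟩
      exact ⟨α k, CharOmega.map_mem α hk, Coprime.conjHom_apply hAS a k⟩
    · rintro ⟨k, hk, hkg⟩
      refine ⟨α.symm k, CharOmega.map_mem α.symm hk, ?_⟩
      have h1 := Coprime.conjHom_apply hAS a (α.symm k)
      rw [MulEquiv.apply_symm_apply] at h1
      show ((α.symm k : S) : G) = g
      have h2 : (a : G) * ((α.symm k : S) : G) * (a : G)⁻¹ = a * g * (a : G)⁻¹ := h1.symm.trans hkg
      simpa using h2
  have hBc : (Nat.card B).Coprime p := by rw [hB, Nat.card_zpowers, Subgroup.orderOf_coe]; exact hcop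
  have hK1 := OmegaLemma.le_centralizer_of_fix_orderP hp2 (hS.to_le (Subgroup.map_subtype_le K)) hBn hBc (by
    rintro _ ⟨k, hk, rfl⟩ hkp
    rw [hB, Subgroup.zpowers_le, Subgroup.mem_centralizer_singleton_iff]
    have hkD : k ∈ D := hD k hk (Subtype.ext (by simpa using hkp))
    have h1 := Coprime.conjHom_apply hAS a k
    rw [hfix k hkD] at h1
    exact (mul_inv_eq_iff_eq_mul.mp h1.symm))
  have hKfix : ∀ k ∈ K, α k = k := by
    intro k hk
    refine Subtype.ext ?_
    rw [Coprime.conjHom_apply]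
    have := Subgroup.mem_centralizer_iff.mp (hK1 (Subgroup.mem_zpowers (a : G))) k ⟨k, hk, rfl⟩
    rw [← this, mul_inv_cancel_right]
  refine Subgroup.mem_centralizer_iff.mpr fun r hr => ?_
  set s : S := ⟨r, hr⟩ with hs
  set c := s⁻¹ * α s with hc
  have hcK : c ∈ K := Subgroup.mem_centralizer_iff.mpr fun d hd => by
    have hd' : s * d * s⁻¹ ∈ D := (inferInstance : D.Normal).conj_mem d hd s
    have h1 := hfix _ hd'
    rw [map_mul, map_mul, map_inv, hfix d hd] at h1
    calc d * c = s⁻¹ * (s * d * s⁻¹) * α s := by rw [hc]; group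
      _ = s⁻¹ * (α s * d * (α s)⁻¹) * α s := by rw [h1]
      _ = c * d := by rw [hc]; group
  have hiter : ∀ k : ℕ, (α ^ k) s = s * c ^ k := by
    intro k
    induction k with
    | zero => simp
    | succ k ihk =>
      rw [pow_succ', MulAut.mul_apply, ihk, map_mul, map_pow, hKfix c hcK, pow_succ',
        show α s = s * c by rw [hc, mul_inv_cancel_left], mul_assoc]
  have hαo : α ^ orderOf a = 1 := by rw [hα, ← map_pow, pow_orderOf_eq_one, map_one]
  have hc1 : c = 1 := by
    have h1 := hiter (orderOf a)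
    rw [hαo, MulAut.one_apply] at h1
    have h1' : c ^ orderOf a = 1 := by simpa using h1.symm
    obtain ⟨k, hk⟩ := hS c
    exact orderOf_eq_one_iff.mp (Nat.eq_one_of_dvd_coprimes (hcop.pow_right k)
      (orderOf_dvd_of_pow_eq_one h1') (orderOf_dvd_of_pow_eq_one hk))
  rw [hc, inv_mul_eq_one] at hc1
  have h2 := congrArg Subtype.val hc1
  rw [Coprime.conjHom_apply, eq_mul_inv_iff_mul_eq] at h2
  exact h2

/-- The `p'`-elements of the derived group and, in rank three, the exponent. -/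
theorem detect (hp2 : p ≠ 2) {S A : Subgroup G} (hS : IsPGroup p S) (hnar : Cfsg.IsNarrow p S)
    (hAS : A ≤ Subgroup.normalizer (S : Set G)) (hAs : Group.IsSolvable A) (hAodd : Odd (Nat.card A))
    (hfaith : A ⊓ Subgroup.centralizer (S : Set G) = ⊥) :
    (∀ a ∈ _root_.commutator A, (orderOf a).Coprime p → a = 1) ∧
      (¬ Cfsg.PRankLE p 2 S → ∀ a : A, (orderOf a).Coprime p → a ^ (p - 1) = 1) := by
  have hone : ∀ a : A, (a : G) ∈ Subgroup.centralizer (S : Set G) → a = 1 := fun a ha =>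
    Subtype.ext (Subgroup.mem_bot.mp (hfaith ▸ Subgroup.mem_inf.mpr ⟨a.2, ha⟩))
  by_cases hr : Cfsg.PRankLE p 2 S
  · refine ⟨fun a ha hcop => hone a ?_, fun h => absurd hr h⟩
    set H := S ⊔ A with hH
    haveI hsol : Group.IsSolvable H := Components.Signalizer.isSolvable_sup hAS
      (by haveI := hS.isNilpotent; infer_instance) hAs
    haveI hn : (S.subgroupOf H).Normal := (Subgroup.normal_subgroupOf_iff_le_normalizer le_sup_left).mpr
      (sup_le Subgroup.le_normalizer hAS)
    have hodd : Odd (Nat.card H) := by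
      have h1 := Subgroup.card_eq_card_quotient_mul_card_subgroup (S.subgroupOf H)
      rw [Nat.card_congr (Subgroup.subgroupOfEquivOfLe (le_sup_left : S ≤ H)).toEquiv] at h1
      rw [h1]
      refine Odd.mul ?_ ?_
      · let f : A →* H ⧸ S.subgroupOf H := (QuotientGroup.mk' _).comp (Subgroup.inclusion le_sup_right)
        have hf : Function.Surjective f := by
          intro y
          obtain ⟨⟨v, hv⟩, rfl⟩ := QuotientGroup.mk'_surjective _ y
          obtain ⟨s, hs, b, hb, rfl⟩ := (Coprime.mem_sup_of_le_normalizer hAS).mp hv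
          refine ⟨⟨b, hb⟩, QuotientGroup.eq.mpr ?_⟩
          rw [Subgroup.mem_subgroupOf]
          show b⁻¹ * (s * b) ∈ S
          simpa [mul_assoc] using (Subgroup.mem_normalizer_iff''.mp (hAS hb) s).mp hs
        exact hAodd.of_dvd_nat (Subgroup.card_dvd_of_surjective f hf)
      · obtain ⟨k, hk⟩ := hS.exists_card_eq
        rw [hk]; exact (hp.out.odd_of_ne_two hp2).pow
    have hT : Cfsg.PRankLE p 2 (S.subgroupOf H) := by
      intro Q hQc hQe
      set f := (Subgroup.subgroupOfEquivOfLe (le_sup_left : S ≤ H)).toMonoidHom with hf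
      have h := Fusion.Thompson.isEA_map f (A := Q) ⟨hQc, hQe⟩
      have := hr _ h.1 h.2
      rwa [Subgroup.card_map_of_injective (Subgroup.subgroupOfEquivOfLe (le_sup_left : S ≤ H)).injective] at this
    set a₀ : H := Subgroup.inclusion le_sup_right a with ha₀
    have hmem : a₀ ∈ _root_.commutator H :=
      (map_commutator_eq (G := A) (Subgroup.inclusion (le_sup_right : A ≤ H))).le.trans
        (Subgroup.commutator_mono le_top le_top) (Subgroup.mem_map_of_mem _ ha)
    have hcop' : (orderOf a₀).Coprime p := by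
      rw [ha₀, orderOf_injective _ (Subgroup.inclusion_injective _)]; exact hcop
    have h := (RankTwo.coreAct hodd hp2 (S.subgroupOf H) (hS.comap_of_injective H.subtype H.subtype_injective)
      hT).1 a₀ hmem hcop'
    exact Subgroup.mem_centralizer_iff.mpr fun r hr' =>
      congrArg Subtype.val (Subgroup.mem_centralizer_iff.mp h ⟨r, Subgroup.mem_sup_left hr'⟩ hr')
  obtain ⟨L, N, hN, hanti, hLc, hidx, hdet⟩ := exists_series hp2 hS hnar hr
  haveI := hLc 0
  set φ := Coprime.conjHom hAS with hφ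
  have key : ∀ a : A, (orderOf a).Coprime p → (∀ i, ∀ x ∈ L i, x⁻¹ * φ a x ∈ L (i + 1)) → a = 1 :=
    fun a hcop hst => hone a (centralizes_of_fix hp2 hS hAS (L 0) hdet a hcop
      (fix_of_series hS (φ a) (hcop.coprime_dvd_left (orderOf_map_dvd φ a)) L N hN hanti hst))
  refine ⟨fun a ha hcop => key a hcop fun i => ?_, fun _ a hcop => key _
    (hcop.coprime_dvd_left (orderOf_pow_dvd _)) fun i => ?_⟩
  · haveI := hLc i
    haveI := hLc (i + 1)
    exact (trivial_on_layer (hanti i) (hidx i) φ).1 a ha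
  · haveI := hLc i
    haveI := hLc (i + 1)
    exact (trivial_on_layer (hanti i) (hidx i) φ).2 a

/-- The structure of a group acting faithfully on a narrow group. -/
theorem structure_faithful (hp2 : p ≠ 2) {S A : Subgroup G} (hS : IsPGroup p S) (hnar : Cfsg.IsNarrow p S)
    (hAS : A ≤ Subgroup.normalizer (S : Set G)) (hAs : Group.IsSolvable A) (hAodd : Odd (Nat.card A))
    (hfaith : A ⊓ Subgroup.centralizer (S : Set G) = ⊥) :
    _root_.commutator A ≤ Cfsg.pCore p A ∧ ((Cfsg.pCore p A).index).Coprime p := by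
  obtain ⟨hA, -⟩ := detect hp2 hS hnar hAS hAs hAodd hfaith
  have h1 : _root_.commutator A ≤ Cfsg.pCore p A := Solvable.Cores.le_pCore fun g => by
    obtain ⟨k, m, hm, hkm⟩ := Nat.exists_eq_pow_mul_and_not_dvd (orderOf_pos (g : A)).ne' p hp.out.ne_one
    have hcop : (orderOf ((g : A) ^ p ^ k)).Coprime p := by
      rw [orderOf_pow_of_dvd (pow_ne_zero _ hp.out.ne_zero) (hkm ▸ Dvd.intro _ rfl), hkm,
        Nat.mul_div_cancel_left _ (pow_pos hp.out.pos _)]
      exact ((hp.out.coprime_iff_not_dvd).mpr hm).symm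
    exact ⟨k, Subtype.ext (hA _ (pow_mem g.2 _) hcop)⟩
  refine ⟨h1, ?_⟩
  obtain ⟨P⟩ : Nonempty (Sylow p A) := inferInstance
  have hST : (P : Subgroup A) ≤ Cfsg.pCore p A := by
    haveI : ((P : Subgroup A) ⊔ Cfsg.pCore p A).Normal :=
      Subgroup.Normal.of_commutator_le (h := h1.trans le_sup_right)
    have : IsPGroup p ((P : Subgroup A) ⊔ Cfsg.pCore p A : Subgroup A) :=
      IsPGroup.to_sup_of_normal_right P.isPGroup' (Solvable.Cores.isPGroup_pCore p)
    exact le_sup_left.trans (Solvable.Cores.le_pCore this)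
  exact Nat.Coprime.coprime_dvd_left (Subgroup.index_dvd_of_le hST)
    ((hp.out.coprime_iff_not_dvd).mpr P.not_dvd_index).symm

/-- Fixed points of an element of prime order `q` on a subgroup it normalises. -/
theorem card_modEq_fixed {q : ℕ} [Fact q.Prime] {T : Subgroup G} {a : G} (haT : a ∈ Subgroup.normalizer (T : Set G))
    (haq : a ^ q = 1) : Nat.card T ≡ Nat.card ↥(T ⊓ Subgroup.centralizer ({a} : Set G)) [MOD q] := by
  set φ := Coprime.conjHom (Subgroup.zpowers_le.mpr haT) with hφ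
  set g : Subgroup.zpowers a := ⟨a, Subgroup.mem_zpowers a⟩ with hg
  set H := Subgroup.zpowers (φ g) with hH
  have hHq : IsPGroup q H := by
    have hdvd : orderOf (φ g) ∣ q := orderOf_dvd_of_pow_eq_one (by
      rw [← map_pow, show g ^ q = 1 from Subtype.ext (by simpa [hg] using haq), map_one])
    rcases (Nat.dvd_prime (Fact.out : q.Prime)).mp hdvd with h | h
    · exact IsPGroup.of_card (n := 0) (by rw [hH, Nat.card_zpowers, h, pow_zero])
    · exact IsPGroup.of_card (n := 1) (by rw [hH, Nat.card_zpowers, h, pow_one])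
  suffices e : MulAction.fixedPoints H T ≃ ↥(T ⊓ Subgroup.centralizer ({a} : Set G)) from
    (hHq.card_modEq_card_fixedPoints T).trans (by rw [Nat.card_congr e])
  have hmem : ∀ t : T, t ∈ MulAction.fixedPoints H T ↔ (t : G) ∈ T ⊓ Subgroup.centralizer ({a} : Set G) := by
    intro t
    have happ : ((φ g t : T) : G) = a * t * a⁻¹ := Coprime.conjHom_apply _ g t
    constructor
    · intro h
      refine Subgroup.mem_inf.mpr ⟨t.2, Subgroup.mem_centralizer_singleton_iff.mpr ?_⟩
      have h1 : φ g t = t := h ⟨φ g, Subgroup.mem_zpowers _⟩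
      rw [h1] at happ
      exact (eq_mul_inv_iff_mul_eq.mp happ)
    · intro h ⟨b, hb⟩
      have hst : H ≤ MulAction.stabilizer (MulAut T) t := Subgroup.zpowers_le.mpr (show φ g • t = t from
        Subtype.ext (by
          show ((φ g t : T) : G) = t
          rw [happ, ← Subgroup.mem_centralizer_singleton_iff.mp h.2, mul_inv_cancel_right]))
      exact hst hb
  exact { toFun := fun t => ⟨((t : T) : G), (hmem t.1).mp t.2⟩
          invFun := fun t => ⟨⟨(t : G), t.2.1⟩, (hmem ⟨(t : G), t.2.1⟩).mpr t.2⟩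
          left_inv := fun t => rfl
          right_inv := fun t => rfl }

/-- An operator group of prime order not dividing `p (p - 1)`. -/
theorem prime_operators (hp2 : p ≠ 2) {S A : Subgroup G} (hS : IsPGroup p S) (hnar : Cfsg.IsNarrow p S)
    (hAS : A ≤ Subgroup.normalizer (S : Set G)) (hAodd : Odd (Nat.card A))
    (hfaith : A ⊓ Subgroup.centralizer (S : Set G) = ⊥) (hq : (Nat.card A).Prime)
    (hndvd : ¬ Nat.card A ∣ p * (p - 1)) :
    2 * Nat.card A ∣ p + 1 ∧ (⁅S, A⁆ = S → ¬ IsMulCommutative S → Nat.card S = p ^ 3) := by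
  set q := Nat.card A with hq'
  haveI := Fact.mk hq
  haveI : IsCyclic A := isCyclic_of_prime_card hq'.symm
  have hAs : Group.IsSolvable A := by
    haveI : IsMulCommutative A := IsCyclic.isMulCommutative
    exact Group.isSolvable_of_comm fun a b => mul_comm' a b
  have hqp : q ≠ p := fun h => hndvd (h ▸ Dvd.intro _ rfl)
  have hq1 : ¬ q ∣ p - 1 := fun h => hndvd (Dvd.dvd.mul_left h p)
  obtain ⟨a, ha⟩ := exists_prime_orderOf_dvd_card' (G := A) q dvd_rfl
  have ha1 : a ≠ 1 := fun h => hq.ne_one (by rw [← ha, h, orderOf_one])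
  have hgen : Subgroup.zpowers (a : G) = A := Subgroup.eq_of_le_of_card_ge (Subgroup.zpowers_le.mpr a.2)
    (by rw [Nat.card_zpowers, Subgroup.orderOf_coe, ha])
  have hcop : (orderOf a).Coprime p := by rw [ha]; exact (Nat.coprime_primes hq hp.out).mpr hqp
  have hr : Cfsg.PRankLE p 2 S := by
    by_contra hr
    have := orderOf_dvd_of_pow_eq_one ((detect hp2 hS hnar hAS hAs hAodd hfaith).2 hr a hcop)
    exact hq1 (ha ▸ this)
  obtain ⟨D, hDc, ⟨hDp, hD2⟩, hDmax⟩ := CharOmega.exists_maximal hp2 hS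
  haveI := hDc
  haveI := CharOmega.centralizer_characteristic D
  haveI := CharOmega.inf_characteristic D (Subgroup.centralizer (D : Set S))
  set ZD := D ⊓ Subgroup.centralizer (D : Set S) with hZD
  set T := D.map S.subtype with hT
  set Z := ZD.map S.subtype with hZ
  have hnorm : ∀ K : Subgroup S, K.Characteristic → (a : G) ∈ Subgroup.normalizer (K.map S.subtype : Set G) := by
    intro K hK
    have hle : (K.map S.subtype).map (MulAut.conj (a : G)).toMonoidHom ≤ K.map S.subtype := by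
      rintro _ ⟨_, ⟨k, hk, rfl⟩, rfl⟩
      exact ⟨Coprime.conjHom hAS a k, CharOmega.map_mem _ hk, Coprime.conjHom_apply hAS a k⟩
    have heq := Subgroup.eq_of_le_of_card_ge hle
      (Subgroup.card_map_of_injective (f := (MulAut.conj (a : G)).toMonoidHom) (MulAut.conj (a : G)).injective).ge
    refine Subgroup.mem_normalizer_iff.mpr fun x => ⟨fun hx => hle ⟨x, hx, rfl⟩, fun hx => ?_⟩
    rw [← heq] at hx
    obtain ⟨y, hy, hyx⟩ := hx
    have : y = x := by simpa using hyx
    exact this ▸ hy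
  have haq : (a : G) ^ q = 1 := by rw [← ha, ← Subgroup.orderOf_coe, pow_orderOf_eq_one]
  set F := T ⊓ Subgroup.centralizer ({(a : G)} : Set G) with hF
  have hFT : F ≠ T := by
    intro h
    refine ha1 (Subtype.ext (Subgroup.mem_bot.mp (hfaith ▸ Subgroup.mem_inf.mpr ⟨a.2, ?_⟩)))
    refine centralizes_of_fix hp2 hS hAS D hDmax a hcop fun d hd => Subtype.ext ?_
    have hdF : (d : G) ∈ F := h.ge ⟨d, hd, rfl⟩
    rw [Coprime.conjHom_apply, ← Subgroup.mem_centralizer_singleton_iff.mp hdF.2, mul_inv_cancel_right]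
  have hTp : IsPGroup p T := hS.to_le (Subgroup.map_subtype_le D)
  have hTe : ∀ t ∈ T, t ^ p = 1 := by
    rintro _ ⟨d, hd, rfl⟩
    simpa using congrArg Subtype.val (hDp d hd)
  have hZc : ∀ x ∈ Z, ∀ t ∈ T, Commute x t := by
    rintro _ ⟨x, hx, rfl⟩ _ ⟨d, hd, rfl⟩
    exact congrArg Subtype.val (Subgroup.mem_centralizer_iff.mp hx.2 d hd).symm
  have hZT : Z ≤ T := Subgroup.map_mono inf_le_left
  have hTS : T ≤ S := Subgroup.map_subtype_le D
  have hcases : (IsMulCommutative T ∧ Nat.card T ≤ p ^ 2) ∨ (Nat.card Z = p ∧ Nat.card T ≤ p ^ 3) := by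
    by_cases hTc : IsMulCommutative T
    · exact Or.inl ⟨hTc, RankTwo.card_le_sq hr ⟨hTc, hTe⟩ hTS⟩
    refine Or.inr ?_
    obtain ⟨x, hxT, hxZ⟩ := SetLike.exists_of_lt (lt_of_le_of_ne hZT fun h => hTc
      ⟨⟨fun u v => Subtype.ext (hZc u (h.ge u.2) v v.2).eq⟩⟩)
    have hZe : Cfsg.IsElementaryAbelian p Z :=
      ⟨⟨⟨fun u v => Subtype.ext (hZc u u.2 v (hZT v.2)).eq⟩⟩, fun u hu => hTe u (hZT hu)⟩
    set E := Z ⊔ Subgroup.zpowers x with hE
    have hEe : Cfsg.IsElementaryAbelian p E := Replacement.isEA_sup hZe (Replacement.isEA_zpowers (hTe x hxT))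
      (Subgroup.le_centralizer_iff.mp (Subgroup.zpowers_le.mpr
        (Subgroup.mem_centralizer_iff.mpr fun u hu => (hZc u hu x hxT).eq)))
    have hEcard : Nat.card E ≤ p ^ 2 := RankTwo.card_le_sq hr hEe (sup_le (hZT.trans hTS) (Subgroup.zpowers_le.mpr (hTS hxT)))
    have hZlt : Nat.card Z < Nat.card E := Set.ncard_lt_ncard (SetLike.coe_ssubset_coe.mpr
      (lt_of_le_of_ne le_sup_left fun h => hxZ (h ▸ Subgroup.mem_sup_right (Subgroup.mem_zpowers x))))
    obtain ⟨i, hi⟩ := (hTp.to_le hZT).exists_card_eq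
    have hi1 : i = 1 := by
      have h2 : Nat.card Z < p ^ 2 := lt_of_lt_of_le hZlt hEcard
      rw [hi] at h2
      have h3 := (Nat.pow_lt_pow_iff_right hp.out.one_lt).mp h2
      have h4 : i ≠ 0 := by
        intro h0
        rw [h0, pow_zero] at hi
        have hDD : Subgroup.zpowers x ≠ ⊥ := Subgroup.zpowers_ne_bot.mpr fun e => hxZ (e ▸ one_mem _)
        -- the centre of `T` is nontrivial
        obtain ⟨d, hd, hd1, -, hdc⟩ := RankTwoStable.exists_central hTp le_rfl Subgroup.le_normalizer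
          (fun e => hTc (e ▸ ⟨⟨fun u v => Subtype.ext (by
            simp [Subgroup.mem_bot.mp u.2, Subgroup.mem_bot.mp v.2])⟩⟩))
        obtain ⟨d', hd', rfl⟩ := hd
        have : (d' : G) ∈ Z := ⟨d', ⟨hd', Subgroup.mem_centralizer_iff.mpr fun v hv => Subtype.ext
          (Subgroup.mem_centralizer_iff.mp hdc v ⟨v, hv, rfl⟩)⟩, rfl⟩
        rw [Subgroup.eq_bot_of_card_eq Z hi, Subgroup.mem_bot] at this
        exact hd1 this
      omega
    rw [hi1, pow_one] at hi
    refine ⟨hi, ?_⟩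
    -- `C_T(x) ≤ E`
    have hcen : T ⊓ Subgroup.centralizer ({x} : Set G) ≤ E := by
      rintro v ⟨hvT, hvx⟩
      have hle := RankTwo.card_le_sq hr (Replacement.isEA_sup hEe (Replacement.isEA_zpowers (hTe v hvT))
        (Subgroup.le_centralizer_iff.mp (Subgroup.zpowers_le.mpr (Subgroup.mem_centralizer_iff.mpr fun u hu => by
          have hle' : E ≤ Subgroup.centralizer ({v} : Set G) := sup_le
            (fun w hw => Subgroup.mem_centralizer_singleton_iff.mpr (hZc w hw v hvT).eq)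
            (Subgroup.zpowers_le.mpr (Subgroup.mem_centralizer_singleton_iff.mpr
              (Subgroup.mem_centralizer_singleton_iff.mp hvx).symm))
          exact Subgroup.mem_centralizer_singleton_iff.mp (hle' hu)))))
        (sup_le (sup_le (hZT.trans hTS) (Subgroup.zpowers_le.mpr (hTS hxT))) (Subgroup.zpowers_le.mpr (hTS hvT)))
      have hE2 : p ^ 2 ≤ Nat.card E := by
        obtain ⟨j, hj⟩ := ((hS.to_le hTS).to_le (sup_le hZT (Subgroup.zpowers_le.mpr hxT) : E ≤ T)).exists_card_eq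
        rw [hi, hj] at hZlt
        rw [hj]
        exact Nat.pow_le_pow_right hp.out.pos ((Nat.pow_lt_pow_iff_right hp.out.one_lt).mp (by rwa [pow_one]))
      rw [Subgroup.eq_of_le_of_card_ge (le_sup_left : E ≤ E ⊔ Subgroup.zpowers v) (hle.trans hE2)]
      exact Subgroup.mem_sup_right (Subgroup.mem_zpowers v)
    have h1 := card_le_mul (R := G) T Z x fun d hd => by
      obtain ⟨d', hd', rfl⟩ := hd
      obtain ⟨x', hx', rfl⟩ := hxT
      exact ⟨⁅d', x'⁆, ⟨Subgroup.commutator_le_self D (Subgroup.commutator_mem_commutator hd' hx'), hD2 d' hd' x' hx'⟩,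
        map_commutatorElement S.subtype d' x'⟩
    refine h1.trans ?_
    calc Nat.card ↥(T ⊓ Subgroup.centralizer ({x} : Set G)) * Nat.card Z ≤ p ^ 2 * p :=
          Nat.mul_le_mul ((Subgroup.card_le_of_le hcen).trans hEcard) hi.le
      _ = p ^ 3 := by ring
  have hmod : Nat.card T ≡ Nat.card F [MOD q] := card_modEq_fixed (hnorm D hDc) haq
  obtain ⟨t, ht⟩ := hTp.exists_card_eq
  obtain ⟨f, hf⟩ := (hTp.to_le (inf_le_left : F ≤ T)).exists_card_eq
  have hft : f < t := by
    have h : Nat.card F < Nat.card T :=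
      Set.ncard_lt_ncard (SetLike.coe_ssubset_coe.mpr (lt_of_le_of_ne inf_le_left hFT))
    rw [ht, hf] at h
    exact (Nat.pow_lt_pow_iff_right hp.out.one_lt).mp h
  have hd : q ∣ p ^ (t - f) - 1 := by
    rw [ht, hf] at hmod
    have h1 : q ∣ p ^ t - p ^ f := (Nat.modEq_iff_dvd' (Nat.pow_le_pow_right hp.out.pos hft.le)).mp hmod.symm
    have h2 : p ^ t - p ^ f = p ^ f * (p ^ (t - f) - 1) := by
      rw [Nat.mul_sub_one, ← pow_add, Nat.add_sub_cancel' hft.le]
    rw [h2] at h1
    exact (((Nat.coprime_primes hq hp.out).mpr hqp).pow_right f).dvd_of_dvd_mul_left h1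
  have htf : t - f = 2 := by
    rcases hcases with ⟨-, h2⟩ | ⟨hZc', h3⟩
    · rw [ht] at h2
      have := (Nat.pow_le_pow_iff_right hp.out.one_lt).mp h2
      by_contra hne
      rw [show t - f = 1 by omega, pow_one] at hd
      exact hq1 hd
    · rw [ht] at h3
      have := (Nat.pow_le_pow_iff_right hp.out.one_lt).mp h3
      -- the centre is fixed
      have hmodZ := card_modEq_fixed (q := q) (hnorm ZD inferInstance) haq
      have hfix : Z ⊓ Subgroup.centralizer ({(a : G)} : Set G) = Z := by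
        refine Subgroup.eq_of_le_of_card_ge inf_le_left ?_
        rw [hZc'] at hmodZ ⊢
        rcases (Nat.dvd_prime hp.out).mp
          ((Subgroup.card_dvd_of_le (inf_le_left : Z ⊓ Subgroup.centralizer ({(a : G)} : Set G) ≤ Z)).trans hZc'.dvd) with h | h
        · rw [h] at hmodZ
          exact absurd ((Nat.modEq_iff_dvd' hp.out.one_le).mp hmodZ.symm) hq1
        · exact h.ge
      have hf1 : 1 ≤ f := by
        have hle : Nat.card Z ≤ Nat.card F :=
          Subgroup.card_le_of_le (le_inf hZT (hfix.ge.trans inf_le_right))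
        rw [hZc', hf] at hle
        by_contra hf0
        rw [show f = 0 by omega, pow_zero] at hle
        exact absurd hle (not_le.mpr hp.out.one_lt)
      by_contra hne
      rw [show t - f = 1 by omega, pow_one] at hd
      exact hq1 hd
  rw [htf] at hd
  have hqp1 : q ∣ p + 1 := by
    have e : p ^ 2 - 1 = (p + 1) * (p - 1) := by
      have := Nat.sq_sub_sq p 1
      simpa using this
    rw [e] at hd
    exact (hq.dvd_mul.mp hd).resolve_right hq1
  refine ⟨?_, fun hSA hnab => ?_⟩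
  · refine Nat.Coprime.mul_dvd_of_dvd_of_dvd ?_ ?_ hqp1
    · exact (Nat.coprime_primes Nat.prime_two hq).mpr fun h => Nat.not_even_iff_odd.mpr hAodd (by rw [← h]; exact even_two)
    · exact even_iff_two_dvd.mp (Odd.add_one (hp.out.odd_of_ne_two hp2))
  -- the cyclic factor is centralised modulo `Ω₁`
  obtain ⟨R₁, R₂, hsup, hcomm, -, hR₁c, hR₁e, hR₂, hclos⟩ := RankTwoStable.structure_of_stable hp2 hS hr hAS
    (Nat.coprime_primes hq hp.out |>.mpr hqp) hAodd hSA hnab
  have hR₁S : R₁ ≤ S := hsup ▸ le_sup_left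
  have hR₂S : R₂ ≤ S := hsup ▸ le_sup_right
  have hn21 : R₂ ≤ Subgroup.normalizer (R₁ : Set G) := fun b hb => Subgroup.centralizer_le_normalizer _
    (Subgroup.mem_centralizer_iff.mpr fun u hu => hcomm u hu b hb)
  have hR₁p : ∀ x ∈ R₁, x ^ p = 1 := fun x hx => by
    have h := Monoid.pow_exponent_eq_one (⟨x, hx⟩ : R₁)
    rw [hR₁e] at h
    simpa using congrArg Subtype.val h
  have hΩ : ∀ x ∈ S, x ^ p = 1 → x ∈ R₁ := by
    intro x hx hxp
    rw [← hsup, ← SetLike.mem_coe, Subgroup.coe_mul_of_right_le_normalizer_left R₁ R₂ hn21] at hx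
    obtain ⟨u, hu, v, hv, rfl⟩ := Set.mem_mul.mp hx
    rw [(show Commute u v from hcomm u hu v hv).mul_pow, hR₁p u hu, one_mul] at hxp
    refine mul_mem hu (Subgroup.commutator_le_self R₁ ?_)
    rw [← hclos]
    exact Subgroup.subset_closure ⟨hv, hxp⟩
  obtain ⟨k, hk⟩ := hR₂.exists_generator
  set b := (k : G) with hb
  have hbS : b ∈ S := hR₂S k.2
  -- `a b a⁻¹ = u * b ^ n`
  obtain ⟨u, hu, n, hn⟩ : ∃ u ∈ R₁, ∃ n : ℕ, (a : G) * b * (a : G)⁻¹ = u * b ^ n := by
    have h := (Subgroup.mem_normalizer_iff.mp (hAS a.2) b).mp hbS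
    rw [← hsup, ← SetLike.mem_coe, Subgroup.coe_mul_of_right_le_normalizer_left R₁ R₂ hn21] at h
    obtain ⟨u, hu, v, hv, he⟩ := Set.mem_mul.mp h
    obtain ⟨n, hn⟩ := mem_powers_iff_mem_zpowers.mpr (hk ⟨v, hv⟩)
    exact ⟨u, hu, n, by rw [← he]; congr 1; simpa [hb] using (congrArg Subtype.val hn).symm⟩
  have haR₁ : ∀ x ∈ R₁, (a : G) * x * (a : G)⁻¹ ∈ R₁ := fun x hx =>
    hΩ _ ((Subgroup.mem_normalizer_iff.mp (hAS a.2) x).mp (hR₁S hx))
      (by rw [conj_pow, hR₁p x hx, mul_one, mul_inv_cancel])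
  have hiter : ∀ i : ℕ, ∃ w ∈ R₁, (a : G) ^ i * b * ((a : G) ^ i)⁻¹ = w * b ^ n ^ i := by
    intro i
    induction i with
    | zero => exact ⟨1, one_mem _, by simp⟩
    | succ i ih =>
      obtain ⟨w, hw, he⟩ := ih
      have hpow : ∀ m : ℕ, (u * b ^ n) ^ m = u ^ m * b ^ (n * m) := by
        intro m
        rw [(show Commute u (b ^ n) from hcomm u hu _ (pow_mem k.2 n)).mul_pow, ← pow_mul]
      refine ⟨(a * w * (a : G)⁻¹) * u ^ n ^ i, mul_mem (haR₁ w hw) (pow_mem hu _), ?_⟩
      calc (a : G) ^ (i + 1) * b * ((a : G) ^ (i + 1))⁻¹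
          = a * ((a : G) ^ i * b * ((a : G) ^ i)⁻¹) * (a : G)⁻¹ := by rw [pow_succ']; group
        _ = (a * w * (a : G)⁻¹) * (a * b * (a : G)⁻¹) ^ n ^ i := by rw [he, conj_pow]; group
        _ = _ := by rw [hn, hpow, pow_succ' n]; group
  have hbn : b⁻¹ * b ^ n ∈ R₁ := by
    obtain ⟨w, hw, he⟩ := hiter q
    rw [haq, one_mul, inv_one, mul_one] at he
    obtain ⟨s, hs⟩ := (hS.to_le hR₂S).exists_card_eq
    have hbo : orderOf b = p ^ s := by
      rw [hb, Subgroup.orderOf_coe, orderOf_eq_card_of_forall_mem_zpowers hk, hs]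
    rcases Nat.lt_or_ge s 2 with hs2 | hs2
    · have hbR₁ : b ∈ R₁ := hΩ b hbS (orderOf_dvd_iff_pow_eq_one.mp
        (hbo ▸ (pow_dvd_pow p (by omega : s ≤ 1)).trans (pow_one p).dvd))
      exact mul_mem (inv_mem hbR₁) (pow_mem hbR₁ n)
    -- `b ^ ((n ^ q - 1) p) = 1`
    have hsub : b⁻¹ * b ^ n ^ q ∈ R₁ := by
      have : b ^ n ^ q = w⁻¹ * b := eq_inv_mul_of_mul_eq he.symm
      rw [this, ← mul_assoc]
      have hc : Commute w b := hcomm w hw b k.2
      rw [(hc.inv_left.inv_right).symm.eq, mul_assoc, inv_mul_cancel, mul_one]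
      exact inv_mem hw
    have hzero : ((b⁻¹ * b ^ n ^ q) ^ p) = 1 := hR₁p _ hsub
    rw [← zpow_neg_one, ← zpow_natCast b (n ^ q), ← zpow_add, ← zpow_natCast, ← zpow_mul,
      ← orderOf_dvd_iff_zpow_eq_one, hbo] at hzero
    have hps : ((p ^ s : ℕ) : ℤ) = (p : ℤ) ^ (s - 1) * p := by
      rw [← pow_succ, Nat.sub_add_cancel (by omega : 1 ≤ s)]; push_cast; ring
    rw [hps] at hzero
    have h1 : ((p : ℤ) ^ (s - 1)) ∣ -1 + ((n ^ q : ℕ) : ℤ) :=
      (mul_dvd_mul_iff_right (by exact_mod_cast hp.out.ne_zero)).mp hzero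
    push_cast at h1
    -- `n ≡ 1 mod p`
    have hn1 : (n : ZMod p) ^ q = 1 := by
      have h2 : (p : ℤ) ∣ -1 + (n : ℤ) ^ q := (dvd_pow_self _ (by omega : s - 1 ≠ 0)).trans h1
      have h3 := (ZMod.intCast_zmod_eq_zero_iff_dvd _ p).mpr h2
      push_cast at h3
      exact (neg_add_eq_zero.mp h3).symm
    have hn1' : (n : ZMod p) = 1 := by
      have hne : (n : ZMod p) ≠ 0 := fun h0 => by
        rw [h0, zero_pow hq.ne_zero] at hn1
        exact zero_ne_one hn1
      have hd1 := orderOf_dvd_of_pow_eq_one hn1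
      have hd2 := ZMod.orderOf_dvd_card_sub_one hne
      rw [← orderOf_eq_one_iff]
      exact Nat.eq_one_of_dvd_coprimes ((hq.coprime_iff_not_dvd).mpr hq1) hd1 hd2
    -- the cofactor is a unit
    have hgeo : ((n : ℤ) - 1) * (∑ i ∈ Finset.range q, (n : ℤ) ^ i) = (n : ℤ) ^ q - 1 := by
      rw [mul_comm]; exact geom_sum_mul _ q
    have hunit : IsCoprime ((p : ℤ) ^ (s - 1)) (∑ i ∈ Finset.range q, (n : ℤ) ^ i) := by
      refine IsCoprime.pow_left (((Nat.prime_iff_prime_int.mp hp.out).coprime_iff_not_dvd).mpr fun hd3 => ?_)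
      have h4 := (ZMod.intCast_zmod_eq_zero_iff_dvd _ p).mpr hd3
      push_cast at h4
      simp only [hn1', one_pow, Finset.sum_const, Finset.card_range, nsmul_eq_mul, mul_one] at h4
      exact hqp ((Nat.prime_dvd_prime_iff_eq hp.out hq).mp ((ZMod.natCast_eq_zero_iff q p).mp h4)).symm
    have h5 : ((p : ℤ) ^ (s - 1)) ∣ (n : ℤ) - 1 := by
      refine hunit.dvd_of_dvd_mul_right ?_
      rw [hgeo, show (n : ℤ) ^ q - 1 = -1 + (n : ℤ) ^ q by ring]
      exact h1
    refine hΩ _ (mul_mem (inv_mem hbS) (pow_mem hbS n)) ?_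
    rw [← zpow_neg_one, ← zpow_natCast b n, ← zpow_add, ← zpow_natCast, ← zpow_mul,
      ← orderOf_dvd_iff_zpow_eq_one, hbo, hps, show (-1 : ℤ) + n = (n : ℤ) - 1 by ring]
    exact mul_dvd_mul_right h5 _
  have hab : b⁻¹ * ((a : G) * b * (a : G)⁻¹) ∈ R₁ := by
    rw [hn, ← mul_assoc]
    have hc : Commute u b := hcomm u hu b k.2
    rw [(hc.inv_right).symm.eq, mul_assoc]
    exact mul_mem hu hbn
  have hSN : S ≤ Subgroup.normalizer (R₁ : Set G) := hsup ▸ sup_le Subgroup.le_normalizer hn21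
  have hle : S ≤ R₁ := by
    rw [← hSA, Subgroup.commutator_comm, Subgroup.commutator_le]
    intro c hc s hs
    -- it is enough to look at `a`
    have hfixa : ∀ s ∈ S, s⁻¹ * ((a : G) * s * (a : G)⁻¹) ∈ R₁ := by
      intro s hs
      rw [← hsup, ← SetLike.mem_coe, Subgroup.coe_mul_of_right_le_normalizer_left R₁ R₂ hn21] at hs
      obtain ⟨x, hx, v, hv, rfl⟩ := Set.mem_mul.mp hs
      obtain ⟨m, hm⟩ := mem_powers_iff_mem_zpowers.mpr (hk ⟨v, hv⟩)
      have hvb : v = b ^ m := by simpa [hb] using (congrArg Subtype.val hm).symm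
      have e : (x * v)⁻¹ * ((a : G) * (x * v) * (a : G)⁻¹) =
          v⁻¹ * (x⁻¹ * ((a : G) * x * (a : G)⁻¹)) * v * (v⁻¹ * ((a : G) * v * (a : G)⁻¹)) := by group
      rw [e]
      refine mul_mem ((Subgroup.mem_normalizer_iff''.mp (hn21 hv) _).mp (mul_mem (inv_mem hx) (haR₁ x hx))) ?_
      rw [hvb, ← conj_pow]
      clear hm hvb e
      induction m with
      | zero => simp
      | succ m ih =>
        have e : (b ^ (m + 1))⁻¹ * ((a : G) * b * (a : G)⁻¹) ^ (m + 1) =
            b⁻¹ * ((b ^ m)⁻¹ * ((a : G) * b * (a : G)⁻¹) ^ m) * b * (b⁻¹ * ((a : G) * b * (a : G)⁻¹)) := by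
          rw [pow_succ, pow_succ]; group
        rw [e]
        exact mul_mem ((Subgroup.mem_normalizer_iff''.mp (hn21 k.2) _).mp ih) hab
    obtain ⟨i, rfl⟩ := mem_powers_iff_mem_zpowers.mpr (hgen.ge hc)
    clear hc
    show ⁅(a : G) ^ i, s⁆ ∈ R₁
    induction i generalizing s with
    | zero => simp
    | succ i ih =>
      have hs' : (a : G) * s * (a : G)⁻¹ ∈ S := (Subgroup.mem_normalizer_iff.mp (hAS a.2) s).mp hs
      have e : ⁅(a : G) ^ (i + 1), s⁆ = ⁅(a : G) ^ i, a * s * (a : G)⁻¹⁆ * (a * s * (a : G)⁻¹ * s⁻¹) := by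
        simp only [commutatorElement_def, pow_succ]; group
      rw [e]
      refine mul_mem (ih _ hs') ?_
      have h := (Subgroup.mem_normalizer_iff.mp (hSN hs) _).mp (hfixa s hs)
      simpa [mul_assoc] using h
  exact (congrArg (fun H : Subgroup G => Nat.card H) (le_antisymm hle hR₁S)).trans hR₁c

end CfsgLib.OddOrder.NarrowAction
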