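import Cfsg.Agent.Lib.OddOrder.SCNInvariant
import Cfsg.Agent.Lib.OddOrder.ZJ
import Cfsg.Agent.Lib.OddOrder.Transitivity
import Cfsg.Agent.S1458
import Mathlib

set_option autoImplicit false

/-!
Local tools relative to a Sylow subgroup of a solvable subgroup of odd order.
-/

namespace CfsgLib.OddOrder.SylowLocal

open scoped commutatorElement

variable {X : Type*} [Group X] [Finite X] {p : ℕ} [Fact p.Prime]

/-- A `p'`-subgroup normalised by a Sylow `p`-subgroup of a solvable group lies in `O_{p'}`. -/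
theorem le_pPrimeCore_of_sylow [Group.IsSolvable X] (S : Sylow p X) (L : Subgroup X)
    (hL : (Nat.card L).Coprime p) (hSL : (S : Subgroup X) ≤ Subgroup.normalizer (L : Set X)) :
    L ≤ Cfsg.pPrimeCore p X := by
  set O := Cfsg.pPrimeCore p X
  set q := QuotientGroup.mk' O
  set T := Cfsg.pCore p (X ⧸ O)
  have hTp : IsPGroup p T := Solvable.Cores.isPGroup_pCore p
  have hTS : T ≤ (S : Subgroup X).map q := by
    have := Solvable.Cores.pCore_le_sylow (S.mapSurjective (QuotientGroup.mk'_surjective O))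
    rwa [Sylow.coe_mapSurjective] at this
  have hcop : (Nat.card (L.map q)).Coprime (Nat.card T) :=
    SCNInvariant.coprime_card_isPGroup (hL.coprime_dvd_left (L.card_map_dvd q)) hTp
  have h1 : L.map q ≤ Subgroup.centralizer (T : Set (X ⧸ O)) := by
    rw [← Subgroup.commutator_eq_bot_iff_le_centralizer, eq_bot_iff, ← Subgroup.inf_eq_bot_of_coprime hcop]
    exact le_inf (Subgroup.le_normalizer_iff_commutator_le_left.mp
      ((hTS.trans (Subgroup.map_mono hSL)).trans (Subgroup.le_normalizer_map q)))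
      (Subgroup.commutator_le_right (L.map q) T)
  have h2 : L.map q = ⊥ := le_bot_iff.mp ((le_inf le_rfl (h1.trans SCNInvariant.centralizer_pCore_quotient_le)).trans
    (Subgroup.inf_eq_bot_of_coprime hcop).le)
  rw [Subgroup.map_eq_bot_iff, QuotientGroup.ker_mk'] at h2
  exact h2

/-- An abelian subgroup normalised by a Sylow `p`-subgroup containing it lies in `O_{p',p}` (odd order). -/
theorem le_pPrimePCore_of_abelian [Group.IsSolvable X] (hodd : Odd (Nat.card X)) (S : Sylow p X) (A : Subgroup X)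
    [IsMulCommutative A] (hAS : A ≤ (S : Subgroup X))
    (hSA : (S : Subgroup X) ≤ Subgroup.normalizer (A : Set X)) :
    A ≤ Cfsg.pPrimePCore p X := by
  set O := Cfsg.pPrimeCore p X
  set q := QuotientGroup.mk' O
  set T := Cfsg.pCore p (X ⧸ O)
  have hTp : IsPGroup p T := Solvable.Cores.isPGroup_pCore p
  have hTS : T ≤ (S : Subgroup X).map q := by
    have := Solvable.Cores.pCore_le_sylow (S.mapSurjective (QuotientGroup.mk'_surjective O))
    rwa [Sylow.coe_mapSurjective] at this
  have hTA : ⁅T, A.map q⁆ ≤ A.map q := by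
    rw [Subgroup.commutator_comm]
    exact Subgroup.le_normalizer_iff_commutator_le_left.mp
      ((hTS.trans (Subgroup.map_mono hSA)).trans (Subgroup.le_normalizer_map q))
  have hquad : ⁅⁅T, A.map q⁆, A.map q⁆ = ⊥ := by
    rw [eq_bot_iff]
    refine (Subgroup.commutator_mono hTA le_rfl).trans ?_
    rw [← Subgroup.map_commutator, Subgroup.commutator_eq_bot_iff_le_centralizer.mpr A.le_centralizer,
      Subgroup.map_bot]
  have hcons : Subgroup.centralizer (T : Set (X ⧸ O)) ≤ T := SCNInvariant.centralizer_pCore_quotient_le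
  set C := Subgroup.centralizer (T : Set (X ⧸ O)) with hC
  have h1 := PStable.map_le_pCore (Odd.of_dvd_nat hodd (Subgroup.card_quotient_dvd_card O)) T hTp C hC
    (A.map q) hquad
  have h2 : IsPGroup p ((Cfsg.pCore p ((X ⧸ O) ⧸ C)).comap (QuotientGroup.mk' C)) :=
    (Solvable.Cores.isPGroup_pCore p).comap_of_ker_isPGroup _ (by
      rw [QuotientGroup.ker_mk']; exact hTp.to_le hcons)
  have h3 : A.map q ≤ T :=
    (Subgroup.map_le_iff_le_comap.mp h1).trans (Solvable.Cores.le_pCore h2)
  exact Subgroup.map_le_iff_le_comap.mp h3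

/-- Frattini argument modulo `O_{p'}`. -/
theorem pPrimeCore_sup_normalizer (P : Subgroup X) (hP : IsPGroup p P)
    [(Cfsg.pPrimeCore p X ⊔ P).Normal] :
    Cfsg.pPrimeCore p X ⊔ Subgroup.normalizer (P : Set X) = ⊤ := by
  set O := Cfsg.pPrimeCore p X with hO
  set N := O ⊔ P with hN
  have hPN : P ≤ N := le_sup_right
  obtain ⟨Q, hQ⟩ := (hP.comap_of_injective N.subtype N.subtype_injective).exists_le_sylow
  have hQP : (Q : Subgroup N).map N.subtype = P := by
    refine le_antisymm ?_ fun x hx => ⟨⟨x, hPN hx⟩, hQ hx, rfl⟩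
    rintro _ ⟨⟨y, hy⟩, hyQ, rfl⟩
    obtain ⟨o, ho, z, hz, rfl⟩ := Subgroup.mem_sup_of_normal_left.mp hy
    have hzQ : (⟨z, hPN hz⟩ : N) ∈ (Q : Subgroup N) := hQ hz
    have hoN : o ∈ N := Subgroup.mem_sup_left ho
    have hoQ : (⟨o, hoN⟩ : N) ∈ (Q : Subgroup N) := by
      have := mul_mem hyQ (inv_mem hzQ)
      rwa [show (⟨o * z, hy⟩ : N) * (⟨z, hPN hz⟩ : N)⁻¹ = ⟨o, hoN⟩ from Subtype.ext (by simp)] at this
    obtain ⟨k, hk⟩ := Q.isPGroup' ⟨_, hoQ⟩
    have h1 : o ^ p ^ k = 1 := by simpa [Subtype.ext_iff] using hk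
    have : o = 1 := orderOf_eq_one_iff.mp (Nat.eq_one_of_dvd_coprimes
      ((Solvable.Cores.coprime_card_pPrimeCore (G := X) p).pow_right k) (Subgroup.orderOf_dvd_natCard O ho)
      (orderOf_dvd_of_pow_eq_one h1))
    simpa [this] using hz
  have h := Sylow.normalizer_sup_eq_top Q
  rw [hQP] at h
  rw [← top_le_iff, ← h]
  exact sup_le le_sup_right (sup_le le_sup_left (Subgroup.le_normalizer.trans le_sup_right))

end CfsgLib.OddOrder.SylowLocal

namespace CfsgLib.OddOrder.SylowLocal

variable {G : Type*} [Group G] {p : ℕ}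

theorem map_thompsonOf {H : Type*} [Group H] (f : H →* G) (hf : Function.Injective f) (U : Subgroup H) :
    (Cfsg.thompsonSubgroupOf p U).map f = Cfsg.thompsonSubgroupOf p (U.map f) := by
  rw [Cfsg.thompsonSubgroupOf, Cfsg.thompsonSubgroupOf,
    ← Fusion.Thompson.map_thompson_equiv (U.equivMapOfInjective f hf), Subgroup.map_map, Subgroup.map_map]
  rfl

theorem map_inf_centralizer {H : Type*} [Group H] (f : H →* G) (hf : Function.Injective f) (L : Subgroup H) :
    (L ⊓ Subgroup.centralizer (L : Set H)).map f = L.map f ⊓ Subgroup.centralizer ((L.map f : Subgroup G) : Set G) := by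
  ext x
  constructor
  · rintro ⟨z, ⟨hz, hzc⟩, rfl⟩
    refine ⟨⟨z, hz, rfl⟩, Subgroup.mem_centralizer_iff.mpr ?_⟩
    rintro _ ⟨l, hl, rfl⟩
    rw [← map_mul, ← map_mul, Subgroup.mem_centralizer_iff.mp hzc l hl]
  · rintro ⟨⟨z, hz, rfl⟩, hzc⟩
    refine ⟨z, ⟨hz, Subgroup.mem_centralizer_iff.mpr fun l hl => hf ?_⟩, rfl⟩
    rw [map_mul, map_mul, Subgroup.mem_centralizer_iff.mp hzc (f l) ⟨l, hl, rfl⟩]

theorem map_centerThompsonOf {H : Type*} [Group H] (f : H →* G) (hf : Function.Injective f) (U : Subgroup H) :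
    (Cfsg.centerThompsonOf p U).map f = Cfsg.centerThompsonOf p (U.map f) := by
  rw [Cfsg.centerThompsonOf, Cfsg.centerThompsonOf, map_inf_centralizer f hf, map_thompsonOf f hf]

variable [Finite G] [hp : Fact p.Prime]

theorem centerThompsonOf_ne_bot {U : Subgroup G} (hU : IsPGroup p U) (h : U ≠ ⊥) :
    Cfsg.centerThompsonOf p U ≠ ⊥ := by
  set J := Cfsg.thompsonSubgroupOf p U with hJ
  have hJne : J ≠ ⊥ := by
    intro hb
    obtain ⟨A, hA⟩ := ZJ.exists_isMaxEA (p := p) U
    have hA1 : A = ⊥ := le_bot_iff.mp ((ZJ.le_thompsonOf hA).trans hb.le)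
    haveI : Nontrivial U := (Subgroup.nontrivial_iff_ne_bot U).mpr h
    obtain ⟨x, hx⟩ := exists_prime_orderOf_dvd_card' (G := U) p
      (hU.card_eq_or_dvd.resolve_left (Finite.one_lt_card (α := U)).ne')
    have hxp : (x : G) ^ p = 1 := by
      rw [← Subgroup.coe_pow, ← hx, pow_orderOf_eq_one, OneMemClass.coe_one]
    have := hA.2.2 _ (Subgroup.zpowers_le.mpr x.2) (Replacement.isEA_zpowers hxp)
    rw [hA1, Subgroup.card_bot, Nat.card_zpowers, Subgroup.orderOf_coe, hx] at this
    exact absurd this (not_le.mpr hp.out.one_lt)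
  have hJp : IsPGroup p J := hU.to_le (Fusion.Thompson.thompsonSubgroupOf_le U)
  haveI : Nontrivial J := (Subgroup.nontrivial_iff_ne_bot J).mpr hJne
  haveI := hJp.center_nontrivial
  obtain ⟨z, hz⟩ := exists_ne (1 : Subgroup.center J)
  rw [Cfsg.centerThompsonOf, ← hJ, Subgroup.ne_bot_iff_exists_ne_one]
  exact ⟨⟨((z : J) : G), (z : J).2, Subgroup.mem_centralizer_iff.mpr fun g hg =>
    congrArg Subtype.val (Subgroup.mem_center_iff.mp z.2 ⟨g, hg⟩)⟩, fun he => hz (Subtype.ext (Subtype.ext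
      (by simpa only [Subtype.ext_iff, OneMemClass.coe_one] using he)))⟩

variable {M : Subgroup G}

/-- `O_{p'}(M)` as a subgroup of `G`. -/
theorem coreOf_coprime : (Nat.card ((Cfsg.pPrimeCore p M).map M.subtype)).Coprime p := by
  rw [Subgroup.card_map_of_injective M.subtype_injective]
  exact Solvable.Cores.coprime_card_pPrimeCore p

theorem le_normalizer_coreOf :
    M ≤ Subgroup.normalizer ((Cfsg.pPrimeCore p M).map M.subtype : Set G) := by
  refine (Subgroup.normal_subgroupOf_iff_le_normalizer (Subgroup.map_subtype_le _)).mp ?_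
  rw [Subgroup.subgroupOf, Subgroup.comap_map_eq_self_of_injective M.subtype_injective]
  infer_instance

/-- An `R`-invariant `p'`-subgroup of `M`, `R` a Sylow subgroup of `M`, lies in `O_{p'}(M)`. -/
theorem le_coreOf_of_sylow [Group.IsSolvable M] (S : Sylow p M) {L : Subgroup G} (hLM : L ≤ M)
    (hL : (Nat.card L).Coprime p)
    (hSL : (S : Subgroup M).map M.subtype ≤ Subgroup.normalizer (L : Set G)) :
    L ≤ (Cfsg.pPrimeCore p M).map M.subtype := by
  have h := le_pPrimeCore_of_sylow S (L.subgroupOf M)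
    (by rw [Nat.card_congr (Subgroup.subgroupOfEquivOfLe hLM).toEquiv]; exact hL)
    (by
      intro s hs
      exact Subgroup.le_normalizer_comap M.subtype (hSL ⟨s, hs, rfl⟩))
  intro x hx
  exact ⟨⟨x, hLM hx⟩, h hx, rfl⟩

/-- `M = O_{p'}(M) N_M(Z(J(R)))`. -/
theorem le_of_center_thompson [Group.IsSolvable M] (hodd : Odd (Nat.card M)) (S : Sylow p M) {H : Subgroup G}
    (h1 : (Cfsg.pPrimeCore p M).map M.subtype ≤ H)
    (h2 : M ⊓ Subgroup.normalizer (Cfsg.centerThompsonOf p ((S : Subgroup M).map M.subtype) : Set G) ≤ H) :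
    M ≤ H := by
  haveI hn : (Cfsg.pPrimeCore p M ⊔ Cfsg.centerThompsonOf p (S : Subgroup M)).Normal := by
    rw [sup_comm]; exact Cfsg.Agent.S1458.result hodd p S
  have htop := pPrimeCore_sup_normalizer (Cfsg.centerThompsonOf p (S : Subgroup M))
    (S.isPGroup'.to_le (inf_le_left.trans (Fusion.Thompson.thompsonSubgroupOf_le _)))
  rw [← map_centerThompsonOf M.subtype M.subtype_injective] at h2
  calc M = (⊤ : Subgroup M).map M.subtype := by rw [← MonoidHom.range_eq_map, Subgroup.range_subtype]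
    _ ≤ H := by
      rw [← htop, Subgroup.map_sup]
      exact sup_le h1 ((le_inf (Subgroup.map_subtype_le _) (Subgroup.le_normalizer_map M.subtype)).trans h2)

end CfsgLib.OddOrder.SylowLocal
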