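import Cfsg.Agent.Lib.OddOrder.UniqueTools
import Cfsg.Agent.Lib.OddOrder.CharOmega
import Mathlib

set_option autoImplicit false

/-!
A `p`-group of rank at least three with a maximal elementary abelian subgroup of order `p ^ 2`.
-/

namespace CfsgLib.OddOrder.MaximalPlane

open scoped commutatorElement

variable {R : Type*} [Group R] {p : ℕ}

theorem mem_center_of_mem_Z2 {x : R} (hx : x ∈ Subgroup.upperCentralSeries R 2) (y : R) :
    ⁅x, y⁆ ∈ Subgroup.center R := by
  have h := Subgroup.mem_upperCentralSeries_succ_iff.mp hx y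
  rwa [Subgroup.upperCentralSeries_one] at h

theorem mem_Z2_of_forall {x : R} (h : ∀ y : R, ⁅x, y⁆ ∈ Subgroup.center R) :
    x ∈ Subgroup.upperCentralSeries R 2 := by
  refine Subgroup.mem_upperCentralSeries_succ_iff.mpr fun y => ?_
  rw [Subgroup.upperCentralSeries_one]
  exact h y

theorem commute_comm_Z2 {x y : R} (hx : x ∈ Subgroup.upperCentralSeries R 2) (u : R) : Commute ⁅x, y⁆ u :=
  (Subgroup.mem_center_iff.mp (mem_center_of_mem_Z2 hx y) u).symm

theorem comm_pow {x y : R} (hx : x ∈ Subgroup.upperCentralSeries R 2) (n : ℕ) :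
    ⁅x, y⁆ ^ n = ⁅x ^ n, y⁆ := by
  have h := OmegaLemma.pow_mul_comm_central (u := y) (v := x) (z := ⁅x, y⁆)
    (by simp [commutatorElement_def, mul_assoc]) (commute_comm_Z2 hx x) (commute_comm_Z2 hx y) n
  rw [commutatorElement_def (x ^ n), h]; group

variable [hp : Fact p.Prime]

/-- `Ω₁(Z₂(R))` for odd `p`. -/
def omegaZ2 (hp2 : p ≠ 2) : Subgroup R where
  carrier := {x | x ∈ Subgroup.upperCentralSeries R 2 ∧ x ^ p = 1}
  one_mem' := ⟨one_mem _, one_pow _⟩
  mul_mem' := fun {a b} ha hb => ⟨mul_mem ha.1 hb.1, by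
    obtain ⟨c, hc⟩ := hp.out.dvd_choose_self (k := 2) two_ne_zero (lt_of_le_of_ne hp.out.two_le (Ne.symm hp2))
    rw [OmegaLemma.mul_pow_central (z := ⁅b, a⁆) (by simp [commutatorElement_def, mul_assoc])
      (commute_comm_Z2 hb.1 b) (commute_comm_Z2 hb.1 a) p, ha.2, hb.2, hc, pow_mul, comm_pow hb.1, hb.2]
    simp⟩
  inv_mem' := fun {a} ha => ⟨inv_mem ha.1, by rw [inv_pow, ha.2, inv_one]⟩

theorem closure_eq_omegaZ2 (hp2 : p ≠ 2) :
    Subgroup.closure {x : R | x ∈ Subgroup.upperCentralSeries R 2 ∧ x ^ p = 1} = omegaZ2 hp2 := by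
  refine le_antisymm ((Subgroup.closure_le _).mpr fun x hx => hx) fun x hx => Subgroup.subset_closure hx

omit hp in
theorem map_mem_Z2 (e : R ≃* R) {x : R} (hx : x ∈ Subgroup.upperCentralSeries R 2) :
    e x ∈ Subgroup.upperCentralSeries R 2 := by
  refine mem_Z2_of_forall fun y => ?_
  obtain ⟨y, rfl⟩ := e.surjective y
  rw [show ⁅e x, e y⁆ = e ⁅x, y⁆ by simp [commutatorElement_def]]
  refine Subgroup.mem_center_iff.mpr fun g => ?_
  obtain ⟨g, rfl⟩ := e.surjective g
  rw [← map_mul, ← map_mul, Subgroup.mem_center_iff.mp (mem_center_of_mem_Z2 hx y) g]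

theorem omegaZ2_characteristic (hp2 : p ≠ 2) : (omegaZ2 (R := R) hp2).Characteristic := by
  refine Subgroup.characteristic_iff_map_le.mpr fun e => ?_
  rintro _ ⟨x, hx, rfl⟩
  exact ⟨map_mem_Z2 e hx.1, by rw [← map_pow, hx.2, map_one]⟩

variable [Finite R]

/-- The structure of `R`: for a maximal elementary abelian `E` of order `p ^ 2` in `R` of rank at least three. -/
theorem main (hp2 : p ≠ 2) (hR : IsPGroup p R) (hr : ¬ Cfsg.PRankLE p 2 R) {E : Subgroup R}
    (hE : Cfsg.IsElementaryAbelian p E) (hE2 : Nat.card E = p ^ 2)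
    (hEmax : ∀ B : Subgroup R, Cfsg.IsElementaryAbelian p B → E ≤ B → B = E) :
    ¬ E ≤ Subgroup.centralizer (omegaZ2 (R := R) hp2 : Set R) ∧
      Nat.card ↥(Subgroup.closure {x : R | x ∈ Subgroup.center R ∧ x ^ p = 1}) = p ∧
      (Cfsg.IsElementaryAbelian p (omegaZ2 (R := R) hp2) ∧ Nat.card ↥(omegaZ2 (R := R) hp2) = p ^ 2) ∧
      (Subgroup.centralizer (omegaZ2 (R := R) hp2 : Set R)).Characteristic ∧
      (Subgroup.centralizer (omegaZ2 (R := R) hp2 : Set R)).index = p := by
  set W := omegaZ2 (R := R) hp2 with hW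
  set Z₀ := Subgroup.closure {x : R | x ∈ Subgroup.center R ∧ x ^ p = 1} with hZ₀
  haveI hWc : W.Characteristic := omegaZ2_characteristic hp2
  -- elements of order `p` centralising `E` lie in `E`
  have habs : ∀ x : R, x ^ p = 1 → x ∈ Subgroup.centralizer (E : Set R) → x ∈ E := by
    intro x hx hxc
    have he := Replacement.isEA_sup hE (Replacement.isEA_zpowers hx) (by
      rw [Subgroup.le_centralizer_iff, Subgroup.zpowers_le]; exact hxc)
    exact (hEmax _ he le_sup_left).le (Subgroup.mem_sup_right (Subgroup.mem_zpowers x))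
  obtain ⟨F, -, hFn, hFe, hF3⟩ := SCN3.exists_normal_isEA hp2 hR hr ⊥ Fusion.Thompson.isEA_bot
  haveI := hFn
  have hnotcen : ¬ E ≤ Subgroup.center R := by
    intro hc
    have hFE : F ≤ E := fun x hx => habs x (hFe.2 x hx)
      (Subgroup.mem_centralizer_iff.mpr fun e he => (Subgroup.mem_center_iff.mp (hc he) x).symm)
    exact absurd (hF3.trans ((Subgroup.card_le_of_le hFE).trans hE2.le))
      (not_le.mpr (Nat.pow_lt_pow_right hp.out.one_lt (by norm_num)))
  have hZmem : ∀ x, x ∈ Z₀ ↔ x ∈ Subgroup.center R ∧ x ^ p = 1 := by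
    intro x
    refine ⟨fun hx => ?_, fun hx => Subgroup.subset_closure hx⟩
    induction hx using Subgroup.closure_induction with
    | mem x hx => exact hx
    | one => exact ⟨one_mem _, one_pow _⟩
    | mul a b _ _ ha hb =>
      refine ⟨mul_mem ha.1 hb.1, ?_⟩
      rw [Commute.mul_pow (Subgroup.mem_center_iff.mp hb.1 a), ha.2, hb.2, one_mul]
    | inv a _ ha => exact ⟨inv_mem ha.1, by rw [inv_pow, ha.2, inv_one]⟩
  have hZE : Z₀ ≤ E := fun x hx => habs x ((hZmem x).mp hx).2
    (Subgroup.centralizer_le (Set.subset_univ _) (Subgroup.mem_centralizer_iff.mpr fun g _ =>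
      Subgroup.mem_center_iff.mp ((hZmem x).mp hx).1 g))
  haveI : Nontrivial R := by
    by_contra h
    rw [not_nontrivial_iff_subsingleton] at h
    have : Nat.card F ≤ 1 := Finite.card_le_one_iff_subsingleton.mpr inferInstance
    exact absurd (hF3.trans this) (not_le.mpr (Nat.one_lt_pow (by norm_num) hp.out.one_lt))
  have hZ1 : Z₀ ≠ ⊥ := by
    haveI := hR.center_nontrivial
    obtain ⟨z, hz⟩ := exists_prime_orderOf_dvd_card' (G := Subgroup.center R) p
      ((hR.to_subgroup _).card_eq_or_dvd.resolve_left (Finite.one_lt_card (α := Subgroup.center R)).ne')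
    intro hb
    have hm : (z : R) ∈ Z₀ := (hZmem _).mpr ⟨z.2, by
      rw [← hz, ← Subgroup.coe_pow, pow_orderOf_eq_one]; rfl⟩
    rw [hb, Subgroup.mem_bot] at hm
    rw [show z = 1 from Subtype.ext hm, orderOf_one] at hz
    exact hp.out.ne_one hz.symm
  have hZc : Nat.card Z₀ = p := by
    obtain ⟨j, hj⟩ := (hR.to_subgroup Z₀).exists_card_eq
    have hlt : Nat.card Z₀ < p ^ 2 := by
      rw [← hE2]
      refine Set.ncard_lt_ncard (SetLike.coe_ssubset_coe.mpr (lt_of_le_of_ne hZE fun h => hnotcen ?_))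
      rw [← h]; exact fun x hx => ((hZmem x).mp hx).1
    rw [hj] at hlt ⊢
    have h1 := (Nat.pow_lt_pow_iff_right hp.out.one_lt).mp hlt
    have h2 : j ≠ 0 := fun h0 => hZ1 (Subgroup.eq_bot_of_card_eq _ (by rw [hj, h0, pow_zero]))
    rw [show j = 1 by omega, pow_one]
  -- `W > Z₀`
  have hZW : Z₀ ≤ W := fun x hx => ⟨mem_Z2_of_forall fun y => by
    rw [commutatorElement_eq_one_iff_commute.mpr (Subgroup.mem_center_iff.mp ((hZmem x).mp hx).1 y).symm]
    exact one_mem _, ((hZmem x).mp hx).2⟩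
  have hW2 : p ^ 2 ≤ Nat.card W := by
    by_cases hFZ : F ≤ Subgroup.center R
    · refine le_trans ((Nat.pow_le_pow_right hp.out.pos (by norm_num)).trans hF3) (Subgroup.card_le_of_le ?_)
      exact fun x hx => hZW ((hZmem x).mpr ⟨hFZ hx, hFe.2 x hx⟩)
    set q := QuotientGroup.mk' (Subgroup.center R) with hq
    haveI : (F.map q).Normal := hFn.map q (QuotientGroup.mk'_surjective _)
    have hne : F.map q ≠ ⊥ := fun h => hFZ fun x hx => by
      have := Subgroup.mem_map_of_mem q hx
      rw [h, Subgroup.mem_bot] at this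
      exact (QuotientGroup.eq_one_iff x).mp this
    haveI := (hR.to_quotient (Subgroup.center R)).isNilpotent
    have hne' := Solvable.FrattiniFitting.inf_center_ne_bot (F.map q) hne
    obtain ⟨v, ⟨⟨x, hxF, rfl⟩, hvc⟩, hv1⟩ := (Subgroup.bot_or_exists_ne_one _).resolve_left hne'
    have hxZ : x ∉ Subgroup.center R := fun h => hv1 ((QuotientGroup.eq_one_iff x).mpr h)
    have hxW : x ∈ W := ⟨mem_Z2_of_forall fun y => (QuotientGroup.eq_one_iff _).mp (by
      show q ⁅x, y⁆ = 1
      rw [map_commutatorElement]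
      exact commutatorElement_eq_one_iff_commute.mpr (Subgroup.mem_center_iff.mp hvc (q y)).symm), hFe.2 x hxF⟩
    obtain ⟨j, hj⟩ := (hR.to_subgroup W).exists_card_eq
    have hlt : Nat.card Z₀ < Nat.card W := Set.ncard_lt_ncard (SetLike.coe_ssubset_coe.mpr
      (lt_of_le_of_ne hZW fun h => hxZ ((hZmem x).mp (h ▸ hxW)).1))
    rw [hZc, hj] at hlt
    rw [hj]
    exact Nat.pow_le_pow_right hp.out.pos ((Nat.pow_lt_pow_iff_right hp.out.one_lt).mp (by rwa [pow_one]))
  -- a complement of `Z₀` in `E`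
  obtain ⟨e, heE, heZ⟩ := SetLike.exists_of_lt (lt_of_le_of_ne hZE fun h => by
    rw [h, hE2] at hZc
    exact absurd hZc (by
      nth_rw 2 [← pow_one p]
      exact (Nat.pow_lt_pow_right hp.out.one_lt (by norm_num)).ne'))
  have hEsup : Z₀ ⊔ Subgroup.zpowers e = E := by
    refine Subgroup.eq_of_le_of_card_ge (sup_le hZE (Subgroup.zpowers_le.mpr heE)) ?_
    obtain ⟨j, hj⟩ := (hR.to_subgroup (Z₀ ⊔ Subgroup.zpowers e : Subgroup R)).exists_card_eq
    have hlt : Nat.card Z₀ < Nat.card ↥(Z₀ ⊔ Subgroup.zpowers e) := Set.ncard_lt_ncard (SetLike.coe_ssubset_coe.mpr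
      (lt_of_le_of_ne le_sup_left fun h => heZ (h ▸ Subgroup.mem_sup_right (Subgroup.mem_zpowers e))))
    rw [hZc, hj] at hlt
    rw [hE2, hj]
    exact Nat.pow_le_pow_right hp.out.pos ((Nat.pow_lt_pow_iff_right hp.out.one_lt).mp (by rwa [pow_one]))
  have hCe : ∀ x : R, Commute e x → x ∈ Subgroup.centralizer (E : Set R) := by
    intro x hx
    have hle : E ≤ Subgroup.centralizer ({x} : Set R) := by
      rw [← hEsup]
      refine sup_le (fun z hz => Subgroup.mem_centralizer_singleton_iff.mpr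
        (Subgroup.mem_center_iff.mp ((hZmem z).mp hz).1 x).symm) (Subgroup.zpowers_le.mpr ?_)
      exact Subgroup.mem_centralizer_singleton_iff.mpr hx.eq
    exact Subgroup.mem_centralizer_iff.mpr fun a ha => Subgroup.mem_centralizer_singleton_iff.mp (hle ha)
  -- `E` is not in `Z₂`
  have heW : e ∉ W := by
    intro heW
    have hidx : (Subgroup.centralizer (E : Set R)).index ≤ p := by
      rw [← hZc, Subgroup.index_eq_card]
      let f : R ⧸ Subgroup.centralizer (E : Set R) → Z₀ := fun u => ⟨⁅e, u.out⁆,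
        (hZmem _).mpr ⟨mem_center_of_mem_Z2 heW.1 _, by
          rw [comm_pow heW.1, heW.2]; simp⟩⟩
      refine Nat.card_le_card_of_injective f fun u v huv => ?_
      rw [← Quotient.out_eq u, ← Quotient.out_eq v]
      refine QuotientGroup.eq.mpr (hCe _ ?_)
      have h := congrArg Subtype.val huv
      simp only [f] at h
      show e * (u.out⁻¹ * v.out) = u.out⁻¹ * v.out * e
      have h2 : u.out * e⁻¹ * u.out⁻¹ = v.out * e⁻¹ * v.out⁻¹ := by
        simpa [commutatorElement_def, mul_assoc] using h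
      have h3 : u.out * e * u.out⁻¹ = v.out * e * v.out⁻¹ := by
        have := congrArg (·⁻¹) h2
        simpa [mul_assoc] using this
      calc e * (u.out⁻¹ * v.out) = u.out⁻¹ * (u.out * e * u.out⁻¹) * v.out := by group
        _ = u.out⁻¹ * (v.out * e * v.out⁻¹) * v.out := by rw [h3]
        _ = _ := by group
    have hle : F ⊓ Subgroup.centralizer (E : Set R) ≤ E := fun x hx => habs x (hFe.2 x hx.1) hx.2
    have h1 : p ^ 2 ≤ Nat.card ↥(F ⊓ Subgroup.centralizer (E : Set R)) := by
      have h2 := (Subgroup.relIndex_le_of_le_right (le_top : F ≤ ⊤)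
        (H := Subgroup.centralizer (E : Set R)) Subgroup.index_ne_zero_of_finite).trans
        (le_of_eq_of_le (Subgroup.relIndex_top_right _) hidx)
      have h3 : Nat.card F = Nat.card ↥(F ⊓ Subgroup.centralizer (E : Set R)) *
          (Subgroup.centralizer (E : Set R)).relIndex F := by
        conv_lhs => rw [← Subgroup.card_mul_index ((F ⊓ Subgroup.centralizer (E : Set R)).subgroupOf F)]
        rw [Nat.card_congr (Subgroup.subgroupOfEquivOfLe inf_le_left).toEquiv]
        congr 1
        show (F ⊓ Subgroup.centralizer (E : Set R)).relIndex F = _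
        rw [inf_comm, Subgroup.inf_relIndex_right]
      have h4 : p ^ 3 ≤ Nat.card ↥(F ⊓ Subgroup.centralizer (E : Set R)) * p :=
        hF3.trans (h3.le.trans (Nat.mul_le_mul_left _ h2))
      rw [pow_succ] at h4
      exact Nat.le_of_mul_le_mul_right h4 hp.out.pos
    have hFE : E ≤ F := (Subgroup.eq_of_le_of_card_ge hle (hE2.le.trans h1)).ge.trans inf_le_left
    have := hEmax F hFe hFE
    rw [this, hE2] at hF3
    exact absurd hF3 (not_le.mpr (Nat.pow_lt_pow_right hp.out.one_lt (by norm_num)))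
  have hWC : W ⊓ Subgroup.centralizer (E : Set R) ≤ Z₀ := by
    intro x hx
    have hxE := habs x hx.1.2 hx.2
    by_contra hxZ
    refine heW ?_
    have hsup : Z₀ ⊔ Subgroup.zpowers x = E := by
      refine Subgroup.eq_of_le_of_card_ge (sup_le hZE (Subgroup.zpowers_le.mpr hxE)) ?_
      obtain ⟨j, hj⟩ := (hR.to_subgroup (Z₀ ⊔ Subgroup.zpowers x : Subgroup R)).exists_card_eq
      have hlt : Nat.card Z₀ < Nat.card ↥(Z₀ ⊔ Subgroup.zpowers x) := Set.ncard_lt_ncard (SetLike.coe_ssubset_coe.mpr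
        (lt_of_le_of_ne le_sup_left fun h => hxZ (h ▸ Subgroup.mem_sup_right (Subgroup.mem_zpowers x))))
      rw [hZc, hj] at hlt
      rw [hE2, hj]
      exact Nat.pow_le_pow_right hp.out.pos ((Nat.pow_lt_pow_iff_right hp.out.one_lt).mp (by rwa [pow_one]))
    exact sup_le hZW (Subgroup.zpowers_le.mpr hx.1) (hsup ▸ heE)
  have hW2' : Nat.card W ≤ p ^ 2 := by
    rw [← Subgroup.card_mul_index ((Subgroup.centralizer (E : Set R)).subgroupOf W)]
    refine le_trans (Nat.mul_le_mul ?_ ?_) (pow_two p).ge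
    · rw [← Subgroup.inf_subgroupOf_right, Nat.card_congr (Subgroup.subgroupOfEquivOfLe inf_le_right).toEquiv,
        inf_comm, ← hZc]
      exact Subgroup.card_le_of_le hWC
    · rw [← hZc, Subgroup.index_eq_card]
      let f : W ⧸ (Subgroup.centralizer (E : Set R)).subgroupOf W → Z₀ := fun u => ⟨⁅((u.out : W) : R), e⁆,
        (hZmem _).mpr ⟨mem_center_of_mem_Z2 (u.out : W).2.1 _, by
          rw [comm_pow (u.out : W).2.1, (u.out : W).2.2]; simp⟩⟩
      refine Nat.card_le_card_of_injective f fun u v huv => ?_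
      rw [← Quotient.out_eq u, ← Quotient.out_eq v]
      refine QuotientGroup.eq.mpr ?_
      rw [Subgroup.mem_subgroupOf]
      refine hCe _ ?_
      have h := congrArg Subtype.val huv
      simp only [f] at h
      set a := ((u.out : W) : R)
      set b := ((v.out : W) : R)
      show e * (a⁻¹ * b) = a⁻¹ * b * e
      have h3 : a * e * a⁻¹ = b * e * b⁻¹ := by simpa [commutatorElement_def] using h
      calc e * (a⁻¹ * b) = a⁻¹ * (a * e * a⁻¹) * b := by group
        _ = a⁻¹ * (b * e * b⁻¹) * b := by rw [h3]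
        _ = _ := by group
  have hWcard : Nat.card W = p ^ 2 := le_antisymm hW2' hW2
  have hWe : Cfsg.IsElementaryAbelian p W :=
    ⟨IsPGroup.isMulCommutative_of_card_eq_prime_sq hWcard, fun x hx => hx.2⟩
  have hET : ¬ E ≤ Subgroup.centralizer (W : Set R) := fun h => by
    have hle : W ≤ Z₀ := (le_inf le_rfl (Subgroup.le_centralizer_iff.mp h)).trans hWC
    have := (hWcard.ge.trans (Subgroup.card_le_of_le hle)).trans hZc.le
    exact absurd this (not_le.mpr (by simpa using Nat.pow_lt_pow_right hp.out.one_lt one_lt_two))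
  refine ⟨hET, hZc, ⟨hWe, hWcard⟩, CharOmega.centralizer_characteristic W, ?_⟩
  have h1 := UniqueTools.relIndex_centralizer_sq (P := ⊤) (hR.to_subgroup ⊤) le_top
    (by rw [Subgroup.normalizer_eq_top]) hWcard
  rw [Subgroup.relIndex_top_right] at h1
  obtain ⟨j, hj⟩ := hR.index (Subgroup.centralizer (W : Set R))
  rw [hj] at h1 ⊢
  have h2 : j ≤ 1 := (Nat.pow_le_pow_iff_right hp.out.one_lt).mp (by rwa [pow_one])
  have h3 : j ≠ 0 := by
    rintro rfl
    rw [pow_zero, Subgroup.index_eq_one] at hj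
    exact hET (hj ▸ le_top)
  rw [show j = 1 by omega, pow_one]

end CfsgLib.OddOrder.MaximalPlane
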