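import Cfsg.Agent.Lib.OddOrder.AlphaCentralizer
import Mathlib.GroupTheory.SpecificGroups.ZGroup
import Mathlib

set_option autoImplicit false

/-!
For `p ∉ σ(M)` some central element of order `p` of a Sylow subgroup of `M` has a centraliser not uniquely in `M`.
-/

namespace CfsgLib.OddOrder.AlphaElement

variable {G : Type*} [Group G] [Finite G] {p : ℕ} [hp : Fact p.Prime] {M : Subgroup G}

/-- If all Sylow subgroups have rank one the group is a Z-group (odd order). -/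
theorem isZGroup_of_rankLE {H : Type*} [Group H] [Finite H] (hodd : Odd (Nat.card H))
    (h : Cfsg.RankLE 1 H) : IsZGroup H := by
  refine (isZGroup_iff H).mpr fun q hq Q => ?_
  haveI := Fact.mk hq
  by_contra hnc
  have hq2 : q ≠ 2 := by
    intro h2
    refine hnc ?_
    haveI : Subsingleton (Q : Subgroup H) := by
      rcases Q.isPGroup'.card_eq_or_dvd with h1 | h1
      · exact (Finite.card_le_one_iff_subsingleton.mp h1.le)
      · exact absurd (hodd.of_dvd_nat (h1.trans (Subgroup.card_subgroup_dvd_card _))) (by rw [h2]; decide)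
    infer_instance
  obtain ⟨E, -, hEe, hE2⟩ := UniqueTools.exists_isEA_sq hq2 Q.isPGroup' hnc
  exact absurd (hE2.trans (h q hq E hEe.1 hEe.2))
    (not_le.mpr (Nat.pow_lt_pow_right hq.one_lt one_lt_two))

theorem main (hG : Cfsg.IsMinSimpleOddOrder G) (hM : IsCoatom M) (hpM : p ∣ Nat.card M)
    (hp' : p ∉ Cfsg.sigma M) (P : Sylow p M) :
    ∃ x : G, x ∈ ((Subgroup.center ↥(P : Subgroup M)).map (P : Subgroup M).subtype).map M.subtype ∧
      orderOf x = p ∧ IsZGroup ↥(Cfsg.alphaCore M ⊓ Subgroup.centralizer ({x} : Set G)) ∧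
      ¬ (Subgroup.centralizer ({x} : Set G) ≤ M ∧
        ∀ L : Subgroup G, IsCoatom L → Subgroup.centralizer ({x} : Set G) ≤ L → L = M) := by
  set Z := ((Subgroup.center ↥(P : Subgroup M)).map (P : Subgroup M).subtype).map M.subtype with hZ
  set R := (P : Subgroup M).map M.subtype with hR
  have hN : ¬ Subgroup.normalizer (R : Set G) ≤ M := fun h => hp' ⟨hp.out, hpM, P, h⟩
  obtain ⟨g, hgR, hgM⟩ := SetLike.not_le_iff_exists.mp hN
  haveI : Nontrivial (P : Subgroup M) := by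
    rw [Subgroup.nontrivial_iff_ne_bot]
    exact fun h => P.ne_bot_of_dvd_card hpM h
  haveI := P.isPGroup'.center_nontrivial
  obtain ⟨z₀, hz₀⟩ := exists_prime_orderOf_dvd_card' (G := Subgroup.center ↥(P : Subgroup M)) p
    ((P.isPGroup'.to_subgroup _).card_eq_or_dvd.resolve_left (Finite.one_lt_card).ne')
  set x₁ : G := (((z₀ : (P : Subgroup M)) : M) : G) with hx₁
  have hx₁Z : x₁ ∈ Z := ⟨_, ⟨_, z₀.2, rfl⟩, rfl⟩
  have hx₁o : orderOf x₁ = p := by rw [hx₁, Subgroup.orderOf_coe, Subgroup.orderOf_coe, Subgroup.orderOf_coe, hz₀]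
  -- a central element of order `p` with centraliser not uniquely in `M`
  obtain ⟨x, hxZ, hxo, hx⟩ : ∃ x ∈ Z, orderOf x = p ∧ ¬ (Subgroup.centralizer ({x} : Set G) ≤ M ∧
      ∀ L : Subgroup G, IsCoatom L → Subgroup.centralizer ({x} : Set G) ≤ L → L = M) := by
    by_contra hn
    push Not at hn
    have hmem : ∀ y : G, y ∈ Z ↔ y ∈ R ∧ ∀ r ∈ R, Commute y r := by
      intro y
      constructor
      · rintro ⟨a, ⟨b, hb, rfl⟩, rfl⟩
        refine ⟨⟨b, b.2, rfl⟩, ?_⟩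
        rintro _ ⟨c, hc, rfl⟩
        exact (congrArg (fun u : (P : Subgroup M) => ((u : M) : G)) (Subgroup.mem_center_iff.mp hb ⟨c, hc⟩)).symm
      · rintro ⟨⟨b, hb, rfl⟩, hcomm⟩
        refine ⟨b, ⟨⟨b, hb⟩, Subgroup.mem_center_iff.mpr fun c => ?_, rfl⟩, rfl⟩
        exact Subtype.ext (Subtype.ext (hcomm _ ⟨c, c.2, rfl⟩).eq.symm)
    set x₂ := g * x₁ * g⁻¹ with hx₂
    have hx₂Z : x₂ ∈ Z := by
      obtain ⟨h1, h2⟩ := (hmem x₁).mp hx₁Z
      refine (hmem x₂).mpr ⟨(Subgroup.mem_normalizer_iff.mp hgR x₁).mp h1, fun r hr => ?_⟩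
      have hr' : g⁻¹ * r * g ∈ R := (Subgroup.mem_normalizer_iff''.mp hgR r).mp hr
      have h3 := h2 _ hr'
      calc g * x₁ * g⁻¹ * r = g * (x₁ * (g⁻¹ * r * g)) * g⁻¹ := by group
        _ = g * ((g⁻¹ * r * g) * x₁) * g⁻¹ := by rw [h3.eq]
        _ = r * (g * x₁ * g⁻¹) := by group
    obtain ⟨hC₁, -⟩ := hn x₁ hx₁Z hx₁o
    obtain ⟨-, hu₂⟩ := hn x₂ hx₂Z (by
      rw [hx₂, show g * x₁ * g⁻¹ = MulAut.conj g x₁ from rfl, MulEquiv.orderOf_eq, hx₁o])
    have h := hu₂ (SigmaFusion.cj g M) (SigmaFusion.isCoatom_cj hM g) (fun c hc => by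
      refine ⟨g⁻¹ * c * g, hC₁ (Subgroup.mem_centralizer_singleton_iff.mpr ?_), by simp [mul_assoc]⟩
      have hc' := Subgroup.mem_centralizer_singleton_iff.mp hc
      calc g⁻¹ * c * g * x₁ = g⁻¹ * (c * (g * x₁ * g⁻¹)) * g := by group
        _ = g⁻¹ * ((g * x₁ * g⁻¹) * c) * g := by rw [hc']
        _ = _ := by group)
    refine hgM ?_
    have hMN := SigmaFusion.normalizer_eq_self hG.2 hM fun hb => hp.out.not_dvd_one
      (by rw [hb, Subgroup.card_bot] at hpM; exact hpM)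
    exact hMN ▸ (Subgroup.mem_normalizer_iff_map_conj_eq.mpr h : g ∈ Subgroup.normalizer (M : Set G))
  refine ⟨x, hxZ, hxo, ?_, hx⟩
  have hxM : x ∈ M := Subgroup.map_subtype_le _ hxZ
  have hpα : p ∉ Cfsg.alpha M := fun h => hp' (SigmaBasics.mem_sigma_of_alpha hG hM h)
  set D := Cfsg.alphaCore M ⊓ Subgroup.centralizer ({x} : Set G) with hD
  refine isZGroup_of_rankLE (hG.1.of_dvd_nat D.card_subgroup_dvd_card) fun q hq => ?_
  haveI := Fact.mk hq
  by_contra hr
  obtain ⟨B, hBD, hBe, hB2⟩ := UniqueTools.exists_isEA_of_not_rankLE hr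
  have hC : Subgroup.centralizer ((Subgroup.zpowers x : Subgroup G) : Set G) = Subgroup.centralizer ({x} : Set G) := by
    rw [Subgroup.zpowers_eq_closure, Subgroup.centralizer_closure]
  obtain ⟨M₀, ⟨hM₀, hle⟩, hu⟩ := AlphaCentralizer.main hG hM (X := Subgroup.zpowers x)
    (Subgroup.zpowers_le.mpr hxM) (fun t ht htx => by
      rw [Nat.card_zpowers, hxo, Nat.prime_dvd_prime_iff_eq ht hp.out] at htx
      exact htx ▸ hpα) hBe hB2 (hBD.trans inf_le_left) (by rw [hC]; exact hBD.trans inf_le_right)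
  refine hx ⟨?_, fun L hL hCL => ?_⟩
  · obtain ⟨L, hL, hCL⟩ := (eq_top_or_exists_le_coatom (Subgroup.centralizer ({x} : Set G))).resolve_left
      (SCNUnique.centralizer_singleton_ne_top hG.2 fun h => hp.out.ne_one (by rw [← hxo, h, orderOf_one]))
    rw [hu M ⟨hM, inf_le_left⟩, ← hu L ⟨hL, inf_le_right.trans (hC.le.trans hCL)⟩]
    exact hCL
  · exact (hu L ⟨hL, inf_le_right.trans (hC.le.trans hCL)⟩).trans (hu M ⟨hM, inf_le_left⟩).symm

end CfsgLib.OddOrder.AlphaElement
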