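import Cfsg.Agent.Lib.OddOrder.PLengthComplement
import Cfsg.Agent.Lib.OddOrder.PLengthOne
import Cfsg.Agent.Lib.OddOrder.RankTwo
import Cfsg.Agent.Lib.OddOrder.AlphaElement
import Mathlib

set_option autoImplicit false

/-!
Proper subgroups of a minimal simple group of odd order have `p`-length one.
-/

namespace CfsgLib.OddOrder.ProperPLength

open scoped commutatorElement

variable {G : Type*} [Group G] [Finite G] {p : ℕ} [hp : Fact p.Prime]

theorem upper_two : (Cfsg.upperPSeries p G 2).1 = Cfsg.pPrimePCore p G := by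
  set U1 := (Cfsg.upperPSeries p G 1).1 with hU1
  haveI : U1.Normal := (Cfsg.upperPSeries p G 1).2
  have hO : U1 = Cfsg.pPrimeCore p G := by
    rw [hU1, Cfsg.upperPSeries]
    simp only [show Even 0 from ⟨0, rfl⟩, if_true]
    haveI : ((Cfsg.upperPSeries p G 0).1).Normal := (Cfsg.upperPSeries p G 0).2
    set q := QuotientGroup.mk' (Cfsg.upperPSeries p G 0).1 with hq
    have hqs : Function.Surjective q := QuotientGroup.mk'_surjective _
    have hqi : Function.Injective q := (MonoidHom.ker_eq_bot_iff _).mp (QuotientGroup.ker_mk' _)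
    refine le_antisymm (Solvable.Cores.le_pPrimeCore ?_) (Subgroup.map_le_iff_le_comap.mp ?_)
    · rw [← Subgroup.card_map_of_injective hqi, Subgroup.map_comap_eq_self_of_surjective hqs]
      exact Solvable.Cores.coprime_card_pPrimeCore p
    · haveI := (inferInstance : (Cfsg.pPrimeCore p G).Normal).map q hqs
      refine Solvable.Cores.le_pPrimeCore ?_
      rw [Subgroup.card_map_of_injective hqi]
      exact Solvable.Cores.coprime_card_pPrimeCore p
  have key : ∀ (A B : Subgroup G) [A.Normal] [B.Normal], A = B →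
      (Cfsg.pCore p (G ⧸ A)).comap (QuotientGroup.mk' A) = (Cfsg.pCore p (G ⧸ B)).comap (QuotientGroup.mk' B) := by
    intro A B _ _ h; subst h; rfl
  rw [Cfsg.upperPSeries]
  simp only [show ¬ Even 1 from Nat.not_even_one, if_false]
  exact key _ _ hO

theorem pLength_iff : Cfsg.PLengthLE p 1 G ↔ (Cfsg.pPrimePCore p G).index.Coprime p :=
  ⟨fun h => upper_two (G := G) (p := p) ▸ PLengthOne.coprime_index_of_pLength h, PLengthComplement.of_coprime_index⟩

/-- `p`-length one passes to subgroups. -/
theorem pLength_of_injective {H : Type*} [Group H] [Finite H] (f : H →* G) (hf : Function.Injective f)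
    (h : Cfsg.PLengthLE p 1 G) : Cfsg.PLengthLE p 1 H := by
  rw [pLength_iff] at h ⊢
  set O := Cfsg.pPrimeCore p G with hO
  set P := Cfsg.pPrimePCore p G with hP
  haveI : P.Normal := Subgroup.normal_comap _
  haveI hPn : (P.comap f).Normal := Subgroup.normal_comap f
  have hOle : O.comap f ≤ Cfsg.pPrimeCore p H := by
    haveI : (O.comap f).Normal := Subgroup.normal_comap f
    refine Solvable.Cores.le_pPrimeCore ((Solvable.Cores.coprime_card_pPrimeCore (G := G) p).coprime_dvd_left ?_)
    exact Subgroup.card_comap_dvd_of_injective O f hf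
  have hle : P.comap f ≤ Cfsg.pPrimePCore p H := by
    rw [Cfsg.pPrimePCore, ← Subgroup.map_le_iff_le_comap]
    haveI : ((P.comap f).map (QuotientGroup.mk' (Cfsg.pPrimeCore p H))).Normal :=
      hPn.map _ (QuotientGroup.mk'_surjective _)
    refine Solvable.Cores.le_pCore ?_
    rintro ⟨_, a, ha, rfl⟩
    obtain ⟨k, hk⟩ := Solvable.Cores.isPGroup_pCore (G := G ⧸ O) p ⟨_, ha⟩
    refine ⟨k, Subtype.ext ?_⟩
    have h1 : (f a) ^ p ^ k ∈ O := (QuotientGroup.eq_one_iff _).mp (congrArg Subtype.val hk)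
    show (QuotientGroup.mk' (Cfsg.pPrimeCore p H) a) ^ p ^ k = 1
    rw [← map_pow]
    exact (QuotientGroup.eq_one_iff _).mpr (hOle (by rw [Subgroup.mem_comap, map_pow]; exact h1))
  refine Nat.Coprime.coprime_dvd_left ((Subgroup.index_dvd_of_le hle).trans ?_) h
  rw [Subgroup.index_comap]
  exact Subgroup.relIndex_dvd_index_of_normal P f.range

variable {M : Subgroup G}

omit hp in
theorem exists_not_sigma (hG : Cfsg.IsMinSimpleOddOrder G) (hM : IsCoatom M) (hM1 : M ≠ ⊥) :
    ∃ t : ℕ, t.Prime ∧ t ∣ Nat.card M ∧ t ∉ Cfsg.sigma M := by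
  by_contra hno
  push Not at hno
  haveI : Group.IsSolvable M := hG.2.2.2 M hM.1
  haveI : Nontrivial M := (Subgroup.nontrivial_iff_ne_bot M).mpr hM1
  refine (Group.IsSolvable.commutator_lt_top_of_nontrivial M).ne
    (Solvable.Cores.eq_top_of_sylow_le _ fun t ht => ?_)
  haveI := Fact.mk ht
  by_cases htM : t ∣ Nat.card M
  · obtain ⟨P, hPM, -⟩ := SigmaFusion.exists_sylow_sigma (hno t ht htM)
    refine ⟨P.subtype hPM, fun a ha => ?_⟩
    rw [Sylow.coe_subtype, Subgroup.mem_subgroupOf] at ha
    obtain ⟨y, hy, hye⟩ :=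
      (Subgroup.map_subtype_commutator M).ge (SigmaBasics.sylow_le_derived hG hM (hno t ht htM) P hPM ha)
    exact M.subtype_injective hye ▸ hy
  · obtain ⟨S⟩ : Nonempty (Sylow t M) := inferInstance
    refine ⟨S, ?_⟩
    rcases S.isPGroup'.card_eq_or_dvd with h | h
    · rw [Subgroup.eq_bot_of_card_eq _ h]; exact bot_le
    · exact absurd (h.trans (Subgroup.card_subgroup_dvd_card _)) htM

/-- A Hall normal subgroup inside the derived subgroup is `[H, R]` for a complement `R`. -/
theorem commutator_eq_self {X : Type*} [Group X] [Finite X] [Group.IsSolvable X] {H R : Subgroup X} [H.Normal]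
    (hcop : (Nat.card H).Coprime (Nat.card R)) (hHR : Subgroup.IsComplement' H R)
    (hle : H ≤ _root_.commutator X) : ⁅H, R⁆ = H := by
  set K := ⁅H, R⁆ with hK
  have hKH : K ≤ H := Subgroup.commutator_le_left H R
  haveI : K.Normal := by
    refine Subgroup.normalizer_eq_top_iff.mp (top_le_iff.mp ?_)
    rw [← hHR.sup_eq_top]
    exact sup_le (Subgroup.normalizer_commutator_ge_left H R) (Subgroup.normalizer_commutator_ge_right H R)
  set f := QuotientGroup.mk' K with hf
  have hfs : Function.Surjective f := QuotientGroup.mk'_surjective K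
  set A := H.map f with hA
  set B := R.map f with hB
  have hc : ∀ (a : A) (b : B), Commute (A.subtype a) (B.subtype b) := by
    rintro ⟨_, a, ha, rfl⟩ ⟨_, b, hb, rfl⟩
    refine commutatorElement_eq_one_iff_commute.mp ?_
    show ⁅f a, f b⁆ = 1
    rw [← map_commutatorElement]
    exact (QuotientGroup.eq_one_iff _).mpr (Subgroup.commutator_mem_commutator ha hb)
  let e := MonoidHom.noncommCoprod A.subtype B.subtype hc
  have hAB : (Nat.card A).Coprime (Nat.card B) :=
    (hcop.coprime_dvd_left (Subgroup.card_map_dvd _ f)).coprime_dvd_right (Subgroup.card_map_dvd _ f)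
  have hebij : Function.Bijective e := by
    constructor
    · refine (injective_iff_map_eq_one e).mpr ?_
      rintro ⟨a, b⟩ hab
      have hab' : (a : X ⧸ K) * b = 1 := hab
      have ha : (a : X ⧸ K) ∈ A ⊓ B := ⟨a.2, by rw [eq_inv_of_mul_eq_one_left hab']; exact B.inv_mem b.2⟩
      rw [(Subgroup.disjoint_of_coprime_natCard hAB).eq_bot, Subgroup.mem_bot] at ha
      have ha' : a = 1 := Subtype.ext ha
      rw [ha', Subgroup.coe_one, one_mul] at hab'
      exact Prod.ext ha' (Subtype.ext hab')
    · rw [← MonoidHom.range_eq_top, MonoidHom.noncommCoprod_range, Subgroup.range_subtype, Subgroup.range_subtype, hA, hB,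
        ← Subgroup.map_sup, hHR.sup_eq_top, Subgroup.map_top_of_surjective _ hfs]
  let E := MulEquiv.ofBijective e hebij
  let ψ : X ⧸ K →* A := (MonoidHom.fst A B).comp E.symm.toMonoidHom
  have hψ : ∀ a : A, ψ a = a := fun a => by
    have : E (a, 1) = (a : X ⧸ K) := by simp [E, e]
    show (E.symm (a : X ⧸ K)).1 = a
    rw [← this, E.symm_apply_apply]
  haveI : Group.IsSolvable (X ⧸ K) := Group.isSolvable_of_surjective hfs
  have hperf : _root_.commutator A = ⊤ := by
    refine top_le_iff.mp fun a _ => ?_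
    obtain ⟨y, hy, hye⟩ := a.2
    have h1 : (a : X ⧸ K) ∈ _root_.commutator (X ⧸ K) := by
      rw [← hye, _root_.commutator_def, ← Subgroup.map_top_of_surjective _ hfs, ← Subgroup.map_commutator]
      exact Subgroup.mem_map_of_mem f (hle hy)
    have h2 := Subgroup.mem_map_of_mem ψ h1
    rw [hψ, _root_.commutator_def, Subgroup.map_commutator] at h2
    rw [_root_.commutator_def]
    exact Subgroup.commutator_mono le_top le_top h2
  refine le_antisymm hKH fun a ha => ?_
  rcases subsingleton_or_nontrivial A with hs | hn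
  · have : (⟨f a, a, ha, rfl⟩ : A) = 1 := Subsingleton.elim _ _
    exact (QuotientGroup.eq_one_iff a).mp (congrArg Subtype.val this)
  · exact absurd hperf (Group.IsSolvable.commutator_lt_top_of_nontrivial A).ne

theorem maximal (hG : Cfsg.IsMinSimpleOddOrder G) (hM : IsCoatom M) : Cfsg.PLengthLE p 1 M := by
  haveI : Group.IsSolvable M := hG.2.2.2 M hM.1
  have hoddM : Odd (Nat.card M) := Uniqueness.odd_of_le hG.1 M
  by_cases hpM : p ∣ Nat.card M
  swap
  · exact PLengthComplement.of_coprime_index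
      ((hp.out.coprime_iff_not_dvd.mpr fun h => hpM (h.trans (Subgroup.index_dvd_card _))).symm)
  have hp2 : p ≠ 2 := fun h => by
    have := hoddM.of_dvd_nat hpM
    rw [h] at this; exact absurd this (by decide)
  by_cases hr : Cfsg.PRankLE p 2 M
  · exact PLengthComplement.of_coprime_index (RankTwo.main hoddM hp2 hr).2.1
  have hpα : p ∈ Cfsg.alpha M := ⟨hp.out, hr⟩
  have hM1 : M ≠ ⊥ := fun h => by
    rw [h, Subgroup.card_bot] at hpM; exact hp.out.not_dvd_one hpM
  obtain ⟨t, ht, htM, htσ⟩ := exists_not_sigma hG hM hM1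
  haveI := Fact.mk ht
  obtain ⟨P⟩ : Nonempty (Sylow t M) := inferInstance
  obtain ⟨x, hxP, hxo, hxZ, -⟩ := AlphaElement.main hG hM htM htσ P
  have hxM : x ∈ M := Subgroup.map_subtype_le _ hxP
  have htα : t ∉ Cfsg.alpha M := fun h => htσ (SigmaBasics.mem_sigma_of_alpha hG hM h)
  set N := Cfsg.piCore (Cfsg.alpha M) M with hN
  haveI hNn : N.Normal := Subgroup.sSup_normal _ fun _ h => h.1
  have hidx := (SigmaBasics.quotient_facts hG hM).1
  have hNcop : (Nat.card N).Coprime N.index :=
    Nat.coprime_of_dvd fun l hl h1 h2 => hidx l hl (SigmaBasics.mem_of_dvd_piCore hl h1) h2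
  set xM : M := ⟨x, hxM⟩ with hxMdef
  have hxo' : orderOf xM = t := by rw [hxMdef, Subgroup.orderOf_mk, hxo]
  obtain ⟨R, ⟨-, hRπ, hRi⟩, hxR⟩ := Coprime.exists_hall_ge {l : ℕ | l ∉ Cfsg.alpha M} (G := (⊤ : Subgroup M))
    (U := Subgroup.zpowers xM) inferInstance le_top (fun l hl h => by
      rw [Nat.card_zpowers, hxo'] at h
      rw [(Nat.prime_dvd_prime_iff_eq hl ht).mp h]; exact htα)
  rw [Subgroup.relIndex_top_right] at hRi
  have hcR : (Nat.card R).Coprime (Nat.card N) :=
    Nat.coprime_of_dvd fun l hl h1 h2 => hRπ l hl h1 (SigmaBasics.mem_of_dvd_piCore hl h2)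
  have hcard : Nat.card N * Nat.card R = Nat.card M := by
    have e1 := N.card_mul_index
    have e2 := R.card_mul_index
    have hci : (R.index).Coprime N.index := Nat.coprime_of_dvd fun l hl h1 h2 =>
      hidx l hl (by by_contra hn; exact hRi l hl hn h1) h2
    have d1 : Nat.card R ∣ N.index := hcR.dvd_of_dvd_mul_left (e1.symm ▸ Subgroup.card_subgroup_dvd_card R)
    have d2 : N.index ∣ Nat.card R := hci.symm.dvd_of_dvd_mul_right (e2.symm ▸ N.index_dvd_card)
    rw [Nat.dvd_antisymm d1 d2, e1]
  have hcompl : Subgroup.IsComplement' N R := Subgroup.isComplement'_of_coprime hcard hcR.symm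
  have hNder : N ≤ _root_.commutator M := by
    intro a ha
    refine (QuotientGroup.eq_one_iff a).mp (orderOf_eq_one_iff.mp (Nat.eq_one_of_dvd_coprimes
      (a := Nat.card N) (b := (_root_.commutator M).index) ?_ ((orderOf_map_dvd (QuotientGroup.mk' (_root_.commutator M)) a).trans
        (Subgroup.orderOf_dvd_natCard N ha)) (by rw [Subgroup.index_eq_card]; exact orderOf_dvd_natCard _)))
    refine Nat.coprime_of_dvd fun l hl h1 h2 => ?_
    haveI := Fact.mk hl
    have hlσ := SigmaBasics.mem_sigma_of_alpha hG hM (SigmaBasics.mem_of_dvd_piCore hl h1)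
    obtain ⟨S, hSM, -⟩ := SigmaFusion.exists_sylow_sigma hlσ
    have hle : ((S.subtype hSM : Sylow l M) : Subgroup M) ≤ _root_.commutator M := by
      intro b hb
      rw [Sylow.coe_subtype, Subgroup.mem_subgroupOf] at hb
      obtain ⟨y, hy, hye⟩ := (Subgroup.map_subtype_commutator M).ge (SigmaBasics.sylow_le_derived hG hM hlσ S hSM hb)
      exact M.subtype_injective hye ▸ hy
    exact (S.subtype hSM).not_dvd_index (h2.trans (Subgroup.index_dvd_of_le hle))
  have hNR : ⁅N, R⁆ = N := commutator_eq_self hcR.symm hcompl hNder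
  have hZ : IsZGroup ↥(N ⊓ Subgroup.centralizer (Subgroup.zpowers xM : Set M)) := by
    haveI := hxZ
    let φ : ↥(N ⊓ Subgroup.centralizer (Subgroup.zpowers xM : Set M)) →*
        ↥(Cfsg.alphaCore M ⊓ Subgroup.centralizer ({x} : Set G)) :=
      (M.subtype.comp (Subgroup.subtype _)).codRestrict _ fun a => by
        refine Subgroup.mem_inf.mpr ⟨⟨a, a.2.1, rfl⟩, Subgroup.mem_centralizer_singleton_iff.mpr ?_⟩
        exact (congrArg Subtype.val (Subgroup.mem_centralizer_iff.mp a.2.2 xM (Subgroup.mem_zpowers xM))).symm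
    exact IsZGroup.of_injective (f := φ) fun a b hab =>
      Subtype.ext (Subtype.ext (congrArg (fun z : ↥(Cfsg.alphaCore M ⊓ Subgroup.centralizer ({x} : Set G)) => (z : G)) hab))
  have hmain := PLengthComplement.main (p := p) hoddM N R (Subgroup.zpowers xM) hNcop hcompl hxR
    (by rw [Nat.card_zpowers, hxo']; exact ht) hZ
  rw [hNR, pLength_iff] at hmain
  refine PLengthComplement.of_coprime_index ?_
  -- the index of `N` is prime to `p`
  set A := (Cfsg.pPrimePCore p N).map N.subtype with hA
  set O := (Cfsg.pPrimeCore p N).map N.subtype with hO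
  haveI : (Cfsg.pPrimePCore p N).Characteristic := by
    refine Subgroup.characteristic_iff_map_le.mpr fun e => ?_
    rintro _ ⟨a, ha, rfl⟩
    have hOe : (Cfsg.pPrimeCore p N).map e.toMonoidHom = Cfsg.pPrimeCore p N :=
      Subgroup.characteristic_iff_map_eq.mp inferInstance e
    let ebar := QuotientGroup.congr (Cfsg.pPrimeCore p N) (Cfsg.pPrimeCore p N) e hOe
    show QuotientGroup.mk' _ (e a) ∈ Cfsg.pCore p _
    rw [← Solvable.Cores.map_pCore ebar p]
    exact ⟨_, ha, rfl⟩
  haveI : A.Normal := inferInstance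
  haveI : O.Normal := inferInstance
  have hAle : A ≤ Cfsg.pPrimePCore p M := by
    rw [Cfsg.pPrimePCore, ← Subgroup.map_le_iff_le_comap]
    haveI : (A.map (QuotientGroup.mk' (Cfsg.pPrimeCore p M))).Normal :=
      (inferInstance : A.Normal).map _ (QuotientGroup.mk'_surjective _)
    refine Solvable.Cores.le_pCore ?_
    have hOle : O ≤ Cfsg.pPrimeCore p M := Solvable.Cores.le_pPrimeCore (by
      rw [hO, Subgroup.card_map_of_injective N.subtype_injective]; exact Solvable.Cores.coprime_card_pPrimeCore p)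
    rintro ⟨_, _, ⟨a, ha, rfl⟩, rfl⟩
    obtain ⟨k, hk⟩ := Solvable.Cores.isPGroup_pCore (G := N ⧸ Cfsg.pPrimeCore p N) p ⟨_, ha⟩
    refine ⟨k, Subtype.ext ?_⟩
    have h1 : a ^ p ^ k ∈ Cfsg.pPrimeCore p N := (QuotientGroup.eq_one_iff _).mp (congrArg Subtype.val hk)
    show (QuotientGroup.mk' (Cfsg.pPrimeCore p M) (a : M)) ^ p ^ k = 1
    rw [← map_pow]
    exact (QuotientGroup.eq_one_iff _).mpr (hOle ⟨_, h1, rfl⟩)
  refine Nat.Coprime.coprime_dvd_left (Subgroup.index_dvd_of_le hAle) ?_
  rw [hA, Subgroup.index_map_subtype]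
  exact Nat.Coprime.mul_left hmain ((hp.out.coprime_iff_not_dvd.mpr (hidx p hp.out hpα)).symm)

theorem main (hG : Cfsg.IsMinSimpleOddOrder G) (H : Subgroup G) (hH : H ≠ ⊤) : Cfsg.PLengthLE p 1 H := by
  obtain ⟨M, hM, hHM⟩ := (eq_top_or_exists_le_coatom H).resolve_left hH
  exact pLength_of_injective (Subgroup.inclusion hHM) (Subgroup.inclusion_injective hHM) (maximal hG hM)

end CfsgLib.OddOrder.ProperPLength
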