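import Cfsg.Agent.Lib.OddOrder.ZJControl
import Cfsg.Agent.Lib.OddOrder.ProperPLength
import Mathlib

set_option autoImplicit false

/-!
In a minimal simple group of odd order the normalizer of a Sylow `p`-subgroup controls fusion.
-/

namespace CfsgLib.OddOrder.NormalizerFusion

open scoped commutatorElement

variable {G : Type*} [Group G] [Finite G] {p : ℕ} [hp : Fact p.Prime]

omit hp in
theorem mem_normalizer_of_conj {Q : Subgroup G} {z : G} (h : ∀ q ∈ Q, z * q * z⁻¹ ∈ Q) :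
    z ∈ Subgroup.normalizer (Q : Set G) := by
  have hle : Q.map (MulAut.conj z).toMonoidHom ≤ Q := by
    rintro _ ⟨q, hq, rfl⟩; exact h q hq
  have heq := Subgroup.eq_of_le_of_card_ge hle
    (by rw [Subgroup.card_map_of_injective (f := (MulAut.conj z).toMonoidHom) (MulAut.conj z).injective])
  refine Subgroup.mem_normalizer_iff.mpr fun q => ⟨h q, fun hq => ?_⟩
  rw [← heq] at hq
  obtain ⟨q', hq', he⟩ := hq
  have : q' = q := by simpa using he
  exact this ▸ hq'

theorem exists_normalizer_acts (hG : Cfsg.IsMinSimpleOddOrder G) (P : Sylow p G) {Q : Subgroup G}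
    (hQ : Q ≤ (P : Subgroup G)) {x : G} (hx : ∀ q ∈ Q, x * q * x⁻¹ ∈ (P : Subgroup G)) :
    ∃ y ∈ Subgroup.normalizer ((P : Subgroup G) : Set G), ∀ q ∈ Q, y * q * y⁻¹ = x * q * x⁻¹ := by
  haveI := hG.2.1
  by_cases hP : (P : Subgroup G) = ⊥
  · refine ⟨1, one_mem _, fun q hq => ?_⟩
    have : q = 1 := Subgroup.mem_bot.mp (hP ▸ hQ hq)
    subst this; simp
  have hne : ∀ U : Subgroup G, U ≠ ⊥ → U ≠ ⊤ → Subgroup.normalizer (U : Set G) ≠ ⊤ := fun U h1 h2 h => by
    rcases (Subgroup.normalizer_eq_top_iff.mp h).eq_bot_or_eq_top with h' | h'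
    · exact h1 h'
    · exact h2 h'
  have htop : ∀ U : Subgroup G, IsPGroup p U → U ≠ ⊤ := fun U hU h => by
    haveI : Group.IsNilpotent G := by
      haveI := hU.isNilpotent
      exact Group.nilpotent_of_mulEquiv ((MulEquiv.subgroupCongr h).trans Subgroup.topEquiv)
    exact hG.2.2.1 ⟨⟨fun a b => (IsSimpleGroup.comm_iff_isSolvable.mpr inferInstance) a b⟩⟩
  set Z := Cfsg.centerThompsonOf p (P : Subgroup G) with hZ
  set H := Subgroup.normalizer (Z : Set G) with hH
  have hPH : (P : Subgroup G) ≤ H := Subgroup.le_normalizer.trans (ZJ.centerThompsonOf_normalizer _)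
  have hHtop : H ≠ ⊤ := hne Z (SylowLocal.centerThompsonOf_ne_bot P.isPGroup' hP)
    (htop Z (P.isPGroup'.to_le (inf_le_left.trans (Fusion.Thompson.thompsonSubgroupOf_le _))))
  obtain ⟨h, hh, he⟩ := ZJControl.acts_like (hodd := hG.1) P
    (fun U hU hU1 => hG.2.2.2 _ (hne U hU1 (htop U hU))) (A := (Q : Set G)) (g := x⁻¹) hQ (by
      rintro _ ⟨q, hq, rfl⟩
      show _ ∈ (P : Subgroup G)
      simpa using hx q hq)
  obtain ⟨n, hn, o, ho, hno⟩ := PLengthOne.exists_decomp (P.subtype hPH) (ProperPLength.main hG H hHtop)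
    ⟨h⁻¹, inv_mem hh⟩
  have hn' : (n : G) ∈ Subgroup.normalizer ((P : Subgroup G) : Set G) := by
    refine Subgroup.mem_normalizer_iff.mpr fun z => ⟨fun hz => ?_, fun hz => ?_⟩
    · have := (Subgroup.mem_normalizer_iff.mp hn ⟨z, hPH hz⟩).mp (by rw [Sylow.coe_subtype]; exact hz)
      rw [Sylow.coe_subtype] at this
      exact this
    · have hzH : z ∈ H := by
        have := mul_mem (mul_mem (inv_mem n.2) (hPH hz)) n.2
        simpa [mul_assoc] using this
      have := (Subgroup.mem_normalizer_iff.mp hn ⟨z, hzH⟩).mpr (by rw [Sylow.coe_subtype]; exact hz)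
      rw [Sylow.coe_subtype] at this
      exact this
  refine ⟨n, hn', fun q hq => ?_⟩
  have hno' : (n : G) * o = h⁻¹ := congrArg Subtype.val hno
  have hq' : h⁻¹ * q * h = x * q * x⁻¹ := by rw [he q hq, inv_inv]
  have hmem : (o : G) * q * (o : G)⁻¹ ∈ (P : Subgroup G) := by
    have h1 := (Subgroup.mem_normalizer_iff''.mp hn' _).mp (hx q hq)
    have h2 : (n : G)⁻¹ * (x * q * x⁻¹) * n = o * q * (o : G)⁻¹ := by
      rw [← hq', show h = ((n : G) * o)⁻¹ by rw [hno', inv_inv]]; group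
    exact h2 ▸ h1
  have hc := congrArg Subtype.val (PLengthOne.commute_of_conj_mem (P.subtype hPH) ho (y := ⟨q, hPH (hQ hq)⟩)
    (by rw [Sylow.coe_subtype]; exact hQ hq) (by rw [Sylow.coe_subtype]; exact hmem))
  rw [← hq', show h = ((n : G) * o)⁻¹ by rw [hno', inv_inv]]
  simp only [Subgroup.coe_mul] at hc
  calc (n : G) * q * (n : G)⁻¹ = n * (q * o) * (o : G)⁻¹ * (n : G)⁻¹ := by group
    _ = n * (o * q) * (o : G)⁻¹ * (n : G)⁻¹ := by rw [hc]
    _ = _ := by group

theorem controls (hG : Cfsg.IsMinSimpleOddOrder G) (P : Sylow p G) :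
    Fusion.Transfer.Controls (P : Subgroup G) (Subgroup.normalizer ((P : Subgroup G) : Set G)) := by
  intro x hx g hg
  obtain ⟨y, hy, he⟩ := exists_normalizer_acts hG P (Q := Subgroup.zpowers x) (Subgroup.zpowers_le.mpr hx) (x := g)
    fun q hq => by
      obtain ⟨k, rfl⟩ := Subgroup.mem_zpowers_iff.mp hq
      rw [← conj_zpow]; exact zpow_mem hg k
  exact ⟨y, hy, he x (Subgroup.mem_zpowers x)⟩

theorem sylow_le_derived (hG : Cfsg.IsMinSimpleOddOrder G) (P : Sylow p G) :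
    (P : Subgroup G) ≤
      ⁅Subgroup.normalizer ((P : Subgroup G) : Set G), Subgroup.normalizer ((P : Subgroup G) : Set G)⁆ := by
  haveI := hG.2.1
  have heq := Fusion.Transfer.commutator_inf_eq_of_controls P Subgroup.le_normalizer (controls hG P)
  have htop : _root_.commutator G = ⊤ := by
    rcases (inferInstance : (_root_.commutator G).Normal).eq_bot_or_eq_top with hb | ht
    · exact absurd ((commutator_eq_bot_iff G).mp hb) hG.2.2.1
    · exact ht
  rw [htop, top_inf_eq] at heq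
  exact heq.le.trans inf_le_left

theorem commutator_complement (hG : Cfsg.IsMinSimpleOddOrder G) (P : Sylow p G) {V : Subgroup G}
    (hV : Cfsg.IsComplIn (P : Subgroup G) V (Subgroup.normalizer ((P : Subgroup G) : Set G))) :
    (P : Subgroup G) = ⁅(P : Subgroup G), V⁆ := by
  obtain ⟨-, hVN, hPV, hprod⟩ := hV
  set Pu := (P : Subgroup G) with hPu
  set W := ⁅Pu, V⁆ with hW
  have hWP : W ≤ Pu := Subgroup.le_normalizer_iff_commutator_le_left.mp hVN
  set W' := W ⊔ ⁅Pu, Pu⁆ with hW'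
  have hW'P : W' ≤ Pu := sup_le hWP (Subgroup.commutator_le_self Pu)
  set K := W' ⊔ ⁅V, V⁆ with hK
  have hcW : ∀ a ∈ Pu, ∀ b ∈ V, ⁅a, b⁆ ∈ K := fun a ha b hb =>
    Subgroup.mem_sup_left (Subgroup.mem_sup_left (Subgroup.commutator_mem_commutator ha hb))
  have hcP : ∀ a ∈ Pu, ∀ b ∈ Pu, ⁅a, b⁆ ∈ K := fun a ha b hb =>
    Subgroup.mem_sup_left (Subgroup.mem_sup_right (Subgroup.commutator_mem_commutator ha hb))
  have hconj : ∀ a ∈ Pu, ∀ z ∈ K, a * z * a⁻¹ ∈ K := by
    intro a ha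
    suffices h : K ≤ K.comap (MulAut.conj a).toMonoidHom from fun z hz => h hz
    refine sup_le (fun z hz => ?_) (fun z hz => ?_)
    · show a * z * a⁻¹ ∈ K
      have h2 := mul_mem (hcP a ha z (hW'P hz)) (Subgroup.mem_sup_left hz : z ∈ K)
      simpa [commutatorElement_def, mul_assoc] using h2
    · show a * z * a⁻¹ ∈ K
      have h2 := mul_mem (hcW a ha z (Subgroup.commutator_le_self V hz)) (Subgroup.mem_sup_right hz : z ∈ K)
      simpa [commutatorElement_def, mul_assoc] using h2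
  have hNK : ⁅Subgroup.normalizer (Pu : Set G), Subgroup.normalizer (Pu : Set G)⁆ ≤ K := by
    rw [Subgroup.commutator_le]
    intro g₁ h₁ g₂ h₂
    obtain ⟨a, ha, b, hb, rfl⟩ := hprod g₁ h₁
    obtain ⟨a', ha', b', hb', rfl⟩ := hprod g₂ h₂
    have e : ⁅a * b, a' * b'⁆ =
        a * (⁅b, a'⁆ * (a' * ⁅b, b'⁆ * a'⁻¹)) * a⁻¹ * (⁅a, a'⁆ * (a' * ⁅a, b'⁆ * a'⁻¹)) := by
      simp only [commutatorElement_def]; group
    rw [e]
    refine mul_mem (hconj a ha _ (mul_mem ?_ (hconj a' ha' _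
      (Subgroup.mem_sup_right (Subgroup.commutator_mem_commutator hb hb')))))
      (mul_mem (hcP a ha a' ha') (hconj a' ha' _ (hcW a ha b' hb')))
    rw [← commutatorElement_inv]; exact inv_mem (hcW a' ha' b hb)
  have hVn : ⁅V, V⁆ ≤ Subgroup.normalizer (W' : Set G) := by
    refine (Subgroup.commutator_le_self V).trans ?_
    rw [Subgroup.le_normalizer_iff_commutator_le_left]
    exact (Subgroup.commutator_mono hW'P le_rfl).trans le_sup_left
  have hPW' : Pu ≤ W' := by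
    intro z hz
    have hzK : z ∈ ((W' ⊔ ⁅V, V⁆ : Subgroup G) : Set G) := hNK (sylow_le_derived hG P hz)
    rw [Subgroup.coe_mul_of_right_le_normalizer_left W' ⁅V, V⁆ hVn] at hzK
    obtain ⟨w, hw, c, hc, rfl⟩ := Set.mem_mul.mp hzK
    have hc1 : c ∈ Pu ⊓ V := ⟨by simpa using mul_mem (inv_mem (hW'P hw)) hz, Subgroup.commutator_le_self V hc⟩
    rw [hPV, Subgroup.mem_bot] at hc1
    simpa [hc1] using hw
  refine le_antisymm ?_ hWP
  haveI : (W.subgroupOf Pu).Normal :=
    Subgroup.normal_subgroupOf_iff_le_normalizer hWP |>.mpr (Subgroup.normalizer_commutator_ge_left _ _)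
  by_contra hne
  haveI : Group.IsNilpotent Pu := P.isPGroup'.isNilpotent
  haveI : Nontrivial (Pu ⧸ W.subgroupOf Pu) := by
    rw [QuotientGroup.nontrivial_iff]
    exact fun h => hne (Subgroup.subgroupOf_eq_top.mp h)
  refine (IsSolvable.commutator_lt_top_of_nontrivial (Pu ⧸ W.subgroupOf Pu)).ne (eq_top_iff.mpr ?_)
  rintro q -
  obtain ⟨⟨z, hz⟩, rfl⟩ := QuotientGroup.mk'_surjective (W.subgroupOf Pu) q
  have hsup : z ∈ ((W ⊔ ⁅Pu, Pu⁆ : Subgroup G) : Set G) := hPW' hz
  rw [Subgroup.coe_mul_of_right_le_normalizer_left W ⁅Pu, Pu⁆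
    ((Subgroup.commutator_le_self Pu).trans (Subgroup.normalizer_commutator_ge_left _ _))] at hsup
  obtain ⟨w, hw, c, hc, he⟩ := Set.mem_mul.mp hsup
  obtain ⟨c', hc', hcc⟩ : ∃ c' ∈ _root_.commutator Pu, (c' : G) = c := by
    rw [← Subgroup.map_subtype_commutator] at hc
    exact hc
  have e : (⟨z, hz⟩ : Pu) = ⟨w, hWP hw⟩ * c' := Subtype.ext (by simp [hcc, ← he])
  have h1 : QuotientGroup.mk' (W.subgroupOf Pu) ⟨w, hWP hw⟩ = 1 := (QuotientGroup.eq_one_iff _).mpr hw
  rw [e, map_mul, h1, one_mul]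
  exact (map_commutator_eq (G := Pu) (QuotientGroup.mk' (W.subgroupOf Pu))).le.trans
    (Subgroup.commutator_mono le_top le_top) (Subgroup.mem_map_of_mem _ hc')

theorem exists_conj_eq (hG : Cfsg.IsMinSimpleOddOrder G) (P : Sylow p G) {Q : Subgroup G} {x : G}
    (hQ : Q ≤ (P : Subgroup G)) (hx : Q.map (MulAut.conj x).toMonoidHom ≤ (P : Subgroup G)) :
    ∃ y ∈ Subgroup.normalizer ((P : Subgroup G) : Set G),
      Q.map (MulAut.conj x).toMonoidHom = Q.map (MulAut.conj y).toMonoidHom := by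
  obtain ⟨y, hy, he⟩ := exists_normalizer_acts hG P hQ (x := x) fun q hq => hx ⟨q, hq, rfl⟩
  refine ⟨y, hy, ?_⟩
  ext z
  constructor
  · rintro ⟨q, hq, rfl⟩; exact ⟨q, hq, he q hq⟩
  · rintro ⟨q, hq, rfl⟩; exact ⟨q, hq, (he q hq).symm⟩

theorem not_dvd_relIndex (hG : Cfsg.IsMinSimpleOddOrder G) (P : Sylow p G) {Q : Subgroup G}
    (hQ : Q ≤ (P : Subgroup G)) :
    ¬ p ∣ ((P : Subgroup G) ⊓ Subgroup.normalizer (Q : Set G)).relIndex (Subgroup.normalizer (Q : Set G)) := by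
  set N := Subgroup.normalizer (Q : Set G) with hN
  set R := (P : Subgroup G) ⊓ N with hR
  obtain ⟨S, hS⟩ := ((P.isPGroup'.to_le hQ).comap_of_injective N.subtype N.subtype_injective).exists_le_sylow
  set T := (S : Subgroup N).map N.subtype with hT
  obtain ⟨Q', hQ'⟩ := (S.isPGroup'.map N.subtype).exists_le_sylow
  obtain ⟨x, hx⟩ := MulAction.exists_smul_eq G Q' P
  have hTx : T.map (MulAut.conj x).toMonoidHom ≤ (P : Subgroup G) := by
    rw [← hx, Sylow.coe_subgroup_smul]; exact Subgroup.map_mono hQ'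
  have hQT : Q ≤ T := fun q hq => ⟨⟨q, Subgroup.le_normalizer hq⟩, hS hq, rfl⟩
  obtain ⟨y, hy, he⟩ := exists_normalizer_acts hG P hQ (x := x) fun q hq => hTx ⟨q, hQT hq, rfl⟩
  set z := y⁻¹ * x with hz
  have hzN : z ∈ N := by
    refine mem_normalizer_of_conj fun q hq => ?_
    have h1 : z * q * z⁻¹ = y⁻¹ * (x * q * x⁻¹) * y := by rw [hz]; group
    have h2 : z * q * z⁻¹ = q := by rw [h1, ← he q hq]; group
    rwa [h2]
  have hTR : T.map (MulAut.conj z).toMonoidHom ≤ R := by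
    rintro _ ⟨t, ht, rfl⟩
    obtain ⟨t', ht', rfl⟩ := ht
    have h1 : x * (t' : G) * x⁻¹ ∈ (P : Subgroup G) := hTx ⟨t', ⟨t', ht', rfl⟩, rfl⟩
    refine Subgroup.mem_inf.mpr ⟨?_, mul_mem (mul_mem hzN t'.2) (inv_mem hzN)⟩
    have h2 := (Subgroup.mem_normalizer_iff''.mp hy _).mp h1
    simpa [hz, mul_assoc] using h2
  intro hdvd
  have hcard : Nat.card T ∣ Nat.card R := by
    rw [← Subgroup.card_map_of_injective (f := (MulAut.conj z).toMonoidHom) (MulAut.conj z).injective (K := T)]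
    exact Subgroup.card_dvd_of_le hTR
  rw [hT, Subgroup.card_map_of_injective N.subtype_injective] at hcard
  have hRN : Nat.card ↥(R.subgroupOf N) = Nat.card R :=
    Nat.card_congr (Subgroup.subgroupOfEquivOfLe inf_le_right).toEquiv
  refine S.not_dvd_index (hdvd.trans ?_)
  have h1 := Subgroup.card_mul_index (R.subgroupOf N)
  have h2 := Subgroup.card_mul_index (S : Subgroup N)
  rw [hRN] at h1
  obtain ⟨k, hk⟩ := hcard
  have : k * (R.subgroupOf N).index = (S : Subgroup N).index := by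
    apply Nat.eq_of_mul_eq_mul_left (Nat.card_pos (α := (S : Subgroup N)))
    rw [← mul_assoc, ← hk, h1, h2]
  exact Dvd.intro_left k this

theorem normalizer_le (hG : Cfsg.IsMinSimpleOddOrder G) (P : Sylow p G) {R Q : Subgroup G} (hR : IsPGroup p R)
    (hQ : Q ≤ (P : Subgroup G) ⊓ R)
    (hN : Subgroup.normalizer ((P : Subgroup G) : Set G) ≤ Subgroup.normalizer (Q : Set G)) :
    Subgroup.normalizer (R : Set G) ≤ Subgroup.normalizer (Q : Set G) := by
  obtain ⟨hQP, hQR⟩ := le_inf_iff.mp hQ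
  obtain ⟨T, hT⟩ := hR.exists_le_sylow
  obtain ⟨g, hg⟩ := MulAction.exists_smul_eq G T P
  have key : ∀ u : G, (∀ q ∈ Q, u * q * u⁻¹ ∈ (P : Subgroup G)) → u ∈ Subgroup.normalizer (Q : Set G) := by
    intro u hu
    obtain ⟨y, hy, he⟩ := exists_normalizer_acts hG P hQP hu
    refine mem_normalizer_of_conj fun q hq => ?_
    rw [← he q hq]
    exact (Subgroup.mem_normalizer_iff.mp (hN hy) q).mp hq
  have hRg : ∀ r ∈ R, g * r * g⁻¹ ∈ (P : Subgroup G) := fun r hr => by
    rw [← hg, Sylow.coe_subgroup_smul]; exact ⟨r, hT hr, rfl⟩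
  have hgQ := key g fun q hq => hRg q (hQR hq)
  intro n hn
  have h2 := key (g * n) fun q hq => by
    have := hRg _ ((Subgroup.mem_normalizer_iff.mp hn q).mp (hQR hq))
    simpa [mul_assoc] using this
  simpa using mul_mem (inv_mem hgQ) h2

end CfsgLib.OddOrder.NormalizerFusion
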