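import Cfsg.Agent.Lib.OddOrder.RankTwo
import Cfsg.Agent.Lib.OddOrder.Basic
import Cfsg.Agent.Lib.OddOrder.CN

set_option autoImplicit false

/-!
Solvable groups of odd order whose Fitting subgroup has rank at most two.
-/

namespace CfsgLib.OddOrder.RankTwoGlobal

open scoped commutatorElement

variable {G : Type*} [Group G] [Finite G]

theorem isPGroup_zpowers {p : ℕ} [Fact p.Prime] {x : G} (hx : ∃ k, orderOf x = p ^ k) :
    IsPGroup p (Subgroup.zpowers x) := by
  obtain ⟨k, hk⟩ := hx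
  exact IsPGroup.of_card (n := k) (by rw [Nat.card_zpowers, hk])

/-- A `p`-element of a normal nilpotent subgroup lies in `O_p`. -/
theorem mem_pCore_of_mem {p : ℕ} [Fact p.Prime] {N : Subgroup G} [N.Normal] [Group.IsNilpotent N]
    {x : G} (hx : x ∈ N) (hp : ∃ k, orderOf x = p ^ k) : x ∈ Cfsg.pCore p G := by
  obtain ⟨P, hP⟩ := ((isPGroup_zpowers hp).comap_subtype (K := N)).exists_le_sylow
  have hPn : (P : Subgroup N).Normal := inferInstance
  haveI : (P : Subgroup N).Characteristic := P.characteristic_of_normal hPn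
  exact Solvable.Cores.le_pCore (P.isPGroup'.map N.subtype)
    ⟨⟨x, hx⟩, hP (show (⟨x, hx⟩ : N) ∈ (Subgroup.zpowers x).comap N.subtype from Subgroup.mem_zpowers x), rfl⟩

theorem isPrimePow_coprime {p q : ℕ} (hp : p.Prime) (hq : q.Prime) (h : p ≠ q) {x y : G}
    (hx : ∃ k, orderOf x = p ^ k) (hy : ∃ k, orderOf y = q ^ k) : (orderOf x).Coprime (orderOf y) := by
  obtain ⟨k, hk⟩ := hx
  obtain ⟨l, hl⟩ := hy
  rw [hk, hl]
  exact ((Nat.coprime_primes hp hq).mpr h).pow k l

/-- `y` centralising every `O_q`, `q ≠ r`, centralises the `r'`-elements of the Fitting subgroup. -/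
theorem commute_of_coprime {r : ℕ} {y z : G}
    (hy : ∀ q : ℕ, q.Prime → q ≠ r → y ∈ Subgroup.centralizer (Cfsg.pCore q G : Set G))
    (hr : r.Prime) (hz : z ∈ Cfsg.fittingSubgroup G) (hcop : (orderOf z).Coprime r) : Commute y z := by
  haveI := Solvable.Cores.fittingSubgroup_isNilpotent (G := G)
  have hle : Subgroup.zpowers z ≤ Subgroup.centralizer ({y} : Set G) := by
    refine CN.le_of_primary fun q hq d hd hdq => ?_
    haveI := Fact.mk hq
    rw [Subgroup.mem_centralizer_singleton_iff]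
    rcases eq_or_ne q r with rfl | hne
    · obtain ⟨k, hk⟩ := hdq
      have : orderOf d = 1 := Nat.eq_one_of_dvd_coprimes (hcop.pow_right k)
        (by rw [← Nat.card_zpowers z]; exact Subgroup.orderOf_dvd_natCard _ hd) (hk ▸ dvd_rfl)
      rw [orderOf_eq_one_iff.mp this, one_mul, mul_one]
    · exact Subgroup.mem_centralizer_iff.mp (hy q hq hne) d
        (mem_pCore_of_mem ((Subgroup.zpowers_le.mpr hz : Subgroup.zpowers z ≤ _) hd) hdq)
  exact (Subgroup.mem_centralizer_singleton_iff.mp (hle (Subgroup.mem_zpowers z))).symm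

variable [Group.IsSolvable G]

theorem mem_centralizer_fitting {x : G}
    (h : ∀ q : ℕ, q.Prime → x ∈ Subgroup.centralizer (Cfsg.pCore q G : Set G)) :
    x ∈ Subgroup.centralizer (Cfsg.fittingSubgroup G : Set G) := by
  rw [Subgroup.mem_centralizer_iff]
  intro f hf
  have hle : Cfsg.fittingSubgroup G ≤ Subgroup.centralizer ({x} : Set G) := by
    rw [Solvable.Cores.fittingSubgroup_eq_iSup_pCore]
    exact iSup_le fun q z hz => Subgroup.mem_centralizer_singleton_iff.mpr
      (Subgroup.mem_centralizer_iff.mp (h q q.2) z hz)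
  exact Subgroup.mem_centralizer_singleton_iff.mp (hle hf)

variable (hodd : Odd (Nat.card G)) (hr : ∀ p : ℕ, p.Prime → Cfsg.PRankLE p 2 (Cfsg.pCore p G))
include hodd hr

/-- A prime power element of `G'` centralises the cores for the other primes. -/
theorem centralizes_other {p q : ℕ} (hp : p.Prime) (hq : q.Prime) (hne : p ≠ q) {x : G}
    (hx : x ∈ commutator G) (hxp : ∃ k, orderOf x = p ^ k) :
    x ∈ Subgroup.centralizer (Cfsg.pCore q G : Set G) := by
  haveI := Fact.mk hq
  rcases eq_or_ne q 2 with rfl | hq2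
  · have hbot : Cfsg.pCore 2 G = ⊥ := by
      obtain ⟨k, hk⟩ := (Solvable.Cores.isPGroup_pCore 2 (G := G)).exists_card_eq
      refine Subgroup.card_eq_one.mp ?_
      rcases Nat.eq_zero_or_pos k with rfl | hk0
      · rw [hk, pow_zero]
      · exact absurd (hodd.of_dvd_nat (Subgroup.card_subgroup_dvd_card (Cfsg.pCore 2 G)))
          (Nat.not_odd_iff_even.mpr (hk ▸ even_iff_two_dvd.mpr (dvd_pow_self 2 hk0.ne')))
    rw [hbot, Subgroup.mem_centralizer_iff]
    intro y hy
    rw [SetLike.mem_coe, Subgroup.mem_bot] at hy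
    simp [hy]
  refine (RankTwo.coreAct hodd hq2 _ (Solvable.Cores.isPGroup_pCore q) (hr q hq)).1 x hx ?_
  obtain ⟨k, hk⟩ := hxp
  rw [hk]
  exact ((Nat.coprime_primes hp hq).mpr hne).pow_left k

theorem commute_derived {p q : ℕ} (hp : p.Prime) (hq : q.Prime) (hne : p ≠ q) {x y : G}
    (hx : x ∈ commutator G) (hxp : ∃ k, orderOf x = p ^ k) (hy : y ∈ commutator G)
    (hyq : ∃ k, orderOf y = q ^ k) : Commute x y := by
  have hcF : ⁅x, y⁆ ∈ Subgroup.centralizer (Cfsg.fittingSubgroup G : Set G) := by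
    refine mem_centralizer_fitting fun s hs => ?_
    set C := Subgroup.centralizer (Cfsg.pCore s G : Set G) with hC
    haveI : C.Normal := inferInstance
    rcases eq_or_ne p s with rfl | hps
    · have h1 := centralizes_other hodd hr hq hs hne.symm hy hyq
      rw [commutatorElement_def]
      exact mul_mem ((inferInstance : C.Normal).conj_mem _ h1 x) (inv_mem h1)
    · have h1 := centralizes_other hodd hr hp hs hps hx hxp
      rw [commutatorElement_def, mul_assoc, mul_assoc]
      refine mul_mem h1 ?_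
      rw [← mul_assoc]
      exact (inferInstance : C.Normal).conj_mem _ (inv_mem h1) y
  set c := ⁅x, y⁆ with hc
  have hcFit : c ∈ Cfsg.fittingSubgroup G := Solvable.Cores.centralizer_fittingSubgroup_le hcF
  -- `c` is an `r`-element when `y` is an `r`-element and `y' = c y` is conjugate to `y`
  have key : ∀ {r : ℕ}, r.Prime → ∀ u v : G, v ∈ commutator G → (∃ k, orderOf v = r ^ k) →
      u * v * u⁻¹ * v⁻¹ ∈ Cfsg.fittingSubgroup G →
      u * v * u⁻¹ * v⁻¹ ∈ Subgroup.centralizer (Cfsg.fittingSubgroup G : Set G) →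
      ∃ k, orderOf (u * v * u⁻¹ * v⁻¹) = r ^ k := by
    intro r hr' u v hv hvr hdF hdC
    haveI := Fact.mk hr'
    set d := u * v * u⁻¹ * v⁻¹ with hd
    set Zr := Cfsg.pCore r G with hZr
    set f := QuotientGroup.mk' Zr with hf
    obtain ⟨a, m, hm, ham⟩ := Nat.exists_eq_pow_mul_and_not_dvd (orderOf_pos d).ne' r hr'.ne_one
    have hdm : (orderOf (d ^ r ^ a)).Coprime r := by
      rw [orderOf_pow_of_dvd (pow_ne_zero _ hr'.ne_zero) (ham ▸ Dvd.intro _ rfl), ham,
        Nat.mul_div_cancel_left _ (pow_pos hr'.pos _)]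
      exact ((hr'.coprime_iff_not_dvd).mpr hm).symm
    have hcom : Commute v (d ^ r ^ a) := commute_of_coprime
      (fun s hs hsr => centralizes_other hodd hr hr' hs hsr.symm hv hvr) hr'
      (pow_mem hdF _) hdm
    -- modulo `O_r`, `v` and `d` commute
    have hdm' : f (d ^ m) = 1 := by
      refine (QuotientGroup.eq_one_iff _).mpr ?_
      haveI := Solvable.Cores.fittingSubgroup_isNilpotent (G := G)
      refine mem_pCore_of_mem (N := Cfsg.fittingSubgroup G) (pow_mem hdF _) ?_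
      have hm0 : m ≠ 0 := by rintro rfl; exact hm (dvd_zero r)
      exact ⟨a, by rw [orderOf_pow_of_dvd hm0 (ham ▸ Dvd.intro_left _ rfl), ham,
        Nat.mul_div_cancel _ (Nat.pos_of_ne_zero hm0)]⟩
    have hfcom : Commute (f v) (f d) := by
      obtain ⟨s, t, e⟩ : IsCoprime ((r ^ a : ℕ) : ℤ) (m : ℤ) :=
        Int.isCoprime_iff_nat_coprime.mpr (by simpa using (hr'.coprime_iff_not_dvd.mpr hm).pow_left a)
      have : f d = (f (d ^ r ^ a)) ^ s * (f (d ^ m)) ^ t := by
        rw [map_pow, map_pow, ← zpow_natCast, ← zpow_natCast (f d) m, ← zpow_mul, ← zpow_mul, ← zpow_add,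
          mul_comm _ s, mul_comm _ t, e, zpow_one]
      rw [this, hdm', one_zpow, mul_one]
      exact (hcom.map f).zpow_right s
    obtain ⟨k, hk⟩ := hvr
    have hdv : (d * v) ^ r ^ k = 1 := by
      rw [show d * v = u * v * u⁻¹ by rw [hd]; group, conj_pow, ← hk, pow_orderOf_eq_one]; group
    have hfd : f (d ^ r ^ k) = 1 := by
      have h1 := congrArg f hdv
      rw [map_one, map_pow, map_mul, (hfcom.symm).mul_pow, ← map_pow f v, ← hk, pow_orderOf_eq_one,
        map_one, mul_one] at h1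
      rw [map_pow, ← hk]; exact h1
    obtain ⟨l, hl⟩ := Solvable.Cores.isPGroup_pCore r (G := G) ⟨_, (QuotientGroup.eq_one_iff _).mp hfd⟩
    have hl' : d ^ r ^ (k + l) = 1 := by
      rw [pow_add, pow_mul]; exact congrArg Subtype.val hl
    obtain ⟨j, -, hj⟩ := (Nat.dvd_prime_pow hr').mp (orderOf_dvd_of_pow_eq_one hl')
    exact ⟨j, hj⟩
  obtain ⟨k, hk⟩ := key hq x y hy hyq hcFit hcF
  obtain ⟨l, hl⟩ := key hp y x hx hxp (by
      have := inv_mem hcFit
      simpa [hc, commutatorElement_def, mul_assoc] using this) (by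
      have := inv_mem hcF
      simpa [hc, commutatorElement_def, mul_assoc] using this)
  have hl' : orderOf ⁅x, y⁆ = p ^ l := by
    rw [← hl, ← orderOf_inv ⁅x, y⁆, commutatorElement_inv, commutatorElement_def]
  have hk' : orderOf ⁅x, y⁆ = q ^ k := by rw [← hk, commutatorElement_def]
  have h1 : orderOf ⁅x, y⁆ = 1 := Nat.eq_one_of_dvd_coprimes
    (((Nat.coprime_primes hp hq).mpr hne).pow l k) (hl' ▸ dvd_rfl) (hk' ▸ dvd_rfl)
  exact commutatorElement_eq_one_iff_commute.mp (orderOf_eq_one_iff.mp h1)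

/-- The derived group is nilpotent. -/
theorem derived_isNilpotent : Group.IsNilpotent (commutator G) := by
  refine (Group.isNilpotent_of_finite_tfae.out 0 3).mpr fun p hp P => ?_
  haveI : Fact p.Prime := hp
  refine Subgroup.normalizer_eq_top_iff.mp (Solvable.Cores.eq_top_of_sylow_le _ fun q hq => ?_)
  haveI := Fact.mk hq
  rcases eq_or_ne q p with rfl | hne
  · exact ⟨P, Subgroup.le_normalizer⟩
  obtain ⟨Q⟩ : Nonempty (Sylow q (commutator G)) := inferInstance
  refine ⟨Q, le_trans ?_ (Subgroup.centralizer_le_normalizer _)⟩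
  intro y hy
  rw [Subgroup.mem_centralizer_iff]
  intro x hx
  obtain ⟨k, hk⟩ := Q.isPGroup' ⟨y, hy⟩
  obtain ⟨l, hl⟩ := P.isPGroup' ⟨x, hx⟩
  obtain ⟨k', -, hk'⟩ := (Nat.dvd_prime_pow hq).mp
    (orderOf_dvd_of_pow_eq_one (show (y : G) ^ q ^ k = 1 by simpa using congrArg (fun u : (Q : Subgroup (commutator G)) => ((u : commutator G) : G)) hk))
  obtain ⟨l', -, hl'⟩ := (Nat.dvd_prime_pow (Fact.out : p.Prime)).mp
    (orderOf_dvd_of_pow_eq_one (show (x : G) ^ p ^ l = 1 by simpa using congrArg (fun u : (P : Subgroup (commutator G)) => ((u : commutator G) : G)) hl))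
  exact Subtype.ext (commute_derived hodd hr (Fact.out : p.Prime) hq hne.symm x.2 ⟨l', hl'⟩ y.2 ⟨k', hk'⟩).eq

theorem derived_le_fitting : commutator G ≤ Cfsg.fittingSubgroup G :=
  Solvable.Cores.le_fittingSubgroup (derived_isNilpotent hodd hr)

/-- An element of prime power order for a large prime lies in the core for the large primes. -/
theorem mem_piCore_large (b : ℕ) {q : ℕ} (hq : q.Prime) (hbq : b < q) {g : G} (hg : ∃ k, orderOf g = q ^ k) :
    g ∈ Cfsg.piCore {r | r.Prime ∧ b < r} G := by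
  set π := {r : ℕ | r.Prime ∧ b < r} with hπ
  set M := Cfsg.piCore π G with hM
  set f := QuotientGroup.mk' M with hf
  have hfs : Function.Surjective f := QuotientGroup.mk'_surjective M
  have hcore : ∀ {s : ℕ}, s.Prime → b < s → Cfsg.pCore s G ≤ M := fun {s} hs hbs => by
    refine le_sSup (show Cfsg.pCore s G ∈ {N : Subgroup G | N.Normal ∧ ∀ r : ℕ, r.Prime → r ∣ Nat.card N → r ∈ π}
      from ⟨inferInstance, fun r hr' hd => ?_⟩)
    haveI := Fact.mk hs
    obtain ⟨n, hn⟩ := (Solvable.Cores.isPGroup_pCore s (G := G)).exists_card_eq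
    rw [hn] at hd
    rw [(Nat.prime_dvd_prime_iff_eq hr' hs).mp (hr'.dvd_of_dvd_pow hd)]
    exact ⟨hs, hbs⟩
  set U : Subgroup G := ⨆ s : {s : Nat.Primes // (s : ℕ) ≤ b}, Cfsg.pCore ((s : Nat.Primes) : ℕ) G with hU
  haveI hUn : U.Normal := Subgroup.iSup_normal _
  set C := Subgroup.centralizer (U : Set G) with hC
  haveI : C.Normal := inferInstance
  have hgC : g ∈ C := by
    rw [hC, Subgroup.mem_centralizer_iff]
    intro u hu
    have hle : U ≤ Subgroup.centralizer ({g} : Set G) := iSup_le fun s z hz => by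
      rw [Subgroup.mem_centralizer_singleton_iff]
      have hs : ((s : Nat.Primes) : ℕ).Prime := (s : Nat.Primes).2
      haveI := Fact.mk hs
      rcases eq_or_ne ((s : Nat.Primes) : ℕ) 2 with h2 | h2
      · have h1 : orderOf z = 1 := by
          obtain ⟨k, hk⟩ := Solvable.Cores.isPGroup_pCore _ ⟨z, hz⟩
          have hk' : z ^ (((s : Nat.Primes) : ℕ)) ^ k = 1 := congrArg Subtype.val hk
          rw [h2] at hk'
          exact Nat.eq_one_of_dvd_coprimes ((Nat.coprime_two_left.mpr hodd).pow_left k)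
            (orderOf_dvd_of_pow_eq_one hk') (orderOf_dvd_natCard z)
        rw [orderOf_eq_one_iff.mp h1, one_mul, mul_one]
      · exact Subgroup.mem_centralizer_iff.mp ((RankTwo.coreAct hodd h2 _ (Solvable.Cores.isPGroup_pCore _)
          (hr _ hs)).2 q hq (lt_of_le_of_lt s.2 hbq) g hg) z hz
    exact Subgroup.mem_centralizer_singleton_iff.mp (hle hu)
  have hFMU : Cfsg.fittingSubgroup G ≤ M ⊔ U := by
    rw [Solvable.Cores.fittingSubgroup_eq_iSup_pCore]
    refine iSup_le fun s => ?_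
    by_cases hs : (s : ℕ) ≤ b
    · exact (le_iSup (fun s : {s : Nat.Primes // (s : ℕ) ≤ b} => Cfsg.pCore ((s : Nat.Primes) : ℕ) G) ⟨s, hs⟩).trans le_sup_right
    · exact (hcore s.2 (not_le.mp hs)).trans le_sup_left
  haveI hKn : (C.map f).Normal := (inferInstance : C.Normal).map f hfs
  have hK : Group.IsNilpotent (C.map f) := by
    have hcent : ∀ z ∈ C ⊓ Cfsg.fittingSubgroup G, ∀ c ∈ C, Commute (f z) (f c) := by
      intro z hz c hc
      have hz' := hFMU hz.2
      rw [← SetLike.mem_coe, Subgroup.mul_normal] at hz'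
      obtain ⟨m, hm, u, hu, rfl⟩ := Set.mem_mul.mp hz'
      have hcu : Commute u c := Subgroup.mem_centralizer_iff.mp hc u hu
      rw [map_mul, show f m = 1 from (QuotientGroup.eq_one_iff m).mpr hm, one_mul]
      exact hcu.map f
    rw [Group.isNilpotent_iff]
    refine ⟨2, ?_⟩
    rw [eq_top_iff]
    intro x _
    rw [Subgroup.mem_upperCentralSeries_succ_iff]
    intro y
    obtain ⟨c₁, hc₁, hx⟩ := x.2
    obtain ⟨c₂, hc₂, hy⟩ := y.2
    rw [Subgroup.upperCentralSeries_one, Subgroup.mem_center_iff]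
    intro w
    obtain ⟨c₃, hc₃, hw⟩ := w.2
    apply Subtype.ext
    show (w : G ⧸ M) * ((x : G ⧸ M) * y * (x : G ⧸ M)⁻¹ * (y : G ⧸ M)⁻¹) =
      ((x : G ⧸ M) * y * (x : G ⧸ M)⁻¹ * (y : G ⧸ M)⁻¹) * (w : G ⧸ M)
    rw [← hx, ← hy, ← hw, ← map_inv, ← map_inv, ← map_mul, ← map_mul, ← map_mul, ← map_mul, ← map_mul]
    have hmem : c₁ * c₂ * c₁⁻¹ * c₂⁻¹ ∈ C ⊓ Cfsg.fittingSubgroup G := by
      refine ⟨mul_mem (mul_mem (mul_mem hc₁ hc₂) (C.inv_mem hc₁)) (C.inv_mem hc₂), derived_le_fitting hodd hr ?_⟩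
      rw [← commutatorElement_def, commutator_def]
      exact Subgroup.commutator_mem_commutator (Subgroup.mem_top _) (Subgroup.mem_top _)
    have h := (hcent _ hmem c₃ hc₃).symm.eq
    rw [← map_mul, ← map_mul] at h
    exact h
  haveI := hK
  haveI := Fact.mk hq
  have hfg : f g ∈ Cfsg.pCore q (G ⧸ M) := by
    refine mem_pCore_of_mem (N := C.map f) ⟨g, hgC, rfl⟩ ?_
    obtain ⟨k, hk⟩ := hg
    obtain ⟨j, -, hj⟩ := (Nat.dvd_prime_pow hq).mp (hk ▸ orderOf_map_dvd f g : orderOf (f g) ∣ q ^ k)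
    exact ⟨j, hj⟩
  have hcopM : (Nat.card M).Coprime b.factorial := by
    refine Solvable.Cores.coprime_card_sSup _ _ (fun N hN => hN.1) fun N hN => ?_
    exact Nat.coprime_of_dvd fun r hr' h1 h2 =>
      absurd ((Nat.Prime.dvd_factorial hr').mp h2) (not_le.mpr (hN.2 r hr' h1).2)
  set P := (Cfsg.pCore q (G ⧸ M)).comap f with hP
  haveI : P.Normal := (inferInstance : (Cfsg.pCore q (G ⧸ M)).Normal).comap f
  refine le_sSup (show P ∈ {N : Subgroup G | N.Normal ∧ ∀ r : ℕ, r.Prime → r ∣ Nat.card N → r ∈ π}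
    from ⟨inferInstance, fun r hr' hd => ?_⟩) hfg
  rw [hP, Solvable.Basic.card_comap_mk] at hd
  obtain ⟨n, hn⟩ := (Solvable.Cores.isPGroup_pCore q (G := G ⧸ M)).exists_card_eq
  rw [hn] at hd
  rcases hr'.dvd_mul.mp hd with h | h
  · rw [(Nat.prime_dvd_prime_iff_eq hr' hq).mp (hr'.dvd_of_dvd_pow h)]
    exact ⟨hq, hbq⟩
  · refine ⟨hr', not_le.mp fun hle => hr'.ne_one ?_⟩
    exact Nat.eq_one_of_dvd_coprimes hcopM h ((Nat.Prime.dvd_factorial hr').mpr hle)

end CfsgLib.OddOrder.RankTwoGlobal
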