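import Cfsg.Agent.Lib.OddOrder.SigmaBasics
import Cfsg.Agent.Lib.OddOrder.RankTwoGlobal
import Cfsg.Agent.Lib.OddOrder.NormalizerFusion
import Mathlib

set_option autoImplicit false
set_option linter.style.haveILetI false
set_option linter.unusedSectionVars false

/-!
`M_σ` is a Hall subgroup contained in `M'`.
-/

namespace CfsgLib.OddOrder.SigmaCore

/-- A subgroup of order coprime to the index of a normal subgroup lies in it. -/
theorem le_of_coprime_index {H : Type*} [Group H] {N K : Subgroup H} [N.Normal]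
    (h : (Nat.card K).Coprime N.index) : K ≤ N :=
  Subgroup.relIndex_eq_one.mp (Nat.eq_one_of_dvd_coprimes h
    (Subgroup.index_dvd_card _) (Subgroup.relIndex_dvd_index_of_normal N K))

variable {G : Type*} [Group G] [Finite G] {M : Subgroup G}

theorem coatom_ne_bot (hG : Cfsg.IsMinSimpleOddOrder G) (hM : IsCoatom M) : M ≠ ⊥ := by
  intro h
  obtain ⟨x, hx⟩ : ∃ x : G, x ≠ 1 := by
    by_contra hne
    push_neg at hne
    exact hG.2.2.1 ⟨⟨fun a b => by rw [hne a, hne b]⟩⟩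
  have htop : Subgroup.zpowers x = ⊤ := by
    refine hM.2 _ (h ▸ bot_lt_iff_ne_bot.mpr ?_)
    simpa using hx
  refine hG.2.2.1 ⟨⟨fun a b => ?_⟩⟩
  obtain ⟨i, rfl⟩ := Subgroup.mem_zpowers_iff.mp (htop ▸ Subgroup.mem_top a)
  obtain ⟨j, rfl⟩ := Subgroup.mem_zpowers_iff.mp (htop ▸ Subgroup.mem_top b)
  exact ((Commute.refl x).zpow_zpow i j).eq

variable {p : ℕ} [hp : Fact p.Prime]

theorem exists_sylow_le_derived (hG : Cfsg.IsMinSimpleOddOrder G) (hM : IsCoatom M) (hp' : p ∈ Cfsg.sigma M) :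
    ∃ P : Sylow p M, (P : Subgroup M) ≤ _root_.commutator M := by
  obtain ⟨P, hPM, -⟩ := SigmaFusion.exists_sylow_sigma hp'
  refine ⟨P.subtype hPM, fun x hx => ?_⟩
  rw [Sylow.coe_subtype, Subgroup.mem_subgroupOf] at hx
  obtain ⟨y, hy, hyx⟩ := (Subgroup.map_subtype_commutator M).ge (SigmaBasics.sylow_le_derived hG hM hp' P hPM hx)
  exact M.subtype_injective hyx ▸ hy

theorem not_dvd_index (hG : Cfsg.IsMinSimpleOddOrder G) (hM : IsCoatom M) (hp' : p ∈ Cfsg.sigma M) :
    ¬ p ∣ (Cfsg.piCore (Cfsg.sigma M) M).index := by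
  haveI : Group.IsSolvable M := hG.2.2.2 M hM.1
  set N := Cfsg.piCore (Cfsg.alpha M) M with hN
  set f := QuotientGroup.mk' N with hf
  have hsurj : Function.Surjective f := QuotientGroup.mk'_surjective N
  obtain ⟨P, hP⟩ := exists_sylow_le_derived hG hM hp'
  haveI := (SigmaBasics.quotient_facts hG hM).2.2
  set C := (_root_.commutator M).map f with hC
  haveI : C.Normal := (inferInstance : (_root_.commutator M).Normal).map f hsurj
  set O := (Cfsg.pCore p (M ⧸ N)).comap f with hO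
  have hOle : O ≤ Cfsg.piCore (Cfsg.sigma M) M := by
    haveI : O.Normal := (inferInstance : (Cfsg.pCore p (M ⧸ N)).Normal).comap f
    refine SigmaBasics.le_piCore fun t ht hd => ?_
    haveI := Fact.mk ht
    obtain ⟨y, hy⟩ := exists_prime_orderOf_dvd_card' (G := O) t hd
    obtain ⟨k, hk⟩ := Solvable.Cores.isPGroup_pCore p ⟨f y, y.2⟩
    have h1 : (y : M) ^ p ^ k ∈ N :=
      (QuotientGroup.eq_one_iff _).mp (congrArg Subtype.val hk)
    by_cases htp : t = p
    · exact htp ▸ hp'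
    refine SigmaBasics.mem_sigma_of_alpha hG hM ⟨ht, (SigmaBasics.mem_of_dvd_piCore (H := M) (π := Cfsg.alpha M) ht ?_).2⟩
    have hcop : (orderOf y).Coprime (p ^ k) := by
      rw [hy]; exact ((Nat.coprime_primes ht hp.out).mpr htp).pow_right k
    have h2 := Subgroup.orderOf_dvd_natCard N h1
    rwa [← Subgroup.coe_pow, Subgroup.orderOf_coe, hcop.orderOf_pow, hy] at h2
  refine fun h => P.not_dvd_index (h.trans (Subgroup.index_dvd_of_le fun x hx => hOle ?_))
  obtain ⟨k, hk⟩ := P.isPGroup' ⟨x, hx⟩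
  obtain ⟨j, -, hj⟩ := (Nat.dvd_prime_pow hp.out).mp
    (orderOf_dvd_of_pow_eq_one (show x ^ p ^ k = 1 from congrArg Subtype.val hk))
  obtain ⟨i, -, hi⟩ := (Nat.dvd_prime_pow hp.out).mp (hj ▸ orderOf_map_dvd f x)
  exact RankTwoGlobal.mem_pCore_of_mem (N := C) (Subgroup.mem_map_of_mem f (hP hx)) ⟨i, hi⟩

omit hp in
theorem piCore_le_commutator (hG : Cfsg.IsMinSimpleOddOrder G) (hM : IsCoatom M) :
    Cfsg.piCore (Cfsg.sigma M) M ≤ _root_.commutator M := by
  refine le_of_coprime_index (Nat.coprime_of_dvd fun t ht h1 h2 => ?_)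
  haveI := Fact.mk ht
  obtain ⟨P, hP⟩ := exists_sylow_le_derived hG hM (SigmaBasics.mem_of_dvd_piCore ht h1)
  exact P.not_dvd_index (h2.trans (Subgroup.index_dvd_of_le hP))

omit hp in
theorem le_derived (hG : Cfsg.IsMinSimpleOddOrder G) (hM : IsCoatom M) : Cfsg.sigmaCore M ≤ ⁅M, M⁆ :=
  (Subgroup.map_mono (piCore_le_commutator hG hM)).trans (Subgroup.map_subtype_commutator M).le

omit hp in
theorem card_eq (M : Subgroup G) : Nat.card (Cfsg.sigmaCore M) = Nat.card (Cfsg.piCore (Cfsg.sigma M) M) := by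
  rw [Cfsg.sigmaCore, Subgroup.card_map_of_injective M.subtype_injective]

omit hp in
theorem relIndex_eq (M : Subgroup G) :
    (Cfsg.sigmaCore M).relIndex M = (Cfsg.piCore (Cfsg.sigma M) M).index := by
  rw [Cfsg.sigmaCore, Subgroup.relIndex, Subgroup.subgroupOf, Subgroup.comap_map_eq_self_of_injective M.subtype_injective]

omit hp in
theorem hall (hG : Cfsg.IsMinSimpleOddOrder G) (hM : IsCoatom M) :
    Cfsg.IsPiHallOf (Cfsg.sigma M) (Cfsg.sigmaCore M) M ∧ Cfsg.IsPiHall (Cfsg.sigma M) (Cfsg.sigmaCore M) := by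
  have hcard : ∀ t : ℕ, t.Prime → t ∣ Nat.card (Cfsg.sigmaCore M) → t ∈ Cfsg.sigma M := fun t ht h =>
    SigmaBasics.mem_of_dvd_piCore ht (card_eq M ▸ h)
  have hle : Cfsg.sigmaCore M ≤ M := Subgroup.map_subtype_le _
  refine ⟨⟨hle, hcard, fun t ht hts => ?_⟩, hcard, fun t ht hts h => ?_⟩
  · haveI := Fact.mk ht
    exact relIndex_eq M ▸ not_dvd_index hG hM hts
  · haveI := Fact.mk ht
    rw [← Subgroup.relIndex_mul_index hle, relIndex_eq M] at h
    rcases ht.dvd_mul.mp h with h | h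
    · exact not_dvd_index hG hM hts h
    · exact SigmaBasics.not_dvd_index hts h

omit hp in
theorem sigma_nonempty (hG : Cfsg.IsMinSimpleOddOrder G) (hM : IsCoatom M) :
    ∃ q : ℕ, q.Prime ∧ q ∣ Nat.card M ∧ q ∈ Cfsg.sigma M := by
  haveI : Group.IsSolvable M := hG.2.2.2 M hM.1
  by_cases ha : ∃ q, q ∈ Cfsg.alpha M
  · obtain ⟨q, hq⟩ := ha
    haveI := Fact.mk hq.1
    have h := SigmaBasics.mem_sigma_of_alpha hG hM hq
    exact ⟨q, hq.1, h.2.1, h⟩
  push_neg at ha
  have hrk : ∀ t : ℕ, t.Prime → Cfsg.PRankLE t 2 M := fun t ht => by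
    by_contra h; exact ha t ⟨ht, h⟩
  have hr : ∀ t : ℕ, t.Prime → Cfsg.PRankLE t 2 (Cfsg.pCore t M) := fun t ht A hAc hAe => by
    have h := Fusion.Thompson.isEA_map (Cfsg.pCore t M).subtype (p := t) ⟨hAc, hAe⟩
    have := hrk t ht _ h.1 h.2
    rwa [Subgroup.card_map_of_injective (Cfsg.pCore t M).subtype_injective] at this
  have hM1 : Nat.card M ≠ 1 := fun h => coatom_ne_bot hG hM (Subgroup.card_eq_one.mp h)
  have hne : (Nat.card M).primeFactors.Nonempty :=
    Nat.nonempty_primeFactors.mpr (by have := Nat.card_pos (α := M); omega)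
  obtain ⟨q, hqm, hmax⟩ := (Nat.card M).primeFactors.exists_max_image id hne
  have hq := Nat.prime_of_mem_primeFactors hqm
  have hqd := Nat.dvd_of_mem_primeFactors hqm
  haveI := Fact.mk hq
  refine ⟨q, hq, hqd, hq, hqd, ?_⟩
  obtain ⟨S⟩ : Nonempty (Sylow q M) := inferInstance
  refine ⟨S, ?_⟩
  set L := Cfsg.piCore {r | r.Prime ∧ q - 1 < r} M with hL
  have hSL : (S : Subgroup M) ≤ L := fun x hx => by
    refine RankTwoGlobal.mem_piCore_large (Uniqueness.odd_of_le hG.1 M) hr (q - 1) hq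
      (Nat.sub_lt hq.pos one_pos) ?_
    obtain ⟨k, hk⟩ := S.isPGroup' ⟨x, hx⟩
    obtain ⟨j, -, hj⟩ := (Nat.dvd_prime_pow hq).mp
      (orderOf_dvd_of_pow_eq_one (show x ^ q ^ k = 1 from congrArg Subtype.val hk))
    exact ⟨j, hj⟩
  have hLp : IsPGroup q L := by
    refine IsPGroup.of_card (n := (Nat.card L).factorization q) ?_
    refine Nat.eq_pow_of_factorization_eq_single (Nat.card_pos).ne' ?_
    ext t
    by_cases htq : t = q
    · subst htq; simp
    rw [Finsupp.single_eq_of_ne (by exact htq)]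
    by_contra hne'
    have hmem := Nat.support_factorization (Nat.card L) ▸ Finsupp.mem_support_iff.mpr hne'
    have ht := Nat.prime_of_mem_primeFactors hmem
    have hd := Nat.dvd_of_mem_primeFactors hmem
    have h1 := (SigmaBasics.mem_of_dvd_piCore ht hd).2
    have h2 : t ≤ q := hmax t (Nat.mem_primeFactors.mpr
      ⟨ht, hd.trans L.card_subgroup_dvd_card, Nat.card_pos.ne'⟩)
    omega
  have hSeq := S.is_maximal' hLp hSL
  have hS1 : (S : Subgroup M) ≠ ⊥ := fun h => by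
    have := S.not_dvd_index
    rw [h, Subgroup.index_bot] at this
    exact this hqd
  set Q := (S : Subgroup M).map M.subtype with hQ
  have hQ1 : Q ≠ ⊥ := fun h => hS1 ((Subgroup.map_eq_bot_iff_of_injective _ M.subtype_injective).mp h)
  have hMN : M ≤ Subgroup.normalizer (Q : Set G) := by
    intro g hg
    refine NormalizerFusion.mem_normalizer_of_conj ?_
    rintro _ ⟨x, hx, rfl⟩
    refine ⟨⟨g, hg⟩ * x * ⟨g, hg⟩⁻¹, ?_, rfl⟩
    rw [← hSeq] at hx ⊢
    exact (inferInstance : L.Normal).conj_mem _ hx _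
  refine ((hM.le_iff.mp hMN).resolve_left ?_).le
  refine Uniqueness.normalizer_ne_top hG.2 hQ1 ?_
  haveI : Group.IsNilpotent Q := (S.isPGroup'.map M.subtype).isNilpotent
  infer_instance

omit hp in
theorem sigmaCore_ne_bot (hG : Cfsg.IsMinSimpleOddOrder G) (hM : IsCoatom M) : Cfsg.sigmaCore M ≠ ⊥ := by
  obtain ⟨q, hq, hqd, hqs⟩ := sigma_nonempty hG hM
  haveI := Fact.mk hq
  intro h
  have h1 := (hall hG hM).1.2.2 q hq hqs
  rw [h, Subgroup.relIndex_bot_left] at h1
  exact h1 hqd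

omit hp in
theorem commutator_lt (hG : Cfsg.IsMinSimpleOddOrder G) (hM : IsCoatom M) : _root_.commutator M < ⊤ := by
  haveI : Group.IsSolvable M := hG.2.2.2 M hM.1
  haveI : Nontrivial M := (Subgroup.nontrivial_iff_ne_bot M).mpr (coatom_ne_bot hG hM)
  exact Group.IsSolvable.commutator_lt_top_of_nontrivial M

end CfsgLib.OddOrder.SigmaCore
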