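import Cfsg.Agent.Lib.OddOrder.NarrowSylow
import Cfsg.Agent.Lib.OddOrder.MaximalPlane
import Cfsg.Agent.Lib.OddOrder.SigmaCore
import Mathlib

set_option autoImplicit false
set_option linter.style.haveILetI false
set_option linter.unusedSectionVars false

/-!
Primes outside `β(M)` give narrow Sylow subgroups.
-/

namespace CfsgLib.OddOrder.NarrowMaximal

variable {R : Type*} [Group R] [Finite R] {p : ℕ} [hp : Fact p.Prime]

/-- The splitting of the centraliser of a noncentral line of a maximal plane. -/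
theorem exists_split (hp2 : p ≠ 2) (hR : IsPGroup p R) {E : Subgroup R}
    (hE : Cfsg.IsElementaryAbelian p E) (hE2 : Nat.card E = p ^ 2)
    (hEmax : ∀ B : Subgroup R, Cfsg.IsElementaryAbelian p B → E ≤ B → B = E) (hr : ¬ Cfsg.PRankLE p 2 R) :
    ∃ R₀ R₁ : Subgroup R, R₀ ≤ E ∧ Nat.card R₀ = p ∧ IsCyclic R₁ ∧ R₀ ⊓ R₁ = ⊥ ∧
      (∀ a ∈ R₀, ∀ b ∈ R₁, a * b = b * a) ∧ R₀ ⊔ R₁ = Subgroup.centralizer (R₀ : Set R) := by
  obtain ⟨hET, hZc, -, hchar, hidx⟩ := MaximalPlane.main hp2 hR hr hE hE2 hEmax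
  set W := MaximalPlane.omegaZ2 (R := R) hp2 with hW
  set T := Subgroup.centralizer (W : Set R) with hT
  haveI := hchar
  set Z₀ := Subgroup.closure {x : R | x ∈ Subgroup.center R ∧ x ^ p = 1} with hZ₀
  have habs : ∀ x : R, x ^ p = 1 → x ∈ Subgroup.centralizer (E : Set R) → x ∈ E := fun x hx hxc => by
    have he := Replacement.isEA_sup hE (Replacement.isEA_zpowers hx) (by
      rw [Subgroup.le_centralizer_iff, Subgroup.zpowers_le]; exact hxc)
    exact (hEmax _ he le_sup_left).le (Subgroup.mem_sup_right (Subgroup.mem_zpowers x))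
  have hZE : Z₀ ≤ E := (Subgroup.closure_le _).mpr fun x hx => habs x hx.2
    (Subgroup.mem_centralizer_iff.mpr fun g _ => Subgroup.mem_center_iff.mp hx.1 g)
  have hZT : Z₀ ≤ T := (Subgroup.closure_le _).mpr fun x hx =>
    Subgroup.mem_centralizer_iff.mpr fun g _ => Subgroup.mem_center_iff.mp hx.1 g
  have hZcen : Z₀ ≤ Subgroup.center R := (Subgroup.closure_le _).mpr fun x hx => hx.1
  obtain ⟨r, hrE, hrT⟩ := SetLike.not_le_iff_exists.mp hET
  have hrp : r ^ p = 1 := hE.2 r hrE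
  have hr1 : r ≠ 1 := fun h => hrT (h ▸ one_mem _)
  set R₀ := Subgroup.zpowers r with hR₀
  have hR₀c : Nat.card R₀ = p := by rw [hR₀, Nat.card_zpowers, orderOf_eq_prime hrp hr1]
  have hinf : R₀ ⊓ T = ⊥ := by
    have hd : Nat.card ↥(R₀ ⊓ T) ∣ p := hR₀c ▸ Subgroup.card_dvd_of_le inf_le_left
    rcases (Nat.dvd_prime hp.out).mp hd with h | h
    · exact Subgroup.card_eq_one.mp h
    · exact absurd ((Subgroup.eq_of_le_of_card_ge (inf_le_left : R₀ ⊓ T ≤ R₀) (by rw [h, hR₀c])).ge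
        (Subgroup.mem_zpowers r)).2 hrT
  have hsupT : R₀ ⊔ T = ⊤ := by
    rcases (Nat.dvd_prime hp.out).mp (hidx ▸ Subgroup.index_dvd_of_le (le_sup_right : T ≤ R₀ ⊔ T)) with h | h
    · exact Subgroup.index_eq_one.mp h
    · exfalso
      have h2 := Subgroup.relIndex_mul_index (le_sup_right : T ≤ R₀ ⊔ T)
      rw [h, hidx] at h2
      have h3 := Subgroup.relIndex_eq_one.mp (Nat.eq_of_mul_eq_mul_right hp.out.pos (h2.trans (one_mul p).symm))
      exact hrT (h3 (Subgroup.mem_sup_left (Subgroup.mem_zpowers r)))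
  set R₁ := T ⊓ Subgroup.centralizer (R₀ : Set R) with hR₁
  have hEgen : Z₀ ⊔ R₀ = E := by
    refine Subgroup.eq_of_le_of_card_ge (sup_le hZE (Subgroup.zpowers_le.mpr hrE)) ?_
    obtain ⟨j, hj⟩ := (hR.to_subgroup (Z₀ ⊔ R₀ : Subgroup R)).exists_card_eq
    have hlt : Nat.card Z₀ < Nat.card ↥(Z₀ ⊔ R₀) := Set.ncard_lt_ncard (SetLike.coe_ssubset_coe.mpr
      (lt_of_le_of_ne le_sup_left fun h => hrT (hZT (h.ge (Subgroup.mem_sup_right (Subgroup.mem_zpowers r))))))
    rw [hZc, hj] at hlt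
    rw [hE2, hj]
    exact Nat.pow_le_pow_right hp.out.pos ((Nat.pow_lt_pow_iff_right hp.out.one_lt).mp (by rwa [pow_one]))
  have hR₁p : ∀ x ∈ R₁, x ^ p = 1 → x ∈ E ⊓ T := by
    intro x hx hxp
    refine ⟨habs x hxp ?_, hx.1⟩
    have hle : E ≤ Subgroup.centralizer ({x} : Set R) := by
      rw [← hEgen]
      exact sup_le (fun z hz => Subgroup.mem_centralizer_singleton_iff.mpr
          (Subgroup.mem_center_iff.mp (hZcen hz) x).symm)
        (fun z hz => Subgroup.mem_centralizer_singleton_iff.mpr (Subgroup.mem_centralizer_iff.mp hx.2 z hz))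
    exact Subgroup.mem_centralizer_iff.mpr fun a ha => Subgroup.mem_centralizer_singleton_iff.mp (hle ha)
  have hcyc : IsCyclic R₁ := by
    by_contra hnc
    obtain ⟨B, hB, hBe, hB2⟩ := UniqueTools.exists_isEA_sq hp2 (hR.to_subgroup R₁) hnc
    have h1 : B ≤ E ⊓ T := fun x hx => hR₁p x (hB hx) (hBe.2 x hx)
    have h2 := Subgroup.card_le_of_le h1
    have h3 : Nat.card ↥(E ⊓ T) < p ^ 2 := hE2 ▸ Set.ncard_lt_ncard (SetLike.coe_ssubset_coe.mpr
      (lt_of_le_of_ne inf_le_left fun h => hrT (h.ge hrE).2))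
    omega
  refine ⟨R₀, R₁, Subgroup.zpowers_le.mpr hrE, hR₀c, hcyc, le_bot_iff.mp ((inf_le_inf_left _ inf_le_left).trans hinf.le),
    fun a ha b hb => Subgroup.mem_centralizer_iff.mp hb.2 a ha, le_antisymm (sup_le ?_ inf_le_right) ?_⟩
  · exact Subgroup.le_centralizer R₀
  · intro x hx
    have hxt : x ∈ R₀ ⊔ T := hsupT ▸ Subgroup.mem_top x
    rw [← SetLike.mem_coe, Subgroup.mul_normal] at hxt
    obtain ⟨a, ha, t, ht, rfl⟩ := Set.mem_mul.mp hxt
    refine mul_mem (Subgroup.mem_sup_left ha) (Subgroup.mem_sup_right ⟨ht, ?_⟩)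
    have := mul_mem (inv_mem (Subgroup.le_centralizer R₀ ha)) hx
    rwa [inv_mul_cancel_left] at this

/-- A `p`-group with a maximal elementary abelian subgroup of order `p ^ 2` is narrow. -/
theorem isNarrow_of_maximal (hp2 : p ≠ 2) (hR : IsPGroup p R) {E : Subgroup R}
    (hE : Cfsg.IsElementaryAbelian p E) (hE2 : Nat.card E = p ^ 2)
    (hEmax : ∀ B : Subgroup R, Cfsg.IsElementaryAbelian p B → E ≤ B → B = E) : Cfsg.IsNarrow p R := by
  by_cases hr : Cfsg.PRankLE p 2 R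
  · exact Or.inl hr
  obtain ⟨R₀, R₁, -, h⟩ := exists_split hp2 hR hE hE2 hEmax hr
  exact Or.inr ⟨R₀, R₁, h⟩

variable {G : Type*} [Group G] [Finite G] {M : Subgroup G}

/-- Outside `β(M)` a Sylow subgroup of `M` is narrow. -/
theorem isNarrow_sylow (hG : Cfsg.IsMinSimpleOddOrder G) (hM : IsCoatom M) (hp2 : p ≠ 2)
    (hb : p ∉ Cfsg.beta M) (S : Sylow p M) : Cfsg.IsNarrow p (S : Subgroup M) := by
  by_cases hr : Cfsg.PRankLE p 2 M
  · refine Or.inl fun A hAc hAe => ?_
    have h := Fusion.Thompson.isEA_map (S : Subgroup M).subtype (p := p) ⟨hAc, hAe⟩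
    have := hr _ h.1 h.2
    rwa [Subgroup.card_map_of_injective (S : Subgroup M).subtype_injective] at this
  have ha : p ∈ Cfsg.alpha M := ⟨hp.out, hr⟩
  obtain ⟨P, hPM, -⟩ := SigmaFusion.exists_sylow_sigma (SigmaBasics.mem_sigma_of_alpha hG hM ha)
  have hrG : ¬ Cfsg.PRankLE p 2 G := fun h => hr fun A hAc hAe => by
    have h' := Fusion.Thompson.isEA_map M.subtype (p := p) ⟨hAc, hAe⟩
    have := h _ h'.1 h'.2
    rwa [Subgroup.card_map_of_injective M.subtype_injective] at this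
  obtain ⟨P', A, hAP, hAe, hA2, hAmax⟩ : ∃ (P' : Sylow p G) (A : Subgroup G), A ≤ (P' : Subgroup G) ∧
      Cfsg.IsElementaryAbelian p A ∧ Nat.card A = p ^ 2 ∧
      ∀ B : Subgroup G, B ≤ (P' : Subgroup G) → Cfsg.IsElementaryAbelian p B → ¬ A < B := by
    have hi : ¬ Cfsg.IsIdealPrime p G := fun h => hb ⟨ha, h⟩
    by_contra hne
    refine hi ⟨hp.out, hrG, fun P' A h1 h2 h3 => ?_⟩
    by_contra hB
    exact hne ⟨P', A, h1, h2, h3, fun B b1 b2 b3 => hB ⟨B, b1, b2, b3⟩⟩
  have hN : Cfsg.IsNarrow p (P' : Subgroup G) := by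
    refine isNarrow_of_maximal hp2 P'.isPGroup' (Fusion.Thompson.isEA_subgroupOf hAe (P' : Subgroup G)) ?_ ?_
    · rw [Nat.card_congr (Subgroup.subgroupOfEquivOfLe hAP).toEquiv, hA2]
    · intro B hBe hAB
      refine le_antisymm ?_ hAB
      intro x hx
      have h1 : A ≤ B.map (P' : Subgroup G).subtype := fun a ha => ⟨⟨a, hAP ha⟩, hAB ha, rfl⟩
      have h2 : A = B.map (P' : Subgroup G).subtype := by
        by_contra hne
        exact hAmax _ (Subgroup.map_subtype_le _) (Fusion.Thompson.isEA_map _ hBe) (lt_of_le_of_ne h1 hne)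
      exact h2.ge (Subgroup.mem_map_of_mem _ hx)
  exact NarrowSylow.isNarrow_congr
    ((P'.equiv P).trans ((Subgroup.subgroupOfEquivOfLe hPM).symm.trans ((P.subtype hPM).equiv S))) hN

/-- The key properties of `M` for a prime outside `β(M)`. -/
theorem main (hG : Cfsg.IsMinSimpleOddOrder G) (hM : IsCoatom M) (hpM : p ∣ Nat.card M) (hb : p ∉ Cfsg.beta M) :
    _root_.commutator M ≤ Cfsg.pPrimePCore p M ∧ (Cfsg.pPrimePCore p M).index.Coprime p ∧
      ∀ q : ℕ, q.Prime → q ∣ (Cfsg.pPrimeCore p M).index → q ≤ p := by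
  haveI : Group.IsSolvable M := hG.2.2.2 M hM.1
  have hp2 : p ≠ 2 := fun h => Nat.not_even_iff_odd.mpr hG.1
    (even_iff_two_dvd.mpr (h ▸ hpM.trans M.card_subgroup_dvd_card))
  obtain ⟨S⟩ : Nonempty (Sylow p M) := inferInstance
  exact NarrowSylow.main (Uniqueness.odd_of_le hG.1 M) hp2 S (isNarrow_sylow hG hM hp2 hb S)
    fun _ => ProperPLength.maximal hG hM

theorem npc_congr {H K : Type*} [Group H] [Group K] [Finite H] [Finite K] (e : H ≃* K)
    (h : Cfsg.HasNormalPComplement p H) : Cfsg.HasNormalPComplement p K := by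
  obtain ⟨P, N, hN, hc⟩ := h
  have hes : Function.Surjective e.toMonoidHom := e.surjective
  haveI := hN.map e.toMonoidHom hes
  refine ⟨P.mapSurjective (f := e.toMonoidHom) hes, N.map e.toMonoidHom, inferInstance, ?_⟩
  rw [Sylow.coe_mapSurjective]
  refine Subgroup.isComplement'_of_coprime ?_ ?_
  · rw [Subgroup.card_map_of_injective e.injective, Subgroup.card_map_of_injective e.injective, hc.card_mul,
      Nat.card_congr e.toEquiv]
  · rw [Subgroup.card_map_of_injective e.injective, Subgroup.card_map_of_injective e.injective]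
    have hi : N.index = Nat.card (P : Subgroup H) :=
      Nat.eq_of_mul_eq_mul_left (Nat.card_pos (α := N)) (by rw [Subgroup.card_mul_index, hc.card_mul])
    obtain ⟨k, hk⟩ := P.isPGroup'.exists_card_eq
    rw [hk]
    refine Nat.Coprime.pow_right k ?_
    rw [← hc.index_eq_card]
    exact (hp.out.coprime_iff_not_dvd.mpr P.not_dvd_index).symm

/-- Subgroups of `M'` have normal `p`-complements, `p ∉ β(M)`. -/
theorem npc_of_le_derived (hG : Cfsg.IsMinSimpleOddOrder G) (hM : IsCoatom M) (hpM : p ∣ Nat.card M)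
    (hb : p ∉ Cfsg.beta M) {H : Subgroup G} (hH : H ≤ ⁅M, M⁆) : Cfsg.HasNormalPComplement p H := by
  have hHM : H ≤ M := hH.trans ((Subgroup.map_subtype_commutator M).ge.trans (Subgroup.map_subtype_le _))
  refine npc_congr (Subgroup.subgroupOfEquivOfLe hHM) (NarrowSylow.hasNormalPComplement_of_le
    (le_trans (fun x hx => ?_) (main hG hM hpM hb).1))
  obtain ⟨y, hy, hyx⟩ := (Subgroup.map_subtype_commutator M).ge (hH hx)
  exact M.subtype_injective hyx ▸ hy

end CfsgLib.OddOrder.NarrowMaximal
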