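import Cfsg.Agent.Lib.OddOrder.BetaCore
import Cfsg.Agent.Lib.OddOrder.Transitivity
import Cfsg.Agent.Lib.Coprime.SchurZassenhaus
import Mathlib

set_option autoImplicit false
set_option linter.style.haveILetI false
set_option linter.unusedSectionVars false

/-!
Small tools on `σ(M)`, `M_σ`, `β(M)`.
-/

namespace CfsgLib.OddOrder.SigmaTools

open scoped commutatorElement

variable {G : Type*} [Group G] [Finite G] {M : Subgroup G} {p : ℕ} [hp : Fact p.Prime]

/-- `σ(M)`-subgroups of `M` lie in `M_σ`. -/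
theorem le_sigmaCore (hG : Cfsg.IsMinSimpleOddOrder G) (hM : IsCoatom M) {X : Subgroup G} (hX : X ≤ M)
    (hπ : ∀ t : ℕ, t.Prime → t ∣ Nat.card X → t ∈ Cfsg.sigma M) : X ≤ Cfsg.sigmaCore M := by
  suffices h : X.subgroupOf M ≤ Cfsg.piCore (Cfsg.sigma M) M from fun x hx => ⟨⟨x, hX hx⟩, h hx, rfl⟩
  refine SigmaCore.le_of_coprime_index (Nat.coprime_of_dvd fun t ht h1 h2 => ?_)
  rw [Nat.card_congr (Subgroup.subgroupOfEquivOfLe hX).toEquiv] at h1
  haveI := Fact.mk ht
  exact SigmaCore.not_dvd_index hG hM (hπ t ht h1) h2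

theorem pGroup_le_sigmaCore (hG : Cfsg.IsMinSimpleOddOrder G) (hM : IsCoatom M) (hps : p ∈ Cfsg.sigma M)
    {X : Subgroup G} (hX : X ≤ M) (hXp : IsPGroup p X) : X ≤ Cfsg.sigmaCore M := by
  refine le_sigmaCore hG hM hX fun t ht hd => ?_
  obtain ⟨k, hk⟩ := hXp.exists_card_eq
  rw [hk] at hd
  exact (Nat.prime_dvd_prime_iff_eq ht hp.out).mp (ht.dvd_of_dvd_pow hd) ▸ hps

theorem sigmaCore_le (M : Subgroup G) : Cfsg.sigmaCore M ≤ M := Subgroup.map_subtype_le _

theorem le_normalizer_sigmaCore (M : Subgroup G) : M ≤ Subgroup.normalizer (Cfsg.sigmaCore M : Set G) :=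
  Transitivity.le_normalizer_piCoreOf (Cfsg.sigma M) M

theorem mem_sigma_of_card (hd : p ∣ Nat.card (Cfsg.sigmaCore M)) : p ∈ Cfsg.sigma M :=
  SigmaBasics.mem_of_dvd_piCore hp.out (SigmaCore.card_eq M ▸ hd)

/-- A `p'`-group criterion for `M_σ`. -/
theorem coprime_sigmaCore (hps : p ∉ Cfsg.sigma M) : (Nat.card (Cfsg.sigmaCore M)).Coprime p :=
  (hp.out.coprime_iff_not_dvd.mpr fun h => hps (mem_sigma_of_card h)).symm

theorem mem_sigma_of_sylow {S : Sylow p G} (hpG : p ∣ Nat.card G)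
    (hN : Subgroup.normalizer ((S : Subgroup G) : Set G) ≤ M) : p ∈ Cfsg.sigma M := by
  have hSM : (S : Subgroup G) ≤ M := Subgroup.le_normalizer.trans hN
  have hSd : p ∣ Nat.card (S : Subgroup G) := by
    rcases S.isPGroup'.card_eq_or_dvd with h | h
    · exfalso
      have := S.not_dvd_index
      rw [Subgroup.eq_bot_of_card_eq _ h, Subgroup.index_bot] at this
      exact this hpG
    · exact h
  refine ⟨hp.out, hSd.trans (Subgroup.card_dvd_of_le hSM), S.subtype hSM, ?_⟩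
  rw [Sylow.coe_subtype, Subgroup.subgroupOf_map_subtype, inf_eq_left.2 hSM]
  exact hN

/-- In `M'`, subgroups for distinct primes outside `β(M)` that normalise commute. -/
theorem centralizes_in_derived (hG : Cfsg.IsMinSimpleOddOrder G) (hM : IsCoatom M) {r : ℕ} [hr : Fact r.Prime]
    (hne : r ≠ p) (hpb : p ∉ Cfsg.beta M) (hrb : r ∉ Cfsg.beta M) {R X : Subgroup G}
    (hR : IsPGroup r R) (hX : IsPGroup p X) (hR' : R ≤ ⁅M, M⁆) (hX' : X ≤ ⁅M, M⁆)
    (hXR : X ≤ Subgroup.normalizer (R : Set G)) : R ≤ Subgroup.centralizer (X : Set G) := by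
  obtain ⟨i, hi⟩ := hR.exists_card_eq
  obtain ⟨j, hj⟩ := hX.exists_card_eq
  have hcop : (Nat.card R).Coprime (Nat.card X) := by
    rw [hi, hj]; exact ((Nat.coprime_primes hr.out hp.out).mpr hne).pow _ _
  haveI : Group.IsNilpotent (R ⊔ X : Subgroup G) := by
    refine BetaCore.isNilpotent_of_le_derived hG hM (sup_le hR' hX') fun t ht hd => ?_
    rw [Coprime.card_sup_of_le_normalizer hXR (disjoint_iff.mpr (Subgroup.disjoint_of_coprime_natCard hcop).eq_bot),
      hi, hj] at hd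
    rcases ht.dvd_mul.mp hd with h | h
    · exact (Nat.prime_dvd_prime_iff_eq ht hr.out).mp (ht.dvd_of_dvd_pow h) ▸ hrb
    · exact (Nat.prime_dvd_prime_iff_eq ht hp.out).mp (ht.dvd_of_dvd_pow h) ▸ hpb
  intro a ha
  refine Subgroup.mem_centralizer_iff.mpr fun b hb => ?_
  exact (Basic.commute_of_mem_nilpotent (K := R ⊔ X) (Subgroup.mem_sup_left ha) (Subgroup.mem_sup_right hb)
    ((hcop.coprime_dvd_left (Subgroup.orderOf_dvd_natCard R ha)).coprime_dvd_right
      (Subgroup.orderOf_dvd_natCard X hb))).eq.symm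

end CfsgLib.OddOrder.SigmaTools
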