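import Cfsg.Agent.Lib.OddOrder.PlaneSylow
import Cfsg.Agent.Lib.OddOrder.SigmaTools
import Mathlib

set_option autoImplicit false
set_option linter.style.haveILetI false
set_option linter.unusedSectionVars false

/-!
A maximal plane centralises its invariant `r`-subgroups when `r` divides the order of its centraliser and is
not ideal.
-/

namespace CfsgLib.OddOrder.A2Centralize

open scoped commutatorElement
open A2Transitive (MaxPlane)

variable {G : Type*} [Group G] [Finite G] {p r : ℕ} [hp : Fact p.Prime] [hr : Fact r.Prime] {A : Subgroup G}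

theorem not_ideal (hA : MaxPlane p A) : ¬ Cfsg.IsIdealPrime p G := by
  rintro ⟨-, -, h⟩
  obtain ⟨P, hP⟩ := hA.isPGroup.exists_le_sylow
  obtain ⟨B, -, hBe, hlt⟩ := h P A hP hA.ea hA.card
  exact hlt.ne' (hA.max B hBe hlt.le)

theorem centralizes_derived (hG : Cfsg.IsMinSimpleOddOrder G) (hA : MaxPlane p A) (hne : r ≠ p)
    (hri : ¬ Cfsg.IsIdealPrime r G) (hrC : r ∣ Nat.card (Subgroup.centralizer (A : Set G)))
    {X R : Subgroup G} (hXA : X ≤ A)
    (hX' : X ≤ ⁅Subgroup.normalizer (A : Set G), Subgroup.normalizer (A : Set G)⁆)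
    (hR : IsPGroup r R) (hRA : A ≤ Subgroup.normalizer (R : Set G)) :
    R ≤ Subgroup.centralizer (X : Set G) := by
  obtain ⟨T, hT, hRT⟩ := Transitivity.exists_max hr.out hR hRA
  obtain ⟨hTr, hTA⟩ := (Transitivity.mem_inv_top hr.out).mp hT.1
  rcases eq_or_ne T ⊥ with hT1 | hT1
  · exact (hT1 ▸ hRT).trans bot_le
  set H := Subgroup.normalizer (T : Set G) with hH
  have hHtop := A2Transitive.max_ne_top hG hr.out hTr hT1
  have hXH : X ≤ ⁅H, H⁆ := fun x hx =>
    A2Transitive.mem_derived_normalizer hG hA hne hrC hT (hXA hx) (hX' hx)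
  refine hRT.trans ?_
  by_cases hrk : Cfsg.PRankLE r 2 T
  · haveI : Group.IsSolvable H := hG.2.2.2 H hHtop
    have hr2 : r ≠ 2 := fun h => Nat.not_even_iff_odd.mpr hG.1 (even_iff_two_dvd.mpr
      (h ▸ hrC.trans (Subgroup.card_subgroup_dvd_card _)))
    haveI : (T.subgroupOf H).Normal := Subgroup.normal_in_normalizer
    have hc := (RankTwo.coreAct (Uniqueness.odd_of_le hG.1 H) hr2 (T.subgroupOf H)
      (hTr.of_equiv (Subgroup.subgroupOfEquivOfLe Subgroup.le_normalizer).symm)
      (NarrowSylow.pRankLE_congr (Subgroup.subgroupOfEquivOfLe Subgroup.le_normalizer).symm hrk)).1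
    intro t ht
    refine Subgroup.mem_centralizer_iff.mpr fun x hx => ?_
    obtain ⟨y, hy, hyx⟩ := (Subgroup.map_subtype_commutator H).ge (hXH hx)
    have hcop : (orderOf y).Coprime r := by
      rw [← Subgroup.orderOf_coe, show (y : G) = x from hyx]
      refine Nat.Coprime.coprime_dvd_left (k := Nat.card A) (Subgroup.orderOf_dvd_natCard A (hXA hx)) ?_
      rw [hA.card]
      exact ((Nat.coprime_primes hp.out hr.out).mpr hne.symm).pow_left 2
    have h := Subgroup.mem_centralizer_iff.mp (hc y hy hcop) ⟨t, Subgroup.le_normalizer ht⟩ ht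
    have h' : t * (y : G) = (y : G) * t := congrArg Subtype.val h
    rw [show (y : G) = x from hyx] at h'
    exact h'.symm
  · obtain ⟨U, hU, hNU⟩ := Uniqueness.exists_coatom_normalizer (p := r) hG.2 hT1 hTr
    have hTU : T ≤ U := Subgroup.le_normalizer.trans hNU
    have hra : r ∈ Cfsg.alpha U := ⟨hr.out, fun h => by
      obtain ⟨E, hE, hEe, hE3⟩ := UniqueTools.exists_isEA_of_not_rankLE hrk
      exact UniqueTools.not_pRankLE_of_isEA hEe hE3 (hE.trans hTU) h⟩
    refine SigmaTools.centralizes_in_derived hG hU hne (fun h => not_ideal hA h.2) (fun h => hri h.2) hTr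
      (hA.isPGroup.to_le hXA) ?_ (hXH.trans (Subgroup.commutator_mono hNU hNU)) (hXA.trans hTA)
    exact (SigmaTools.pGroup_le_sigmaCore hG hU (SigmaBasics.mem_sigma_of_alpha hG hU hra) hTU hTr).trans
      (SigmaCore.le_derived hG hU)

/-- `A` centralises every `A`-invariant `r`-subgroup. -/
theorem centralizes (hG : Cfsg.IsMinSimpleOddOrder G) (hA : MaxPlane p A) (hne : r ≠ p)
    (hri : ¬ Cfsg.IsIdealPrime r G) (hrC : r ∣ Nat.card (Subgroup.centralizer (A : Set G)))
    {R : Subgroup G} (hR : IsPGroup r R) (hRA : A ≤ Subgroup.normalizer (R : Set G)) :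
    R ≤ Subgroup.centralizer (A : Set G) := by
  obtain ⟨S, hAS⟩ := hA.isPGroup.exists_le_sylow
  by_cases hab : IsMulCommutative (S : Subgroup G)
  · exact centralizes_derived hG hA hne hri hrC le_rfl (PlaneSylow.abelian_case hG hA hAS hab).2.2 hR hRA
  set Z := PlaneSylow.zLine S with hZ
  have hRZ := centralizes_derived hG hA hne hri hrC (PlaneSylow.zLine_le hA hAS)
    (PlaneSylow.zLine_le_derived hG hA hAS hab) hR hRA
  have hZ1 : Z ≠ ⊥ := fun h => by
    have := PlaneSylow.zLine_card hG hA hAS hab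
    rw [← hZ, h, Subgroup.card_bot] at this
    exact hp.out.ne_one this.symm
  obtain ⟨L, hL, hNL⟩ := Uniqueness.exists_coatom_normalizer (p := p) hG.2 hZ1
    (hA.isPGroup.to_le (PlaneSylow.zLine_le hA hAS))
  have hSN := (PlaneSylow.normalizer_le_normalizer_zLine S).trans hNL
  have hpG : p ∣ Nat.card G := (hA.card ▸ dvd_pow_self p (by norm_num : 2 ≠ 0)).trans A.card_subgroup_dvd_card
  have hps := SigmaTools.mem_sigma_of_sylow hpG hSN
  have hAL : A ≤ L := hAS.trans (Subgroup.le_normalizer.trans hSN)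
  have hAσ := SigmaTools.pGroup_le_sigmaCore hG hL hps hAL hA.isPGroup
  have hRL : R ≤ L := hRZ.trans ((Subgroup.centralizer_le_normalizer _).trans hNL)
  by_cases hrs : r ∈ Cfsg.sigma L
  · exact SigmaTools.centralizes_in_derived hG hL hne (fun h => not_ideal hA h.2) (fun h => hri h.2) hR
      hA.isPGroup ((SigmaTools.pGroup_le_sigmaCore hG hL hrs hRL hR).trans (SigmaCore.le_derived hG hL))
      (hAσ.trans (SigmaCore.le_derived hG hL)) hRA
  · refine Subgroup.commutator_eq_bot_iff_le_centralizer.mp (le_bot_iff.mp ?_)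
    obtain ⟨k, hk⟩ := hR.exists_card_eq
    have hbot : R ⊓ Cfsg.sigmaCore L = ⊥ := (Subgroup.disjoint_of_coprime_natCard
      (hk ▸ ((SigmaTools.coprime_sigmaCore hrs).symm.pow_left k))).eq_bot
    rw [← hbot]
    refine le_inf (Subgroup.le_normalizer_iff_commutator_le_left.1 hRA) ?_
    rw [Subgroup.commutator_comm]
    refine (Subgroup.commutator_mono hAσ le_rfl).trans (Subgroup.le_normalizer_iff_commutator_le_left.1 ?_)
    exact hRL.trans (SigmaTools.le_normalizer_sigmaCore L)

end CfsgLib.OddOrder.A2Centralize
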