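import Cfsg.Agent.Lib.OddOrder.NarrowMaximal
import Cfsg.Agent.Lib.OddOrder.Transitivity
import Cfsg.Agent.Lib.Coprime.Sylow
import Cfsg.Agent.S1443
import Mathlib

set_option autoImplicit false
set_option linter.style.haveILetI false
set_option linter.unusedSectionVars false

/-!
Transitivity on the invariant `q`-subgroups of a maximal elementary abelian subgroup of order `p ^ 2`.
-/

namespace CfsgLib.OddOrder.A2Transitive

open scoped commutatorElement
open SigmaFusion (cj)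

variable {G : Type*} [Group G] [Finite G] {p q : ℕ}

/-- An elementary abelian subgroup of order `p ^ 2`, maximal among the elementary abelian subgroups. -/
structure MaxPlane (p : ℕ) (A : Subgroup G) : Prop where
  ea : Cfsg.IsElementaryAbelian p A
  card : Nat.card A = p ^ 2
  max : ∀ B : Subgroup G, Cfsg.IsElementaryAbelian p B → A ≤ B → B = A

/-- `O_{p'}(C_G(A))`. -/
def K (p : ℕ) (A : Subgroup G) : Subgroup G :=
  (Cfsg.pPrimeCore p (Subgroup.centralizer (A : Set G))).map (Subgroup.centralizer (A : Set G)).subtype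

variable [hp : Fact p.Prime] {A : Subgroup G}

theorem MaxPlane.isPGroup (hA : MaxPlane p A) : IsPGroup p A :=
  IsPGroup.of_card (n := 2) hA.card

theorem MaxPlane.ne_bot (hA : MaxPlane p A) : A ≠ ⊥ := fun h => by
  have := hA.card
  rw [h, Subgroup.card_bot] at this
  exact absurd this (Nat.one_lt_pow (by norm_num) hp.out.one_lt).ne

theorem MaxPlane.mem_of_commute (hA : MaxPlane p A) {x : G} (hx : x ^ p = 1)
    (hxc : x ∈ Subgroup.centralizer (A : Set G)) : x ∈ A := by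
  have he := Replacement.isEA_sup hA.ea (Replacement.isEA_zpowers hx) (by
    rw [Subgroup.le_centralizer_iff, Subgroup.zpowers_le]; exact hxc)
  exact (hA.max _ he le_sup_left).le (Subgroup.mem_sup_right (Subgroup.mem_zpowers x))

theorem MaxPlane.centralizer_ne_top (hG : Cfsg.IsMinSimpleOddOrder G) (hA : MaxPlane p A) :
    Subgroup.centralizer (A : Set G) ≠ ⊤ := fun h => by
  refine Uniqueness.normalizer_ne_top hG.2 hA.ne_bot ?_ (top_le_iff.mp (h.ge.trans (Subgroup.centralizer_le_normalizer _)))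
  haveI := hA.isPGroup.isNilpotent
  infer_instance

theorem MaxPlane.ne_two (hG : Cfsg.IsMinSimpleOddOrder G) (hA : MaxPlane p A) : p ≠ 2 := fun h =>
  Nat.not_even_iff_odd.mpr hG.1 (even_iff_two_dvd.mpr
    ((show 2 ∣ Nat.card A by rw [hA.card, h]; exact dvd_pow_self 2 (by norm_num)).trans A.card_subgroup_dvd_card))

theorem K_le (p : ℕ) (A : Subgroup G) : K p A ≤ Subgroup.centralizer (A : Set G) := Subgroup.map_subtype_le _

theorem K_coprime (p : ℕ) (A : Subgroup G) : (Nat.card (K p A)).Coprime p := by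
  rw [K, Subgroup.card_map_of_injective (Subgroup.centralizer (A : Set G)).subtype_injective]
  exact Solvable.Cores.coprime_card_pPrimeCore p

theorem normalizer_le_normalizer_K (p : ℕ) [Fact p.Prime] (A : Subgroup G) :
    Subgroup.normalizer (A : Set G) ≤ Subgroup.normalizer (K p A : Set G) := by
  intro g hg
  set C := Subgroup.centralizer (A : Set G) with hC
  refine NormalizerFusion.mem_normalizer_of_conj ?_
  rintro _ ⟨x, hx, rfl⟩
  have hgC : ∀ y ∈ Subgroup.centralizer (A : Set G), g * y * g⁻¹ ∈ Subgroup.centralizer (A : Set G) := by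
    intro y hy
    refine Subgroup.mem_centralizer_iff.mpr fun a ha => ?_
    have ha' : g⁻¹ * a * g ∈ A := (Subgroup.mem_normalizer_iff.mp hg _).mpr (by simpa [mul_assoc] using ha)
    have := Subgroup.mem_centralizer_iff.mp hy _ ha'
    calc a * (g * y * g⁻¹) = g * ((g⁻¹ * a * g) * y) * g⁻¹ := by group
      _ = g * (y * (g⁻¹ * a * g)) * g⁻¹ := by rw [this]
      _ = _ := by group
  have hmap : C.map (MulAut.conj g).toMonoidHom = C := by
    refine Subgroup.eq_of_le_of_card_ge ?_ (by rw [Subgroup.card_map_of_injective (MulAut.conj g).injective])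
    rintro _ ⟨y, hy, rfl⟩
    exact hgC y hy
  let e : C ≃* C := ((MulAut.conj g).subgroupMap C).trans (MulEquiv.subgroupCongr hmap)
  refine ⟨e x, ?_, by rfl⟩
  have hs : Function.Surjective e.toMonoidHom := e.surjective
  haveI := (inferInstance : (Cfsg.pPrimeCore p C).Normal).map e.toMonoidHom hs
  refine Solvable.Cores.le_pPrimeCore (p := p) (N := (Cfsg.pPrimeCore p C).map e.toMonoidHom) ?_ ⟨x, hx, rfl⟩
  rw [Subgroup.card_map_of_injective e.injective]
  exact Solvable.Cores.coprime_card_pPrimeCore p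

/-- The elements of order coprime to `p` of `C_G(A)` lie in `O_{p'}(C_G(A))`. -/
theorem mem_K (hG : Cfsg.IsMinSimpleOddOrder G) (hA : MaxPlane p A) {x : G}
    (hx : x ∈ Subgroup.centralizer (A : Set G)) (hc : (orderOf x).Coprime p) : x ∈ K p A := by
  set C := Subgroup.centralizer (A : Set G) with hC
  have hCtop := hA.centralizer_ne_top hG
  haveI : Group.IsSolvable C := hG.2.2.2 C hCtop
  obtain ⟨P⟩ : Nonempty (Sylow p C) := inferInstance
  set O := Cfsg.pPrimeCore p C with hO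
  set f := QuotientGroup.mk' O with hf
  have hfs : Function.Surjective f := QuotientGroup.mk'_surjective O
  set T := P.mapSurjective hfs with hT
  have hTc : (T : Subgroup (C ⧸ O)) = (P : Subgroup C).map f := Sylow.coe_mapSurjective hfs P
  have hTn : (T : Subgroup (C ⧸ O)).Normal := by
    have h := (PLengthOne.normal_sup P (ProperPLength.main hG C hCtop)).map f hfs
    have hOb : O.map f = ⊥ := (Subgroup.map_eq_bot_iff O).mpr (by rw [hf, QuotientGroup.ker_mk'])
    rwa [Subgroup.map_sup, hOb, bot_sup_eq, ← hTc] at h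
  haveI := hTn
  have hTeq : Cfsg.pCore p (C ⧸ O) = (T : Subgroup (C ⧸ O)) :=
    le_antisymm (Solvable.Cores.pCore_le_sylow T) (Solvable.Cores.le_pCore T.isPGroup')
  haveI : Group.IsSolvable (C ⧸ O) := Group.isSolvable_of_surjective hfs
  set X := Subgroup.zpowers (f ⟨x, hx⟩) with hX
  have hXc : (Nat.card X).Coprime p := by
    rw [hX, Nat.card_zpowers]
    exact hc.coprime_dvd_left ((orderOf_map_dvd f _).trans (by rw [Subgroup.orderOf_mk]))
  have hXT : X ≤ Subgroup.centralizer ((T : Subgroup (C ⧸ O)) : Set (C ⧸ O)) := by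
    refine Cfsg.Agent.S1443.result p (hA.ne_two hG) (T : Subgroup (C ⧸ O)) ⊥ X T.isPGroup' bot_le
      Fusion.Thompson.isEA_bot (by rw [Subgroup.normalizer_eq_top]; exact le_top) hXc fun y hy hyo => ?_
    rw [Subgroup.zpowers_le, Subgroup.mem_centralizer_singleton_iff]
    have hyT : y ∈ (P : Subgroup C).map f := hTc ▸ hy.1
    obtain ⟨z, hz, rfl⟩ := hyT
    have hzp : z ^ p = 1 := PLengthOne.eq_one_of_mem P (pow_mem hz p)
      ((QuotientGroup.eq_one_iff _).mp (by
        show f (z ^ p) = 1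
        have h := pow_orderOf_eq_one (f z)
        rw [hyo] at h
        rw [map_pow]; exact h))
    have hzA : (z : G) ∈ A := hA.mem_of_commute (by rw [← Subgroup.coe_pow, hzp]; rfl) z.2
    rw [← map_mul, ← map_mul]
    congr 1
    exact Subtype.ext (Subgroup.mem_centralizer_iff.mp hx _ hzA).symm
  have hCT := Fusion.PSolvable.centralizer_pCore_le (p := p)
    (Fusion.PSolvable.psolvable_of_solvable (G := C ⧸ O)) Components.pPrimeCore_quotient_eq_bot
  rw [hTeq] at hCT
  have hXb : X ≤ (⊥ : Subgroup (C ⧸ O)) := fun u hu => by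
    obtain ⟨k, hk⟩ := T.isPGroup'.exists_card_eq
    have h1 := Subgroup.orderOf_dvd_natCard _ (hCT (hXT hu))
    rw [hk] at h1
    exact orderOf_eq_one_iff.mp (Nat.eq_one_of_dvd_coprimes (hXc.pow_right k)
      (Subgroup.orderOf_dvd_natCard X hu) h1)
  exact ⟨⟨x, hx⟩, (QuotientGroup.eq_one_iff _).mp (hXb (Subgroup.mem_zpowers _)), rfl⟩

theorem le_K (hG : Cfsg.IsMinSimpleOddOrder G) (hA : MaxPlane p A) {X : Subgroup G}
    (hX : X ≤ Subgroup.centralizer (A : Set G)) (hc : (Nat.card X).Coprime p) : X ≤ K p A :=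
  fun _ hx => mem_K hG hA (hX hx) (hc.coprime_dvd_left (Subgroup.orderOf_dvd_natCard X hx))

theorem coprime_of_qGroup (hpq : q ≠ p) (hq : q.Prime) {Y : Subgroup G} (hY : IsPGroup q Y) :
    (Nat.card Y).Coprime p := by
  haveI := Fact.mk hq
  obtain ⟨k, hk⟩ := hY.exists_card_eq
  rw [hk]
  exact ((Nat.coprime_primes hq hp.out).mpr hpq).pow_left k

theorem coprime_A (hA : MaxPlane p A) {n : ℕ} (h : n.Coprime p) : (Nat.card A).Coprime n := by
  rw [hA.card]; exact h.symm.pow_left 2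

variable [hqf : Fact q.Prime]

/-- Two invariant `q`-subgroups of a proper subgroup lie, up to `O_{p'}(C(A))`, in a common one. -/
theorem exists_join (hG : Cfsg.IsMinSimpleOddOrder G) (hA : MaxPlane p A) (hpq : q ≠ p) {H : Subgroup G}
    (hH : H ≠ ⊤) (hAH : A ≤ H) {Q₁ Q₂ : Subgroup G} (h1H : Q₁ ≤ H) (h1 : IsPGroup q Q₁)
    (h1A : A ≤ Subgroup.normalizer (Q₁ : Set G)) (h2H : Q₂ ≤ H) (h2 : IsPGroup q Q₂)
    (h2A : A ≤ Subgroup.normalizer (Q₂ : Set G)) :
    ∃ c ∈ H ⊓ K p A, ∃ T : Subgroup G, T ≤ H ∧ IsPGroup q T ∧ A ≤ Subgroup.normalizer (T : Set G) ∧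
      Q₁ ≤ T ∧ cj c Q₂ ≤ T := by
  haveI : Group.IsSolvable H := hG.2.2.2 H hH
  haveI hAc := hA.ea.1
  set O := (Cfsg.pPrimeCore p H).map H.subtype with hO
  have hOH : O ≤ H := Subgroup.map_subtype_le _
  have hHO : H ≤ Subgroup.normalizer (O : Set G) := by
    intro g hg
    refine NormalizerFusion.mem_normalizer_of_conj ?_
    rintro _ ⟨x, hx, rfl⟩
    exact ⟨⟨g, hg⟩ * x * ⟨g, hg⟩⁻¹, (inferInstance : (Cfsg.pPrimeCore p H).Normal).conj_mem x hx _, rfl⟩
  have hOc : (Nat.card O).Coprime p := by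
    rw [hO, Subgroup.card_map_of_injective H.subtype_injective]
    exact Solvable.Cores.coprime_card_pPrimeCore p
  have hAP : A.subgroupOf H ≤ Cfsg.pPrimePCore p H := by
    haveI : (Cfsg.pPrimePCore p H).Normal := by unfold Cfsg.pPrimePCore; infer_instance
    refine SigmaCore.le_of_coprime_index ?_
    rw [Nat.card_congr (Subgroup.subgroupOfEquivOfLe hAH).toEquiv]
    exact coprime_A hA (ProperPLength.pLength_iff.mp (ProperPLength.main hG H hH))
  have hdec : ∀ Q : Subgroup G, Q ≤ H → IsPGroup q Q → A ≤ Subgroup.normalizer (Q : Set G) →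
      ⁅Q, A⁆ ≤ O ∧ Q ⊓ Subgroup.centralizer (A : Set G) ≤ H ⊓ K p A ∧
        ⁅Q, A⁆ ⊔ (Q ⊓ Subgroup.centralizer (A : Set G)) = Q := by
    intro Q hQH hQ hQA
    have hQc := coprime_of_qGroup hpq hqf.out hQ
    refine ⟨?_, le_inf (inf_le_left.trans hQH) (le_K hG hA inf_le_right
      (hQc.coprime_dvd_left (Subgroup.card_dvd_of_le inf_le_left))), ?_⟩
    · have hle : ⁅Q, A⁆ ≤ Q := Subgroup.le_normalizer_iff_commutator_le_left.1 hQA
      intro x hx
      refine ⟨⟨x, hQH (hle hx)⟩, ?_, rfl⟩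
      refine NarrowSylow.le_pPrimeCore_of_coprime (L := ⁅Q, A⁆.subgroupOf H) ?_ ?_ hx
      · haveI : (Cfsg.pPrimePCore p H).Normal := by unfold Cfsg.pPrimePCore; infer_instance
        have h3 : ⁅Q.subgroupOf H, A.subgroupOf H⁆ ≤ Cfsg.pPrimePCore p H :=
          (Subgroup.commutator_mono le_rfl hAP).trans (Subgroup.commutator_le_right _ _)
        intro y hy
        have h4 : (y : G) ∈ (⁅Q.subgroupOf H, A.subgroupOf H⁆).map H.subtype := by
          rw [Subgroup.map_commutator, Subgroup.subgroupOf_map_subtype, Subgroup.subgroupOf_map_subtype,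
            inf_eq_left.2 hQH, inf_eq_left.2 hAH]
          exact hy
        obtain ⟨z, hz, hzy⟩ := h4
        exact H.subtype_injective hzy ▸ h3 hz
      · rw [Nat.card_congr (Subgroup.subgroupOfEquivOfLe (hle.trans hQH)).toEquiv]
        exact hQc.coprime_dvd_left (Subgroup.card_dvd_of_le hle)
    · exact Coprime.commutator_sup_centralizer hQA (coprime_A hA hQc)
        (Or.inl (Group.isSolvable_of_comm fun a b => hA.ea.1.1.comm a b))
  obtain ⟨h1O, h1C, h1d⟩ := hdec Q₁ h1H h1 h1A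
  obtain ⟨h2O, h2C, h2d⟩ := hdec Q₂ h2H h2 h2A
  set KH := H ⊓ K p A with hKH
  set C₁ := Q₁ ⊓ Subgroup.centralizer (A : Set G) with hC₁
  set C₂ := Q₂ ⊓ Subgroup.centralizer (A : Set G) with hC₂
  obtain ⟨S₁, hS₁⟩ := ((h1.to_le inf_le_left).of_equiv (Subgroup.subgroupOfEquivOfLe h1C).symm).exists_le_sylow
  obtain ⟨S₂, hS₂⟩ := ((h2.to_le inf_le_left).of_equiv (Subgroup.subgroupOfEquivOfLe h2C).symm).exists_le_sylow
  obtain ⟨c, hc⟩ := MulAction.exists_smul_eq KH S₂ S₁
  set TC := (S₁ : Subgroup KH).map KH.subtype with hTC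
  have hTCK : TC ≤ KH := Subgroup.map_subtype_le _
  have hC1T : C₁ ≤ TC := fun x hx => ⟨⟨x, h1C hx⟩, hS₁ hx, rfl⟩
  have hC2T : cj (c : G) C₂ ≤ TC := by
    rintro _ ⟨x, hx, rfl⟩
    refine ⟨c * ⟨x, h2C hx⟩ * c⁻¹, ?_, rfl⟩
    rw [← hc, Sylow.coe_subgroup_smul]
    exact ⟨_, hS₂ hx, rfl⟩
  have hTCH : TC ≤ H := hTCK.trans inf_le_left
  have hTCA : TC ≤ Subgroup.centralizer (A : Set G) := hTCK.trans (inf_le_right.trans (K_le p A))
  set W := O ⊔ TC with hW
  have hWH : W ≤ H := sup_le hOH hTCH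
  have hWc : (Nat.card W).Coprime p := by
    refine Nat.coprime_of_dvd fun t ht hd htp => ?_
    rw [(Nat.prime_dvd_prime_iff_eq ht hp.out).mp htp] at hd
    have h5 : Nat.card W ∣ Nat.card O * Nat.card TC := by
      have h6 := Subgroup.card_mul_index (O.subgroupOf W)
      rw [Nat.card_congr (Subgroup.subgroupOfEquivOfLe (le_sup_left : O ≤ W)).toEquiv] at h6
      rw [← h6]
      refine mul_dvd_mul_left _ ?_
      rw [← Subgroup.relIndex]
      have hON : O ≤ Subgroup.normalizer (O : Set G) := Subgroup.le_normalizer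
      have hTN : TC ≤ Subgroup.normalizer (O : Set G) := hTCH.trans hHO
      haveI : (O.subgroupOf (Subgroup.normalizer (O : Set G))).Normal := Subgroup.normal_in_normalizer
      rw [← Subgroup.relIndex_subgroupOf (L := Subgroup.normalizer (O : Set G)) (sup_le hON hTN),
        Subgroup.subgroupOf_sup hON hTN, Subgroup.relIndex_sup_left, Subgroup.relIndex_subgroupOf hTN]
      exact Subgroup.relIndex_dvd_card _ _
    have hTCc : (Nat.card TC).Coprime p :=
      coprime_of_qGroup hpq hqf.out (S₁.isPGroup'.map _)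
    exact hp.out.ne_one (Nat.eq_one_of_dvd_coprimes (hOc.mul_left hTCc) (hd.trans h5) dvd_rfl)
  have hAW : A ≤ Subgroup.normalizer (W : Set G) := fun a ha => by
    refine Subgroup.mem_normalizer_iff_map_conj_eq.mpr ?_
    rw [hW, Subgroup.map_sup, Subgroup.mem_normalizer_iff_map_conj_eq.mp (hHO (hAH ha)),
      Subgroup.mem_normalizer_iff_map_conj_eq.mp
        (Subgroup.centralizer_le_normalizer _ (Subgroup.le_centralizer_iff.mp hTCA ha))]
  haveI : Group.IsSolvable W := hG.2.2.2 W fun h => hH (top_le_iff.mp (h ▸ hWH))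
  have hQ1W : Q₁ ≤ W := h1d ▸ sup_le (h1O.trans le_sup_left) (hC1T.trans le_sup_right)
  have hcH : (c : G) ∈ H := c.2.1
  have hcA : (c : G) ∈ Subgroup.normalizer (A : Set G) :=
    Subgroup.centralizer_le_normalizer _ (K_le p A c.2.2)
  have hQ2W : cj (c : G) Q₂ ≤ W := by
    rw [← h2d, cj, Subgroup.map_sup]
    refine sup_le ((Subgroup.map_mono h2O).trans ?_) (hC2T.trans le_sup_right)
    exact ((Subgroup.mem_normalizer_iff_map_conj_eq.mp (hHO hcH)).le).trans le_sup_left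
  have hcop := coprime_A hA hWc
  obtain ⟨P₁, hP₁, hP₁A⟩ := Coprime.exists_le_invariant_sylow hAW hcop (Or.inr inferInstance) hQ1W h1 h1A
  obtain ⟨P₂, hP₂, hP₂A⟩ := Coprime.exists_le_invariant_sylow hAW hcop (Or.inr inferInstance) hQ2W (h2.map _)
    (Transitivity.map_conj_le_normalizer hcA h2A)
  obtain ⟨d, hd, hde⟩ := Coprime.exists_centralizer_conj_sylow hAW hcop (Or.inr inferInstance) P₂ P₁ hP₂A hP₁A
  refine ⟨(d : G) * c, mul_mem ⟨hWH d.2, mem_K hG hA hd
      (hWc.coprime_dvd_left (Subgroup.orderOf_coe d ▸ orderOf_dvd_natCard d))⟩ c.2,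
    (P₁ : Subgroup W).map W.subtype, (Subgroup.map_subtype_le _).trans hWH, P₁.isPGroup'.map _, hP₁A, hP₁, ?_⟩
  rw [← SigmaFusion.cj_cj, ← hde, Coprime.map_smul_sylow]
  exact Subgroup.map_mono hP₂

omit hqf in
theorem max_ne_top (hG : Cfsg.IsMinSimpleOddOrder G) (hq : q.Prime) {D : Subgroup G} (hD : IsPGroup q D)
    (hD1 : D ≠ ⊥) : Subgroup.normalizer (D : Set G) ≠ ⊤ := by
  haveI := Fact.mk hq
  refine Uniqueness.normalizer_ne_top hG.2 hD1 ?_
  haveI := hD.isNilpotent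
  infer_instance

/-- Maximal invariant `q`-subgroups with nontrivial intersection are conjugate. -/
theorem conj_of_inf (hG : Cfsg.IsMinSimpleOddOrder G) (hA : MaxPlane p A) (hpq : q ≠ p) {R₁ R₂ : Subgroup G}
    (h1 : R₁ ∈ Cfsg.maxInvSubgroups ⊤ A {q}) (h2 : R₂ ∈ Cfsg.maxInvSubgroups ⊤ A {q}) (hne : R₁ ⊓ R₂ ≠ ⊥) :
    ∃ k ∈ K p A, R₂ = cj k R₁ := by
  induction hn : Nat.card G - Nat.card ↥(R₁ ⊓ R₂) using Nat.strong_induction_on generalizing R₁ R₂ with
  | _ n ih =>
  obtain ⟨h1q, h1A⟩ := (Transitivity.mem_inv_top hqf.out).mp h1.1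
  obtain ⟨h2q, h2A⟩ := (Transitivity.mem_inv_top hqf.out).mp h2.1
  rcases (inf_le_left : R₁ ⊓ R₂ ≤ R₁).eq_or_lt with e | h1lt
  · exact ⟨1, one_mem _, by rw [SigmaFusion.cj_one]; exact h1.2 R₂ h2.1 (inf_eq_left.mp e)⟩
  rcases (inf_le_right : R₁ ⊓ R₂ ≤ R₂).eq_or_lt with e | h2lt
  · exact ⟨1, one_mem _, by rw [SigmaFusion.cj_one]; exact (h2.2 R₁ h1.1 (inf_eq_right.mp e)).symm⟩
  set D := R₁ ⊓ R₂ with hD
  set H := Subgroup.normalizer (D : Set G) with hH
  have hAD : A ≤ H := (le_inf h1A h2A).trans Subgroup.inf_normalizer_le_normalizer_inf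
  have hHtop := max_ne_top hG hqf.out (h1q.to_le inf_le_left) hne
  have hN1 := Coprime.lt_normalizer_inf_of_lt h1q h1lt
  have hN2 := Coprime.lt_normalizer_inf_of_lt h2q h2lt
  have hinv : ∀ R : Subgroup G, A ≤ Subgroup.normalizer (R : Set G) →
      A ≤ Subgroup.normalizer ((R ⊓ H : Subgroup G) : Set G) := fun R hR =>
    (le_inf hR (hAD.trans Subgroup.le_normalizer)).trans Subgroup.inf_normalizer_le_normalizer_inf
  obtain ⟨c, hc, T, -, hTq, hTA, hT1, hT2⟩ := exists_join hG hA hpq hHtop hAD inf_le_right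
    (h1q.to_le inf_le_left) (hinv R₁ h1A) inf_le_right (h2q.to_le inf_le_left) (hinv R₂ h2A)
  obtain ⟨R₃, h3, hTR⟩ := Transitivity.exists_max hqf.out hTq hTA
  have hcN : c ∈ Subgroup.normalizer (A : Set G) := Subgroup.centralizer_le_normalizer _ (K_le p A hc.2)
  have h2' := Transitivity.map_conj_max hqf.out hcN h2
  have lt1 : Nat.card D < Nat.card ↥(R₁ ⊓ R₃) :=
    Set.ncard_lt_ncard (SetLike.coe_ssubset_coe.mpr (hN1.trans_le (le_inf inf_le_left (hT1.trans hTR))))
  have lt2 : Nat.card D < Nat.card ↥(R₃ ⊓ cj c R₂) := by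
    have : cj c (R₂ ⊓ H) ≤ R₃ ⊓ cj c R₂ := le_inf (hT2.trans hTR) (Subgroup.map_mono inf_le_left)
    refine lt_of_lt_of_le ?_ (Subgroup.card_le_of_le this)
    rw [Subgroup.card_map_of_injective (MulAut.conj c).injective]
    exact Set.ncard_lt_ncard (SetLike.coe_ssubset_coe.mpr hN2)
  have hpos : ∀ S : Subgroup G, Nat.card D < Nat.card S → S ≠ ⊥ ∧ Nat.card G - Nat.card S < n := by
    intro S hS
    refine ⟨fun h => ?_, ?_⟩
    · rw [h, Subgroup.card_bot] at hS
      exact absurd hS (not_lt.mpr Nat.card_pos)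
    · have := Subgroup.card_le_card_group S
      omega
  obtain ⟨k₁, hk₁, e1⟩ := ih _ (hpos _ lt1).2 h1 h3 (hpos _ lt1).1 rfl
  obtain ⟨k₂, hk₂, e2⟩ := ih _ (hpos _ lt2).2 h3 h2' (hpos _ lt2).1 rfl
  refine ⟨c⁻¹ * k₂ * k₁, mul_mem (mul_mem (inv_mem hc.2) hk₂) hk₁, ?_⟩
  rw [← SigmaFusion.cj_cj, ← e1, ← SigmaFusion.cj_cj, ← e2, SigmaFusion.cj_cj, inv_mul_cancel,
    SigmaFusion.cj_one]

/-- Transitivity when `q` divides `|C(A)|`. -/
theorem transitive (hG : Cfsg.IsMinSimpleOddOrder G) (hA : MaxPlane p A) (hpq : q ≠ p)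
    (hqC : q ∣ Nat.card (Subgroup.centralizer (A : Set G))) {R₁ R₂ : Subgroup G}
    (h1 : R₁ ∈ Cfsg.maxInvSubgroups ⊤ A {q}) (h2 : R₂ ∈ Cfsg.maxInvSubgroups ⊤ A {q}) :
    ∃ k ∈ K p A, R₂ = cj k R₁ := by
  haveI := hA.ea.1
  obtain ⟨y, hy⟩ := exists_prime_orderOf_dvd_card' (G := Subgroup.centralizer (A : Set G)) q hqC
  set Y := Subgroup.zpowers (y : G) with hY
  have hYc : Y ≤ Subgroup.centralizer (A : Set G) := Subgroup.zpowers_le.mpr y.2
  have hYq : IsPGroup q Y := IsPGroup.of_card (n := 1) (by rw [hY, Nat.card_zpowers, Subgroup.orderOf_coe, hy, pow_one])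
  have hY1 : Y ≠ ⊥ := by
    rw [hY, Ne, Subgroup.zpowers_eq_bot]
    intro h
    rw [← Subgroup.orderOf_coe, h, orderOf_one] at hy
    exact hqf.out.ne_one hy.symm
  have hAY : A ≤ Subgroup.normalizer (Y : Set G) :=
    (Subgroup.le_centralizer_iff.mp hYc).trans (Subgroup.centralizer_le_normalizer _)
  obtain ⟨R₀, h0, hYR⟩ := Transitivity.exists_max hqf.out hYq hAY
  suffices key : ∀ R ∈ Cfsg.maxInvSubgroups ⊤ A {q}, ∃ k ∈ K p A, R = cj k R₀ by
    obtain ⟨a, ha, ea⟩ := key R₁ h1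
    obtain ⟨b, hb, eb⟩ := key R₂ h2
    refine ⟨b * a⁻¹, mul_mem hb (inv_mem ha), ?_⟩
    rw [ea, SigmaFusion.cj_cj, inv_mul_cancel_right, eb]
  intro R hR
  obtain ⟨hRq, hRA⟩ := (Transitivity.mem_inv_top hqf.out).mp hR.1
  have hR1 : R ≠ ⊥ := by
    rintro rfl
    have := hR.2 R₀ h0.1 bot_le
    exact hY1 (le_bot_iff.mp (this ▸ hYR))
  have hnc : ¬ IsCyclic A := fun h => by
    haveI := h
    have h3 : Monoid.exponent A ∣ p := Monoid.exponent_dvd_of_forall_pow_eq_one fun a => Subtype.ext (hA.ea.2 a a.2)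
    rw [IsCyclic.exponent_eq_card, hA.card] at h3
    exact absurd (Nat.le_of_dvd hp.out.pos h3) (not_le.mpr (by
      nth_rw 1 [← pow_one p]; exact Nat.pow_lt_pow_right hp.out.one_lt one_lt_two))
  have hgen := Coprime.iSup_centralizer_singleton hnc hRA (coprime_A hA (coprime_of_qGroup hpq hqf.out hRq))
  obtain ⟨a, haA, ha1, hne⟩ : ∃ a ∈ A, a ≠ 1 ∧ R ⊓ Subgroup.centralizer {a} ≠ ⊥ := by
    by_contra hcon
    push Not at hcon
    refine hR1 (le_bot_iff.mp (hgen ▸ iSup₂_le fun a ha => (hcon a ha.1 ha.2).le))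
  set H := Subgroup.centralizer ({a} : Set G) with hHd
  have hCH : Subgroup.centralizer (A : Set G) ≤ H := Subgroup.centralizer_le (Set.singleton_subset_iff.mpr haA)
  have hAH : A ≤ H := A.le_centralizer.trans hCH
  have hHtop : H ≠ ⊤ := by
    intro h
    have hz : IsPGroup p (Subgroup.zpowers a) := hA.isPGroup.to_le (Subgroup.zpowers_le.mpr haA)
    refine max_ne_top hG hp.out hz (by simpa using ha1) (top_le_iff.mp (h.ge.trans ?_))
    rw [hHd]
    refine fun g hg => Subgroup.centralizer_le_normalizer _ (Subgroup.mem_centralizer_iff.mpr fun b hb => ?_)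
    obtain ⟨i, rfl⟩ := Subgroup.mem_zpowers_iff.mp hb
    exact ((show Commute g a from Subgroup.mem_centralizer_singleton_iff.mp hg).zpow_right i).symm.eq
  obtain ⟨c, hc, T, -, hTq, hTA, hT1, hT2⟩ := exists_join hG hA hpq hHtop hAH inf_le_right
    (hRq.to_le inf_le_left) ((le_inf hRA (hAH.trans Subgroup.le_normalizer)).trans
      Subgroup.inf_normalizer_le_normalizer_inf) (hYc.trans hCH) hYq hAY
  obtain ⟨R₃, h3, hTR⟩ := Transitivity.exists_max hqf.out hTq hTA
  have hcN : c ∈ Subgroup.normalizer (A : Set G) := Subgroup.centralizer_le_normalizer _ (K_le p A hc.2)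
  have h0' := Transitivity.map_conj_max hqf.out hcN h0
  have i1 : R₃ ⊓ R ≠ ⊥ := fun h => hne (le_bot_iff.mp ((le_inf (hT1.trans hTR) inf_le_left).trans h.le))
  have i2 : cj c R₀ ⊓ R₃ ≠ ⊥ := fun h => hY1 ((Subgroup.map_eq_bot_iff_of_injective Y (MulAut.conj c).injective).mp
    (le_bot_iff.mp ((le_inf (Subgroup.map_mono hYR) (hT2.trans hTR)).trans h.le)))
  obtain ⟨k₁, hk₁, e1⟩ := conj_of_inf hG hA hpq h0' h3 i2
  obtain ⟨k₂, hk₂, e2⟩ := conj_of_inf hG hA hpq h3 hR i1
  refine ⟨k₂ * k₁ * c, mul_mem (mul_mem hk₂ hk₁) hc.2, ?_⟩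
  rw [e2, e1, SigmaFusion.cj_cj, SigmaFusion.cj_cj]

/-- Factorisation of the normalizer. -/
theorem normalizer_eq (hG : Cfsg.IsMinSimpleOddOrder G) (hA : MaxPlane p A) (hpq : q ≠ p)
    (hqC : q ∣ Nat.card (Subgroup.centralizer (A : Set G))) {R : Subgroup G}
    (hR : R ∈ Cfsg.maxInvSubgroups ⊤ A {q}) {g : G} (hg : g ∈ Subgroup.normalizer (A : Set G)) :
    ∃ k ∈ K p A, ∃ n ∈ Subgroup.normalizer (A : Set G) ⊓ Subgroup.normalizer (R : Set G), g = k * n := by
  obtain ⟨k, hk, e⟩ := transitive hG hA hpq hqC hR (Transitivity.map_conj_max hqf.out hg hR)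
  refine ⟨k, hk, k⁻¹ * g, ⟨Subgroup.mul_mem _ (Subgroup.inv_mem _ (Subgroup.centralizer_le_normalizer _ (K_le p A hk))) hg, ?_⟩, by group⟩
  refine Subgroup.mem_normalizer_iff_map_conj_eq.mpr ?_
  show cj (k⁻¹ * g) R = R
  rw [← SigmaFusion.cj_cj, show cj g R = cj k R from e, SigmaFusion.cj_cj, inv_mul_cancel, SigmaFusion.cj_one]

/-- The `p`-elements of `N(A)'` that normalise `R` lie in `N(R)'`. -/
theorem mem_derived_normalizer (hG : Cfsg.IsMinSimpleOddOrder G) (hA : MaxPlane p A) (hpq : q ≠ p)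
    (hqC : q ∣ Nat.card (Subgroup.centralizer (A : Set G))) {R : Subgroup G}
    (hR : R ∈ Cfsg.maxInvSubgroups ⊤ A {q}) {x : G} (hx : x ∈ A)
    (hx' : x ∈ ⁅Subgroup.normalizer (A : Set G), Subgroup.normalizer (A : Set G)⁆) :
    x ∈ ⁅Subgroup.normalizer (R : Set G), Subgroup.normalizer (R : Set G)⁆ := by
  obtain ⟨-, hRA⟩ := (Transitivity.mem_inv_top hqf.out).mp hR.1
  have hKN : K p A ≤ Subgroup.normalizer (A : Set G) := (K_le p A).trans (Subgroup.centralizer_le_normalizer _)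
  refine Subgroup.commutator_mono inf_le_right inf_le_right
    (Transitivity.mem_commutator_of_coprime (Nd := Subgroup.normalizer (A : Set G) ⊓ Subgroup.normalizer (R : Set G))
      hKN inf_le_left (normalizer_le_normalizer_K p A)
      (fun m hm => normalizer_eq hG hA hpq hqC hR hm) hx' ⟨Subgroup.le_normalizer hx, hRA hx⟩ ?_)
  refine Nat.Coprime.coprime_dvd_left (k := Nat.card A) (Subgroup.orderOf_dvd_natCard A hx) ?_
  exact coprime_A hA (K_coprime p A)

end CfsgLib.OddOrder.A2Transitive
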