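import Cfsg.Agent.Lib.OddOrder.SigmaBasics
import Cfsg.Agent.Lib.OddOrder.MaximalPlane
import Mathlib

set_option autoImplicit false

/-!
An `α(M)'`-subgroup centralising a plane of `M_α` has a centraliser in a unique maximal subgroup.
-/

namespace CfsgLib.OddOrder.AlphaCentralizer

open scoped commutatorElement

variable {G : Type*} [Group G] [Finite G] {p : ℕ} [hp : Fact p.Prime] {M : Subgroup G}

omit hp in
theorem alphaCore_facts : Cfsg.alphaCore M ≤ M ∧ M ≤ Subgroup.normalizer (Cfsg.alphaCore M : Set G) ∧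
    ∀ t : ℕ, t.Prime → t ∣ Nat.card (Cfsg.alphaCore M) → t ∈ Cfsg.alpha M := by
  refine ⟨Subgroup.map_subtype_le _, ?_, fun t ht h => ?_⟩
  · have h := Subgroup.le_normalizer_map (H := Cfsg.piCore (Cfsg.alpha M) M) M.subtype
    rwa [Subgroup.normalizer_eq_top (H := Cfsg.piCore (Cfsg.alpha M) M), ← MonoidHom.range_eq_map,
      Subgroup.range_subtype] at h
  · rw [Cfsg.alphaCore, Subgroup.card_map_of_injective M.subtype_injective] at h
    exact SigmaBasics.mem_of_dvd_piCore ht h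

/-- A `p`-subgroup of `M` lies in `M_α`, `p ∈ α(M)`. -/
theorem le_alphaCore (hG : Cfsg.IsMinSimpleOddOrder G) (hM : IsCoatom M) (ha : p ∈ Cfsg.alpha M)
    {E : Subgroup G} (hE : IsPGroup p E) (hEM : E ≤ M) : E ≤ Cfsg.alphaCore M := by
  set N := Cfsg.piCore (Cfsg.alpha M) M with hN
  intro x hx
  obtain ⟨k, hk⟩ := hE ⟨x, hx⟩
  have hk' : (⟨x, hEM hx⟩ : M) ^ p ^ k = 1 := Subtype.ext (by simpa using congrArg Subtype.val hk)
  refine ⟨⟨x, hEM hx⟩, (QuotientGroup.eq_one_iff _).mp (orderOf_eq_one_iff.mp (Nat.eq_one_of_dvd_coprimes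
    ((Nat.Coprime.pow_left k (hp.out.coprime_iff_not_dvd.mpr
      ((SigmaBasics.quotient_facts hG hM).1 p hp.out ha))).symm) ?_ ?_)), rfl⟩
  · rw [Subgroup.index_eq_card]; exact orderOf_dvd_natCard _
  · refine orderOf_dvd_of_pow_eq_one ?_
    rw [← QuotientGroup.mk_pow, hk', QuotientGroup.mk_one]

theorem main (hG : Cfsg.IsMinSimpleOddOrder G) (hM : IsCoatom M) {X B : Subgroup G} (hXM : X ≤ M)
    (hXα : ∀ t : ℕ, t.Prime → t ∣ Nat.card X → t ∉ Cfsg.alpha M) (hBe : Cfsg.IsElementaryAbelian p B)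
    (hB2 : p ^ 2 ≤ Nat.card B) (hBα : B ≤ Cfsg.alphaCore M) (hBX : B ≤ Subgroup.centralizer (X : Set G)) :
    Cfsg.InUniqueMaximal (M ⊓ Subgroup.centralizer (X : Set G)) := by
  obtain ⟨hAM, hMA, hAprimes⟩ := alphaCore_facts (M := M)
  haveI : Group.IsSolvable M := hG.2.2.2 M hM.1
  have hBM : B ≤ M := hBα.trans hAM
  have htop : M ⊓ Subgroup.centralizer (X : Set G) ≠ ⊤ := fun h => hM.1 (top_le_iff.mp (h ▸ inf_le_left))
  by_cases hr3 : ¬ Cfsg.RankLE 2 (Subgroup.centralizer (B : Set G))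
  · exact UniqueTools.unique_mono (UniquenessTheorem.main hG (fun h => hM.1 (top_le_iff.mp (h ▸ hBM)))
      (fun h => UniqueTools.not_rankLE_one hBe hB2 le_rfl h) (Or.inr hr3)) (le_inf hBM hBX) htop
  push Not at hr3
  have hBcard : Nat.card B = p ^ 2 := by
    haveI := hBe.1
    exact le_antisymm (RankTwo.card_le_sq (hr3 p hp.out) hBe B.le_centralizer) hB2
  have hpA : p ∣ Nat.card (Cfsg.alphaCore M) :=
    (dvd_pow_self p two_ne_zero).trans (hBcard ▸ Subgroup.card_dvd_of_le hBα)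
  have ha : p ∈ Cfsg.alpha M := hAprimes p hp.out hpA
  have hcop : (Nat.card X).Coprime (Nat.card (Cfsg.alphaCore M)) :=
    Nat.coprime_of_dvd fun t ht htX htA => hXα t ht htX (hAprimes t ht htA)
  have hAs : Group.IsSolvable (Cfsg.alphaCore M) := Coprime.isSolvable_of_le hAM inferInstance
  obtain ⟨S, hBS, hXS⟩ := Coprime.exists_le_invariant_sylow (hXM.trans hMA) hcop (Or.inr hAs) (p := p) hBα
    (Fusion.Thompson.isPGroup_isEA hBe)
    ((Subgroup.le_centralizer_iff.mp hBX).trans (Subgroup.centralizer_le_normalizer _))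
  set R := (S : Subgroup (Cfsg.alphaCore M)).map (Cfsg.alphaCore M).subtype with hR
  have hRp : IsPGroup p R := S.isPGroup'.map _
  have hRA : R ≤ Cfsg.alphaCore M := Subgroup.map_subtype_le _
  have hp2 : p ≠ 2 := fun h => Nat.not_even_iff_odd.mpr hG.1 (even_iff_two_dvd.mpr
    (h ▸ hpA.trans (Cfsg.alphaCore M).card_subgroup_dvd_card))
  -- the rank of `R` is at least three
  obtain ⟨E₁, hE₁M, hE₁e, hE₁3⟩ := UniqueTools.exists_isEA_of_not_rankLE ha.2
  have hE₁A := le_alphaCore hG hM ha (Fusion.Thompson.isPGroup_isEA hE₁e) hE₁M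
  obtain ⟨S₁, hS₁⟩ := ((Fusion.Thompson.isPGroup_isEA hE₁e).comap_of_injective (Cfsg.alphaCore M).subtype
    (Subgroup.subtype_injective _)).exists_le_sylow
  obtain ⟨g, hg⟩ := MulAction.exists_smul_eq (Cfsg.alphaCore M) S₁ S
  have hR3 : ¬ Cfsg.PRankLE p 2 R := by
    refine UniqueTools.not_pRankLE_of_isEA (E := E₁.map (MulAut.conj (g : G)).toMonoidHom)
      (Fusion.Thompson.isEA_map _ hE₁e) (by rwa [Subgroup.card_map_of_injective (MulAut.conj (g : G)).injective]) ?_
    rw [hR, ← hg, Coprime.map_smul_sylow]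
    exact Subgroup.map_mono fun x hx => ⟨⟨x, hE₁A hx⟩, hS₁ hx, rfl⟩
  set E := B.subgroupOf R with hE
  have hEe : Cfsg.IsElementaryAbelian p E := Fusion.Thompson.isEA_subgroupOf hBe R
  have hE2 : Nat.card E = p ^ 2 := by
    rw [hE, Nat.card_congr (Subgroup.subgroupOfEquivOfLe hBS).toEquiv, hBcard]
  have hEmax : ∀ D : Subgroup R, Cfsg.IsElementaryAbelian p D → E ≤ D → D = E := by
    intro D hD hED
    refine (Subgroup.eq_of_le_of_card_ge hED ?_).symm
    have hD' := Fusion.Thompson.isEA_map R.subtype hD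
    have h := RankTwo.card_le_sq (hr3 p hp.out) hD' (by
      haveI := hD'.1
      refine (Subgroup.le_centralizer _).trans (Subgroup.centralizer_le ?_)
      intro b hb
      exact ⟨⟨b, hBS hb⟩, hED (show (⟨b, hBS hb⟩ : R) ∈ B.subgroupOf R from hb), rfl⟩)
    rw [Subgroup.card_map_of_injective R.subtype_injective] at h
    exact hE2 ▸ h
  obtain ⟨-, hZc, ⟨hWe, hWc⟩, -, -⟩ := MaximalPlane.main hp2 hRp hR3 hEe hE2 hEmax
  set W₀ := MaximalPlane.omegaZ2 (R := R) (p := p) hp2 with hW₀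
  haveI hW₀c : W₀.Characteristic := MaximalPlane.omegaZ2_characteristic hp2
  set W := W₀.map R.subtype with hW
  have hWe' : Cfsg.IsElementaryAbelian p W := Fusion.Thompson.isEA_map _ hWe
  have hWcard : Nat.card W = p ^ 2 := by rw [hW, Subgroup.card_map_of_injective R.subtype_injective, hWc]
  have hXW : X ≤ Subgroup.normalizer (W : Set G) := hXS.trans (PStable.normalizer_le_normalizer_map R W₀)
  -- `W` is unique
  obtain ⟨V, hWV, -, hVe, hV3⟩ := SCN3.exists_normal_isEA hp2 hRp hR3 W₀ hWe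
  have hWU : Cfsg.InUniqueMaximal W := by
    refine UniquenessTheorem.main hG (fun h => hM.1 (top_le_iff.mp (h ▸ (Subgroup.map_subtype_le _).trans
      (hRA.trans hAM)))) (fun h => UniqueTools.not_rankLE_one hWe' hWcard.ge le_rfl h) (Or.inr fun h => ?_)
    have hV' := Fusion.Thompson.isEA_map R.subtype hVe
    have h2 := RankTwo.card_le_sq (h p hp.out) hV' (by
      haveI := hV'.1
      exact (Subgroup.le_centralizer _).trans (Subgroup.centralizer_le (Subgroup.map_mono hWV)))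
    rw [Subgroup.card_map_of_injective R.subtype_injective] at h2
    exact absurd (hV3.trans h2) (not_le.mpr (Nat.pow_lt_pow_right hp.out.one_lt (by norm_num)))
  -- `X` centralises `W`
  have habs : ∀ x : G, x ∈ R → x ^ p = 1 → (∀ b ∈ B, Commute x b) → x ∈ B := by
    intro x hx hxp hxB
    have he := Replacement.isEA_sup hEe (Replacement.isEA_zpowers (x := (⟨x, hx⟩ : R))
      (Subtype.ext (by simpa using hxp))) (by
      rw [Subgroup.le_centralizer_iff, Subgroup.zpowers_le, Subgroup.mem_centralizer_iff]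
      intro b hb
      exact Subtype.ext (hxB b hb).eq.symm)
    have := (hEmax _ he le_sup_left).le (Subgroup.mem_sup_right (Subgroup.mem_zpowers (⟨x, hx⟩ : R)))
    exact this
  have hXcW : X ≤ Subgroup.centralizer (W : Set G) := by
    intro x hx
    refine Subgroup.mem_centralizer_iff.mpr fun w hw => ?_
    have hxB : ∀ b ∈ B, Commute x b := fun b hb => (Subgroup.mem_centralizer_iff.mp (hBX hb) x hx)
    have hwR : w ∈ R := Subgroup.map_subtype_le _ hw
    have hw' : x * w * x⁻¹ ∈ W := (Subgroup.mem_normalizer_iff.mp (hXW hx) w).mp hw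
    obtain ⟨w₀, hw₀, rfl⟩ := hw
    have hZ : ∀ b ∈ B, Commute x ⁅(w₀ : G), b⁆ := by
      intro b hb
      have hmem : ⁅w₀, (⟨b, hBS hb⟩ : R)⁆ ∈
          Subgroup.closure {x : R | x ∈ Subgroup.center R ∧ x ^ p = 1} := by
        refine Subgroup.subset_closure ⟨MaximalPlane.mem_center_of_mem_Z2 hw₀.1 _, ?_⟩
        rw [MaximalPlane.comm_pow hw₀.1, hw₀.2]; simp
      have hle : Subgroup.closure {x : R | x ∈ Subgroup.center R ∧ x ^ p = 1} ≤ E := by
        refine (Subgroup.closure_le _).mpr fun z hz => ?_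
        refine habs z z.2 (by rw [← Subgroup.coe_pow, hz.2]; rfl) fun c hc => ?_
        exact (congrArg Subtype.val (Subgroup.mem_center_iff.mp hz.1 ⟨c, hBS hc⟩)).symm
      exact hxB _ (hle hmem)
    set w := (w₀ : G)
    have hu : w⁻¹ * (x * w * x⁻¹) ∈ W ⊓ B := by
      refine Subgroup.mem_inf.mpr ⟨mul_mem (inv_mem ⟨w₀, hw₀, rfl⟩) hw', ?_⟩
      have hW' : w⁻¹ * (x * w * x⁻¹) ∈ W := mul_mem (inv_mem ⟨w₀, hw₀, rfl⟩) hw'
      refine habs _ (Subgroup.map_subtype_le _ hW') (hWe'.2 _ hW') fun b hb => ?_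
      have h1 : ⁅x * w * x⁻¹, b⁆ = ⁅w, b⁆ := by
        calc ⁅x * w * x⁻¹, b⁆ = x * (w * (x⁻¹ * b * x) * w⁻¹ * (x⁻¹ * b⁻¹ * x)) * x⁻¹ := by
              simp [commutatorElement_def, mul_assoc]
          _ = x * ⁅w, b⁆ * x⁻¹ := by
              rw [show x⁻¹ * b * x = b by rw [mul_assoc, ← (hxB b hb).eq, inv_mul_cancel_left],
                show x⁻¹ * b⁻¹ * x = b⁻¹ by rw [mul_assoc, ← (hxB b hb).inv_right.eq, inv_mul_cancel_left],
                commutatorElement_def]
          _ = ⁅w, b⁆ := by rw [(hZ b hb).eq, mul_inv_cancel_right]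
      have h2 : x * w * x⁻¹ * b * (x * w * x⁻¹)⁻¹ = w * b * w⁻¹ := mul_right_cancel (b := b⁻¹) h1
      show w⁻¹ * (x * w * x⁻¹) * b = b * (w⁻¹ * (x * w * x⁻¹))
      calc w⁻¹ * (x * w * x⁻¹) * b = w⁻¹ * (x * w * x⁻¹ * b * (x * w * x⁻¹)⁻¹) * (x * w * x⁻¹) := by group
        _ = w⁻¹ * (w * b * w⁻¹) * (x * w * x⁻¹) := by rw [h2]
        _ = _ := by group
    have hc : Commute x w := by
      refine Coprime.commute_of_stabilizes (N := W ⊓ B) ?_
        (Subgroup.mem_centralizer_iff.mpr fun b hb => (hxB b hb.2).eq.symm) ?_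
      · exact (hcop.coprime_dvd_left (Subgroup.orderOf_dvd_natCard X hx)).coprime_dvd_right
          (Subgroup.card_dvd_of_le (inf_le_right.trans hBα))
      · have h3 : ⁅x, w⁆ = w * (w⁻¹ * (x * w * x⁻¹)) * w⁻¹ := by simp [commutatorElement_def]
        rw [h3]
        haveI := hWe'.1
        have hwW : w ∈ W := ⟨w₀, hw₀, rfl⟩
        rw [show w * (w⁻¹ * (x * w * x⁻¹)) = (w⁻¹ * (x * w * x⁻¹)) * w from
          Subgroup.mem_centralizer_iff.mp (W.le_centralizer hu.1) w hwW, mul_inv_cancel_right]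
        exact hu
    exact hc.eq.symm
  exact UniqueTools.unique_mono hWU (le_inf ((Subgroup.map_subtype_le _).trans (hRA.trans hAM))
    (Subgroup.le_centralizer_iff.mp hXcW)) htop

end CfsgLib.OddOrder.AlphaCentralizer
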