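import Cfsg.Agent.Lib.OddOrder.Basic
import Cfsg.Agent.Lib.OddOrder.PStable
import Cfsg.Agent.Lib.OddOrder.RankTwoGlobal
import Cfsg.Agent.Lib.OddOrder.Transitivity
import Cfsg.Agent.Lib.Solvable.FrattiniFitting
import Cfsg.Agent.Lib.Coprime.Action
import Mathlib

set_option autoImplicit false

/-!
Bender's method for a maximal local subgroup whose Fitting subgroup involves at least two primes.
-/

namespace CfsgLib.OddOrder.Bender

open scoped commutatorElement

variable {G : Type*} [Group G]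

theorem normalizer_le_normalizer_centralizer (A : Subgroup G) :
    Subgroup.normalizer (A : Set G) ≤ Subgroup.normalizer (Subgroup.centralizer (A : Set G) : Set G) := by
  intro g hg
  rw [Subgroup.mem_normalizer_iff]
  have key : ∀ h ∈ Subgroup.normalizer (A : Set G), ∀ c ∈ Subgroup.centralizer (A : Set G),
      h * c * h⁻¹ ∈ Subgroup.centralizer (A : Set G) := fun h hh c hc => by
    rw [Subgroup.mem_centralizer_iff]
    intro a ha
    have ha' : h⁻¹ * a * h ∈ A := (Subgroup.mem_normalizer_iff.mp hh _).mpr (by simpa [mul_assoc] using ha)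
    calc a * (h * c * h⁻¹) = h * ((h⁻¹ * a * h) * c) * h⁻¹ := by group
      _ = h * (c * (h⁻¹ * a * h)) * h⁻¹ := by rw [Subgroup.mem_centralizer_iff.mp hc _ ha']
      _ = h * c * h⁻¹ * a := by group
  exact fun c => ⟨key g hg c, fun hc => by simpa [mul_assoc] using key g⁻¹ (inv_mem hg) _ hc⟩

theorem eq_one_of_orderOf_dvd_coprime {x : G} {m n : ℕ} (hm : orderOf x ∣ m) (hn : orderOf x ∣ n)
    (h : m.Coprime n) : x = 1 :=
  orderOf_eq_one_iff.mp (Nat.eq_one_of_dvd_coprimes h hm hn)

theorem mk_eq_one {N K : Subgroup G} [(K.subgroupOf N).Normal] {x : N}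
    (h : QuotientGroup.mk' (K.subgroupOf N) x = 1) : (x : G) ∈ K :=
  Subgroup.mem_subgroupOf.mp ((QuotientGroup.eq_one_iff x).mp h)

theorem mk_eq_mk {N K : Subgroup G} [(K.subgroupOf N).Normal] {x y : N} (h : (x : G)⁻¹ * y ∈ K) :
    QuotientGroup.mk' (K.subgroupOf N) y = QuotientGroup.mk' (K.subgroupOf N) x :=
  (QuotientGroup.eq.mpr (show x⁻¹ * y ∈ K.subgroupOf N from h)).symm

variable [Finite G]

/-- `O_r(H)` as a subgroup of `G`. -/
def part (r : ℕ) (H : Subgroup G) : Subgroup G := (Cfsg.pCore r H).map H.subtype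

theorem part_le (r : ℕ) (H : Subgroup G) : part r H ≤ H := Subgroup.map_subtype_le _

theorem isPGroup_part (r : ℕ) (H : Subgroup G) : IsPGroup r (part r H) :=
  (Solvable.Cores.isPGroup_pCore r).map _

theorem le_normalizer_part (r : ℕ) (H : Subgroup G) : H ≤ Subgroup.normalizer (part r H : Set G) :=
  Subgroup.le_normalizer.trans (PStable.normalizer_le_normalizer_map H _)

theorem part_le_fitting {r : ℕ} [Fact r.Prime] (H : Subgroup G) : part r H ≤ Cfsg.fittingOf H :=
  Subgroup.map_mono (Solvable.Cores.pCore_le_fittingSubgroup r)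

theorem mem_part {r : ℕ} [Fact r.Prime] {H : Subgroup G} {x : G} (hx : x ∈ Cfsg.fittingOf H)
    (hr : ∃ k, orderOf x = r ^ k) : x ∈ part r H := by
  obtain ⟨y, hy, rfl⟩ := hx
  refine ⟨y, RankTwoGlobal.mem_pCore_of_mem hy ?_, rfl⟩
  simpa [Subgroup.orderOf_coe] using hr

theorem part_ne_bot {r : ℕ} [hr : Fact r.Prime] {H : Subgroup G} (h : r ∣ Nat.card (Cfsg.fittingOf H)) :
    part r H ≠ ⊥ := by
  obtain ⟨x, hx⟩ := exists_prime_orderOf_dvd_card' r h
  intro hb
  have hm : (x : G) ∈ part r H := mem_part x.2 ⟨1, by rw [Subgroup.orderOf_coe, hx, pow_one]⟩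
  rw [hb, Subgroup.mem_bot] at hm
  rw [OneMemClass.coe_eq_one.mp hm, orderOf_one] at hx
  exact hr.out.ne_one hx.symm

theorem part_le_centralizer_part {r s : ℕ} [hr : Fact r.Prime] [hs : Fact s.Prime] (hne : r ≠ s) (H : Subgroup G) :
    part r H ≤ Subgroup.centralizer (part s H : Set G) := by
  rw [← Subgroup.commutator_eq_bot_iff_le_centralizer, eq_bot_iff,
    ← Subgroup.inf_eq_bot_of_coprime (H := part r H) (K := part s H) (by
      obtain ⟨a, ha⟩ := (isPGroup_part r H).exists_card_eq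
      obtain ⟨b, hb⟩ := (isPGroup_part s H).exists_card_eq
      rw [ha, hb]; exact ((Nat.coprime_primes hr.out hs.out).mpr hne).pow a b)]
  exact le_inf (Subgroup.le_normalizer_iff_commutator_le_left.mp
      ((part_le s H).trans (le_normalizer_part r H)))
    (Subgroup.le_normalizer_iff_commutator_le_right.mp ((part_le r H).trans (le_normalizer_part s H)))

theorem fittingOf_le_of_parts {H X : Subgroup G} (h : ∀ r : ℕ, r.Prime → part r H ≤ X) :
    Cfsg.fittingOf H ≤ X := by
  rw [Cfsg.fittingOf, Solvable.Cores.fittingSubgroup_eq_iSup_pCore, Subgroup.map_iSup]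
  exact iSup_le fun r => h r r.2

theorem le_fittingOf {H N : Subgroup G} (hNH : N ≤ H) (hn : H ≤ Subgroup.normalizer (N : Set G))
    (hnil : Group.IsNilpotent N) : N ≤ Cfsg.fittingOf H := by
  haveI : (N.subgroupOf H).Normal := (Subgroup.normal_subgroupOf_iff_le_normalizer hNH).mpr hn
  haveI := hnil
  have h := Solvable.Cores.le_fittingSubgroup (N := N.subgroupOf H)
    (Group.nilpotent_of_surjective (Subgroup.subgroupOfEquivOfLe hNH).symm.toMonoidHom
      (MulEquiv.surjective _))
  exact fun x hx => ⟨⟨x, hNH hx⟩, h hx, rfl⟩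

theorem normalizer_le_normalizer_fittingOf (X : Subgroup G) :
    Subgroup.normalizer (X : Set G) ≤ Subgroup.normalizer (Cfsg.fittingOf X : Set G) :=
  PStable.normalizer_le_normalizer_map X _

/-- The standing hypotheses: `H` is a maximal local subgroup, at least two primes divide `|F(H)|`, and `M` is a
subgroup of `F(H)` containing its centre. -/
structure Setting (H M : Subgroup G) : Prop where
  localMax : ∀ (r : ℕ) (T : Subgroup G), r.Prime → IsPGroup r T → T ≠ ⊥ →
    H ≤ Subgroup.normalizer (T : Set G) → Subgroup.normalizer (T : Set G) = H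
  two : 2 ≤ (Nat.card (Cfsg.fittingOf H)).primeFactors.card
  le : M ≤ Cfsg.fittingOf H
  centre : Cfsg.fittingOf H ⊓ Subgroup.centralizer (Cfsg.fittingOf H : Set G) ≤ M

variable {H M : Subgroup G}

theorem Setting.le_H (hS : Setting H M) : M ≤ H := hS.le.trans (Subgroup.map_subtype_le _)

theorem Setting.exists_other (hS : Setting H M) (r : ℕ) :
    ∃ s : ℕ, s.Prime ∧ s ≠ r ∧ s ∣ Nat.card (Cfsg.fittingOf H) := by
  obtain ⟨s, hs, hne⟩ := Finset.exists_mem_ne (lt_of_lt_of_le one_lt_two hS.two) r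
  exact ⟨s, Nat.prime_of_mem_primeFactors hs, hne, Nat.dvd_of_mem_primeFactors hs⟩

theorem Setting.normalizer_part (hS : Setting H M) {r : ℕ} [hr : Fact r.Prime]
    (h : r ∣ Nat.card (Cfsg.fittingOf H)) : Subgroup.normalizer (part r H : Set G) = H :=
  hS.localMax r _ hr.out (isPGroup_part r H) (part_ne_bot h) (le_normalizer_part r H)

theorem Setting.centrePart (hS : Setting H M) {r : ℕ} [hr : Fact r.Prime]
    (h : r ∣ Nat.card (Cfsg.fittingOf H)) :
    part r H ⊓ Subgroup.centralizer (Cfsg.fittingOf H : Set G) ≠ ⊥ ∧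
      H ≤ Subgroup.normalizer ((part r H ⊓ Subgroup.centralizer (Cfsg.fittingOf H : Set G) : Subgroup G) : Set G) ∧
      part r H ⊓ Subgroup.centralizer (Cfsg.fittingOf H : Set G) ≤ M ⊓ part r H ∧
      Subgroup.centralizer ((part r H ⊓ Subgroup.centralizer (Cfsg.fittingOf H : Set G) : Subgroup G) : Set G) ≤ H := by
  set F := Cfsg.fittingOf H with hF
  set Z := part r H ⊓ Subgroup.centralizer (F : Set G) with hZ
  haveI : Group.IsNilpotent F := (Basic.fittingOf_isNilpotent (M := H))
  have hZ1 : Z ≠ ⊥ := by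
    haveI : ((part r H).subgroupOf F).Normal := (Subgroup.normal_subgroupOf_iff_le_normalizer
      (part_le_fitting H)).mpr ((Subgroup.map_subtype_le _).trans (le_normalizer_part r H))
    have hne := Solvable.FrattiniFitting.inf_center_ne_bot ((part r H).subgroupOf F) (fun hb => part_ne_bot h (by
      rw [eq_bot_iff]
      intro x hx
      have : (⟨x, part_le_fitting H hx⟩ : F) ∈ (part r H).subgroupOf F := hx
      rw [hb, Subgroup.mem_bot] at this
      exact Subgroup.mem_bot.mpr (congrArg Subtype.val this)))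
    intro hb
    apply hne
    rw [eq_bot_iff]
    rintro x ⟨hx1, hx2⟩
    have : (x : G) ∈ Z := ⟨hx1, Subgroup.mem_centralizer_iff.mpr fun f hf =>
      congrArg Subtype.val (Subgroup.mem_center_iff.mp hx2 ⟨f, hf⟩)⟩
    rw [hb, Subgroup.mem_bot] at this
    exact Subgroup.mem_bot.mpr (Subtype.ext this)
  have hHZ : H ≤ Subgroup.normalizer (Z : Set G) :=
    le_trans (le_inf (le_normalizer_part r H) ((Subgroup.le_normalizer.trans
      (normalizer_le_normalizer_fittingOf H)).trans (normalizer_le_normalizer_centralizer F)))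
      Subgroup.inf_normalizer_le_normalizer_inf
  have hZM : Z ≤ M ⊓ part r H := le_inf (le_trans (le_inf (inf_le_left.trans (part_le_fitting H))
    inf_le_right) hS.centre) inf_le_left
  exact ⟨hZ1, hHZ, hZM, (Subgroup.centralizer_le_normalizer _).trans
    (hS.localMax r Z hr.out ((isPGroup_part r H).to_le inf_le_left) hZ1 hHZ).le⟩

theorem Setting.centralizer_le (hS : Setting H M) {r : ℕ} [hr : Fact r.Prime]
    (h : r ∣ Nat.card (Cfsg.fittingOf H)) :
    Subgroup.centralizer ((M ⊓ part r H : Subgroup G) : Set G) ≤ H :=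
  (Subgroup.centralizer_le (hS.centrePart h).2.2.1).trans (hS.centrePart h).2.2.2

/-- A solvable subgroup of `C_H(F(H))` normalised by it lies in `F(H)`. -/
theorem le_fitting_of_fixed {S : Subgroup G} (hSH : S ≤ H)
    (hSF : S ≤ Subgroup.centralizer (Cfsg.fittingOf H : Set G)) (hsolv : Group.IsSolvable S)
    (hn : H ⊓ Subgroup.centralizer (Cfsg.fittingOf H : Set G) ≤ Subgroup.normalizer (S : Set G)) :
    S ≤ Cfsg.fittingOf H := by
  set F := Cfsg.fittingOf H with hF
  set X := H ⊓ Subgroup.centralizer (F : Set G) with hX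
  have hHX : H ≤ Subgroup.normalizer (X : Set G) :=
    le_trans (le_inf Subgroup.le_normalizer ((Subgroup.le_normalizer.trans
      (normalizer_le_normalizer_fittingOf H)).trans (normalizer_le_normalizer_centralizer F)))
      Subgroup.inf_normalizer_le_normalizer_inf
  have hSX : S ≤ X := le_inf hSH hSF
  have h1 : Cfsg.fittingOf S ≤ Cfsg.fittingOf X :=
    le_fittingOf (Basic.fittingOf_le.trans hSX) (hn.trans (normalizer_le_normalizer_fittingOf S))
      ((Basic.fittingOf_isNilpotent (M := S)))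
  have h2 : Cfsg.fittingOf X ≤ F :=
    le_fittingOf (Basic.fittingOf_le.trans inf_le_left)
      (hHX.trans (normalizer_le_normalizer_fittingOf X)) ((Basic.fittingOf_isNilpotent (M := X)))
  have h3 : ∀ x : S, x ∈ Subgroup.centralizer (Cfsg.fittingSubgroup S : Set S) := by
    intro x
    rw [Subgroup.mem_centralizer_iff]
    intro f hf
    exact Subtype.ext (Subgroup.mem_centralizer_iff.mp (hSF x.2) (f : G) (h2 (h1 ⟨f, hf, rfl⟩)))
  intro x hx
  exact h2 (h1 ⟨⟨x, hx⟩, Solvable.Cores.centralizer_fittingSubgroup_le (h3 _), rfl⟩)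

/-- `M_s` centralises an invariant `r`-section above a core prime to `|F(H)|`. -/
theorem Setting.part_centralizes (hS : Setting H M) {r s : ℕ} [hr : Fact r.Prime] [hs : Fact s.Prime]
    (hne : r ≠ s) (hrF : r ∣ Nat.card (Cfsg.fittingOf H)) (hsF : s ∣ Nat.card (Cfsg.fittingOf H))
    {K V : Subgroup G} (hKV : K ≤ V) (hVK : V ≤ Subgroup.normalizer (K : Set G))
    (hMK : M ≤ Subgroup.normalizer (K : Set G)) (hMV : M ≤ Subgroup.normalizer (V : Set G))
    (hK : (Nat.card K).Coprime (Nat.card (Cfsg.fittingOf H))) (hV : ∀ v ∈ V, ∃ k : ℕ, v ^ r ^ k ∈ K) :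
    ∀ a ∈ M ⊓ part s H, ∀ v ∈ V, ⁅a, v⁆ ∈ K := by
  set Mr := M ⊓ part r H with hMr
  set Ms := M ⊓ part s H with hMs
  set N := Subgroup.normalizer (K : Set G) ⊓ Subgroup.normalizer (V : Set G) with hN
  have hMN : M ≤ N := le_inf hMK hMV
  have hVN : V ≤ N := le_inf hVK Subgroup.le_normalizer
  have hKN : K ≤ N := hKV.trans hVN
  haveI : (K.subgroupOf N).Normal := (Subgroup.normal_subgroupOf_iff_le_normalizer hKN).mpr inf_le_left
  haveI : (V.subgroupOf N).Normal := (Subgroup.normal_subgroupOf_iff_le_normalizer hVN).mpr inf_le_right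
  set f := QuotientGroup.mk' (K.subgroupOf N) with hf
  have hfs : Function.Surjective f := QuotientGroup.mk'_surjective _
  set T := (V.subgroupOf N).map f with hT
  haveI hTn : T.Normal := Subgroup.Normal.map inferInstance f hfs
  have hTp : IsPGroup r T := by
    rintro ⟨_, v, hv, rfl⟩
    obtain ⟨k, hk⟩ := hV v hv
    exact ⟨k, Subtype.ext (by
      show f v ^ r ^ k = 1
      rw [← map_pow]; exact (QuotientGroup.eq_one_iff _).mpr hk)⟩
  set P := (Mr.subgroupOf N).map f with hP
  set Q := (Ms.subgroupOf N).map f with hQ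
  have hPp : IsPGroup r P :=
    (((isPGroup_part r H).to_le inf_le_right).of_equiv
      (Subgroup.subgroupOfEquivOfLe (inf_le_left.trans hMN : Mr ≤ N)).symm).map f
  have hQc : (Nat.card Q).Coprime r := by
    obtain ⟨k, hk⟩ := ((((isPGroup_part s H).to_le inf_le_right).of_equiv
      (Subgroup.subgroupOfEquivOfLe (inf_le_left.trans hMN : Ms ≤ N)).symm).map f).exists_card_eq
    show (Nat.card ((Ms.subgroupOf N).map f)).Coprime r
    rw [hk]; exact ((Nat.coprime_primes hs.out hr.out).mpr (Ne.symm hne)).pow_left k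
  have hPQ : ⁅P, Q⁆ = ⊥ := by
    rw [hP, hQ, ← Subgroup.map_commutator, eq_bot_iff, ← Subgroup.map_bot f]
    refine Subgroup.map_mono (Subgroup.commutator_le.mpr fun a ha b hb => ?_)
    rw [Subgroup.mem_bot, commutatorElement_eq_one_iff_commute]
    exact Subtype.ext (Subgroup.mem_centralizer_iff.mp (part_le_centralizer_part hne H ha.2) _ hb.2).symm
  have hC : T ⊓ Subgroup.centralizer (P : Set (N ⧸ K.subgroupOf N)) ≤
      Subgroup.centralizer (Q : Set (N ⧸ K.subgroupOf N)) := by
    rintro _ ⟨⟨v, hv, rfl⟩, hvP⟩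
    have hcomm : ∀ a ∈ Mr, ⁅a, (v : G)⁆ ∈ K := by
      intro a ha
      have h1 := Subgroup.mem_centralizer_iff.mp hvP (f ⟨a, hMN ha.1⟩) ⟨⟨a, hMN ha.1⟩, ha, rfl⟩
      have h2 : f ⁅(⟨a, hMN ha.1⟩ : N), v⁆ = 1 := by
        rw [map_commutatorElement, commutatorElement_eq_one_iff_commute]; exact h1
      exact mk_eq_one h2
    obtain ⟨c, ⟨hcV, hcC⟩, hcK⟩ := Coprime.exists_centralizer_inv_mul_mem
      (inf_le_left.trans hMK) hKV hVK
      ((hK.coprime_dvd_right (Subgroup.card_dvd_of_le (inf_le_left.trans hS.le))).symm)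
      (Or.inl (by haveI := ((isPGroup_part r H).to_le (inf_le_right : Mr ≤ _)).isNilpotent; infer_instance))
      hv hcomm
    have hcH : c ∈ H := hS.centralizer_le hrF hcC
    have hfc : f ⟨c, hVN hcV⟩ = f v := mk_eq_mk hcK
    rw [Subgroup.mem_centralizer_iff]
    rintro _ ⟨b, hb, rfl⟩
    rw [← hfc, ← map_mul, ← map_mul]
    have hbs : (b : G) ∈ part s H := hb.2
    set w := ⁅(b : G), c⁆ with hw
    have hws : w ∈ part s H := by
      have h := mul_mem hbs ((Subgroup.mem_normalizer_iff.mp (le_normalizer_part s H hcH) _).mp (inv_mem hbs))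
      rw [hw, commutatorElement_def]
      simpa [mul_assoc] using h
    have hwV : w ∈ V := by
      have h := mul_mem ((Subgroup.mem_normalizer_iff.mp (hMV hb.1) c).mp hcV) (inv_mem hcV)
      rwa [hw, commutatorElement_def]
    obtain ⟨k, hk⟩ := hV w hwV
    have h1 : w ^ r ^ k = 1 := eq_one_of_orderOf_dvd_coprime (Subgroup.orderOf_dvd_natCard K hk)
      (Subgroup.orderOf_dvd_natCard _ (pow_mem (part_le_fitting H hws) _)) hK
    obtain ⟨j, hj⟩ := isPGroup_part s H ⟨w, hws⟩
    have hw1 : w = 1 := eq_one_of_orderOf_dvd_coprime (orderOf_dvd_of_pow_eq_one h1)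
      (orderOf_dvd_of_pow_eq_one (show w ^ s ^ j = 1 from congrArg Subtype.val hj))
      (((Nat.coprime_primes hr.out hs.out).mpr hne).pow k j)
    exact congrArg f (Subtype.ext (commutatorElement_eq_one_iff_commute.mp hw1).eq)
  have hfin := Coprime.le_centralizer_of_prod hPp hQc hPQ hTp
    (by rw [Subgroup.normalizer_eq_top]; exact le_top) (by rw [Subgroup.normalizer_eq_top]; exact le_top) hC
  intro a ha v hv
  have h1 := Subgroup.mem_centralizer_iff.mp (hfin ⟨⟨a, hMN ha.1⟩, ha, rfl⟩) (f ⟨v, hVN hv⟩)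
    ⟨⟨v, hVN hv⟩, hv, rfl⟩
  have h2 : f ⁅(⟨a, hMN ha.1⟩ : N), ⟨v, hVN hv⟩⁆ = 1 := by
    rw [map_commutatorElement, commutatorElement_eq_one_iff_commute]; exact h1.symm
  exact mk_eq_one h2

/-- An `M`-invariant subgroup of order prime to `|F(H)|` centralises a section centralised by `M_s`. -/
theorem Setting.coprime_centralizes (hS : Setting H M)
    (hCM : Cfsg.fittingOf H ⊓ Subgroup.centralizer (M : Set G) ≤ M) {s : ℕ} [hs : Fact s.Prime]
    (hsF : s ∣ Nat.card (Cfsg.fittingOf H))
    {K V Q : Subgroup G} (hKV : K ≤ V) (hVK : V ≤ Subgroup.normalizer (K : Set G))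
    (hMK : M ≤ Subgroup.normalizer (K : Set G)) (hMV : M ≤ Subgroup.normalizer (V : Set G))
    (hXV : H ⊓ Subgroup.centralizer (Cfsg.fittingOf H : Set G) ≤ Subgroup.normalizer (V : Set G))
    (hVs : Group.IsSolvable V)
    (hK : (Nat.card K).Coprime (Nat.card (Cfsg.fittingOf H)))
    (hcs : ∀ a ∈ M ⊓ part s H, ∀ v ∈ V, ⁅a, v⁆ ∈ K)
    (hQK : Q ≤ Subgroup.normalizer (K : Set G)) (hQV : Q ≤ Subgroup.normalizer (V : Set G))
    (hMQ : M ≤ Subgroup.normalizer (Q : Set G))
    (hQ : (Nat.card Q).Coprime (Nat.card (Cfsg.fittingOf H))) :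
    ∀ x ∈ Q, ∀ v ∈ V, ⁅x, v⁆ ∈ K := by
  set F := Cfsg.fittingOf H with hF
  haveI : Group.IsNilpotent F := (Basic.fittingOf_isNilpotent (M := H))
  set Ms := M ⊓ part s H with hMs
  set N := Subgroup.normalizer (K : Set G) ⊓ Subgroup.normalizer (V : Set G) with hN
  have hMN : M ≤ N := le_inf hMK hMV
  have hQN : Q ≤ N := le_inf hQK hQV
  have hVN : V ≤ N := le_inf hVK Subgroup.le_normalizer
  have hKN : K ≤ N := hKV.trans hVN
  haveI : (K.subgroupOf N).Normal := (Subgroup.normal_subgroupOf_iff_le_normalizer hKN).mpr inf_le_left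
  haveI : (V.subgroupOf N).Normal := (Subgroup.normal_subgroupOf_iff_le_normalizer hVN).mpr inf_le_right
  set f := QuotientGroup.mk' (K.subgroupOf N) with hf
  set T := (V.subgroupOf N).map f with hT
  haveI : T.Normal := Subgroup.Normal.map inferInstance f (QuotientGroup.mk'_surjective _)
  set C := (Subgroup.centralizer (T : Set (N ⧸ K.subgroupOf N))).comap f with hC
  have hCin : ∀ (g : N), g ∈ C → ∀ v ∈ V, ⁅(g : G), v⁆ ∈ K := by
    intro g hg v hv
    have h1 := Subgroup.mem_centralizer_iff.mp hg (f ⟨v, hVN hv⟩) ⟨⟨v, hVN hv⟩, hv, rfl⟩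
    have h2 : f ⁅g, (⟨v, hVN hv⟩ : N)⁆ = 1 := by
      rw [map_commutatorElement, commutatorElement_eq_one_iff_commute]; exact h1.symm
    exact mk_eq_one h2
  suffices hQC : Q ≤ C.map N.subtype by
    intro x hx v hv
    obtain ⟨g, hg, rfl⟩ := hQC hx
    exact hCin g hg v hv
  have hMsC : ∀ a (ha : a ∈ Ms), (⟨a, hMN ha.1⟩ : N) ∈ C := by
    intro a ha
    show f _ ∈ Subgroup.centralizer (T : Set (N ⧸ K.subgroupOf N))
    rw [Subgroup.mem_centralizer_iff]
    rintro _ ⟨v, hv, rfl⟩
    have h2 : f ⁅(⟨a, hMN ha.1⟩ : N), v⁆ = 1 := (QuotientGroup.eq_one_iff _).mpr (hcs a ha v hv)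
    rw [map_commutatorElement, commutatorElement_eq_one_iff_commute] at h2
    exact h2.symm
  have hMsQ : Ms ≤ Subgroup.normalizer (Q : Set G) := inf_le_left.trans hMQ
  have hcop : (Nat.card Ms).Coprime (Nat.card Q) :=
    (hQ.coprime_dvd_right (Subgroup.card_dvd_of_le (inf_le_left.trans hS.le))).symm
  rw [← Coprime.commutator_sup_centralizer hMsQ hcop
    (Or.inl (by haveI := ((isPGroup_part s H).to_le (inf_le_right : Ms ≤ _)).isNilpotent; infer_instance))]
  refine sup_le ?_ ?_
  · rw [Subgroup.commutator_le]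
    intro x hx a ha
    refine ⟨⁅(⟨x, hQN hx⟩ : N), ⟨a, hMN ha.1⟩⁆, ?_, rfl⟩
    haveI : C.Normal := Subgroup.Normal.comap inferInstance f
    rw [commutatorElement_def]
    exact mul_mem (Subgroup.Normal.conj_mem inferInstance _ (hMsC a ha) _) (inv_mem (hMsC a ha))
  · set Q1 := Q ⊓ Subgroup.centralizer (Ms : Set G) with hQ1
    have hQ1H : Q1 ≤ H := inf_le_right.trans (hS.centralizer_le hsF)
    have hQ1F : Q1 ≤ Subgroup.normalizer (F : Set G) :=
      hQ1H.trans (Subgroup.le_normalizer.trans (normalizer_le_normalizer_fittingOf H))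
    have hcop1 : (Nat.card Q1).Coprime (Nat.card F) :=
      hQ.coprime_dvd_left (Subgroup.card_dvd_of_le inf_le_left)
    have hMQ1 : M ≤ Subgroup.normalizer (Q1 : Set G) := by
      refine le_trans (le_inf hMQ ?_) Subgroup.inf_normalizer_le_normalizer_inf
      refine le_trans ?_ (normalizer_le_normalizer_centralizer _)
      exact le_trans (le_inf Subgroup.le_normalizer (hS.le_H.trans (le_normalizer_part s H)))
        Subgroup.inf_normalizer_le_normalizer_inf
    have hQ1M : Q1 ≤ Subgroup.centralizer (M : Set G) := by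
      rw [← Subgroup.commutator_eq_bot_iff_le_centralizer, eq_bot_iff,
        ← Subgroup.inf_eq_bot_of_coprime hcop1]
      exact le_inf (Subgroup.le_normalizer_iff_commutator_le_left.mp hMQ1)
        ((Subgroup.commutator_mono le_rfl hS.le).trans (Subgroup.le_normalizer_iff_commutator_le_right.mp hQ1F))
    have hQ1C := Stabilize.le_centralizer_of_selfcentralizing hQ1F hcop1 hS.le hQ1M hCM
    intro x hx
    refine ⟨⟨x, hQN hx.1⟩, ?_, rfl⟩
    show f _ ∈ Subgroup.centralizer (T : Set (N ⧸ K.subgroupOf N))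
    rw [Subgroup.mem_centralizer_iff]
    rintro _ ⟨v, hv, rfl⟩
    obtain ⟨c, ⟨hcV, hcC⟩, hcK⟩ := Coprime.exists_centralizer_inv_mul_mem
      (inf_le_left.trans hMK : Ms ≤ _) hKV hVK
      ((hK.coprime_dvd_right (Subgroup.card_dvd_of_le (inf_le_left.trans hS.le))).symm)
      (Or.inl (by haveI := ((isPGroup_part s H).to_le (inf_le_right : Ms ≤ _)).isNilpotent; infer_instance))
      hv (fun a ha => hcs a ha _ hv)
    have hcH : c ∈ H := hS.centralizer_le hsF hcC
    set Xc := H ⊓ Subgroup.centralizer (F : Set G) with hXc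
    have hxX : x ∈ Xc := ⟨hQ1H hx, hQ1C hx⟩
    have hSF : Xc ⊓ V ≤ F := le_fitting_of_fixed (inf_le_left.trans inf_le_left) (inf_le_left.trans inf_le_right)
      (Coprime.isSolvable_of_le inf_le_right hVs)
      (le_trans (le_inf Subgroup.le_normalizer hXV) Subgroup.inf_normalizer_le_normalizer_inf)
    set z := ⁅x, c⁆ with hz
    have hzX : z ∈ Xc := by
      have hn : H ≤ Subgroup.normalizer (Xc : Set G) := le_trans (le_inf Subgroup.le_normalizer
        ((Subgroup.le_normalizer.trans (normalizer_le_normalizer_fittingOf H)).trans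
          (normalizer_le_normalizer_centralizer F))) Subgroup.inf_normalizer_le_normalizer_inf
      have h := mul_mem hxX ((Subgroup.mem_normalizer_iff.mp (hn hcH) _).mp (inv_mem hxX))
      rw [hz, commutatorElement_def]
      simpa [mul_assoc] using h
    have hzV : z ∈ V := by
      have h := mul_mem ((Subgroup.mem_normalizer_iff.mp (hQV hx.1) c).mp hcV) (inv_mem hcV)
      rwa [hz, commutatorElement_def]
    have hzF : z ∈ F := hSF ⟨hzX, hzV⟩
    have hz' : c⁻¹ * z * c ∈ F := (Subgroup.mem_normalizer_iff''.mp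
      ((Subgroup.le_normalizer.trans (normalizer_le_normalizer_fittingOf H)) hcH) z).mp hzF
    have hz1 : c⁻¹ * z * c = 1 := Stabilize.eq_one_of_conj_eq_mul (a := x) (h := c)
      (by rw [hz, commutatorElement_def]; group)
      (Subgroup.mem_centralizer_iff.mp hxX.2 _ hz').symm
      (Nat.Coprime.coprime_dvd_left (Subgroup.orderOf_dvd_natCard Q hx.1)
        (Nat.Coprime.coprime_dvd_right (Subgroup.orderOf_dvd_natCard F hz') hQ))
    have hz2 : z = 1 := by
      calc z = c * (c⁻¹ * z * c) * c⁻¹ := by group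
        _ = 1 := by rw [hz1]; group
    have hfc : f ⟨c, hVN hcV⟩ = f v := mk_eq_mk hcK
    rw [← hfc, ← map_mul, ← map_mul]
    exact congrArg f (Subtype.ext (commutatorElement_eq_one_iff_commute.mp hz2).eq.symm)

/-- An `M`-invariant subgroup of `R` of order prime to `|F(H)|` lies in `O_{π'}(R)`, `π = π(F(H))`. -/
theorem Setting.le_core (hS : Setting H M) (hCM : Cfsg.fittingOf H ⊓ Subgroup.centralizer (M : Set G) ≤ M) {R : Subgroup G} (hR : Group.IsSolvable R)
    (hMR : M ≤ Subgroup.normalizer (R : Set G))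
    (hXR : H ⊓ Subgroup.centralizer (Cfsg.fittingOf H : Set G) ≤ Subgroup.normalizer (R : Set G))
    {Q : Subgroup G} (hQR : Q ≤ R) (hQ : (Nat.card Q).Coprime (Nat.card (Cfsg.fittingOf H)))
    (hMQ : M ≤ Subgroup.normalizer (Q : Set G)) :
    Q ≤ Cfsg.piCoreOf (Cfsg.primesNotDvd (Nat.card (Cfsg.fittingOf H))) R := by
  set F := Cfsg.fittingOf H with hF
  set n := Nat.card F with hn
  set K := Cfsg.piCoreOf (Cfsg.primesNotDvd n) R with hK
  set W := Subgroup.normalizer (R : Set G) with hW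
  have hKR : K ≤ R := Transitivity.piCoreOf_le _ _
  have hRW : R ≤ W := Subgroup.le_normalizer
  have hKW : W ≤ Subgroup.normalizer (K : Set G) := Transitivity.normalizer_le_normalizer_piCoreOf n R
  have hKcop : (Nat.card K).Coprime n := Transitivity.coprime_piCoreOf n R
  haveI : (K.subgroupOf W).Normal := (Subgroup.normal_subgroupOf_iff_le_normalizer (hKR.trans hRW)).mpr hKW
  haveI : (R.subgroupOf W).Normal := (Subgroup.normal_subgroupOf_iff_le_normalizer hRW).mpr le_rfl
  set f := QuotientGroup.mk' (K.subgroupOf W) with hf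
  set Rb := (R.subgroupOf W).map f with hRb
  haveI : Rb.Normal := Subgroup.Normal.map inferInstance f (QuotientGroup.mk'_surjective _)
  haveI hsRb : Group.IsSolvable Rb := by
    haveI : Group.IsSolvable (R.subgroupOf W) := Group.isSolvable_of_surjective
      (f := (Subgroup.subgroupOfEquivOfLe hRW).symm.toMonoidHom) (MulEquiv.surjective _)
    exact Group.isSolvable_of_surjective (f := f.subgroupMap (R.subgroupOf W))
      (MonoidHom.subgroupMap_surjective _ _)
  have hpre : ∀ r : ℕ, r.Prime →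
      (¬ r ∣ n → Cfsg.pCore r Rb = ⊥) ∧
      (∀ x (hx : x ∈ Q), f ⟨x, hRW (hQR hx)⟩ ∈
        Subgroup.centralizer (((Cfsg.pCore r Rb).map Rb.subtype : Subgroup _) : Set (W ⧸ K.subgroupOf W))) := by
    intro r hr
    haveI := Fact.mk hr
    set T := (Cfsg.pCore r Rb).map Rb.subtype with hT
    set V := (T.comap f).map W.subtype with hV
    have hKV : K ≤ V := fun x hx => ⟨⟨x, hRW (hKR hx)⟩, by
      show f _ ∈ T
      rw [show f ⟨x, hRW (hKR hx)⟩ = 1 from (QuotientGroup.eq_one_iff _).mpr hx]; exact one_mem _, rfl⟩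
    have hVR : V ≤ R := by
      rintro _ ⟨w, hw, rfl⟩
      obtain ⟨u, hu, he⟩ := (Subgroup.map_subtype_le (Cfsg.pCore r Rb) hw : f w ∈ Rb)
      have h1 : u⁻¹ * w ∈ K.subgroupOf W := QuotientGroup.eq.mp he
      have := mul_mem (show (u : G) ∈ R from hu) (hKR (show ((u⁻¹ * w : W) : G) ∈ K from h1))
      simpa using this
    have hVn : W ≤ Subgroup.normalizer (V : Set G) := by
      have h := Subgroup.le_normalizer_map (H := T.comap f) W.subtype
      rwa [Subgroup.normalizer_eq_top (H := T.comap f), ← MonoidHom.range_eq_map, Subgroup.range_subtype] at h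
    have hVp : ∀ v ∈ V, ∃ k : ℕ, v ^ r ^ k ∈ K := by
      rintro _ ⟨w, hw, rfl⟩
      obtain ⟨k, hk⟩ := ((Solvable.Cores.isPGroup_pCore r).map Rb.subtype) ⟨f w, hw⟩
      refine ⟨k, ?_⟩
      have h1 : f (w ^ r ^ k) = 1 := by rw [map_pow]; exact congrArg Subtype.val hk
      exact mk_eq_one h1
    have hbot : ¬ r ∣ n → Cfsg.pCore r Rb = ⊥ := by
      intro hrn
      have hVK : V ≤ K := Transitivity.le_piCoreOf hVR (hRW.trans hVn) (by
        refine Nat.coprime_of_dvd fun t ht htV htn => hrn ?_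
        haveI := Fact.mk ht
        obtain ⟨v, hv⟩ := exists_prime_orderOf_dvd_card' t htV
        obtain ⟨k, hk⟩ := hVp v v.2
        have h1 : (v : G) ^ r ^ k = 1 := eq_one_of_orderOf_dvd_coprime (Subgroup.orderOf_dvd_natCard K hk)
          ((orderOf_pow_dvd _).trans (by rw [Subgroup.orderOf_coe, hv]; exact htn)) hKcop
        have h2 : t ∣ r ^ k := by
          rw [← hv, ← Subgroup.orderOf_coe]; exact orderOf_dvd_of_pow_eq_one h1
        exact (Nat.prime_dvd_prime_iff_eq ht hr).mp (ht.dvd_of_dvd_pow h2) ▸ htn)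
      rw [eq_bot_iff]
      intro t ht
      obtain ⟨w, hw⟩ := QuotientGroup.mk'_surjective (K.subgroupOf W) (t : W ⧸ K.subgroupOf W)
      have hwK : (w : G) ∈ K := hVK ⟨w, show f w ∈ T from hw ▸ ⟨t, ht, rfl⟩, rfl⟩
      exact Subgroup.mem_bot.mpr (Subtype.ext (hw ▸ (QuotientGroup.eq_one_iff w).mpr hwK))
    refine ⟨hbot, fun x hx => ?_⟩
    by_cases hrn : r ∣ n
    · obtain ⟨s, hs, hsr, hsn⟩ := hS.exists_other r
      haveI := Fact.mk hs
      have hVK : V ≤ Subgroup.normalizer (K : Set G) := (hVR.trans hRW).trans hKW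
      have hcs := hS.part_centralizes (Ne.symm hsr) hrn hsn hKV hVK (hMR.trans hKW) (hMR.trans hVn) hKcop hVp
      have hq := hS.coprime_centralizes hCM hsn hKV hVK (hMR.trans hKW) (hMR.trans hVn) (hXR.trans hVn)
        (Coprime.isSolvable_of_le hVR hR) hKcop hcs ((hQR.trans hRW).trans hKW) ((hQR.trans hRW).trans hVn)
        hMQ hQ x hx
      rw [Subgroup.mem_centralizer_iff]
      intro t ht
      obtain ⟨w, rfl⟩ := QuotientGroup.mk'_surjective (K.subgroupOf W) t
      have h1 : f ⁅(⟨x, hRW (hQR hx)⟩ : W), w⁆ = 1 :=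
        (QuotientGroup.eq_one_iff _).mpr (hq w ⟨w, ht, rfl⟩)
      rw [map_commutatorElement, commutatorElement_eq_one_iff_commute] at h1
      exact h1.symm
    · rw [hT, hbot hrn, Subgroup.map_bot]
      exact Subgroup.mem_centralizer_iff.mpr fun t ht => by
        rw [Subgroup.mem_bot.mp ht, one_mul, mul_one]
  -- the image of `Q` lies in `F(R/K)`, whose order only involves primes of `π`
  intro x hx
  set xb : Rb := ⟨f ⟨x, hRW (hQR hx)⟩, ⟨⟨x, hRW (hQR hx)⟩, hQR hx, rfl⟩⟩ with hxb
  have hxF : xb ∈ Cfsg.fittingSubgroup Rb := by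
    refine Solvable.Cores.centralizer_fittingSubgroup_le ?_
    have hle : Cfsg.fittingSubgroup Rb ≤ Subgroup.centralizer ({xb} : Set Rb) := by
      rw [Solvable.Cores.fittingSubgroup_eq_iSup_pCore]
      refine iSup_le fun r t ht => ?_
      rw [Subgroup.mem_centralizer_singleton_iff]
      exact Subtype.ext (Subgroup.mem_centralizer_iff.mp ((hpre r r.2).2 x hx) _ ⟨t, ht, rfl⟩)
    exact Subgroup.mem_centralizer_iff.mpr fun t ht => Subgroup.mem_centralizer_singleton_iff.mp (hle ht)
  have hord : orderOf xb ∣ orderOf x := by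
    rw [← Subgroup.orderOf_coe xb, ← Subgroup.orderOf_mk x (hRW (hQR hx))]
    exact orderOf_map_dvd f _
  have hxb1 : xb = 1 := by
    refine eq_one_of_orderOf_dvd_coprime (hord.trans (Subgroup.orderOf_dvd_natCard Q hx))
      (Subgroup.orderOf_dvd_natCard _ hxF) (Nat.coprime_of_dvd fun t ht htQ htF => ?_)
    haveI := Fact.mk ht
    have htn : ¬ t ∣ n := fun h => ht.ne_one (Nat.eq_one_of_dvd_coprimes hQ htQ h)
    obtain ⟨y, hy⟩ := exists_prime_orderOf_dvd_card' t htF
    have := RankTwoGlobal.mem_pCore_of_mem y.2 ⟨1, by rw [Subgroup.orderOf_coe, hy, pow_one]⟩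
    rw [(hpre t ht).1 htn, Subgroup.mem_bot] at this
    rw [OneMemClass.coe_eq_one.mp this, orderOf_one] at hy
    exact ht.ne_one hy.symm
  have hfx : f ⟨x, hRW (hQR hx)⟩ = 1 := congrArg Subtype.val hxb1
  exact mk_eq_one hfx

/-- No non-trivial `M`-centralised subgroup of order prime to `|F(H)|` is normalised by `C_H(F(H))`. -/
theorem Setting.centralized_eq_bot (hS : Setting H M)
    (hCM : Cfsg.fittingOf H ⊓ Subgroup.centralizer (M : Set G) ≤ M) {U : Subgroup G} (hU : Group.IsSolvable U)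
    (hUM : U ≤ Subgroup.centralizer (M : Set G))
    (hXU : H ⊓ Subgroup.centralizer (Cfsg.fittingOf H : Set G) ≤ Subgroup.normalizer (U : Set G))
    (hcop : (Nat.card U).Coprime (Nat.card (Cfsg.fittingOf H))) : U = ⊥ := by
  obtain ⟨r, hr, -, hrn⟩ := hS.exists_other 0
  haveI := Fact.mk hr
  haveI : Group.IsNilpotent (Cfsg.fittingOf H) := (Basic.fittingOf_isNilpotent (M := H))
  have hUH : U ≤ H := hUM.trans ((Subgroup.centralizer_le inf_le_left).trans (hS.centralizer_le hrn))
  have hUF : U ≤ Subgroup.normalizer (Cfsg.fittingOf H : Set G) :=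
    hUH.trans (Subgroup.le_normalizer.trans (normalizer_le_normalizer_fittingOf H))
  have hUC := Stabilize.le_centralizer_of_selfcentralizing hUF hcop hS.le hUM hCM
  have := le_fitting_of_fixed hUH hUC hU hXU
  exact le_bot_iff.mp ((le_inf le_rfl this).trans (Subgroup.inf_eq_bot_of_coprime hcop).le)

end CfsgLib.OddOrder.Bender
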