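import Cfsg.Agent.Lib.OddOrder.SylowLocal
import Cfsg.Agent.Lib.OddOrder.SCN3
import Cfsg.Agent.Lib.OddOrder.RankTwo
import Cfsg.Agent.S1393
import Cfsg.Agent.S1395
import Cfsg.Agent.S1396
import Cfsg.Prelude.Def_OddOrder
import Mathlib

set_option autoImplicit false

/-!
The uniqueness criterion: a maximal subgroup containing all `B`-invariant `p'`-subgroups is the only maximal
subgroup containing `B`.
-/

namespace CfsgLib.OddOrder.Uniqueness

open scoped commutatorElement

variable {G : Type*} [Group G] [Finite G] {p : ℕ} [hp : Fact p.Prime]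

theorem normalizer_ne_top (hG : Cfsg.IsMinimalSimple G) {P : Subgroup G} (h : P ≠ ⊥) (hs : Group.IsSolvable P) :
    Subgroup.normalizer (P : Set G) ≠ ⊤ := by
  haveI := hG.1
  intro he
  rcases (Subgroup.normalizer_eq_top_iff.mp he).eq_bot_or_eq_top with hb | ht
  · exact h hb
  · subst ht
    haveI : Group.IsSolvable G :=
      solvable_of_surjective (f := (⊤ : Subgroup G).subtype) (fun g => ⟨⟨g, Subgroup.mem_top g⟩, rfl⟩)
    exact hG.2.1 ⟨⟨IsSimpleGroup.comm_iff_isSolvable.mpr inferInstance⟩⟩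

theorem exists_coatom_normalizer (hG : Cfsg.IsMinimalSimple G) {P : Subgroup G} (h : P ≠ ⊥)
    (hP : IsPGroup p P) : ∃ H, IsCoatom H ∧ Subgroup.normalizer (P : Set G) ≤ H := by
  haveI := hP.isNilpotent
  obtain ⟨H, hH, hle⟩ := (eq_top_or_exists_le_coatom (Subgroup.normalizer (P : Set G))).resolve_left
    (normalizer_ne_top hG h inferInstance)
  exact ⟨H, hH, hle⟩

theorem exists_sylow_of_max {X U : Subgroup G} (hUX : U ≤ X) (hU : IsPGroup p U)
    (hmax : ∀ V : Subgroup G, IsPGroup p V → U ≤ V → V ≤ X → V = U) :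
    ∃ S : Sylow p X, (S : Subgroup X).map X.subtype = U := by
  obtain ⟨S, hS⟩ := (hU.comap_of_injective X.subtype X.subtype_injective).exists_le_sylow
  exact ⟨S, hmax _ (S.isPGroup'.map _) (fun x hx => ⟨⟨x, hUX hx⟩, hS hx, rfl⟩) (Subgroup.map_subtype_le _)⟩

theorem odd_of_le (hodd : Odd (Nat.card G)) (X : Subgroup G) : Odd (Nat.card X) :=
  Odd.of_dvd_nat hodd X.card_subgroup_dvd_card

theorem coprime_p_of_coprime_card {A : Subgroup G} (hA : IsPGroup p A) (hne : A ≠ ⊥) {n : ℕ}
    (h : n.Coprime (Nat.card A)) : n.Coprime p := by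
  refine h.coprime_dvd_right ((hA.card_eq_or_dvd).resolve_left fun h1 => hne (Subgroup.eq_bot_of_card_eq _ h1))

/-- All invariant `p'`-subgroups of an `SCN_3` subgroup of `R` lie in `M`. -/
theorem invariant_le (hG : Cfsg.IsMinSimpleOddOrder G) {M : Subgroup G} {R : Sylow p G} {A : Subgroup G}
    (hA : Cfsg.IsSCN (R : Subgroup G) A) (hr : ¬ Cfsg.PRankLE p 2 A)
    (hinv : ∀ Y : Subgroup G, (Nat.card Y).Coprime p →
      (R : Subgroup G) ≤ Subgroup.normalizer (Y : Set G) → Y ≤ M)
    {L : Subgroup G} (hL : (Nat.card L).Coprime p) (hAL : A ≤ Subgroup.normalizer (L : Set G)) : L ≤ M := by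
  haveI := hG.2.1
  have hAc := SCNTransitivity.isMulCommutative_of_scn hA
  haveI := hAc
  have hAp : IsPGroup p A := R.isPGroup'.to_le hA.1
  have hne : A ≠ ⊥ := by
    rintro rfl
    apply hr
    intro B _ _
    rw [Subgroup.eq_bot_of_subsingleton B, Subgroup.card_bot]
    exact Nat.one_le_pow _ _ hp.out.pos
  have hpA : p ∣ Nat.card A := hAp.card_eq_or_dvd.resolve_left fun h1 => hne (Subgroup.eq_bot_of_card_eq _ h1)
  have hpG : p ∣ Nat.card G := hpA.trans A.card_subgroup_dvd_card
  have hr1 : ¬ Cfsg.PRankLE p 1 A := fun h => hr fun B h1 h2 =>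
    (h B h1 h2).trans (Nat.pow_le_pow_right hp.out.pos one_le_two)
  have hT := Cfsg.Agent.S1396.result hG p hpG A hAp hAc (Or.inr ⟨R, hA, hr1⟩)
  have hAC : A ⊓ Subgroup.centralizer (A : Set G) = A := inf_eq_left.mpr A.le_centralizer
  have hZ : ¬ Cfsg.RankLE 2 ↥(A ⊓ Subgroup.centralizer (A : Set G)) := by
    rw [hAC]; exact fun h => hr (h p hp.out)
  have hRtop : (R : Subgroup G) ≠ ⊤ := by
    intro h
    haveI : Group.IsNilpotent (R : Subgroup G) := R.isPGroup'.isNilpotent
    exact normalizer_ne_top hG.2 (P := (R : Subgroup G)) (fun hb => hne (le_bot_iff.mp (hb ▸ hA.1))) inferInstance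
      (by rw [h]; exact Subgroup.normalizer_eq_top_iff.mpr inferInstance)
  set D := Cfsg.piCoreOf (Cfsg.primesNotDvd (Nat.card A)) (Subgroup.centralizer (A : Set G)) with hD
  have hDM : D ≤ M := by
    refine hinv D (coprime_p_of_coprime_card hAp hne (Transitivity.coprime_piCoreOf _ _)) ?_
    refine hA.2.1.trans (le_trans ?_ (Transitivity.normalizer_le_normalizer_piCoreOf _ _))
    intro g hg
    refine Coprime.mem_normalizer_of_conj_map_le fun c hc => Subgroup.mem_centralizer_iff.mpr fun a ha => ?_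
    have ha' : g⁻¹ * a * g ∈ A := (Subgroup.mem_normalizer_iff.mp hg _).mpr (by simpa [mul_assoc] using ha)
    calc a * (g * c * g⁻¹) = g * ((g⁻¹ * a * g) * c) * g⁻¹ := by group
      _ = g * (c * (g⁻¹ * a * g)) * g⁻¹ := by rw [Subgroup.mem_centralizer_iff.mp hc _ ha']
      _ = g * c * g⁻¹ * a := by group
  -- the statement for `q`-groups
  have hq : ∀ q : ℕ, q.Prime → q ≠ p → ∀ Y : Subgroup G, IsPGroup q Y →
      A ≤ Subgroup.normalizer (Y : Set G) → Y ≤ M := by
    intro q hq hqp Y hY hAY
    haveI := Fact.mk hq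
    have hqA : ¬ q ∣ Nat.card A := fun h => by
      obtain ⟨k, hk⟩ := hAp.exists_card_eq
      exact hqp ((Nat.prime_dvd_prime_iff_eq hq hp.out).mp (hq.dvd_of_dvd_pow (hk ▸ h)))
    have htr := Cfsg.Agent.S1393.result hG A hT hZ q hq hqA
    obtain ⟨-, -, hsub, -⟩ := Cfsg.Agent.S1395.result hG A hT q hq hqA (R : Subgroup G) hRtop
      (fun r hr1 hr2 => by
        obtain ⟨k, hk⟩ := R.isPGroup'.exists_card_eq
        rw [hk] at hr2
        exact ((Nat.prime_dvd_prime_iff_eq hr1 hp.out).mp (hr1.dvd_of_dvd_pow hr2)) ▸ hpA)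
      hA.1 (Subgroup.Normal.isSubnormal ((Subgroup.normal_subgroupOf_iff_le_normalizer hA.1).mpr hA.2.1)) htr
    obtain ⟨Q₀, hQ₀, -⟩ := Transitivity.exists_max (A := (R : Subgroup G)) hq
      (IsPGroup.of_bot (p := q) (G := G)) (by rw [Subgroup.normalizer_eq_top]; exact le_top)
    obtain ⟨hQ₀q, hQ₀R⟩ := (Transitivity.mem_inv_top hq).mp hQ₀.1
    have hQ₀M : Q₀ ≤ M := hinv Q₀ (by
      obtain ⟨k, hk⟩ := hQ₀q.exists_card_eq
      rw [hk]; exact ((Nat.coprime_primes hq hp.out).mpr hqp).pow_left k) hQ₀R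
    obtain ⟨Q, hQ, hYQ⟩ := Transitivity.exists_max hq hY hAY
    obtain ⟨k, hk, rfl⟩ := htr Q₀ (hsub hQ₀) Q hQ
    refine hYQ.trans ?_
    rintro _ ⟨x, hx, rfl⟩
    exact mul_mem (mul_mem (hDM hk) (hQ₀M hx)) (inv_mem (hDM hk))
  -- invariant Sylow subgroups generate `L`
  obtain ⟨k, hk⟩ := hAp.exists_card_eq
  have hcop : (Nat.card A).Coprime (Nat.card L) := by rw [hk]; exact hL.symm.pow_left k
  have htop : M.subgroupOf L = ⊤ := by
    refine Solvable.Cores.eq_top_of_sylow_le _ fun q hq' => ?_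
    haveI := Fact.mk hq'
    obtain ⟨P, hP⟩ := Coprime.exists_invariant_sylow hAL hcop (Or.inl (by haveI := hAp.isNilpotent; infer_instance)) q
    refine ⟨P, fun x hx => ?_⟩
    rcases eq_or_ne q p with rfl | hne'
    · obtain ⟨j, hj⟩ := P.isPGroup' ⟨x, hx⟩
      have h1 : x ^ q ^ j = 1 := congrArg Subtype.val hj
      have h2 : orderOf x = 1 := Nat.eq_one_of_dvd_coprimes (hL.pow_right j) (orderOf_dvd_natCard x)
        (orderOf_dvd_of_pow_eq_one h1)
      rw [orderOf_eq_one_iff.mp h2]; exact one_mem _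
    · exact hq q hq' hne' _ (P.isPGroup'.map _) hP ⟨x, hx, rfl⟩
  exact fun x hx => by
    have := htop.symm ▸ Subgroup.mem_top (⟨x, hx⟩ : L)
    exact this

/-- The main criterion. -/
theorem unique_of_invariant (hG : Cfsg.IsMinSimpleOddOrder G) {M : Subgroup G} (hM : IsCoatom M)
    {B : Subgroup G} (hBM : B ≤ M) (hBp : IsPGroup p B) (hB : B ≠ ⊥)
    (hinv : ∀ Y : Subgroup G, (Nat.card Y).Coprime p → B ≤ Subgroup.normalizer (Y : Set G) → Y ≤ M) :
    Cfsg.InUniqueMaximal B := by
  classical
  obtain ⟨hodd, hmin⟩ := hG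
  refine ⟨M, ⟨hM, hBM⟩, ?_⟩
  by_contra hex
  push Not at hex
  obtain ⟨M₁, ⟨hM₁, hBM₁⟩, hne₁⟩ := hex
  obtain ⟨⟨M', R⟩, ⟨hM', hne, hBR, hRp, hRle⟩, hmax⟩ := Set.exists_max_image
    {x : Subgroup G × Subgroup G | IsCoatom x.1 ∧ x.1 ≠ M ∧ B ≤ x.2 ∧ IsPGroup p x.2 ∧ x.2 ≤ M ⊓ x.1}
    (fun x => Nat.card x.2) (Set.toFinite _) ⟨(M₁, B), hM₁, hne₁, le_rfl, hBp, le_inf hBM hBM₁⟩
  have hRM : R ≤ M := hRle.trans inf_le_left
  have hRM' : R ≤ M' := hRle.trans inf_le_right
  have hR1 : R ≠ ⊥ := fun h => hB (le_bot_iff.mp (h ▸ hBR))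
  have hpG : p ∣ Nat.card G :=
    (hRp.card_eq_or_dvd.resolve_left fun h1 => hR1 (Subgroup.eq_bot_of_card_eq _ h1)).trans R.card_subgroup_dvd_card
  have hp2 : p ≠ 2 := fun h => Nat.not_even_iff_odd.mpr hodd (even_iff_two_dvd.mpr (h ▸ hpG))
  haveI hsM : Group.IsSolvable M := hmin.2.2 M hM.1
  haveI hsM' : Group.IsSolvable M' := hmin.2.2 M' hM'.1
  -- no larger `p`-subgroup of `M ⊓ M''` contains `R`
  have hlarge : ∀ H : Subgroup G, IsCoatom H → ∀ U : Subgroup G, IsPGroup p U → R < U → U ≤ M ⊓ H → H = M := by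
    intro H hH U hU hlt hle
    by_contra hne2
    have := hmax (H, U) ⟨hH, hne2, hBR.trans hlt.le, hU, hle⟩
    exact absurd this (not_le.mpr (Set.ncard_lt_ncard (SetLike.coe_ssubset_coe.mpr hlt)))
  have hcoreM : ∀ H : Subgroup G, R ≤ H → (Cfsg.pPrimeCore p H).map H.subtype ≤ M := fun H hle =>
    hinv _ SylowLocal.coreOf_coprime ((hBR.trans hle).trans SylowLocal.le_normalizer_coreOf)
  -- it suffices that `R` is a Sylow subgroup of `M'` and `N(Z(J(R))) ≤ M`
  have hfinish : ∀ S : Sylow p M', (S : Subgroup M').map M'.subtype = R →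
      Subgroup.normalizer (Cfsg.centerThompsonOf p R : Set G) ≤ M → False := by
    intro S hS hN
    have := SylowLocal.le_of_center_thompson (odd_of_le hodd M') S (H := M) (hcoreM M' hRM')
      (by rw [hS]; exact inf_le_right.trans hN)
    exact hne ((hM'.le_iff.mp this).resolve_left hM.1).symm
  set Z := Cfsg.centerThompsonOf p R with hZ
  have hZR : Z ≤ R := inf_le_left.trans (Fusion.Thompson.thompsonSubgroupOf_le R)
  have hZ1 : Z ≠ ⊥ := SylowLocal.centerThompsonOf_ne_bot hRp hR1
  have hRNZ : Subgroup.normalizer (R : Set G) ≤ Subgroup.normalizer (Z : Set G) :=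
    ZJ.centerThompsonOf_normalizer R
  obtain ⟨H, hH, hNH⟩ := exists_coatom_normalizer hmin hZ1 (hRp.to_le hZR)
  have hRH : R ≤ H := Subgroup.le_normalizer.trans (hRNZ.trans hNH)
  by_cases hSylM : ∀ U : Subgroup G, IsPGroup p U → R ≤ U → U ≤ M → U = R
  swap
  · -- `R` is not a Sylow subgroup of `M`
    push Not at hSylM
    obtain ⟨U, hU, hRU, hUM, hUR⟩ := hSylM
    have h1 := Coprime.lt_normalizer_inf_of_lt hU (lt_of_le_of_ne hRU (Ne.symm hUR))
    have hHM : H = M := hlarge H hH _ (hU.to_le inf_le_left) h1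
      (le_inf (inf_le_left.trans hUM) (inf_le_right.trans (hRNZ.trans hNH)))
    obtain ⟨S, hS⟩ := exists_sylow_of_max hRM' hRp (fun V hV hRV hVM' => by
      by_contra hVR
      have h2 := Coprime.lt_normalizer_inf_of_lt hV (lt_of_le_of_ne hRV (Ne.symm hVR))
      exact hne (hlarge M' hM' _ (hV.to_le inf_le_left) h2
        (le_inf (inf_le_right.trans (hRNZ.trans (hHM ▸ hNH))) (inf_le_left.trans hVM'))))
    exact hfinish S hS (hHM ▸ hNH)
  · -- `R` is a Sylow subgroup of `M`
    obtain ⟨S, hS⟩ := exists_sylow_of_max hRM hRp hSylM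
    set K := (Cfsg.pPrimeCore p M).map M.subtype with hK
    have hKcop : (Nat.card K).Coprime p := SylowLocal.coreOf_coprime
    have hNK : K ≠ ⊥ → Subgroup.normalizer (K : Set G) ≤ M := fun hne' => by
      have hN : Subgroup.normalizer (K : Set G) ≠ ⊤ :=
        normalizer_ne_top hmin hne' (Coprime.isSolvable_of_le (Subgroup.map_subtype_le _) hsM)
      exact le_of_eq ((hM.le_iff.mp SylowLocal.le_normalizer_coreOf).resolve_left hN)
    -- conjugates of `K` inside `M` normalised by `R`
    have hconjK : K ≠ ⊥ → ∀ g : G,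
        (K.map (MulAut.conj g).toMonoidHom : Subgroup G) ≤ K → g ∈ M := fun hne' g hle =>
      hNK hne' (Coprime.mem_normalizer_of_conj_map_le fun h hh => hle ⟨h, hh, rfl⟩)
    have hRsyl : ∃ P : Sylow p G, (P : Subgroup G) = R ∧ Subgroup.normalizer (R : Set G) ≤ M := by
      have hNR : Subgroup.normalizer (R : Set G) ≤ M := by
        by_cases hKb : K = ⊥
        · have hMZ : M ≤ Subgroup.normalizer (Z : Set G) := by
            refine SylowLocal.le_of_center_thompson (odd_of_le hodd M) S ?_ (by rw [hS]; exact inf_le_right)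
            rw [← hK, hKb]; exact bot_le
          have := (hM.le_iff.mp hMZ).resolve_left (normalizer_ne_top hmin hZ1 (by
            haveI := (hRp.to_le hZR).isNilpotent; infer_instance))
          exact hRNZ.trans this.le
        · intro g hg
          have hgR : (R.map (MulAut.conj g).toMonoidHom : Subgroup G) = R :=
            Subgroup.mem_normalizer_iff_map_conj_eq.mp hg
          set K' := K.map (MulAut.conj g).toMonoidHom
          have hK'cop : (Nat.card K').Coprime p := by
            rw [Subgroup.card_map_of_injective (MulAut.conj g).injective]; exact hKcop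
          have hRK' : R ≤ Subgroup.normalizer (K' : Set G) := by
            rw [← hgR]
            exact (Subgroup.map_mono (hRM.trans SylowLocal.le_normalizer_coreOf)).trans
              (Subgroup.le_normalizer_map _)
          exact hconjK hKb g (SylowLocal.le_coreOf_of_sylow S (hinv K' hK'cop (hBR.trans hRK')) hK'cop
            (by rw [hS]; exact hRK'))
      obtain ⟨P, hP⟩ := hRp.exists_le_sylow
      refine ⟨P, ?_, hNR⟩
      by_contra hPR
      have h1 := Coprime.lt_normalizer_inf_of_lt P.isPGroup' (lt_of_le_of_ne hP (Ne.symm hPR))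
      exact h1.ne (hSylM _ (P.isPGroup'.to_le inf_le_left) h1.le (inf_le_right.trans hNR)).symm
    obtain ⟨P, hPR, hNR⟩ := hRsyl
    obtain ⟨S', hS'⟩ := exists_sylow_of_max hRM' hRp (fun V hV hRV _ => by
      rw [← hPR] at hRV ⊢; exact P.is_maximal' hV hRV)
    refine hfinish S' hS' ?_
    by_cases hKb : K = ⊥
    · have hMZ : M ≤ Subgroup.normalizer (Z : Set G) := by
        refine SylowLocal.le_of_center_thompson (odd_of_le hodd M) S ?_ (by rw [hS]; exact inf_le_right)
        rw [← hK, hKb]; exact bot_le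
      exact le_of_eq ((hM.le_iff.mp hMZ).resolve_left (normalizer_ne_top hmin hZ1 (by
        haveI := (hRp.to_le hZR).isNilpotent; infer_instance)))
    refine hNH.trans ?_
    -- `H ≤ M`
    haveI hsH : Group.IsSolvable H := hmin.2.2 H hH.1
    obtain ⟨SH, hSH⟩ := exists_sylow_of_max hRH hRp (fun V hV hRV _ => by
      rw [← hPR] at hRV ⊢; exact P.is_maximal' hV hRV)
    haveI hPPn : (Cfsg.pPrimePCore p H).Normal := by rw [Cfsg.pPrimePCore]; infer_instance
    set P₂ := (SH : Subgroup H) ⊓ Cfsg.pPrimePCore p H with hP₂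
    have hP₂R : P₂.map H.subtype ≤ R := hSH ▸ Subgroup.map_mono inf_le_left
    haveI hP₂n : (Cfsg.pPrimeCore p H ⊔ P₂).Normal := by
      have heq : Cfsg.pPrimeCore p H ⊔ P₂ = Cfsg.pPrimePCore p H := by
        refine le_antisymm (sup_le ?_ inf_le_right) ?_
        · exact fun x hx => Subgroup.mem_comap.mpr (by rw [QuotientGroup.mk'_apply, (QuotientGroup.eq_one_iff x).mpr hx]; exact one_mem _)
        · refine ZJ.le_of_isPGroup_map (C := Cfsg.pPrimeCore p H) ?_ ?_ SH le_sup_left le_sup_right
          · exact fun x hx => Subgroup.mem_comap.mpr (by rw [QuotientGroup.mk'_apply, (QuotientGroup.eq_one_iff x).mpr hx]; exact one_mem _)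
          · exact (Solvable.Cores.isPGroup_pCore p).to_le (Subgroup.map_comap_le _ _)
      rw [heq]; exact hPPn
    have hfrat := SylowLocal.pPrimeCore_sup_normalizer P₂ (SH.isPGroup'.to_le inf_le_left)
    have hNP : H ⊓ Subgroup.normalizer (P₂.map H.subtype : Set G) ≤ M := by
      by_cases hr : Cfsg.PRankLE p 2 H
      · have hP₂top : P₂ = (SH : Subgroup H) := by
          refine inf_eq_left.mpr fun x hx => ?_
          obtain ⟨-, hidx, -⟩ := RankTwo.main (odd_of_le hodd H) hp2 hr
          have hcopx : (orderOf (QuotientGroup.mk (s := Cfsg.pPrimePCore p H) x : H ⧸ _)) = 1 := by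
            obtain ⟨k, hk⟩ := SH.isPGroup' ⟨x, hx⟩
            refine Nat.eq_one_of_dvd_coprimes (hidx.pow_right k) ?_ ?_
            · rw [Subgroup.index_eq_card]; exact orderOf_dvd_natCard _
            · refine orderOf_dvd_of_pow_eq_one ?_
              rw [← QuotientGroup.mk_pow, show x ^ p ^ k = 1 from congrArg Subtype.val hk, QuotientGroup.mk_one]
          exact (QuotientGroup.eq_one_iff x).mp (orderOf_eq_one_iff.mp hcopx)
        rw [hP₂top, hSH]
        exact inf_le_right.trans hNR
      · have hrR : ¬ Cfsg.PRankLE p 2 R := by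
          intro h
          apply hr
          intro E hE1 hE2
          obtain ⟨S₁, hS₁⟩ := (Fusion.Thompson.isPGroup_isEA (⟨hE1, hE2⟩ : Cfsg.IsElementaryAbelian p E)).exists_le_sylow
          obtain ⟨g, hg⟩ := MulAction.exists_smul_eq H S₁ SH
          have hle : (E.map (MulAut.conj g).toMonoidHom).map H.subtype ≤ R := by
            rw [← hSH, ← hg, Sylow.coe_subgroup_smul]
            exact Subgroup.map_mono (Subgroup.map_mono hS₁)
          have := RankTwo.card_le_sq h (Fusion.Thompson.isEA_map _ (Fusion.Thompson.isEA_map _ ⟨hE1, hE2⟩)) hle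
          rwa [Subgroup.card_map_of_injective H.subtype_injective,
            Subgroup.card_map_of_injective (MulAut.conj g).injective] at this
        obtain ⟨A, hA, hA3⟩ := SCN3.exists_isSCN_three hp2 R hRp hrR
        haveI := SCNTransitivity.isMulCommutative_of_scn hA
        have hAH : A ≤ H := hA.1.trans hRH
        haveI : IsMulCommutative (A.subgroupOf H) := Subgroup.le_centralizer_iff_isMulCommutative.mp fun x hx =>
          Subgroup.mem_centralizer_iff.mpr fun y hy => Subtype.ext
            (Subgroup.mem_centralizer_iff.mp (A.le_centralizer hx) y hy)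
        have hASH : A.subgroupOf H ≤ (SH : Subgroup H) := fun x hx => by
          obtain ⟨y, hy, hxy⟩ := hSH.symm ▸ hA.1 hx
          exact H.subtype_injective hxy ▸ hy
        have hAP₂ : A ≤ P₂.map H.subtype := by
          have h := le_inf hASH (SylowLocal.le_pPrimePCore_of_abelian (odd_of_le hodd H) SH (A.subgroupOf H) hASH
            (fun x hx => Subgroup.le_normalizer_comap H.subtype
              (hA.2.1 (hSH ▸ Subgroup.mem_map_of_mem H.subtype hx))))
          exact fun x hx => ⟨⟨x, hAH hx⟩, h (show (⟨x, hAH hx⟩ : H) ∈ A.subgroupOf H from hx), rfl⟩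
        intro n hn
        set K' := K.map (MulAut.conj n).toMonoidHom with hK'
        have hK'cop : (Nat.card K').Coprime p := by
          rw [Subgroup.card_map_of_injective (MulAut.conj n).injective]; exact hKcop
        have hAK' : A ≤ Subgroup.normalizer (K' : Set G) := by
          refine hAP₂.trans ?_
          conv_lhs => rw [← Subgroup.mem_normalizer_iff_map_conj_eq.mp hn.2]
          exact (Subgroup.map_mono ((hP₂R.trans hRM).trans SylowLocal.le_normalizer_coreOf)).trans
            (Subgroup.le_normalizer_map _)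
        have hK'M : K' ≤ M := invariant_le ⟨hodd, hmin⟩ (R := P) (hPR.symm ▸ hA) hA3
          (fun Y hY hRY => hinv Y hY (hBR.trans (hPR ▸ hRY))) hK'cop hAK'
        refine hconjK hKb n ?_
        -- inside `M`
        haveI : IsMulCommutative (A.subgroupOf M) := Subgroup.le_centralizer_iff_isMulCommutative.mp fun x hx =>
          Subgroup.mem_centralizer_iff.mpr fun y hy => Subtype.ext
            (Subgroup.mem_centralizer_iff.mp (A.le_centralizer hx) y hy)
        have hmemS : ∀ x : M, (x : G) ∈ R → x ∈ (S : Subgroup M) := fun x hx => by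
          obtain ⟨y, hy, hxy⟩ := hS.symm ▸ hx
          exact M.subtype_injective hxy ▸ hy
        have hmemR : ∀ x ∈ (S : Subgroup M), (x : G) ∈ R := fun x hx => hS ▸ Subgroup.mem_map_of_mem _ hx
        have h := SCNInvariant.le_pPrimeCore (odd_of_le hodd M) S (A.subgroupOf M) (K'.subgroupOf M)
          (fun x hx => hmemS x (hA.1 hx))
          (by
            rintro x ⟨hxS, hxC⟩
            have hxAC : (x : G) ∈ R ⊓ Subgroup.centralizer (A : Set G) := ⟨hmemR x hxS,
              Subgroup.mem_centralizer_iff.mpr fun a ha => congrArg Subtype.val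
                (Subgroup.mem_centralizer_iff.mp hxC ⟨a, hA.1.trans hRM ha⟩ ha)⟩
            exact hA.2.2 ▸ hxAC)
          (by
            refine le_trans ?_ Subgroup.le_normalizer
            rw [Subgroup.commutator_le]
            intro s hs a ha
            show M.subtype ⁅s, a⁆ ∈ A
            have h1 : ((s : G) * a * (s : G)⁻¹) ∈ A :=
              (Subgroup.mem_normalizer_iff.mp (hA.2.1 (hmemR s hs)) _).mp ha
            simpa [commutatorElement_def, mul_assoc] using mul_mem h1 (inv_mem (show (a : G) ∈ A from ha)))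
          (by rw [Nat.card_congr (Subgroup.subgroupOfEquivOfLe hK'M).toEquiv]; exact hK'cop)
          (fun a ha => Subgroup.le_normalizer_comap M.subtype (hAK' ha))
        exact fun x hx => ⟨⟨x, hK'M hx⟩, h hx, rfl⟩
    calc H = (⊤ : Subgroup H).map H.subtype := by rw [← MonoidHom.range_eq_map, Subgroup.range_subtype]
      _ ≤ M := by
        rw [← hfrat, Subgroup.map_sup]
        exact sup_le (hcoreM H hRH)
          ((le_inf (Subgroup.map_subtype_le _) (Subgroup.le_normalizer_map H.subtype)).trans hNP)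

end CfsgLib.OddOrder.Uniqueness
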