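import Cfsg.Agent.Lib.OddOrder.Bender
import Cfsg.Agent.Lib.OddOrder.Uniqueness
import Mathlib

set_option autoImplicit false

/-!
Bender's uniqueness theorem in a minimal simple group of odd order: a maximal subgroup containing a
self-centralising subgroup of `F(H)`, with no normal subgroup of order prime to `|F(H)|`, equals `H`.
-/

namespace CfsgLib.OddOrder.Bender

open scoped commutatorElement

variable {G : Type*} [Group G] [Finite G] {H L M : Subgroup G}

theorem inf_centralizer_fitting_le (hG : Cfsg.IsMinimalSimple G) (hH : H ≠ ⊤) :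
    H ⊓ Subgroup.centralizer (Cfsg.fittingOf H : Set G) ≤ Cfsg.fittingOf H := by
  haveI := hG.2.2 H hH
  rintro x ⟨hxH, hxC⟩
  refine ⟨⟨x, hxH⟩, Solvable.Cores.centralizer_fittingSubgroup_le ?_, rfl⟩
  exact Subgroup.mem_centralizer_iff.mpr fun f hf =>
    Subtype.ext (Subgroup.mem_centralizer_iff.mp hxC f ⟨f, hf, rfl⟩)

theorem setting (hG : Cfsg.IsMinimalSimple G) (hH : IsCoatom H)
    (htwo : 2 ≤ (Nat.card (Cfsg.fittingOf H)).primeFactors.card) (hM : M ≤ Cfsg.fittingOf H)
    (hCM : Cfsg.fittingOf H ⊓ Subgroup.centralizer (Cfsg.fittingOf H : Set G) ≤ M) : Setting H M := by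
  refine ⟨fun r T hr hT hT1 hle => ?_, htwo, hM, hCM⟩
  haveI := Fact.mk hr
  haveI := hT.isNilpotent
  exact (hH.le_iff.mp hle).resolve_left (Uniqueness.normalizer_ne_top hG hT1 inferInstance)

/-- The normal subgroups of `L` of order prime to `n` are trivial. -/
def NoCore (n : ℕ) (L : Subgroup G) : Prop :=
  ∀ Y : Subgroup G, Y ≤ L → L ≤ Subgroup.normalizer (Y : Set G) → (Nat.card Y).Coprime n → Y = ⊥

theorem Setting.part_eq_bot (_hS : Setting H M) (hO : NoCore (Nat.card (Cfsg.fittingOf H)) L) {t : ℕ} (ht : t.Prime)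
    (htn : ¬ t ∣ Nat.card (Cfsg.fittingOf H)) : part t L = ⊥ := by
  haveI := Fact.mk ht
  refine hO _ (part_le t L) (le_normalizer_part t L) ?_
  obtain ⟨k, hk⟩ := (isPGroup_part t L).exists_card_eq
  rw [hk]
  exact ((ht.coprime_iff_not_dvd).mpr htn).pow_left k

theorem Setting.le_centralizer_other (hS : Setting H M) (hO : NoCore (Nat.card (Cfsg.fittingOf H)) L)
    (hML : M ≤ L) {t s : ℕ} [hs : Fact s.Prime] (ht : t.Prime) (hne : t ≠ s)
    (hsn : s ∣ Nat.card (Cfsg.fittingOf H)) :
    M ⊓ part s H ≤ Subgroup.centralizer (part t L : Set G) := by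
  by_cases htn : t ∣ Nat.card (Cfsg.fittingOf H)
  · haveI := Fact.mk ht
    intro a ha
    rw [Subgroup.mem_centralizer_iff]
    intro v hv
    have h := hS.part_centralizes (K := ⊥) (V := part t L) hne htn hsn bot_le
      (by rw [Subgroup.normalizer_eq_top]; exact le_top) (by rw [Subgroup.normalizer_eq_top]; exact le_top)
      (hML.trans (le_normalizer_part t L)) (by rw [Subgroup.card_bot]; exact Nat.coprime_one_left _)
      (fun v hv => by
        obtain ⟨k, hk⟩ := isPGroup_part t L ⟨v, hv⟩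
        exact ⟨k, Subgroup.mem_bot.mpr (congrArg Subtype.val hk)⟩) a ha v hv
    exact (commutatorElement_eq_one_iff_commute.mp (Subgroup.mem_bot.mp h)).eq.symm
  · rw [hS.part_eq_bot hO ht htn]
    exact fun a _ => Subgroup.mem_centralizer_iff.mpr fun v hv => by
      rw [Subgroup.mem_bot.mp hv, one_mul, mul_one]

theorem Setting.fitting_le (hS : Setting H M) (hO : NoCore (Nat.card (Cfsg.fittingOf H)) L) (hML : M ≤ L) :
    Cfsg.fittingOf L ≤ H := by
  refine fittingOf_le_of_parts fun t ht => ?_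
  obtain ⟨s, hs, hst, hsn⟩ := hS.exists_other t
  haveI := Fact.mk hs
  exact (Subgroup.le_centralizer_iff.mp (hS.le_centralizer_other hO hML ht (Ne.symm hst) hsn)).trans
    (hS.centralizer_le hsn)

theorem Setting.primes_eq (hS : Setting H M) (hO : NoCore (Nat.card (Cfsg.fittingOf H)) L) (hML : M ≤ L)
    (hH : H ≠ ⊤) (hG : Cfsg.IsMinimalSimple G) (hL : L ≠ ⊤) :
    (Nat.card (Cfsg.fittingOf L)).primeFactors = (Nat.card (Cfsg.fittingOf H)).primeFactors := by
  ext r
  simp only [Nat.mem_primeFactors_of_ne_zero Nat.card_pos.ne']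
  refine and_congr_right fun hr => ⟨fun h => ?_, fun h => ?_⟩
  · haveI := Fact.mk hr
    by_contra hn
    exact part_ne_bot h (hS.part_eq_bot hO hr hn)
  · haveI := Fact.mk hr
    by_contra hn
    have hbot : part r L = ⊥ := by
      rw [eq_bot_iff]
      intro x hx
      obtain ⟨k, hk⟩ := IsPGroup.iff_orderOf.mp (isPGroup_part r L) ⟨x, hx⟩
      rw [Subgroup.orderOf_mk] at hk
      exact Subgroup.mem_bot.mpr (eq_one_of_orderOf_dvd_coprime (hk ▸ dvd_rfl : orderOf x ∣ r ^ k)
        (Subgroup.orderOf_dvd_natCard _ (part_le_fitting L hx)) (((hr.coprime_iff_not_dvd).mpr hn).pow_left k))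
    set U := M ⊓ part r H with hU
    have hUF : U ≤ Cfsg.fittingOf L := by
      refine le_trans (le_inf (inf_le_left.trans hML) ?_) (inf_centralizer_fitting_le hG hL)
      refine Subgroup.le_centralizer_iff.mp (fittingOf_le_of_parts fun t ht => Subgroup.le_centralizer_iff.mp ?_)
      rcases eq_or_ne t r with rfl | hne
      · rw [hbot]
        exact fun a _ => Subgroup.mem_centralizer_iff.mpr fun v hv => by
          rw [Subgroup.mem_bot.mp hv, one_mul, mul_one]
      · exact hS.le_centralizer_other hO hML ht hne h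
    have hUbot : U = ⊥ := by
      rw [eq_bot_iff]
      intro x hx
      obtain ⟨k, hk⟩ := IsPGroup.iff_orderOf.mp (isPGroup_part r H) ⟨x, hx.2⟩
      rw [Subgroup.orderOf_mk] at hk
      have := mem_part (r := r) (hUF hx) ⟨k, hk⟩
      rwa [hbot] at this
    apply hH
    rw [eq_top_iff]
    refine le_trans ?_ (hS.centralizer_le h)
    rw [← hU, hUbot]
    exact fun g _ => Subgroup.mem_centralizer_iff.mpr fun v hv => by
      rw [Subgroup.mem_bot.mp hv, one_mul, mul_one]

theorem noCore_self (hG : Cfsg.IsMinimalSimple G) (hH : H ≠ ⊤) : NoCore (Nat.card (Cfsg.fittingOf H)) H := by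
  intro Y hYH hn hcop
  have hF := inf_centralizer_fitting_le hG hH
  have hFY := Subgroup.inf_eq_bot_of_coprime hcop
  have hYC : Y ≤ Subgroup.centralizer (Cfsg.fittingOf H : Set G) := by
    rw [← Subgroup.commutator_eq_bot_iff_le_centralizer, eq_bot_iff, ← hFY]
    exact le_inf (Subgroup.le_normalizer_iff_commutator_le_left.mp ((Subgroup.map_subtype_le _).trans hn))
      (Subgroup.le_normalizer_iff_commutator_le_right.mp
        (hYH.trans (Subgroup.le_normalizer.trans (normalizer_le_normalizer_fittingOf H))))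
  exact le_bot_iff.mp ((le_inf le_rfl ((le_inf hYH hYC).trans hF)).trans hFY.le)

/-- The centre of `F(H)` lies in `F(L)` (this uses the `p`-stability of groups of odd order). -/
theorem Setting.centre_le (hG : Cfsg.IsMinimalSimple G) (hodd : Odd (Nat.card G)) (hS : Setting H M)
    (hO : NoCore (Nat.card (Cfsg.fittingOf H)) L) (hML : M ≤ L) (hL : L ≠ ⊤)
    {r : ℕ} [hr : Fact r.Prime] (hrn : r ∣ Nat.card (Cfsg.fittingOf H)) :
    part r H ⊓ Subgroup.centralizer (Cfsg.fittingOf H : Set G) ≤ part r L := by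
  set Z := part r H ⊓ Subgroup.centralizer (Cfsg.fittingOf H : Set G) with hZ
  obtain ⟨-, hHZ, hZM, -⟩ := hS.centrePart hrn
  haveI : Group.IsSolvable L := hG.2.2 L hL
  have hZL : Z ≤ L := hZM.trans (inf_le_left.trans hML)
  have hBH : part r L ≤ H := (part_le_fitting L).trans (hS.fitting_le hO hML)
  have hquad : ⁅⁅part r L, Z⁆, Z⁆ = ⊥ := by
    rw [eq_bot_iff]
    refine (Subgroup.commutator_mono (Subgroup.le_normalizer_iff_commutator_le_right.mp
      (hBH.trans hHZ)) le_rfl).trans ?_
    rw [Subgroup.commutator_eq_bot_iff_le_centralizer.mpr]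
    exact inf_le_right.trans (Subgroup.centralizer_le (inf_le_left.trans (part_le_fitting H)))
  set P := Cfsg.pCore r L with hP
  set C := Subgroup.centralizer (P : Set L) with hC
  set A := Z.subgroupOf L with hA
  have hquad' : ⁅⁅P, A⁆, A⁆ = ⊥ := by
    apply Subgroup.map_injective L.subtype_injective
    rw [Subgroup.map_commutator, Subgroup.map_commutator, Subgroup.map_bot, hA,
      Subgroup.subgroupOf_map_subtype, inf_eq_left.mpr hZL]
    exact hquad
  have hstab := PStable.map_le_pCore (Uniqueness.odd_of_le hodd L) P (Solvable.Cores.isPGroup_pCore r) C hC A hquad'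
  set P₁ := (Cfsg.pCore r (L ⧸ C)).comap (QuotientGroup.mk' C) with hP₁
  set D : Subgroup L := ⨅ t : {t : Nat.Primes // (t : ℕ) ≠ r},
    Subgroup.centralizer (Cfsg.pCore (t.1 : ℕ) L : Set L) with hD
  haveI : D.Normal := Subgroup.normal_iInf_normal fun t => inferInstance
  set W := P₁ ⊓ D with hW
  have hAW : A ≤ W := by
    refine le_inf (Subgroup.map_le_iff_le_comap.mp hstab) (le_iInf fun t => ?_)
    intro a ha
    rw [Subgroup.mem_centralizer_iff]
    intro v hv
    exact Subtype.ext (Subgroup.mem_centralizer_iff.mp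
      (hS.le_centralizer_other hO hML (s := r) t.1.2 t.2 hrn (hZM ha)) (v : G) ⟨v, hv, rfl⟩)
  -- `W` is nilpotent
  have hcent : ∀ (t : ℕ), t.Prime → t ≠ r → ∀ y ∈ W, (∃ k, orderOf y = t ^ k) →
      ∀ w ∈ W, Commute y w := by
    intro t ht htr y hy ⟨k, hk⟩ w hw
    haveI := Fact.mk ht
    have hyC : y ∈ C := by
      obtain ⟨j, hj⟩ := Solvable.Cores.isPGroup_pCore r (⟨QuotientGroup.mk' C y, hy.1⟩ : Cfsg.pCore r (L ⧸ C))
      have h1 : QuotientGroup.mk' C y = 1 := eq_one_of_orderOf_dvd_coprime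
        ((orderOf_map_dvd _ y).trans hk.dvd)
        (orderOf_dvd_of_pow_eq_one (congrArg Subtype.val hj))
        (((Nat.coprime_primes ht hr.out).mpr htr).pow k j)
      exact (QuotientGroup.eq_one_iff y).mp h1
    have hyF : y ∈ Cfsg.fittingSubgroup L := by
      refine Solvable.Cores.centralizer_fittingSubgroup_le ?_
      have hle : Cfsg.fittingSubgroup L ≤ Subgroup.centralizer ({y} : Set L) := by
        rw [Solvable.Cores.fittingSubgroup_eq_iSup_pCore]
        refine iSup_le fun q v hv => ?_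
        rw [Subgroup.mem_centralizer_singleton_iff]
        by_cases hqr : (q : ℕ) = r
        · exact Subgroup.mem_centralizer_iff.mp hyC v (by rw [hqr] at hv; exact hv)
        · exact Subgroup.mem_centralizer_iff.mp (Subgroup.mem_iInf.mp hy.2 ⟨q, hqr⟩) v hv
      exact Subgroup.mem_centralizer_iff.mpr fun v hv => Subgroup.mem_centralizer_singleton_iff.mp (hle hv)
    exact Subgroup.mem_centralizer_iff.mp (Subgroup.mem_iInf.mp hw.2 ⟨⟨t, ht⟩, htr⟩) y
      (RankTwoGlobal.mem_pCore_of_mem hyF ⟨k, hk⟩)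
  have hWnil : Group.IsNilpotent W := by
    refine (Group.isNilpotent_of_finite_tfae.out 0 3).mpr fun q hq S => ?_
    haveI : Fact q.Prime := hq
    have hord : ∀ (t : ℕ) [Fact t.Prime] (T : Sylow t W) (y : W), y ∈ (T : Subgroup W) →
        ∃ k, orderOf (y : L) = t ^ k := by
      intro t _ T y hy
      obtain ⟨k, hk⟩ := IsPGroup.iff_orderOf.mp T.isPGroup' ⟨y, hy⟩
      exact ⟨k, by rw [Subgroup.orderOf_coe]; simpa [Subgroup.orderOf_mk] using hk⟩
    refine Subgroup.normalizer_eq_top_iff.mp (Solvable.Cores.eq_top_of_sylow_le _ fun t ht => ?_)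
    haveI := Fact.mk ht
    by_cases htq : t = q
    · subst htq; exact ⟨S, Subgroup.le_normalizer⟩
    obtain ⟨T⟩ : Nonempty (Sylow t W) := inferInstance
    refine ⟨T, le_trans (fun y hy => Subgroup.mem_centralizer_iff.mpr fun x hx => ?_)
      (Subgroup.centralizer_le_normalizer _)⟩
    by_cases htr : t = r
    · exact Subtype.ext (hcent q hq.out (fun h => htq (htr.trans h.symm)) x x.2 (hord q S x hx) y y.2).eq
    · exact Subtype.ext (hcent t ht htr y y.2 (hord t T y hy) x x.2).eq.symm
  have hWF : W ≤ Cfsg.fittingSubgroup L := Solvable.Cores.le_fittingSubgroup hWnil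
  intro x hx
  obtain ⟨k, hk⟩ := IsPGroup.iff_orderOf.mp (isPGroup_part r H) ⟨x, hx.1⟩
  rw [Subgroup.orderOf_mk] at hk
  exact mem_part ⟨⟨x, hZL hx⟩, hWF (hAW (show (⟨x, hZL hx⟩ : L) ∈ A from hx)), rfl⟩ ⟨k, hk⟩

theorem Setting.fittingOf_le_fittingOf (hG : Cfsg.IsMinimalSimple G) (hodd : Odd (Nat.card G))
    (hS : Setting H (Cfsg.fittingOf H)) (hL : IsCoatom L) (hH : H ≠ ⊤)
    (hO : NoCore (Nat.card (Cfsg.fittingOf H)) L) (hFL : Cfsg.fittingOf H ≤ L) :
    Cfsg.fittingOf H ≤ Cfsg.fittingOf L := by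
  refine fittingOf_le_of_parts fun s hs => ?_
  haveI := Fact.mk hs
  by_cases hsn : s ∣ Nat.card (Cfsg.fittingOf H)
  swap
  · rw [(show part s H = ⊥ from ?_)]
    · exact bot_le
    rw [eq_bot_iff]
    intro x hx
    obtain ⟨k, hk⟩ := IsPGroup.iff_orderOf.mp (isPGroup_part s H) ⟨x, hx⟩
    rw [Subgroup.orderOf_mk] at hk
    exact Subgroup.mem_bot.mpr (eq_one_of_orderOf_dvd_coprime (hk ▸ dvd_rfl : orderOf x ∣ s ^ k)
      (Subgroup.orderOf_dvd_natCard _ (part_le_fitting H hx)) (((hs.coprime_iff_not_dvd).mpr hsn).pow_left k))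
  obtain ⟨r, hr, hrs, hrn⟩ := hS.exists_other s
  haveI := Fact.mk hr
  set D := Subgroup.centralizer (part r L : Set G) with hD
  have hDH : D ≤ H :=
    (Subgroup.centralizer_le (hS.centre_le hG hodd hO hFL hL.1 hrn)).trans (hS.centrePart hrn).2.2.2
  have hrL : r ∣ Nat.card (Cfsg.fittingOf L) := by
    have := (hS.primes_eq hO hFL hH hG hL.1).symm ▸
      (Nat.mem_primeFactors_of_ne_zero Nat.card_pos.ne').mpr ⟨hr, hrn⟩
    exact ((Nat.mem_primeFactors_of_ne_zero Nat.card_pos.ne').mp this).2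
  have hne := part_ne_bot hrL
  have hNL : Subgroup.normalizer (part r L : Set G) = L := by
    haveI := (isPGroup_part r L).isNilpotent
    exact (hL.le_iff.mp (le_normalizer_part r L)).resolve_left
      (Uniqueness.normalizer_ne_top hG hne inferInstance)
  have hDL : D ≤ L := (Subgroup.centralizer_le_normalizer _).trans hNL.le
  have hLD : L ≤ Subgroup.normalizer (D : Set G) := hNL.ge.trans (normalizer_le_normalizer_centralizer _)
  have hsD : part s H ≤ D := by
    have := hS.le_centralizer_other hO hFL (s := s) hr hrs hsn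
    rwa [inf_eq_right.mpr (part_le_fitting H)] at this
  calc part s H ≤ Cfsg.fittingOf D := le_fittingOf hsD (hDH.trans (le_normalizer_part s H))
        (by haveI := (isPGroup_part s H).isNilpotent; infer_instance)
    _ ≤ Cfsg.fittingOf L := le_fittingOf (Basic.fittingOf_le.trans hDL)
        (hLD.trans (normalizer_le_normalizer_fittingOf D)) (Basic.fittingOf_isNilpotent (M := D))

/-- Bender's uniqueness theorem. -/
theorem unique (hG : Cfsg.IsMinimalSimple G) (hodd : Odd (Nat.card G)) (hH : IsCoatom H) (hL : IsCoatom L)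
    (hS : Setting H M) (hO : NoCore (Nat.card (Cfsg.fittingOf H)) L) (hML : M ≤ L) : L = H := by
  have hFLH := hS.fitting_le hO hML
  have hprimes := hS.primes_eq hO hML hH.1 hG hL.1
  have hcong : ∀ {a : ℕ}, a.Coprime (Nat.card (Cfsg.fittingOf L)) ↔ a.Coprime (Nat.card (Cfsg.fittingOf H)) := by
    intro a
    have key : ∀ m n : ℕ, m ≠ 0 → n ≠ 0 → m.primeFactors = n.primeFactors → a.Coprime m → a.Coprime n :=
      fun m n hm hn he h => Nat.coprime_of_dvd fun t ht hta htn => by
        have := he ▸ (Nat.mem_primeFactors_of_ne_zero hn).mpr ⟨ht, htn⟩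
        exact ht.ne_one (Nat.eq_one_of_dvd_coprimes h hta ((Nat.mem_primeFactors_of_ne_zero hm).mp this).2)
    exact ⟨key _ _ Nat.card_pos.ne' Nat.card_pos.ne' hprimes, key _ _ Nat.card_pos.ne' Nat.card_pos.ne' hprimes.symm⟩
  have hS' : Setting L (Cfsg.fittingOf L) := setting hG hL (hprimes ▸ hS.two) le_rfl inf_le_left
  have hO' : NoCore (Nat.card (Cfsg.fittingOf L)) H := fun Y h1 h2 h3 =>
    noCore_self hG hH.1 Y h1 h2 (hcong.mp h3)
  have hFHL : Cfsg.fittingOf H ≤ L := hS'.fitting_le hO' hFLH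
  have h1 := Setting.fittingOf_le_fittingOf hG hodd (setting hG hH hS.two le_rfl inf_le_left) hL hH.1 hO hFHL
  have h2 := Setting.fittingOf_le_fittingOf hG hodd hS' hH hL.1 hO' hFLH
  have he : Cfsg.fittingOf L = Cfsg.fittingOf H := le_antisymm h2 h1
  have hne : Cfsg.fittingOf H ≠ ⊥ := fun hb => by
    have := hS.two
    rw [hb, Subgroup.card_bot, Nat.primeFactors_one] at this
    simp at this
  haveI := Basic.fittingOf_isNilpotent (M := H)
  have hN := Uniqueness.normalizer_ne_top hG hne inferInstance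
  have hN1 := (hH.le_iff.mp (Subgroup.le_normalizer.trans (normalizer_le_normalizer_fittingOf H))).resolve_left hN
  have hN2 := (hL.le_iff.mp (le_trans (Subgroup.le_normalizer.trans (normalizer_le_normalizer_fittingOf L))
    (by rw [he]))).resolve_left hN
  exact hN2.symm.trans hN1

end CfsgLib.OddOrder.Bender
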