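import Cfsg.Agent.Lib.OddOrder.NarrowMaximal
import Cfsg.Agent.Lib.Coprime.Hall
import Mathlib

set_option autoImplicit false
set_option linter.style.haveILetI false
set_option linter.unusedSectionVars false

/-!
`M_β` and nilpotent Hall `β(M)'`-subgroups of `M'`.
-/

namespace CfsgLib.OddOrder.BetaCore

/-- A group with normal complements for all primes is nilpotent. -/
theorem isNilpotent_of_npc {H : Type*} [Group H] [Finite H]
    (h : ∀ p : ℕ, p.Prime → p ∣ Nat.card H → Cfsg.HasNormalPComplement p H) : Group.IsNilpotent H := by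
  have hex : ∀ p : {p : ℕ // p ∈ (Nat.card H).primeFactors}, ∃ (N : Subgroup H) (_ : N.Normal),
      IsPGroup (p : ℕ) (H ⧸ N) ∧ ¬ (p : ℕ) ∣ Nat.card N := by
    rintro ⟨p, hp⟩
    haveI := Fact.mk (Nat.prime_of_mem_primeFactors hp)
    obtain ⟨P, N, hN, hc⟩ := h p Fact.out (Nat.dvd_of_mem_primeFactors hp)
    refine ⟨N, hN, ?_, ?_⟩
    · obtain ⟨k, hk⟩ := P.isPGroup'.exists_card_eq
      refine IsPGroup.of_card (n := k) ?_
      rw [← Subgroup.index_eq_card, ← hk]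
      exact Nat.eq_of_mul_eq_mul_left (Nat.card_pos (α := N)) (by rw [Subgroup.card_mul_index, hc.card_mul])
    · exact hc.index_eq_card ▸ P.not_dvd_index
  choose N hN hP hndvd using hex
  haveI := hN
  haveI : ∀ p, Group.IsNilpotent (H ⧸ N p) := fun p => by
    haveI := Fact.mk (Nat.prime_of_mem_primeFactors p.2)
    exact (hP p).isNilpotent
  let f : H →* ∀ p, H ⧸ N p := MonoidHom.pi fun p => QuotientGroup.mk' (N p)
  refine Subgroup.isNilpotent_of_ker_le_center f fun x hx => ?_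
  have hmem : ∀ p, x ∈ N p := fun p => (QuotientGroup.eq_one_iff x).mp (congrFun hx p)
  suffices hx1 : x = 1 by rw [hx1]; exact one_mem _
  by_contra hne
  obtain ⟨q, hq, hd⟩ := Nat.exists_prime_and_dvd (mt orderOf_eq_one_iff.mp hne)
  have hqm : q ∈ (Nat.card H).primeFactors :=
    Nat.mem_primeFactors.mpr ⟨hq, hd.trans (orderOf_dvd_natCard x), Nat.card_pos.ne'⟩
  exact hndvd ⟨q, hqm⟩ (hd.trans (Subgroup.orderOf_dvd_natCard _ (hmem ⟨q, hqm⟩)))

variable {G : Type*} [Group G] [Finite G] {M : Subgroup G}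

theorem not_dvd_index (hG : Cfsg.IsMinSimpleOddOrder G) (hM : IsCoatom M) {q : ℕ} [hq : Fact q.Prime]
    (hb : q ∈ Cfsg.beta M) : ¬ q ∣ (Cfsg.piCore (Cfsg.beta M) M).index := by
  have hqs := SigmaBasics.mem_sigma_of_alpha hG hM hb.1
  obtain ⟨S, hS⟩ := SigmaCore.exists_sylow_le_derived hG hM hqs
  set I := _root_.commutator M ⊓ ⨅ p : {p : ℕ // p.Prime ∧ p ∣ Nat.card M ∧ p ∉ Cfsg.beta M},
    Cfsg.pPrimeCore (p : ℕ) M with hI
  haveI : (⨅ p : {p : ℕ // p.Prime ∧ p ∣ Nat.card M ∧ p ∉ Cfsg.beta M},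
    Cfsg.pPrimeCore (p : ℕ) M).Normal := Subgroup.normal_iInf_normal fun _ => inferInstance
  have hIle : I ≤ Cfsg.piCore (Cfsg.beta M) M := by
    refine SigmaBasics.le_piCore fun t ht hd => ?_
    by_contra htb
    have htM : t ∣ Nat.card M := hd.trans (Subgroup.card_subgroup_dvd_card _)
    have h1 : I ≤ Cfsg.pPrimeCore t M := inf_le_right.trans
      (iInf_le (fun p : {p : ℕ // p.Prime ∧ p ∣ Nat.card M ∧ p ∉ Cfsg.beta M} => Cfsg.pPrimeCore (p : ℕ) M)
        ⟨t, ht, htM, htb⟩)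
    exact ht.ne_one (Nat.eq_one_of_dvd_coprimes (Solvable.Cores.coprime_card_pPrimeCore (G := M) t)
      (hd.trans (Subgroup.card_dvd_of_le h1)) dvd_rfl)
  refine fun h => S.not_dvd_index (h.trans (Subgroup.index_dvd_of_le (le_trans ?_ hIle)))
  refine le_inf hS (le_iInf fun p => ?_)
  haveI := Fact.mk p.2.1
  have hne : q ≠ (p : ℕ) := fun h => p.2.2.2 (h ▸ hb)
  refine NarrowSylow.le_pPrimeCore_of_coprime
    (hS.trans (NarrowMaximal.main hG hM p.2.2.1 p.2.2.2).1) ?_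
  obtain ⟨k, hk⟩ := S.isPGroup'.exists_card_eq
  rw [hk]
  exact ((Nat.coprime_primes hq.out p.2.1).mpr hne).pow_left k

theorem card_eq (M : Subgroup G) (π : Set ℕ) :
    Nat.card (Cfsg.piCoreOf π M) = Nat.card (Cfsg.piCore π M) := by
  rw [Cfsg.piCoreOf, Subgroup.card_map_of_injective M.subtype_injective]

theorem relIndex_eq (M : Subgroup G) (π : Set ℕ) :
    (Cfsg.piCoreOf π M).relIndex M = (Cfsg.piCore π M).index := by
  rw [Cfsg.piCoreOf, Subgroup.relIndex, Subgroup.subgroupOf, Subgroup.comap_map_eq_self_of_injective M.subtype_injective]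

theorem hall (hG : Cfsg.IsMinSimpleOddOrder G) (hM : IsCoatom M) :
    Cfsg.IsPiHallOf (Cfsg.beta M) (Cfsg.piCoreOf (Cfsg.beta M) M) M ∧
      Cfsg.IsPiHall (Cfsg.beta M) (Cfsg.piCoreOf (Cfsg.beta M) M) := by
  have hcard : ∀ t : ℕ, t.Prime → t ∣ Nat.card (Cfsg.piCoreOf (Cfsg.beta M) M) → t ∈ Cfsg.beta M :=
    fun t ht h => SigmaBasics.mem_of_dvd_piCore ht (card_eq M _ ▸ h)
  have hle : Cfsg.piCoreOf (Cfsg.beta M) M ≤ M := Subgroup.map_subtype_le _
  refine ⟨⟨hle, hcard, fun t ht htb => ?_⟩, hcard, fun t ht htb h => ?_⟩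
  · haveI := Fact.mk ht
    exact relIndex_eq M _ ▸ not_dvd_index hG hM htb
  · haveI := Fact.mk ht
    rw [← Subgroup.relIndex_mul_index hle, relIndex_eq] at h
    rcases ht.dvd_mul.mp h with h | h
    · exact not_dvd_index hG hM htb h
    · exact SigmaBasics.not_dvd_index (SigmaBasics.mem_sigma_of_alpha hG hM htb.1) h

/-- `β(M)'`-subgroups of `M'` are nilpotent. -/
theorem isNilpotent_of_le_derived (hG : Cfsg.IsMinSimpleOddOrder G) (hM : IsCoatom M) {H : Subgroup G}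
    (hH : H ≤ ⁅M, M⁆) (hπ : ∀ t : ℕ, t.Prime → t ∣ Nat.card H → t ∉ Cfsg.beta M) : Group.IsNilpotent H := by
  have hHM : H ≤ M := hH.trans ((Subgroup.map_subtype_commutator M).ge.trans (Subgroup.map_subtype_le _))
  refine isNilpotent_of_npc fun p hp hd => ?_
  haveI := Fact.mk hp
  exact NarrowMaximal.npc_of_le_derived hG hM (hd.trans (Subgroup.card_dvd_of_le hHM)) (hπ p hp hd) hH

theorem exists_nilpotent_hall (hG : Cfsg.IsMinSimpleOddOrder G) (hM : IsCoatom M) {N : Subgroup G}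
    (hN : N ≤ ⁅M, M⁆) :
    ∃ H : Subgroup G, Cfsg.IsPiHallOf {q | q.Prime ∧ q ∉ Cfsg.beta M} H N ∧ Group.IsNilpotent H := by
  have hne : N ≠ ⊤ := fun h => hM.1 (top_le_iff.mp ((h ▸ hN).trans
    ((Subgroup.map_subtype_commutator M).ge.trans (Subgroup.map_subtype_le _))))
  obtain ⟨H, hH⟩ := Coprime.exists_hall {q | q.Prime ∧ q ∉ Cfsg.beta M} (hG.2.2.2 N hne)
  exact ⟨H, hH, isNilpotent_of_le_derived hG hM (hH.1.trans hN) fun t ht hd => (hH.2.1 t ht hd).2⟩

end CfsgLib.OddOrder.BetaCore
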