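import Cfsg.Agent.Lib.OddOrder.ZJControl
import Cfsg.Agent.Lib.OddOrder.SylowLocal
import Cfsg.Agent.Lib.OddOrder.FixedPointFree
import Cfsg.Agent.Lib.Fusion.Transfer
import Cfsg.Agent.Lib.Solvable.ThompsonComplement
import Cfsg.Agent.Lib.Solvable.FrattiniFitting

/-!
# Isolated primes in a minimal simple group of odd order

A prime `p` is isolated when no element of order prime to `p` commutes with a non-identity
`p`-element.  In a minimal simple group of odd order its Sylow subgroups intersect trivially.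
-/

set_option autoImplicit false

namespace CfsgLib.OddOrder.CNIsolated

/-- No non-identity `p`-element commutes with a non-identity element of order prime to `p`. -/
def Isolated (p : ℕ) (G : Type*) [Group G] : Prop :=
  ∀ y x : G, y ≠ 1 → (∃ k, orderOf y = p ^ k) → (orderOf x).Coprime p → Commute y x → x = 1

theorem Isolated.subgroup {p : ℕ} {G : Type*} [Group G] (h : Isolated p G) (N : Subgroup G) :
    Isolated p N := fun y x hy hk hx hc => Subtype.ext (h (y : G) (x : G)
      (fun e => hy (Subtype.ext e)) (by simpa [Subgroup.orderOf_coe] using hk)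
      (by rwa [Subgroup.orderOf_coe]) (congrArg Subtype.val hc.eq))

variable {p : ℕ} [hp : Fact p.Prime]

section Local

variable {N : Type*} [Group N] [Finite N]

theorem pPrimeCore_eq_bot (hiso : Isolated p N) (hR : Cfsg.pCore p N ≠ ⊥) :
    Cfsg.pPrimeCore p N = ⊥ := by
  haveI hOn : (Cfsg.pPrimeCore p N).Normal := Subgroup.sSup_normal _ fun _ h => h.1
  haveI hRn : (Cfsg.pCore p N).Normal := Subgroup.sSup_normal _ fun _ h => h.1
  obtain ⟨y, hyR, hy1⟩ := (Subgroup.bot_or_exists_ne_one _).resolve_left hR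
  have hRp : IsPGroup p (Cfsg.pCore p N) := Solvable.Cores.isPGroup_pCore p
  have hcopO : (Nat.card (Cfsg.pPrimeCore p N)).Coprime p :=
    Solvable.Cores.coprime_card_pPrimeCore p
  obtain ⟨k, hk⟩ := IsPGroup.iff_orderOf.mp hRp ⟨y, hyR⟩
  rw [Subgroup.orderOf_mk] at hk
  rw [eq_bot_iff]
  intro x hx
  have hxo : (orderOf x).Coprime p :=
    Nat.Coprime.coprime_dvd_left (Subgroup.orderOf_dvd_natCard _ hx) hcopO
  refine Subgroup.mem_bot.mpr (hiso y x hy1 ⟨k, hk⟩ hxo ?_)
  have hd : Disjoint (Cfsg.pCore p N) (Cfsg.pPrimeCore p N) := by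
    rw [disjoint_iff]
    refine Subgroup.inf_eq_bot_of_coprime ?_
    obtain ⟨j, hj⟩ := hRp.exists_card_eq
    rw [hj]
    exact hcopO.symm.pow_left j
  exact Subgroup.commute_of_normal_of_disjoint _ _ hRn hOn hd y x hyR hx

theorem isCyclic_primeSubgroup (hodd : Odd (Nat.card N)) (hiso : Isolated p N)
    (hR : Cfsg.pCore p N ≠ ⊥) {q : ℕ} (hq : q.Prime) (hqp : q ≠ p) (T : Subgroup N)
    (hT : IsPGroup q T) : IsCyclic T := by
  haveI := Fact.mk hq
  haveI hRn : (Cfsg.pCore p N).Normal := Subgroup.sSup_normal _ fun _ h => h.1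
  have hRp : IsPGroup p (Cfsg.pCore p N) := Solvable.Cores.isPGroup_pCore p
  rcases eq_or_ne T ⊥ with rfl | hT1
  · infer_instance
  set V := (Subgroup.center (Cfsg.pCore p N)).map (Cfsg.pCore p N).subtype with hV
  have hVR : V ≤ Cfsg.pCore p N := Subgroup.map_subtype_le _
  haveI : Nontrivial (Cfsg.pCore p N) := (Subgroup.nontrivial_iff_ne_bot _).mpr hR
  have hV1 : V ≠ ⊥ := by
    haveI := hRp.center_nontrivial
    rw [hV, Ne, Subgroup.map_eq_bot_iff_of_injective _ (Subgroup.subtype_injective _)]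
    exact (Subgroup.nontrivial_iff_ne_bot _).mp inferInstance
  haveI : IsMulCommutative V := by rw [hV]; infer_instance
  haveI hVn : V.Normal := by rw [hV]; infer_instance
  have hqodd : q ≠ 2 := fun h => by
    obtain ⟨j, hj⟩ := hT.exists_card_eq
    rcases Nat.eq_zero_or_pos j with rfl | hj0
    · exact hT1 (Subgroup.eq_bot_of_card_eq _ (by simpa using hj))
    have h2 : 2 ∣ Nat.card N :=
      ((h ▸ dvd_pow_self q hj0.ne' : 2 ∣ q ^ j).trans hj.symm.dvd).trans
        (Subgroup.card_subgroup_dvd_card T)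
    exact absurd (hodd.of_dvd_nat h2) (by decide)
  obtain ⟨a, ha⟩ := hT.exists_card_eq
  obtain ⟨b, hb⟩ := (hRp.to_le hVR).exists_card_eq
  refine FixedPointFree.isCyclic_pSubgroup (N := V) (E := T)
    (by rw [Subgroup.normalizer_eq_top]; exact le_top) hV1
    (by rw [ha, hb]; exact Nat.coprime_pow_primes _ _ hq hp.out hqp) ?_ hqodd hT le_rfl
  intro g hg hg1 x hx hgx
  by_contra hx1
  obtain ⟨k, hk⟩ := IsPGroup.iff_orderOf.mp (hRp.to_le hVR) ⟨x, hx⟩
  rw [Subgroup.orderOf_mk] at hk
  obtain ⟨j, hj⟩ := IsPGroup.iff_orderOf.mp hT ⟨g, hg⟩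
  rw [Subgroup.orderOf_mk] at hj
  exact hg1 (hiso x g hx1 ⟨k, hk⟩
    (by rw [hj]; exact ((Nat.coprime_primes hq hp.out).mpr hqp).pow_left j) hgx.symm)

/-- Either `N` is `p`-closed or it has a nontrivial `p`-quotient. -/
theorem closed_or_residual [Group.IsSolvable N] (hodd : Odd (Nat.card N)) (hiso : Isolated p N)
    (hR : Cfsg.pCore p N ≠ ⊥) :
    (∀ S : Sylow p N, (S : Subgroup N) ≤ Cfsg.pCore p N) ∨ Cfsg.pResidual p N ≠ ⊤ := by
  classical
  haveI hRn : (Cfsg.pCore p N).Normal := Subgroup.sSup_normal _ fun _ h => h.1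
  have hRp : IsPGroup p (Cfsg.pCore p N) := Solvable.Cores.isPGroup_pCore p
  set Q := N ⧸ Cfsg.pCore p N with hQdef
  set π := QuotientGroup.mk' (Cfsg.pCore p N) with hπ
  haveI : Group.IsSolvable Q := Group.isSolvable_of_surjective (QuotientGroup.mk'_surjective _)
  have hQcore : Cfsg.pCore p Q = ⊥ := by
    haveI : (Cfsg.pCore p Q).Normal := Subgroup.sSup_normal _ fun _ h => h.1
    haveI : ((Cfsg.pCore p Q).comap π).Normal := Subgroup.Normal.comap inferInstance _
    have h1 : (Cfsg.pCore p Q).comap π ≤ Cfsg.pCore p N := Solvable.Cores.le_pCore (by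
      refine (Solvable.Cores.isPGroup_pCore p).comap_of_ker_isPGroup π ?_
      rw [QuotientGroup.ker_mk']; exact hRp)
    rw [eq_bot_iff]
    intro x hx
    obtain ⟨n, rfl⟩ := QuotientGroup.mk'_surjective _ x
    exact Subgroup.mem_bot.mpr ((QuotientGroup.eq_one_iff n).mpr (h1 hx))
  have hcyc : ∀ q : ℕ, q.Prime → IsCyclic (Cfsg.pCore q Q) := by
    intro q hq
    rcases eq_or_ne q p with rfl | hqp
    · rw [hQcore]; infer_instance
    haveI := Fact.mk hq
    obtain ⟨T⟩ : Nonempty (Sylow q N) := inferInstance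
    haveI := isCyclic_primeSubgroup hodd hiso hR hq hqp (T : Subgroup N) T.isPGroup'
    have hle := Solvable.Cores.pCore_le_sylow (T.mapSurjective (QuotientGroup.mk'_surjective
      (Cfsg.pCore p N)))
    haveI : IsCyclic ((T : Subgroup N).map π) :=
      isCyclic_of_surjective (π.subgroupMap (T : Subgroup N)) (π.subgroupMap_surjective _)
    have hle' : Cfsg.pCore q Q ≤ (T : Subgroup N).map π := hle
    exact isCyclic_of_injective (Subgroup.inclusion hle') (Subgroup.inclusion_injective hle')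
  have hcomm : commutator Q ≤ Cfsg.fittingSubgroup Q := by
    refine le_trans ?_ Solvable.Cores.centralizer_fittingSubgroup_le
    rw [Subgroup.le_centralizer_iff, Solvable.Cores.fittingSubgroup_eq_iSup_pCore]
    refine iSup_le fun q => ?_
    rw [← Subgroup.le_centralizer_iff]
    haveI hqn : (Cfsg.pCore (q : ℕ) Q).Normal := Subgroup.sSup_normal _ fun _ h => h.1
    haveI := hcyc q q.2
    have hab : ∀ u v : MulAut (Cfsg.pCore (q : ℕ) Q), u * v = v * u := fun u v => by
      obtain ⟨m, hm⟩ := MonoidHom.map_cyclic u.toMonoidHom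
      obtain ⟨n, hn⟩ := MonoidHom.map_cyclic v.toMonoidHom
      ext x
      simp only [MulEquiv.coe_toMonoidHom] at hm hn
      simp only [MulAut.mul_apply, hm, hn, ← zpow_mul, mul_comm]
    have hker : commutator Q ≤ (MulAut.conjNormal (H := Cfsg.pCore (q : ℕ) Q)).ker := by
      rw [commutator_def, Subgroup.commutator_le]
      intro a _ b _
      rw [MonoidHom.mem_ker, commutatorElement_def, map_mul, map_mul, map_mul, map_inv, map_inv,
        hab (MulAut.conjNormal a)]
      simp [mul_assoc]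
    intro c hc
    refine Subgroup.mem_centralizer_iff.mpr fun x hx => ?_
    have h := congrArg Subtype.val (DFunLike.congr_fun (MonoidHom.mem_ker.mp (hker hc)) ⟨x, hx⟩)
    rw [MulAut.conjNormal_apply, MulAut.one_apply] at h
    exact (mul_inv_eq_iff_eq_mul.mp h).symm
  have hFp : (Nat.card (Cfsg.fittingSubgroup Q)).Coprime p := by
    rw [Nat.coprime_comm, hp.out.coprime_iff_not_dvd]
    intro hd
    haveI := Solvable.Cores.fittingSubgroup_isNilpotent (G := Q)
    haveI : (Cfsg.fittingSubgroup Q).Normal := Subgroup.sSup_normal _ fun _ h => h.1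
    obtain ⟨S⟩ : Nonempty (Sylow p (Cfsg.fittingSubgroup Q)) := inferInstance
    have hall : ∀ (l : ℕ) (_hl : Fact l.Prime) (W : Sylow l (Cfsg.fittingSubgroup Q)),
        (↑W : Subgroup (Cfsg.fittingSubgroup Q)).Normal :=
      Iff.mp (Group.isNilpotent_of_finite_tfae.out 0 3) (Solvable.Cores.fittingSubgroup_isNilpotent (G := Q))
    haveI := hall p hp S
    haveI := S.characteristic_of_normal inferInstance
    haveI : ((S : Subgroup (Cfsg.fittingSubgroup Q)).map (Cfsg.fittingSubgroup Q).subtype).Normal :=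
      inferInstance
    have h1 : (S : Subgroup (Cfsg.fittingSubgroup Q)).map (Cfsg.fittingSubgroup Q).subtype = ⊥ :=
      eq_bot_iff.mpr (hQcore ▸ Solvable.Cores.le_pCore (S.isPGroup'.map _))
    rw [Subgroup.map_eq_bot_iff_of_injective _ (Subgroup.subtype_injective _)] at h1
    exact S.ne_bot_of_dvd_card hd h1
  by_cases hd : p ∣ Nat.card Q
  · refine Or.inr fun htop => ?_
    have hdA : p ∣ Nat.card (Abelianization Q) := by
      have hc : (Nat.card (commutator Q)).Coprime p :=
        hFp.coprime_dvd_left (Subgroup.card_dvd_of_le hcomm)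
      rw [← Subgroup.index_mul_card (commutator Q)] at hd
      exact (hc.symm.dvd_of_dvd_mul_right hd)
    obtain ⟨x, hx⟩ := exists_prime_orderOf_dvd_card' p hdA
    obtain ⟨k, m, hm, hkm⟩ := Nat.exists_eq_pow_mul_and_not_dvd
      (Nat.card_pos (α := Abelianization Q)).ne' p hp.out.ne_one
    set φ : N →* Abelianization Q := Abelianization.of.comp π with hφ
    have hle : Cfsg.pResidual p N ≤
        ((powMonoidHom m : Abelianization Q →* Abelianization Q).comp φ).ker := by
      rw [Cfsg.pResidual, Subgroup.closure_le]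
      intro g hg
      rw [SetLike.mem_coe, MonoidHom.mem_ker, MonoidHom.comp_apply, powMonoidHom_apply,
        ← orderOf_dvd_iff_pow_eq_one]
      have h1 : (orderOf (φ g)).Coprime (p ^ k) :=
        (Nat.Coprime.coprime_dvd_left (orderOf_map_dvd φ g) hg).pow_right k
      exact h1.dvd_of_dvd_mul_left (hkm ▸ orderOf_dvd_natCard (φ g))
    rw [htop] at hle
    obtain ⟨g, hg⟩ := (show Function.Surjective φ from
      (QuotientGroup.mk_surjective (s := commutator Q)).comp (QuotientGroup.mk'_surjective _)) x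
    have h2 := MonoidHom.mem_ker.mp (hle (Subgroup.mem_top g))
    rw [MonoidHom.comp_apply, powMonoidHom_apply, ← orderOf_dvd_iff_pow_eq_one,
      show φ g = x from hg, hx] at h2
    exact hm h2
  · refine Or.inl fun S => ?_
    have h1 : IsPGroup p ((S : Subgroup N).map π) := S.isPGroup'.map π
    have h2 : (S : Subgroup N).map π = ⊥ := by
      rcases h1.card_eq_or_dvd with h | h
      · exact Subgroup.eq_bot_of_card_eq _ h
      · exact absurd (h.trans (Subgroup.card_subgroup_dvd_card _)) hd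
    intro s hs
    refine (QuotientGroup.eq_one_iff s).mp (Subgroup.mem_bot.mp ?_)
    rw [← h2]
    exact ⟨s, hs, rfl⟩

end Local

variable {G : Type*} [Group G] [Finite G]

theorem centerThompsonOf_ne_bot {U : Subgroup G} (hU : IsPGroup p U) (h : U ≠ ⊥) :
    Cfsg.centerThompsonOf p U ≠ ⊥ :=
  Solvable.ThompsonComplement.centerOf_ne_bot
    (hU.to_le (Fusion.Thompson.thompsonSubgroupOf_le _))
    (Solvable.ThompsonComplement.thompsonSubgroupOf_ne_bot hU h)

theorem centerThompsonOf_isPGroup {U : Subgroup G} (hU : IsPGroup p U) :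
    IsPGroup p (Cfsg.centerThompsonOf p U) :=
  hU.to_le (inf_le_left.trans (Fusion.Thompson.thompsonSubgroupOf_le _))

theorem normalizer_ne_top [IsSimpleGroup G] (hns : ¬ Group.IsSolvable G) {U : Subgroup G}
    (hU : IsPGroup p U) (h : U ≠ ⊥) : Subgroup.normalizer (U : Set G) ≠ ⊤ := by
  intro ht
  haveI : U.Normal := Subgroup.normalizer_eq_top_iff.mp ht
  rcases IsSimpleGroup.eq_bot_or_eq_top_of_normal U inferInstance with h' | h'
  · exact h h'
  · haveI := hU.isNilpotent
    subst h'
    exact hns (Group.isSolvable_of_surjective (f := (⊤ : Subgroup G).subtype)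
      fun x => ⟨⟨x, trivial⟩, rfl⟩)

section Simple

variable [IsSimpleGroup G] (hns : ¬ Group.IsSolvable G) (hodd : Odd (Nat.card G))
  (hsol : ∀ K : Subgroup G, K ≠ ⊤ → Group.IsSolvable K) (hiso : Isolated p G)
include hns hodd hsol hiso

theorem normalizer_centerThompsonOf_le (P : Sylow p G) (hP : (P : Subgroup G) ≠ ⊥) :
    Subgroup.normalizer (Cfsg.centerThompsonOf p (P : Subgroup G) : Set G) ≤
      Subgroup.normalizer ((P : Subgroup G) : Set G) := by
  set Z := Cfsg.centerThompsonOf p (P : Subgroup G) with hZ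
  set M := Subgroup.normalizer (Z : Set G) with hM
  have hPM : (P : Subgroup G) ≤ M :=
    Subgroup.le_normalizer.trans (ZJ.centerThompsonOf_normalizer _)
  have hZ1 : Z ≠ ⊥ := centerThompsonOf_ne_bot P.isPGroup' hP
  have hMtop : M ≠ ⊤ := normalizer_ne_top hns (centerThompsonOf_isPGroup P.isPGroup') hZ1
  haveI : Group.IsSolvable M := hsol M hMtop
  have hctrl := ZJControl.controls hodd P fun U hU hU1 => hsol _ (normalizer_ne_top hns hU hU1)
  have hZM : Z ≤ M := Subgroup.le_normalizer
  haveI : (Z.subgroupOf M).Normal := Subgroup.normal_in_normalizer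
  have hRM : Cfsg.pCore p M ≠ ⊥ := by
    intro h
    have hle := Solvable.Cores.le_pCore (p := p) (N := Z.subgroupOf M)
      ((centerThompsonOf_isPGroup P.isPGroup').comap_subtype)
    rw [h, le_bot_iff, Subgroup.subgroupOf_eq_bot] at hle
    exact hZ1 (disjoint_self.mp (hle.mono_right hZM))
  have hres : Cfsg.pResidual p G = ⊤ := by
    refine (IsSimpleGroup.eq_bot_or_eq_top_of_normal _ inferInstance).resolve_left fun hb => ?_
    refine hns ?_
    have hG : IsPGroup p G := by
      refine IsPGroup.iff_orderOf.mpr fun g => ?_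
      obtain ⟨j, m, hm, hjm⟩ :=
        Nat.exists_eq_pow_mul_and_not_dvd (orderOf_pos g).ne' p hp.out.ne_one
      refine ⟨j, ?_⟩
      have h1 : (orderOf (g ^ p ^ j)).Coprime p := by
        rw [orderOf_pow_of_dvd (pow_ne_zero _ hp.out.ne_zero) (hjm ▸ dvd_mul_right _ _), hjm,
          Nat.mul_div_cancel_left _ (pow_pos hp.out.pos j)]
        exact (hp.out.coprime_iff_not_dvd.mpr hm).symm
      have h2 : g ^ p ^ j ∈ Cfsg.pResidual p G := Subgroup.subset_closure h1
      rw [hb, Subgroup.mem_bot, ← orderOf_dvd_iff_pow_eq_one] at h2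
      exact Nat.dvd_antisymm h2 (hjm ▸ dvd_mul_right _ _)
    haveI := hG.isNilpotent
    infer_instance
  have hPres : (P : Subgroup G) ≤ (Cfsg.pResidual p M).map M.subtype := by
    have h := Fusion.Transfer.inf_pResidual_eq_of_controls P hPM hctrl
    rw [hres, inf_top_eq] at h
    exact inf_eq_left.mp h.symm
  rcases closed_or_residual (Uniqueness.odd_of_le hodd M) (hiso.subgroup M) hRM with h | h
  · have hPeq : (P : Subgroup G) = (Cfsg.pCore p M).map M.subtype := by
      refine le_antisymm ?_ ?_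
      · rw [← Fusion.Transfer.map_sylow_subtype P hPM]
        exact Subgroup.map_mono (h _)
      · rw [← Fusion.Transfer.map_sylow_subtype P hPM]
        exact Subgroup.map_mono (Solvable.Cores.pCore_le_sylow _)
    haveI hn : (Cfsg.pCore p M).Normal := Subgroup.sSup_normal _ fun _ h => h.1
    rw [hPeq]
    refine (Subgroup.normal_subgroupOf_iff_le_normalizer (Subgroup.map_subtype_le _)).mp ?_
    rw [Subgroup.subgroupOf, Subgroup.comap_map_eq_self_of_injective M.subtype_injective]
    exact hn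
  · refine absurd (Solvable.Cores.eq_top_of_sylow_le _ fun q hq => ?_) h
    haveI := Fact.mk hq
    rcases eq_or_ne q p with rfl | hqp
    · refine ⟨P.subtype hPM, ?_⟩
      rw [← Subgroup.map_subtype_le_map_subtype, Fusion.Transfer.map_sylow_subtype P hPM]
      exact hPres
    · obtain ⟨T⟩ : Nonempty (Sylow q M) := inferInstance
      refine ⟨T, fun t ht => Subgroup.subset_closure ?_⟩
      obtain ⟨j, hj⟩ := IsPGroup.iff_orderOf.mp T.isPGroup' ⟨t, ht⟩
      rw [Subgroup.orderOf_mk] at hj
      show (orderOf t).Coprime p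
      rw [hj]
      exact ((Nat.coprime_primes hq hp.out).mpr hqp).pow_left j

theorem closed_of_pCore_ne_bot (N : Subgroup G) (hN : N ≠ ⊤) (hR : Cfsg.pCore p N ≠ ⊥)
    (S : Sylow p N) : (S : Subgroup N) ≤ Cfsg.pCore p N := by
  classical
  by_contra hbad
  let bad : Set (Subgroup G) := {T | ∃ (N : Subgroup G) (S : Sylow p N), N ≠ ⊤ ∧
    Cfsg.pCore p N ≠ ⊥ ∧ ¬ (S : Subgroup N) ≤ Cfsg.pCore p N ∧
    T = (S : Subgroup N).map N.subtype}
  obtain ⟨T, hT, hmax⟩ := Set.exists_max_image bad (fun T : Subgroup G => Nat.card T)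
    (Set.toFinite _) ⟨_, N, S, hN, hR, hbad, rfl⟩
  clear hbad hR hN S N
  obtain ⟨N, S, hN, hR, hbad, rfl⟩ := hT
  set S' := (S : Subgroup N).map N.subtype with hS'
  haveI : Group.IsSolvable N := hsol N hN
  have hS'p : IsPGroup p S' := S.isPGroup'.map _
  have hS'1 : S' ≠ ⊥ := by
    intro h
    rw [hS', Subgroup.map_eq_bot_iff_of_injective _ N.subtype_injective] at h
    exact hbad (h ▸ bot_le)
  obtain ⟨P, hP⟩ := hS'p.exists_le_sylow
  set W := Cfsg.centerThompsonOf p S' with hW
  have hW1 : W ≠ ⊥ := centerThompsonOf_ne_bot hS'p hS'1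
  have hWp : IsPGroup p W := centerThompsonOf_isPGroup hS'p
  set N₁ := Subgroup.normalizer (W : Set G) with hN₁
  have hNle : N ≤ N₁ := SylowLocal.le_of_center_thompson (Uniqueness.odd_of_le hodd N) S
    (by rw [pPrimeCore_eq_bot (hiso.subgroup N) hR, Subgroup.map_bot]; exact bot_le) inf_le_right
  have hN₁top : N₁ ≠ ⊤ := normalizer_ne_top hns hWp hW1
  haveI : (W.subgroupOf N₁).Normal := Subgroup.normal_in_normalizer
  have hR₁ : Cfsg.pCore p N₁ ≠ ⊥ := by
    intro h
    have hle := Solvable.Cores.le_pCore (p := p) (N := W.subgroupOf N₁) hWp.comap_subtype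
    rw [h, le_bot_iff, Subgroup.subgroupOf_eq_bot] at hle
    exact hW1 (disjoint_self.mp (hle.mono_right Subgroup.le_normalizer))
  -- `N₁` is not `p`-closed
  have hbad₁ : ∀ U : Sylow p N₁, ¬ (U : Subgroup N₁) ≤ Cfsg.pCore p N₁ := by
    intro U hU
    apply hbad
    haveI hn : (Cfsg.pCore p N₁).Normal := Subgroup.sSup_normal _ fun _ h => h.1
    set i := Subgroup.inclusion hNle with hi
    haveI : ((Cfsg.pCore p N₁).comap i).Normal := Subgroup.Normal.comap hn i
    refine le_trans ?_ (Solvable.Cores.le_pCore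
      ((Solvable.Cores.isPGroup_pCore p).comap_of_injective i (Subgroup.inclusion_injective _)))
    rw [← Subgroup.map_le_iff_le_comap]
    obtain ⟨U', hU'⟩ := (S.isPGroup'.map i).exists_le_sylow
    refine hU'.trans ?_
    obtain ⟨g, rfl⟩ := MulAction.exists_smul_eq N₁ U U'
    intro y hy
    rw [Sylow.coe_subgroup_smul] at hy
    obtain ⟨w, hw, rfl⟩ := hy
    exact hn.conj_mem w (hU hw) g
  by_cases hfull : S' = (P : Subgroup G)
  · -- then `N₁` is the normalizer of `Z(J(P))`
    have hN₁le : N₁ ≤ Subgroup.normalizer ((P : Subgroup G) : Set G) := by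
      rw [hN₁, hW, hfull]
      exact normalizer_centerThompsonOf_le hns hodd hsol hiso P (hfull ▸ hS'1)
    have hPN₁ : (P : Subgroup G) ≤ N₁ := by
      rw [hN₁, hW, hfull]
      exact Subgroup.le_normalizer.trans (ZJ.centerThompsonOf_normalizer _)
    haveI : ((P : Subgroup G).subgroupOf N₁).Normal :=
      Subgroup.normal_subgroupOf_of_le_normalizer hN₁le
    refine hbad₁ (P.subtype hPN₁) ?_
    rw [Sylow.coe_subtype]
    exact Solvable.Cores.le_pCore P.isPGroup'.comap_subtype
  · have hlt : S'.subgroupOf (P : Subgroup G) < ⊤ := by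
      rw [lt_top_iff_ne_top, Ne, Subgroup.subgroupOf_eq_top]
      exact fun h => hfull (le_antisymm hP h)
    haveI := P.isPGroup'.isNilpotent
    obtain ⟨g, hg1, hg2⟩ :=
      SetLike.exists_of_lt (Group.normalizerCondition_of_isNilpotent _ hlt)
    set V := (Subgroup.normalizer ((S'.subgroupOf (P : Subgroup G) : Subgroup _) : Set (P : Subgroup G))).map
      (P : Subgroup G).subtype with hV
    have hVp : IsPGroup p V := P.isPGroup'.to_le (Subgroup.map_subtype_le _)
    have hVN : V ≤ N₁ := by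
      refine le_trans ?_ (ZJ.centerThompsonOf_normalizer (p := p) S')
      rintro _ ⟨v, hv, rfl⟩
      rw [Subgroup.mem_normalizer_iff]
      intro x
      constructor
      · intro hx
        exact (Subgroup.mem_normalizer_iff.mp hv ⟨x, hP hx⟩).mp hx
      · intro hx
        have hxP : x ∈ (P : Subgroup G) := by
          have h := (P : Subgroup G).mul_mem ((P : Subgroup G).mul_mem
            ((P : Subgroup G).inv_mem v.2) (hP hx)) v.2
          simpa [mul_assoc] using h
        exact (Subgroup.mem_normalizer_iff.mp hv ⟨x, hxP⟩).mpr hx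
    obtain ⟨U, hU⟩ := (hVp.comap_subtype (K := N₁)).exists_le_sylow
    have hS'V : S' ≤ V := fun x hx => ⟨⟨x, hP hx⟩, Subgroup.le_normalizer hx, rfl⟩
    have hlt2 : Nat.card S' < Nat.card V := by
      refine lt_of_le_of_ne (Subgroup.card_le_of_le hS'V) fun hc => hg2 ?_
      have := Subgroup.eq_of_le_of_card_ge hS'V hc.ge
      rw [Subgroup.mem_subgroupOf, this]
      exact ⟨g, hg1, rfl⟩
    have h1 := hmax _ ⟨N₁, U, hN₁top, hR₁, hbad₁ U, rfl⟩
    have hVU : V ≤ (U : Subgroup N₁).map N₁.subtype := fun x hx =>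
      ⟨⟨x, hVN hx⟩, hU (show x ∈ V from hx), rfl⟩
    have h2 := Subgroup.card_le_of_le hVU
    omega

/-- Distinct Sylow subgroups for an isolated prime intersect trivially. -/
theorem inf_eq_bot (A B : Sylow p G) (hne : A ≠ B) :
    (A : Subgroup G) ⊓ (B : Subgroup G) = ⊥ := by
  classical
  by_contra hD
  obtain ⟨⟨A, B⟩, ⟨hne, hD⟩, hmax⟩ := Set.exists_max_image
    {x : Sylow p G × Sylow p G | x.1 ≠ x.2 ∧ (x.1 : Subgroup G) ⊓ (x.2 : Subgroup G) ≠ ⊥}
    (fun x => Nat.card ((x.1 : Subgroup G) ⊓ (x.2 : Subgroup G) : Subgroup G)) (Set.toFinite _)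
    ⟨(A, B), hne, hD⟩
  simp only at hne hD hmax
  set D := (A : Subgroup G) ⊓ (B : Subgroup G) with hDdef
  set N := Subgroup.normalizer (D : Set G) with hN
  have hDp : IsPGroup p D := A.isPGroup'.to_le inf_le_left
  haveI : (D.subgroupOf N).Normal := Subgroup.normal_in_normalizer
  have hR : Cfsg.pCore p N ≠ ⊥ := by
    intro h
    have hle := Solvable.Cores.le_pCore (p := p) (N := D.subgroupOf N) hDp.comap_subtype
    rw [h, le_bot_iff, Subgroup.subgroupOf_eq_bot] at hle
    exact hD (disjoint_self.mp (hle.mono_right Subgroup.le_normalizer))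
  have hcl := closed_of_pCore_ne_bot hns hodd hsol hiso N (normalizer_ne_top hns hDp hD) hR
  obtain ⟨C, hC⟩ := ((Solvable.Cores.isPGroup_pCore (G := N) p).map N.subtype).exists_le_sylow
  have key : ∀ E : Sylow p G, D ≤ (E : Subgroup G) → D ≠ (E : Subgroup G) → E = C := by
    intro E hDE hne'
    have hlt : D.subgroupOf (E : Subgroup G) < ⊤ := by
      rw [lt_top_iff_ne_top, Ne, Subgroup.subgroupOf_eq_top]
      exact fun h => hne' (le_antisymm hDE h)
    haveI := E.isPGroup'.isNilpotent
    obtain ⟨g, hg1, hg2⟩ :=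
      SetLike.exists_of_lt (Group.normalizerCondition_of_isNilpotent _ hlt)
    have hgN : (g : G) ∈ N := by
      rw [hN, Subgroup.mem_normalizer_iff]
      intro x
      constructor
      · intro hx; exact (Subgroup.mem_normalizer_iff.mp hg1 ⟨x, hDE hx⟩).mp hx
      · intro hx
        have hxE : x ∈ (E : Subgroup G) := by
          have h := (E : Subgroup G).mul_mem ((E : Subgroup G).mul_mem
            ((E : Subgroup G).inv_mem g.2) (hDE hx)) g.2
          simpa [mul_assoc] using h
        exact (Subgroup.mem_normalizer_iff.mp hg1 ⟨x, hxE⟩).mpr hx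
    have hEN : (E : Subgroup G) ⊓ N ≤ (C : Subgroup G) := by
      obtain ⟨U, hU⟩ := (E.isPGroup'.comap_subtype (K := N)).exists_le_sylow
      intro x hx
      exact hC ⟨⟨x, hx.2⟩, hcl U (hU hx.1), rfl⟩
    by_contra hEC
    have hle : D ≤ (E : Subgroup G) ⊓ (C : Subgroup G) := fun x hx =>
      ⟨hDE hx, hEN ⟨hDE hx, Subgroup.le_normalizer hx⟩⟩
    have h1 := hmax (E, C) ⟨hEC, fun h => hD (le_bot_iff.mp (h ▸ hle))⟩
    have := Subgroup.eq_of_le_of_card_ge hle h1
    refine hg2 ?_
    rw [Subgroup.mem_subgroupOf, this]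
    exact ⟨g.2, hEN ⟨g.2, hgN⟩⟩
  have hnle : ∀ {X Y : Sylow p G}, X ≠ Y → (X : Subgroup G) ⊓ (Y : Subgroup G) ≠ (X : Subgroup G) :=
    fun {X Y} h e => h (Sylow.ext (X.is_maximal' Y.isPGroup' (inf_eq_left.mp e)).symm)
  exact hne ((key A inf_le_left (hnle hne)).trans
    (key B inf_le_right (by rw [hDdef, inf_comm]; exact hnle (Ne.symm hne))).symm)

end Simple

end CfsgLib.OddOrder.CNIsolated
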