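import Cfsg.Prelude.Def_OddOrderLocal
import Cfsg.Agent.Lib.OddOrder.CN
import Cfsg.Agent.Lib.OddOrder.CNTheorem
import Cfsg.Agent.Lib.OddOrder.FixedPointFree
import Cfsg.Agent.Lib.FrobRealize.FixedPointFree
import Cfsg.Agent.Lib.Frobenius.AbelianRankOne
import Cfsg.Agent.Lib.Solvable.Cores
import Cfsg.Agent.Lib.Components.SFT.Criterion
import Mathlib.Algebra.Group.Subgroup.Pointwise

/-!
The structure of solvable CN-groups: nilpotent, Frobenius, or three-step.
-/

set_option autoImplicit false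

namespace CfsgLib.OddOrder.CNSolvable

open CfsgLib.Solvable
open scoped Pointwise

variable {G : Type*} [Group G] [Finite G]

theorem sylow_normal {X : Type*} [Group X] [Finite X] (h : Group.IsNilpotent X) {q : ℕ} [hq : Fact q.Prime] (S : Sylow q X) :
    (S : Subgroup X).Normal := by
  have hall : ∀ (l : ℕ) (_hl : Fact l.Prime) (Q : Sylow l X), (↑Q : Subgroup X).Normal :=
    Iff.mp (Group.isNilpotent_of_finite_tfae.out 0 3) h
  exact hall q hq S

/-- In a fixed point free `q`-group any two elements of order `q` generate the same subgroup. -/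
theorem mem_zpowers_of_pGroup {q : ℕ} [Fact q.Prime] {W K : Subgroup G} (hW : IsPGroup q W) (hK : K ≠ ⊥)
    (hWK : W ≤ Subgroup.normalizer (K : Set G))
    (hfpf : ∀ a ∈ W, a ≠ 1 → K ⊓ Subgroup.centralizer {a} = ⊥) {x y : G} (hx : x ∈ W) (hy : y ∈ W)
    (hox : orderOf x = q) (hyq : y ^ q = 1) : y ∈ Subgroup.zpowers x := by
  have hmem : ∀ z ∈ Subgroup.zpowers x, z ^ q = 1 := by
    intro z hz
    obtain ⟨k, rfl⟩ := Subgroup.mem_zpowers_iff.mp hz
    rw [← zpow_natCast, ← zpow_mul, mul_comm, zpow_mul, zpow_natCast, ← hox, pow_orderOf_eq_one, one_zpow]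
  let f : Subgroup.zpowers x → {w : W // w ^ q = 1} := fun z =>
    ⟨⟨z, Subgroup.zpowers_le.mpr hx z.2⟩, Subtype.ext (by simpa using hmem _ z.2)⟩
  have hf : Function.Injective f := fun a b e =>
    Subtype.ext (congrArg (fun w : {w : W // w ^ q = 1} => ((w.1 : W) : G)) e)
  have hb : Function.Bijective f := hf.bijective_of_nat_card_le (by
    rw [Nat.card_zpowers, hox]; exact FrobRealize.FPF.card_roots_le hK hWK hfpf hW)
  obtain ⟨z, hz⟩ := hb.2 ⟨⟨y, hy⟩, Subtype.ext (by simpa using hyq)⟩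
  have : (z : G) = y := congrArg (fun w : {w : W // w ^ q = 1} => ((w.1 : W) : G)) hz
  exact this ▸ z.2

/-- In a fixed point free nilpotent group any two elements of prime order `q` generate the same subgroup. -/
theorem mem_zpowers_of_nilpotent {q : ℕ} [Fact q.Prime] {X K : Subgroup G} (hX : Group.IsNilpotent X) (hK : K ≠ ⊥)
    (hXK : X ≤ Subgroup.normalizer (K : Set G))
    (hfpf : ∀ a ∈ X, a ≠ 1 → K ⊓ Subgroup.centralizer {a} = ⊥) {x y : G} (hx : x ∈ X) (hy : y ∈ X)
    (hox : orderOf x = q) (hoy : orderOf y = q) : y ∈ Subgroup.zpowers x := by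
  obtain ⟨S⟩ : Nonempty (Sylow q X) := inferInstance
  have hS : (S : Subgroup X).Normal :=
    sylow_normal hX S
  haveI : Subsingleton (Sylow q X) := by
    haveI := Sylow.unique_of_normal S hS
    infer_instance
  have hmem : ∀ z : X, orderOf z = q → z ∈ (S : Subgroup X) := by
    intro z hz
    obtain ⟨R, hR⟩ := (IsPGroup.of_card (n := 1) (by rw [Nat.card_zpowers, hz, pow_one]) :
      IsPGroup q (Subgroup.zpowers z)).exists_le_sylow
    exact (Subsingleton.elim R S) ▸ hR (Subgroup.mem_zpowers z)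
  set W := (S : Subgroup X).map X.subtype with hW
  refine mem_zpowers_of_pGroup (W := W) (S.isPGroup'.map _) hK ((Subgroup.map_subtype_le _).trans hXK)
    (fun a ha => hfpf a (Subgroup.map_subtype_le _ ha)) ⟨⟨x, hx⟩, hmem _ (by rw [Subgroup.orderOf_mk, hox]), rfl⟩
    ⟨⟨y, hy⟩, hmem _ (by rw [Subgroup.orderOf_mk, hoy]), rfl⟩ hox (by rw [← hoy, pow_orderOf_eq_one])

/-- Elements of prime-power order for a prime dividing a normal Hall subgroup lie in it. -/
theorem mem_of_normal_hall {F : Subgroup G} [F.Normal] (hc : (Nat.card F).Coprime F.index) {r k : ℕ}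
    (hr : r.Prime) (hd : r ∣ Nat.card F) {d : G} (hdk : orderOf d ∣ r ^ k) : d ∈ F := by
  rw [← QuotientGroup.eq_one_iff, ← orderOf_eq_one_iff]
  obtain ⟨j, -, hj⟩ := (Nat.dvd_prime_pow hr).mp ((orderOf_map_dvd (QuotientGroup.mk' F) d).trans hdk)
  rw [show orderOf (d : G ⧸ F) = r ^ j from hj]
  rcases j with _ | j
  · exact pow_zero r
  · exfalso
    have h1 : r ∣ F.index := ((dvd_pow_self r j.succ_ne_zero).trans (dvd_of_eq hj.symm)).trans
      (orderOf_dvd_natCard _)
    exact hr.ne_one (Nat.eq_one_of_dvd_coprimes hc hd h1)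

theorem centralizer_le_fittingHall (hCN : Cfsg.IsCNGroup G) {x : G} (hx : x ∈ Cfsg.fittingHall G) (hx1 : x ≠ 1) :
    Subgroup.centralizer ({x} : Set G) ≤ Cfsg.fittingHall G := by
  refine CN.le_of_primary fun r hr d hd hk => ?_
  obtain ⟨k, hk⟩ := hk
  by_cases hd1 : d = 1
  · rw [hd1]; exact one_mem _
  have hk0 : k ≠ 0 := by rintro rfl; exact hd1 (orderOf_eq_one_iff.mp (by rw [hk, pow_zero]))
  obtain ⟨j, rfl⟩ := Nat.exists_eq_succ_of_ne_zero hk0
  have he : orderOf (d ^ (r ^ j)) = r := by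
    rw [orderOf_pow_of_dvd (pow_ne_zero _ hr.ne_zero) (hk ▸ Dvd.intro _ (pow_succ r j).symm), hk, pow_succ,
      Nat.mul_div_cancel_left _ (pow_pos hr.pos _)]
  have hdx : Commute d x := Subgroup.mem_centralizer_singleton_iff.mp hd
  have hmem := CN.mem_fittingHall_of_commute hCN hr he hx hx1 (hdx.pow_left _)
  exact mem_of_normal_hall (Basic.fittingHall_coprime) hr (he ▸ Stabilize.orderOf_dvd_card_of_mem hmem) hk.dvd

/-- Without a nilpotent normal Hall subgroup, the Fitting subgroup is a `p`-group. -/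
theorem exists_prime_fitting [Group.IsSolvable G] [Nontrivial G] (hCN : Cfsg.IsCNGroup G)
    (hH : Cfsg.fittingHall G = ⊥) :
    ∃ p : ℕ, p.Prime ∧ Cfsg.fittingSubgroup G = Cfsg.pCore p G ∧ Cfsg.pCore p G ≠ ⊥ ∧
      p ∣ (Cfsg.pCore p G).index := by
  have hFn : Cfsg.fittingSubgroup G ≠ ⊥ := by
    intro h
    have := Cores.centralizer_fittingSubgroup_le (G := G)
    rw [h] at this
    obtain ⟨x, hx⟩ := exists_ne (1 : G)
    refine hx (Subgroup.mem_bot.mp (this ?_))
    simp [Subgroup.mem_centralizer_iff]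
  obtain ⟨p, hp, hne⟩ : ∃ p : ℕ, p.Prime ∧ Cfsg.pCore p G ≠ ⊥ := by
    by_contra hall
    push Not at hall
    apply hFn
    rw [Cores.fittingSubgroup_eq_iSup_pCore, iSup_eq_bot]
    exact fun q => hall q q.2
  haveI := Fact.mk hp
  have hall : ∀ P : Sylow p G, ¬ (P : Subgroup G) ≤ Cfsg.fittingSubgroup G := by
    intro P hP
    haveI hn : Group.IsNilpotent (Cfsg.fittingSubgroup G) := inferInstance
    have hS : ((P.subtype hP : Sylow p _) : Subgroup (Cfsg.fittingSubgroup G)).Normal :=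
      sylow_normal hn _
    haveI := Sylow.characteristic_of_normal _ hS
    have e1 : ((P.subtype hP : Sylow p _) : Subgroup (Cfsg.fittingSubgroup G)).map
        (Cfsg.fittingSubgroup G).subtype = (P : Subgroup G) := by
      rw [Sylow.coe_subtype, Subgroup.map_subgroupOf_eq_of_le hP]
    haveI : (P : Subgroup G).Normal := e1 ▸ inferInstance
    have hle := Basic.le_fittingHall (N := (P : Subgroup G)) P.isPGroup'.isNilpotent (by
      obtain ⟨n, hn⟩ := IsPGroup.iff_card.mp P.isPGroup'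
      rw [hn]; exact Nat.Coprime.pow_left n (hp.coprime_iff_not_dvd.mpr P.not_dvd_index))
    rw [hH, le_bot_iff] at hle
    exact hne (le_bot_iff.mp (hle ▸ Cores.pCore_le_sylow P))
  obtain ⟨P⟩ : Nonempty (Sylow p G) := inferInstance
  have honly : ∀ q : ℕ, q.Prime → q ≠ p → Cfsg.pCore q G = ⊥ := by
    intro q hq hqp
    haveI := Fact.mk hq
    by_contra hqn
    refine hall P ?_
    haveI : Group.IsNilpotent (P : Subgroup G) := P.isPGroup'.isNilpotent
    have hne' : (Cfsg.pCore p G).subgroupOf (P : Subgroup G) ≠ ⊥ := by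
      intro h
      rw [Subgroup.subgroupOf_eq_bot, disjoint_iff, inf_eq_left.mpr (Cores.pCore_le_sylow P)] at h
      exact hne h
    obtain ⟨z, hz, hz1⟩ := (Subgroup.bot_or_exists_ne_one _).resolve_left
      (Solvable.FrattiniFitting.inf_center_ne_bot ((Cfsg.pCore p G).subgroupOf (P : Subgroup G)) hne')
    have hzG : (z : G) ≠ 1 := fun h => hz1 (Subtype.ext h)
    haveI := hCN (z : G) hzG
    have hdisj : Disjoint (Cfsg.pCore p G) (Cfsg.pCore q G) :=
      IsPGroup.disjoint_of_ne p q hqp.symm _ _ (Cores.isPGroup_pCore p) (Cores.isPGroup_pCore q)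
    have hPK : (P : Subgroup G) ≤ Subgroup.centralizer (Cfsg.pCore q G : Set G) := by
      intro d hd
      rw [Subgroup.mem_centralizer_iff]
      intro f hf
      refine (Basic.commute_of_mem_nilpotent (K := Subgroup.centralizer ({(z : G)} : Set G)) ?_ ?_ ?_).eq
      · rw [Subgroup.mem_centralizer_singleton_iff]
        exact (Subgroup.commute_of_normal_of_disjoint _ _ inferInstance inferInstance hdisj _ _ hz.1 hf).eq.symm
      · rw [Subgroup.mem_centralizer_singleton_iff]
        exact congrArg Subtype.val (Subgroup.mem_center_iff.mp hz.2 ⟨d, hd⟩)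
      · obtain ⟨i, hi⟩ := IsPGroup.iff_orderOf.mp (Cores.isPGroup_pCore q) ⟨f, hf⟩
        obtain ⟨k, hk⟩ := IsPGroup.iff_orderOf.mp P.isPGroup' ⟨d, hd⟩
        rw [Subgroup.orderOf_mk] at hi hk
        rw [hi, hk]
        exact Nat.coprime_pow_primes _ _ hq hp hqp
    obtain ⟨y, hy, hy1⟩ := (Subgroup.bot_or_exists_ne_one _).resolve_left hqn
    haveI := hCN y hy1
    exact hPK.trans (Cores.le_fittingSubgroup
      (CN.isNilpotent_of_le (K := Subgroup.centralizer ({y} : Set G)) (Subgroup.centralizer_le (by simpa))))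
  have hF : Cfsg.fittingSubgroup G = Cfsg.pCore p G := by
    refine le_antisymm ?_ (Cores.pCore_le_fittingSubgroup p)
    rw [Cores.fittingSubgroup_eq_iSup_pCore]
    refine iSup_le fun q => ?_
    by_cases h : (q : ℕ) = p
    · rw [h]
    · rw [honly q q.2 h]; exact bot_le
  refine ⟨p, hp, hF, hne, ?_⟩
  by_contra hd
  have hle := Basic.le_fittingHall (N := Cfsg.pCore p G) (Cores.pCore_isNilpotent p) (by
    obtain ⟨n, hn⟩ := Cores.card_pow_of_pCore (G := G) p
    rw [hn]; exact Nat.Coprime.pow_left n (hp.coprime_iff_not_dvd.mpr hd))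
  rw [hH, le_bot_iff] at hle
  exact hne hle

section
variable {p : ℕ} [Fact p.Prime] (hCN : Cfsg.IsCNGroup G) (hF : Cfsg.fittingSubgroup G = Cfsg.pCore p G)
  (hne : Cfsg.pCore p G ≠ ⊥)
include hCN hF

theorem eq_one_of_commute_core [Group.IsSolvable G] {x y : G} (hx : (orderOf x).Coprime p)
    (hy : y ∈ Cfsg.pCore p G) (hy1 : y ≠ 1) (hxy : Commute x y) : x = 1 := by
  set F := Cfsg.pCore p G with hFdef
  set R := F ⊓ Subgroup.centralizer ({x} : Set G) with hR
  by_cases hRF : R = F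
  · have hxF : x ∈ F := by
      rw [← hF]
      refine Cores.centralizer_fittingSubgroup_le (Subgroup.mem_centralizer_iff.mpr fun f hf => ?_)
      rw [hF, ← hRF] at hf
      exact Subgroup.mem_centralizer_singleton_iff.mp hf.2
    obtain ⟨i, hi⟩ := IsPGroup.iff_orderOf.mp (Cores.isPGroup_pCore p) ⟨x, hxF⟩
    rw [Subgroup.orderOf_mk] at hi
    rw [hi] at hx
    refine orderOf_eq_one_iff.mp (hi.trans ?_)
    rcases i with _ | i
    · exact pow_zero p
    · exact absurd ((Nat.coprime_pow_left_iff i.succ_pos _ _).mp hx) (by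
        simpa using (Fact.out : p.Prime).ne_one)
  exfalso
  haveI : Group.IsNilpotent F := Cores.pCore_isNilpotent p
  have hlt : R.subgroupOf F < ⊤ := lt_of_le_of_ne le_top fun h =>
    hRF (le_antisymm inf_le_left (Subgroup.subgroupOf_eq_top.mp h))
  obtain ⟨w, hw, hwR⟩ := SetLike.exists_of_lt (Group.normalizerCondition_of_isNilpotent _ hlt)
  have hxR : ∀ r ∈ R, x * r = r * x := fun r hr => (Subgroup.mem_centralizer_singleton_iff.mp hr.2).symm
  have hwF : (w : G) ∈ F := w.2
  set c := x * (w : G) * x⁻¹ * (w : G)⁻¹ with hc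
  have hcF : c ∈ F := mul_mem ((inferInstance : F.Normal).conj_mem _ hwF x) (inv_mem hwF)
  have hcR : ∀ r ∈ R, c * r = r * c := by
    intro r hr
    have hr' : (w : G)⁻¹ * r * w ∈ R := by
      have h0 := Subgroup.mem_normalizer_iff''.mp hw ⟨r, hr.1⟩
      exact h0.mp hr
    rw [← mul_inv_eq_iff_eq_mul]
    calc c * r * c⁻¹ = x * (w : G) * (x⁻¹ * ((w : G)⁻¹ * r * w) * x) * (w : G)⁻¹ * x⁻¹ := by rw [hc]; group
      _ = x * (w : G) * ((w : G)⁻¹ * r * w) * (w : G)⁻¹ * x⁻¹ := by
        have e : x⁻¹ * ((w : G)⁻¹ * r * w) * x = (w : G)⁻¹ * r * w := by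
          rw [mul_assoc, ← hxR _ hr', inv_mul_cancel_left]
        rw [e]
      _ = x * r * x⁻¹ := by group
      _ = r := by rw [hxR r hr, mul_inv_cancel_right]
  have hyR : y ∈ R := ⟨hy, Subgroup.mem_centralizer_singleton_iff.mpr hxy.eq.symm⟩
  obtain ⟨i, hi⟩ := IsPGroup.iff_orderOf.mp (Cores.isPGroup_pCore p) ⟨c, hcF⟩
  rw [Subgroup.orderOf_mk] at hi
  haveI := hCN y hy1
  have hcop : (orderOf c).Coprime (orderOf x) := hi ▸ hx.symm.pow_left i
  have hcx : Commute c x := Basic.commute_of_mem_nilpotent (K := Subgroup.centralizer ({y} : Set G))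
    (Subgroup.mem_centralizer_singleton_iff.mpr (hcR y hyR))
    (Subgroup.mem_centralizer_singleton_iff.mpr hxy.eq) hcop
  have hpow : ∀ n : ℕ, x ^ n * (w : G) * (x ^ n)⁻¹ = c ^ n * w := by
    intro n
    induction n with
    | zero => simp
    | succ n ih =>
      calc x ^ (n + 1) * (w : G) * (x ^ (n + 1))⁻¹ = x * (x ^ n * (w : G) * (x ^ n)⁻¹) * x⁻¹ := by
            rw [pow_succ']; group
        _ = x * c ^ n * (w : G) * x⁻¹ := by rw [ih]; group
        _ = c ^ n * (x * (w : G) * x⁻¹ * (w : G)⁻¹) * w := by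
            rw [← ((hcx.pow_left n).eq)]; group
        _ = c ^ (n + 1) * w := by rw [← hc, ← pow_succ]
  have hc1 : c = 1 := by
    have := hpow (orderOf x)
    rw [pow_orderOf_eq_one, one_mul, inv_one, mul_one, right_eq_mul] at this
    exact orderOf_eq_one_iff.mp (hcop.eq_one_of_dvd (orderOf_dvd_of_pow_eq_one this))
  apply hwR
  show (w : G) ∈ R
  refine ⟨hwF, Subgroup.mem_centralizer_singleton_iff.mpr ?_⟩
  rw [hc, mul_inv_eq_one, mul_inv_eq_iff_eq_mul] at hc1
  exact hc1.symm

include hne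

theorem eq_one_of_commute_pElement [Group.IsSolvable G] {u a : G} {k : ℕ} (hu : orderOf u = p ^ k)
    (hu1 : u ≠ 1) (ha : (orderOf a).Coprime p) (hua : Commute u a) : a = 1 := by
  set F := Cfsg.pCore p G with hFdef
  set W := F ⊔ Subgroup.zpowers u with hW
  have hWp : IsPGroup p W := (Cores.isPGroup_pCore p).to_sup_of_normal_left
    (IsPGroup.of_card (n := k) (by rw [Nat.card_zpowers, hu]))
  haveI := hWp.isNilpotent
  have hne' : F.subgroupOf W ≠ ⊥ := by
    intro h
    rw [Subgroup.subgroupOf_eq_bot, disjoint_iff, inf_eq_left.mpr (le_sup_left : F ≤ W)] at h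
    exact hne h
  obtain ⟨y, hy, hy1⟩ := (Subgroup.bot_or_exists_ne_one _).resolve_left
    (Solvable.FrattiniFitting.inf_center_ne_bot (F.subgroupOf W) hne')
  have hyu : Commute (y : G) u := (congrArg Subtype.val
    (Subgroup.mem_center_iff.mp hy.2 ⟨u, Subgroup.mem_sup_right (Subgroup.mem_zpowers u)⟩)).symm
  haveI := hCN u hu1
  obtain ⟨i, hi⟩ := IsPGroup.iff_orderOf.mp (Cores.isPGroup_pCore p) ⟨(y : G), hy.1⟩
  rw [← Subgroup.orderOf_coe] at hi
  exact eq_one_of_commute_core hCN hF ha hy.1 (fun e => hy1 (Subtype.ext e))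
    (Basic.commute_of_mem_nilpotent (K := Subgroup.centralizer ({u} : Set G))
      (Subgroup.mem_centralizer_singleton_iff.mpr hua.eq.symm)
      (Subgroup.mem_centralizer_singleton_iff.mpr hyu.eq) (hi ▸ ha.pow_right i))

/-- The three-step case. -/
theorem threeStep [Group.IsSolvable G] (hidx : p ∣ (Cfsg.pCore p G).index) : Cfsg.IsThreeStepGroup p G := by
  have hp : p.Prime := Fact.out
  set F := Cfsg.pCore p G with hFdef
  obtain ⟨e, he⟩ := Cores.card_pow_of_pCore (G := G) p
  have hQ0 : Cfsg.pCore p (G ⧸ F) = ⊥ := Components.SFT.pCore_quotient_eq_bot p G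
  set π := QuotientGroup.mk' F with hπ
  have hπ0 : ∀ x : G, π x = 1 ↔ x ∈ F := fun x => QuotientGroup.eq_one_iff x
  set Kb := Cfsg.fittingSubgroup (G ⧸ F) with hKb
  have hKbn : Kb ≠ ⊥ := by
    intro h
    have h2 := Cores.centralizer_fittingSubgroup_le (G := G ⧸ F)
    rw [← hKb, h] at h2
    have h1 : ∀ x : G ⧸ F, x = 1 := fun x =>
      Subgroup.mem_bot.mp (h2 (by simp [Subgroup.mem_centralizer_iff]))
    haveI : Subsingleton (G ⧸ F) := ⟨fun a b => (h1 a).trans (h1 b).symm⟩
    rw [Subgroup.index_eq_card, Nat.card_of_subsingleton (1 : G ⧸ F)] at hidx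
    exact hp.not_dvd_one hidx
  have hKbp : ¬ p ∣ Nat.card Kb := by
    intro hd
    obtain ⟨S⟩ : Nonempty (Sylow p Kb) := inferInstance
    haveI : (S : Subgroup Kb).Normal :=
      sylow_normal (inferInstance : Group.IsNilpotent Kb) S
    haveI := S.characteristic_of_normal inferInstance
    have h := Cores.le_pCore (N := (S : Subgroup Kb).map Kb.subtype) (S.isPGroup'.map _)
    rw [hQ0, le_bot_iff, Subgroup.map_eq_bot_iff_of_injective _ Kb.subtype_injective] at h
    exact S.ne_bot_of_dvd_card hd h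
  set K := Kb.comap π with hK
  have hFK : F ≤ K := by
    intro x hx
    rw [hK, Subgroup.mem_comap, (hπ0 x).mpr hx]
    exact one_mem _
  haveI : K.Normal := Subgroup.Normal.comap inferInstance _
  haveI : (F.subgroupOf K).Normal := inferInstance
  have hKmap : K.map π = Kb := Subgroup.map_comap_eq_self_of_surjective (QuotientGroup.mk'_surjective F) _
  have hrel : F.relIndex K = Nat.card Kb := by
    have h := Solvable.Basic.card_map_mk_of_le F K hFK
    rw [hKmap] at h
    have h2 := Subgroup.card_mul_index (F.subgroupOf K)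
    rw [Nat.card_congr (Subgroup.subgroupOfEquivOfLe hFK).toEquiv, mul_comm] at h2
    exact Nat.eq_of_mul_eq_mul_right Nat.card_pos (h2.trans h.symm)
  obtain ⟨A₀, hA₀⟩ := Subgroup.exists_right_complement'_of_coprime (N := F.subgroupOf K) (by
    rw [Nat.card_congr (Subgroup.subgroupOfEquivOfLe hFK).toEquiv, he]
    exact Nat.Coprime.pow_left e (hp.coprime_iff_not_dvd.mpr (hrel ▸ hKbp : ¬ p ∣ F.relIndex K)))
  set A := A₀.map K.subtype with hAdef
  have hAK : A ≤ K := Subgroup.map_subtype_le _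
  have hAc : Nat.card A = Nat.card Kb := by
    rw [hAdef, Subgroup.card_map_of_injective K.subtype_injective, ← hrel]
    exact hA₀.symm.index_eq_card.symm
  have hAF : ∀ a ∈ A, a ∈ F → a = 1 := by
    rintro a ⟨b, hb, rfl⟩ hbF
    have := hA₀.disjoint.le_bot ⟨(show b ∈ F.subgroupOf K from hbF), hb⟩
    rw [Subgroup.mem_bot] at this
    rw [this]; rfl
  have hKdec : ∀ x ∈ K, ∃ f ∈ F, ∃ a ∈ A, f * a = x := by
    intro x hx
    obtain ⟨⟨f, a⟩, hfa⟩ := hA₀.2 ⟨x, hx⟩
    exact ⟨f.1.1, f.2, a.1.1, ⟨a.1, a.2, rfl⟩, congrArg Subtype.val hfa⟩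
  have hAp' : (Nat.card A).Coprime p := (hAc ▸ (hp.coprime_iff_not_dvd.mpr hKbp).symm)
  have hord : ∀ a ∈ A, (orderOf a).Coprime p := fun a ha =>
    hAp'.coprime_dvd_left (Stabilize.orderOf_dvd_card_of_mem ha)
  haveI hAn : Group.IsNilpotent A := by
    let f : A →* Kb := (π.comp A.subtype).codRestrict Kb fun a => hAK a.2
    have hf : Function.Injective f := by
      rw [injective_iff_map_eq_one]
      intro a ha
      exact Subtype.ext (hAF a a.2 ((hπ0 _).mp (congrArg Subtype.val ha)))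
    haveI : Group.IsNilpotent f.range := inferInstance
    exact Group.nilpotent_of_mulEquiv (MonoidHom.ofInjective hf).symm
  have hA1 : A ≠ ⊥ := by
    intro h
    rw [h, Subgroup.card_bot] at hAc
    exact hKbn (Subgroup.card_eq_one.mp hAc.symm)
  have hFn : A ≤ Subgroup.normalizer (F : Set G) := by rw [Subgroup.normalizer_eq_top]; exact le_top
  have hfpf : ∀ a ∈ A, a ≠ 1 → F ⊓ Subgroup.centralizer ({a} : Set G) = ⊥ := by
    intro a ha ha1
    rw [eq_bot_iff]
    intro y hy
    by_contra hy1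
    exact ha1 (eq_one_of_commute_core hCN hF (hord a ha) hy.1 (fun h => hy1 (Subgroup.mem_bot.mpr h))
      (Subgroup.mem_centralizer_singleton_iff.mp hy.2).symm)
  -- the normalizer of a Sylow subgroup of `A` complements `F`
  obtain ⟨q, hq, hqd⟩ := Nat.exists_prime_and_dvd (fun h => hA1 (Subgroup.card_eq_one.mp h))
  haveI := Fact.mk hq
  have hqp : q ≠ p := fun h => hq.ne_one (Nat.eq_one_of_dvd_coprimes hAp' hqd (h ▸ dvd_rfl))
  obtain ⟨S⟩ : Nonempty (Sylow q A) := inferInstance
  set Aq := (S : Subgroup A).map A.subtype with hAq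
  have hAqA : Aq ≤ A := Subgroup.map_subtype_le _
  have hAN : A ≤ Subgroup.normalizer (Aq : Set G) := by
    haveI : (S : Subgroup A).Normal :=
      sylow_normal hAn S
    refine (Subgroup.normal_subgroupOf_iff_le_normalizer hAqA).mp ?_
    rw [hAq, Subgroup.subgroupOf, Subgroup.comap_map_eq_self_of_injective A.subtype_injective]
    infer_instance
  have hnd : ¬ q ∣ (Aq.subgroupOf K).index := by
    change ¬ q ∣ Aq.relIndex K
    rw [← Subgroup.relIndex_mul_relIndex Aq A K hAqA hAK]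
    intro h
    rcases hq.dvd_mul.mp h with h | h
    · rw [Subgroup.relIndex, hAq, Subgroup.subgroupOf,
        Subgroup.comap_map_eq_self_of_injective A.subtype_injective] at h
      exact S.not_dvd_index h
    · rw [show A.relIndex K = p ^ e by
        rw [Subgroup.relIndex, hAdef, Subgroup.subgroupOf,
          Subgroup.comap_map_eq_self_of_injective K.subtype_injective, hA₀.index_eq_card,
          Nat.card_congr (Subgroup.subgroupOfEquivOfLe hFK).toEquiv, he]] at h
      exact hqp ((Nat.prime_dvd_prime_iff_eq hq hp).mp (hq.dvd_of_dvd_pow h))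
  set PK : Sylow q K := ((S.isPGroup'.map A.subtype).comap_subtype (K := K)).toSylow hnd
  set N := Subgroup.normalizer (Aq : Set G) with hN
  have hNK : N ⊔ K = ⊤ := by
    have h := Sylow.normalizer_sup_eq_top PK
    have e1 : ((PK : Subgroup K).map K.subtype) = Aq :=
      Subgroup.map_subgroupOf_eq_of_le (hAqA.trans hAK)
    rwa [e1] at h
  have hNF : N ⊔ F = ⊤ := by
    rw [← top_le_iff, ← hNK]
    refine sup_le le_sup_left fun x hx => ?_
    obtain ⟨f, hf, a, ha, rfl⟩ := hKdec x hx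
    exact mul_mem (Subgroup.mem_sup_right hf) (Subgroup.mem_sup_left (hAN ha))
  have hNF1 : ∀ f ∈ N, f ∈ F → f = 1 := by
    intro f hfN hfF
    obtain ⟨a, ha, ha1⟩ := (Subgroup.bot_or_exists_ne_one Aq).resolve_left (by
      intro h
      rw [hAq, Subgroup.map_eq_bot_iff_of_injective _ A.subtype_injective] at h
      exact S.ne_bot_of_dvd_card hqd h)
    by_contra hf1
    have hm : f * a * f⁻¹ * a⁻¹ = 1 := by
      refine hAF _ (hAqA (mul_mem ((Subgroup.mem_normalizer_iff.mp hfN a).mp ha) (inv_mem ha))) ?_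
      have e : f * a * f⁻¹ * a⁻¹ = f * (a * f⁻¹ * a⁻¹) := by group
      rw [e]
      exact mul_mem hfF ((inferInstance : F.Normal).conj_mem _ (inv_mem hfF) a)
    rw [mul_inv_eq_one, mul_inv_eq_iff_eq_mul] at hm
    exact ha1 (eq_one_of_commute_core hCN hF (hord a (hAqA ha)) hfF hf1 (show a * f = f * a from hm.symm))
  have hdec : ∀ x : G, ∃ n ∈ N, ∃ f ∈ F, n * f = x := fun x =>
    Subgroup.mem_sup_of_normal_right.mp (hNF ▸ Subgroup.mem_top x)
  have hKN : ∀ x ∈ N, x ∈ K → x ∈ A := by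
    intro x hxN hxK
    obtain ⟨f, hf, a, ha, rfl⟩ := hKdec x hxK
    have : f ∈ N := (Subgroup.mul_mem_cancel_right N (hAN ha)).mp hxN
    rw [hNF1 f this hf, one_mul]; exact ha
  have hNA : ∀ n ∈ N, ∀ a ∈ A, n * a * n⁻¹ ∈ A := fun n hn a ha =>
    hKN _ (mul_mem (mul_mem hn (hAN ha)) (inv_mem hn))
      ((inferInstance : K.Normal).conj_mem a (hAK ha) n)
  have hcent : ∀ n ∈ N, (∀ a ∈ A, n * a * n⁻¹ = a) → n ∈ A := by
    intro n hn hc
    refine hKN n hn (Cores.centralizer_fittingSubgroup_le (Subgroup.mem_centralizer_iff.mpr ?_))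
    intro k hk
    rw [SetLike.mem_coe, ← hKb, ← hKmap] at hk
    obtain ⟨x, hx, rfl⟩ := hk
    obtain ⟨f, hf, a, ha, rfl⟩ := hKdec x hx
    rw [map_mul, (hπ0 f).mpr hf, one_mul, ← map_mul, ← map_mul]
    conv_lhs => rw [← hc a ha]
    congr 1
    group
  -- an element of order `p` in `N`
  obtain ⟨u, hu⟩ := exists_prime_orderOf_dvd_card' (G := N) p (by
    refine hidx.trans ?_
    rw [Subgroup.index_eq_card]
    refine Subgroup.card_dvd_of_surjective (π.comp N.subtype) fun x => ?_
    obtain ⟨x, rfl⟩ := QuotientGroup.mk'_surjective F x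
    obtain ⟨n, hn, f, hf, rfl⟩ := hdec x
    refine ⟨⟨n, hn⟩, ?_⟩
    show π n = π (n * f)
    rw [map_mul, (hπ0 f).mpr hf, mul_one])
  have huo : orderOf (u : G) = p ^ 1 := by rw [Subgroup.orderOf_coe, hu, pow_one]
  have hu1 : (u : G) ≠ 1 := fun h => hp.ne_one (by rw [← hu, ← Subgroup.orderOf_coe, h, orderOf_one])
  have hodd : Odd (Nat.card A) := by
    by_contra h2
    rw [Nat.not_odd_iff_even, even_iff_two_dvd] at h2
    haveI := Fact.mk Nat.prime_two
    obtain ⟨a, ha⟩ := exists_prime_orderOf_dvd_card' (G := A) 2 h2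
    have hoa : orderOf (a : G) = 2 := by rw [Subgroup.orderOf_coe, ha]
    have hob : orderOf ((u : G) * a * (u : G)⁻¹) = 2 := by
      rw [← hoa]; exact (orderOf_injective (MulAut.conj (u : G)).toMonoidHom (MulEquiv.injective _) (a : G))
    obtain ⟨i, hi⟩ := Subgroup.mem_zpowers_iff.mp
      (mem_zpowers_of_nilpotent hAn hne hFn hfpf a.2 (hNA _ u.2 _ a.2) hoa hob)
    rcases Int.even_or_odd i with ⟨j, hj⟩ | ⟨j, hj⟩
    · rw [hj, ← two_mul, zpow_mul, show ((a : G) ^ (2 : ℤ)) = 1 by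
        rw [zpow_ofNat, ← hoa, pow_orderOf_eq_one], one_zpow] at hi
      rw [← hi, orderOf_one] at hob
      exact absurd hob (by norm_num)
    · rw [hj, zpow_add, zpow_one, zpow_mul, show ((a : G) ^ (2 : ℤ)) = 1 by
        rw [zpow_ofNat, ← hoa, pow_orderOf_eq_one], one_zpow, one_mul, eq_comm, mul_inv_eq_iff_eq_mul] at hi
      have := eq_one_of_commute_pElement hCN hF hne huo hu1 (hord _ a.2) hi
      rw [this, orderOf_one] at hoa
      exact absurd hoa (by norm_num)
  haveI hAcyc : IsCyclic A := by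
    refine Frobenius.AbelianRankOne.isCyclic_of_sylow fun r _ R => ?_
    refine (FrobRealize.FPF.sylow_cyclic_or_quaternion hne hFn hfpf R).elim id ?_
    rintro ⟨rfl, n, ⟨f⟩⟩
    exfalso
    have h1 : 2 ∣ Nat.card A := by
      refine dvd_trans ?_ (Subgroup.card_subgroup_dvd_card (R : Subgroup A))
      rw [Nat.card_congr f.toEquiv, Nat.card_eq_fintype_card, QuaternionGroup.card]
      exact ⟨2 * 2 ^ n, by ring⟩
    exact Nat.not_odd_iff_even.mpr (even_iff_two_dvd.mpr h1) hodd
  -- `N / A` is abelian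
  have hcomm : ∀ n ∈ N, ∀ m ∈ N, n * m * n⁻¹ * m⁻¹ ∈ A := by
    intro n hn m hm
    obtain ⟨g, hg⟩ := IsCyclic.exists_generator (α := A)
    have key : ∀ x ∈ N, ∃ i : ℤ, ∀ a ∈ A, x * a * x⁻¹ = a ^ i := by
      intro x hx
      obtain ⟨i, hi⟩ := Subgroup.mem_zpowers_iff.mp (hg ⟨_, hNA x hx _ g.2⟩)
      refine ⟨i, fun a ha => ?_⟩
      obtain ⟨j, hj⟩ := Subgroup.mem_zpowers_iff.mp (hg ⟨a, ha⟩)
      have hj' : (g : G) ^ j = a := by simpa using congrArg Subtype.val hj
      have hi' : (g : G) ^ i = x * g * x⁻¹ := by simpa using congrArg Subtype.val hi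
      rw [← hj', ← conj_zpow, ← hi', ← zpow_mul, ← zpow_mul, mul_comm]
    obtain ⟨i, hi⟩ := key n hn
    obtain ⟨j, hj⟩ := key m hm
    refine hcent _ (mul_mem (mul_mem (mul_mem hn hm) (inv_mem hn)) (inv_mem hm)) fun a ha => ?_
    have h1 : ∀ b ∈ A, n * (m * b * m⁻¹) * n⁻¹ = m * (n * b * n⁻¹) * m⁻¹ := by
      intro b hb
      rw [hj b hb, hi b hb, hi _ (zpow_mem hb _), hj _ (zpow_mem hb _), ← zpow_mul, ← zpow_mul, mul_comm]
    set b := n⁻¹ * (m⁻¹ * a * m) * n with hb
    have hbA : b ∈ A := by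
      have h2 : m⁻¹ * a * m ∈ A := by simpa using hNA _ (inv_mem hm) a ha
      simpa [hb] using hNA _ (inv_mem hn) _ h2
    have h3 := h1 b hbA
    calc n * m * n⁻¹ * m⁻¹ * a * (n * m * n⁻¹ * m⁻¹)⁻¹
        = n * (m * b * m⁻¹) * n⁻¹ := by rw [hb]; group
      _ = m * (n * b * n⁻¹) * m⁻¹ := h3
      _ = a := by rw [hb]; group
  have hpp : ∀ n ∈ N, (orderOf n).Coprime p → n ∈ A := by
    intro m hm hmp
    set M := A ⊔ Subgroup.zpowers m with hM
    have hMN : M ≤ N := sup_le hAN (Subgroup.zpowers_le.mpr hm)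
    have hnorm : Subgroup.zpowers m ≤ Subgroup.normalizer (A : Set G) := by
      refine Subgroup.zpowers_le.mpr (Subgroup.mem_normalizer_iff.mpr fun a => ⟨hNA m hm a, fun h => ?_⟩)
      have := hNA _ (inv_mem hm) _ h
      simpa [mul_assoc] using this
    have hM' : ∀ x ∈ M, (orderOf x).Coprime p := by
      intro x hx
      obtain ⟨a, ha, b, hb, rfl⟩ : x ∈ (A : Set G) * (Subgroup.zpowers m : Set G) := by
        rw [← Subgroup.coe_mul_of_right_le_normalizer_left A _ hnorm]; exact hx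
      have h : ∀ i : ℕ, (a * b) ^ i * (b ^ i)⁻¹ ∈ A := by
        intro i
        induction i with
        | zero => simp
        | succ i ih =>
          have e : (a * b) ^ (i + 1) * (b ^ (i + 1))⁻¹ = a * (b * ((a * b) ^ i * (b ^ i)⁻¹) * b⁻¹) := by
            rw [pow_succ', pow_succ']; group
          rw [e]
          exact mul_mem ha ((Subgroup.mem_normalizer_iff.mp (hnorm hb) _).mp ih)
      have h1 := h (orderOf b)
      rw [pow_orderOf_eq_one, inv_one, mul_one] at h1
      have h2 : orderOf (a * b) ∣ orderOf b * Nat.card A := by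
        apply orderOf_dvd_of_pow_eq_one
        rw [pow_mul, ← orderOf_dvd_iff_pow_eq_one]
        exact Stabilize.orderOf_dvd_card_of_mem h1
      exact ((hmp.coprime_dvd_left (Nat.card_zpowers m ▸ Stabilize.orderOf_dvd_card_of_mem hb)).mul_left hAp').coprime_dvd_left h2
    let φ : M → A := fun x => ⟨(x : G)⁻¹ * u * x * (u : G)⁻¹, by
      simpa using hcomm _ (inv_mem (hMN x.2)) _ u.2⟩
    have hφ : Function.Injective φ := by
      intro x y hxy
      have h := congrArg Subtype.val hxy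
      simp only [φ, mul_left_inj] at h
      have hc : Commute (u : G) ((y : G) * (x : G)⁻¹) := by
        show (u : G) * ((y : G) * (x : G)⁻¹) = (y : G) * (x : G)⁻¹ * u
        calc (u : G) * ((y : G) * (x : G)⁻¹) = (y : G) * ((y : G)⁻¹ * u * y) * (x : G)⁻¹ := by group
          _ = (y : G) * ((x : G)⁻¹ * u * x) * (x : G)⁻¹ := by rw [h]
          _ = _ := by group
      have := eq_one_of_commute_pElement hCN hF hne huo hu1 (hM' _ (mul_mem y.2 (inv_mem x.2))) hc
      exact Subtype.ext (mul_inv_eq_one.mp this).symm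
    have hAM : A = M := Subgroup.eq_of_le_of_card_ge le_sup_left (Nat.card_le_card_of_injective φ hφ)
    rw [hAM]
    exact Subgroup.mem_sup_right (Subgroup.mem_zpowers m)
  have hsplit : ∀ n : G, n ∈ N → ∃ k : ℕ, n ^ (p ^ k) ∈ A := by
    intro n hn
    obtain ⟨k, m, hm, hnm⟩ := Nat.exists_eq_pow_mul_and_not_dvd (orderOf_pos n).ne' p hp.ne_one
    refine ⟨k, hpp _ (pow_mem hn _) ?_⟩
    rw [orderOf_pow_of_dvd (pow_ne_zero _ hp.ne_zero) (hnm ▸ Dvd.intro _ rfl), hnm,
      Nat.mul_div_cancel_left _ (pow_pos hp.pos _)]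
    exact (hp.coprime_iff_not_dvd.mpr hm).symm
  have hFAK : F ⊔ A = K := by
    refine le_antisymm (sup_le hFK hAK) fun x hx => ?_
    obtain ⟨f, hf, a, ha, rfl⟩ := hKdec x hx
    exact Subgroup.mul_mem_sup hf ha
  refine ⟨hne, A, hA1, hAcyc, hodd, hAp', ?_, ?_, ?_, hfpf, ?_⟩
  · rw [← hFdef, hFAK]; infer_instance
  · rw [← hFdef, hFAK]
    intro h
    have := hKN _ u.2 (h ▸ Subgroup.mem_top _)
    have := hord _ this
    rw [huo, pow_one, Nat.coprime_self] at this
    exact hp.ne_one this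
  · rw [← hFdef, hFAK]
    have hq : IsPGroup p (G ⧸ K) := by
      intro x
      obtain ⟨x, rfl⟩ := QuotientGroup.mk'_surjective K x
      obtain ⟨n, hn, f, hf, rfl⟩ := hdec x
      obtain ⟨k, hk⟩ := hsplit n hn
      refine ⟨k, ?_⟩
      rw [map_mul, show QuotientGroup.mk' K f = 1 from (QuotientGroup.eq_one_iff f).mpr (hFK hf), mul_one,
        ← map_pow]
      exact (QuotientGroup.eq_one_iff _).mpr (hAK hk)
    exact IsPGroup.iff_card.mp hq
  · intro x hx a ha ha1 hmem
    rw [← hFdef, hFAK] at hx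
    obtain ⟨n, hn, f, hf, rfl⟩ := hdec x
    have h1 : π (n * a * n⁻¹ * a⁻¹) = 1 := by
      have h2 := (hπ0 _).mpr hmem
      simp only [map_mul, map_inv, (hπ0 f).mpr hf, mul_one] at h2 ⊢
      exact h2
    have h3 : n * a * n⁻¹ * a⁻¹ = 1 := hAF _ (mul_mem (hNA n hn a ha) (inv_mem ha)) ((hπ0 _).mp h1)
    rw [mul_inv_eq_one, mul_inv_eq_iff_eq_mul] at h3
    obtain ⟨k, m, hm, hnm⟩ := Nat.exists_eq_pow_mul_and_not_dvd (orderOf_pos n).ne' p hp.ne_one
    have hm0 : m ≠ 0 := by rintro rfl; exact (orderOf_pos n).ne' (by simpa using hnm)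
    have ho : orderOf (n ^ m) = p ^ k := by
      rw [orderOf_pow_of_dvd hm0 (hnm ▸ Dvd.intro_left _ rfl), hnm, Nat.mul_div_cancel _ (Nat.pos_of_ne_zero hm0)]
    have h4 : n ^ m = 1 := by
      by_contra h5
      exact ha1 (eq_one_of_commute_pElement hCN hF hne ho h5 (hord a ha) ((show Commute n a from h3).pow_left m))
    apply hx
    refine mul_mem (hAK (hpp n hn ?_)) (hFK hf)
    exact ((hp.coprime_iff_not_dvd.mpr hm).symm).coprime_dvd_left (orderOf_dvd_of_pow_eq_one h4)

end

/-- A fixed point free solvable CN-group is nilpotent. -/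
theorem isNilpotent_complement [Group.IsSolvable G] (hCN : Cfsg.IsCNGroup G) {K E : Subgroup G} [K.Normal]
    (hKn : Group.IsNilpotent K) (hK : K ≠ ⊥)
    (hfpf : ∀ a ∈ E, a ≠ 1 → K ⊓ Subgroup.centralizer ({a} : Set G) = ⊥) : Group.IsNilpotent E := by
  have hEK : E ≤ Subgroup.normalizer (K : Set G) := by rw [Subgroup.normalizer_eq_top]; exact le_top
  set A := Cfsg.fittingOf E with hA
  have hAE : A ≤ E := Basic.fittingOf_le
  have hAn : Group.IsNilpotent A := Basic.fittingOf_isNilpotent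
  have huniq : ∀ {q : ℕ} [Fact q.Prime] {a b : G}, a ∈ A → b ∈ A → orderOf a = q → orderOf b = q →
      b ∈ Subgroup.zpowers a := fun ha hb hoa hob =>
    mem_zpowers_of_nilpotent hAn hK (hAE.trans hEK) (fun a ha => hfpf a (hAE ha)) ha hb hoa hob
  have hAconj : ∀ e ∈ E, ∀ a ∈ A, e * a * e⁻¹ ∈ A := fun e he a ha =>
    (Subgroup.mem_normalizer_iff.mp (Basic.le_normalizer_fittingOf he) a).mp ha
  have hoconj : ∀ e a : G, orderOf (e * a * e⁻¹) = orderOf a := fun e a =>
    orderOf_injective (MulAut.conj e).toMonoidHom (MulEquiv.injective _) a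
  have hD : ∀ {q : ℕ} [Fact q.Prime] {a : G}, a ∈ A → orderOf a = q →
      E ⊓ Subgroup.centralizer ({a} : Set G) ≤ A := by
    intro q _ a ha hoa
    have ha1 : a ≠ 1 := fun h => (Fact.out : q.Prime).ne_one (by rw [← hoa, h, orderOf_one])
    set D := E ⊓ Subgroup.centralizer ({a} : Set G) with hD
    haveI := hCN a ha1
    have hDn : Group.IsNilpotent D := CN.isNilpotent_of_le (K := Subgroup.centralizer ({a} : Set G)) inf_le_right
    haveI : (D.subgroupOf E).Normal := by
      refine ⟨fun d hd e => ⟨(e * d * e⁻¹).2, Subgroup.mem_centralizer_singleton_iff.mpr ?_⟩⟩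
      set a' := (e : G) * a * (e : G)⁻¹ with ha'
      obtain ⟨i, hi⟩ := Subgroup.mem_zpowers_iff.mp
        (huniq (hAconj _ e.2 _ ha) ha ((hoconj _ a).trans hoa) hoa : a ∈ Subgroup.zpowers a')
      have h : Commute ((e : G) * (d : G) * (e : G)⁻¹) a' :=
        Commute.conj_iff _ |>.mpr (Subgroup.mem_centralizer_singleton_iff.mp hd.2)
      have h2 := h.zpow_right i
      rw [hi] at h2
      exact h2.eq
    haveI : Group.IsNilpotent (D.subgroupOf E) :=
      Group.nilpotent_of_mulEquiv (Subgroup.subgroupOfEquivOfLe (inf_le_left : D ≤ E)).symm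
    have h := Cores.le_fittingSubgroup (N := D.subgroupOf E) inferInstance
    rw [← Basic.subgroupOf_fittingOf] at h
    exact fun x hx => h (show (⟨x, hx.1⟩ : E) ∈ D.subgroupOf E from hx)
  suffices hEA : E ≤ A by rw [show E = A from le_antisymm hEA hAE]; exact hAn
  by_cases hE1 : E = ⊥
  · rw [hE1]; exact bot_le
  have hA1 : A ≠ ⊥ := by
    intro h
    apply hE1
    have h0 : Cfsg.fittingSubgroup E = ⊥ := by
      rw [← Basic.subgroupOf_fittingOf, ← hA, h, Subgroup.bot_subgroupOf]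
    rw [eq_bot_iff]
    intro x hx
    have h2 : (⟨x, hx⟩ : E) ∈ Cfsg.fittingSubgroup E :=
      Cores.centralizer_fittingSubgroup_le (by rw [h0]; simp [Subgroup.mem_centralizer_iff])
    rw [h0, Subgroup.mem_bot] at h2
    exact congrArg Subtype.val h2
  obtain ⟨q, hq, hqd⟩ := Nat.exists_prime_and_dvd (fun h => hA1 (Subgroup.card_eq_one.mp h))
  haveI := Fact.mk hq
  obtain ⟨⟨a, ha⟩, hoa⟩ := exists_prime_orderOf_dvd_card' (G := A) q hqd
  rw [Subgroup.orderOf_mk] at hoa
  have hnorm : ∀ x ∈ E, x ∈ Subgroup.normalizer (Subgroup.zpowers a : Set G) := by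
    intro x hx
    rw [← Subgroup.zpowers_le]
    refine Subgroup.zpowers_le.mpr ?_
    have key : ∀ y ∈ E, ∀ z ∈ Subgroup.zpowers a, y * z * y⁻¹ ∈ Subgroup.zpowers a := by
      intro y hy z hz
      obtain ⟨i, rfl⟩ := Subgroup.mem_zpowers_iff.mp hz
      rw [← conj_zpow]
      exact zpow_mem (huniq ha (hAconj y hy a ha) hoa ((hoconj y a).trans hoa)) i
    refine Subgroup.mem_normalizer_iff.mpr fun z => ⟨key x hx z, fun h => ?_⟩
    have := key _ (inv_mem hx) _ h
    simpa [mul_assoc] using this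
  -- every element of prime order lies in the Fitting subgroup
  have hprime : ∀ x ∈ E, ∀ r : ℕ, r.Prime → orderOf x = r → x ∈ A := by
    intro x hx r hr hox
    haveI := Fact.mk hr
    by_cases hqr : r = q
    · subst hqr
      have hW : IsPGroup r (Subgroup.zpowers a ⊔ Subgroup.zpowers x : Subgroup G) :=
        (IsPGroup.of_card (n := 1) (by rw [Nat.card_zpowers, hoa, pow_one])).to_sup_of_normal_left'
          (IsPGroup.of_card (n := 1) (by rw [Nat.card_zpowers, hox, pow_one]))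
          (Subgroup.zpowers_le.mpr (hnorm x hx))
      have hWE : Subgroup.zpowers a ⊔ Subgroup.zpowers x ≤ E :=
        sup_le (Subgroup.zpowers_le.mpr (hAE ha)) (Subgroup.zpowers_le.mpr hx)
      exact Subgroup.zpowers_le.mpr ha (mem_zpowers_of_pGroup hW hK (hWE.trans hEK) (fun b hb => hfpf b (hWE hb))
        (Subgroup.mem_sup_left (Subgroup.mem_zpowers a)) (Subgroup.mem_sup_right (Subgroup.mem_zpowers x))
        hoa (by rw [← hox, pow_orderOf_eq_one]))
    · -- the centre of the kernel is abelian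
      set V := (Subgroup.center K).map K.subtype with hV
      haveI : Group.IsNilpotent K := hKn
      haveI : IsMulCommutative V := Subgroup.map_isMulCommutative _ _
      haveI : V.Normal := inferInstance
      have hVK : V ≤ K := Subgroup.map_subtype_le _
      have hV1 : V ≠ ⊥ := by
        haveI := (Subgroup.nontrivial_iff_ne_bot K).mpr hK
        rw [hV, Ne, Subgroup.map_eq_bot_iff_of_injective _ K.subtype_injective]
        intro h
        exact (Group.IsNilpotent.center_ne_bot (G := K)) h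
      have hfV : ∀ g ∈ E, g ≠ 1 → V ⊓ Subgroup.centralizer ({g} : Set G) = ⊥ := fun g hg hg1 =>
        le_bot_iff.mp ((inf_le_inf_right _ hVK).trans (hfpf g hg hg1).le)
      have hfV' : ∀ g ∈ E, g ≠ 1 → ∀ z ∈ V, g * z = z * g → z = 1 := by
        intro g hg hg1 z hz hc
        have h : z ∈ V ⊓ Subgroup.centralizer ({g} : Set G) := ⟨hz, Subgroup.mem_centralizer_singleton_iff.mpr hc.symm⟩
        rwa [hfV g hg hg1, Subgroup.mem_bot] at h
      have hc := FixedPointFree.commute_of_normalizes (N := V) (E := E) inferInstance hV1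
        (FrobRealize.FPF.coprime_card (by rw [Subgroup.normalizer_eq_top]; exact le_top) hfV)
        hfV' (hAE ha) hx hoa hox (Ne.symm hqr) (hnorm x hx)
      exact hD ha hoa ⟨hx, Subgroup.mem_centralizer_singleton_iff.mpr hc.eq⟩
  intro g hg
  by_cases hg1 : g = 1
  · rw [hg1]; exact one_mem _
  obtain ⟨r, n, hr, hrn⟩ := CN.exists_prime_order_pow hg1
  haveI := Fact.mk hr
  exact hD (hprime _ (pow_mem hg n) r hr hrn) hrn
    ⟨hg, Subgroup.mem_centralizer_singleton_iff.mpr (Commute.self_pow g n).eq⟩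

/-- The shape of a nilpotent fixed point free group. -/
theorem complement_shape {K E : Subgroup G} (hK : K ≠ ⊥) (hEK : E ≤ Subgroup.normalizer (K : Set G))
    (hfpf : ∀ a ∈ E, a ≠ 1 → K ⊓ Subgroup.centralizer ({a} : Set G) = ⊥) (hEn : Group.IsNilpotent E) :
    IsCyclic E ∨ ∃ C Q : Subgroup G, C ⊔ Q = E ∧ (∀ a ∈ C, ∀ b ∈ Q, a * b = b * a) ∧ IsCyclic C ∧
      Odd (Nat.card C) ∧ ∃ n : ℕ, Nonempty (↥Q ≃* QuaternionGroup (2 ^ n)) := by
  haveI := Fact.mk Nat.prime_two
  obtain ⟨S⟩ : Nonempty (Sylow 2 E) := inferInstance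
  haveI hSn : (S : Subgroup E).Normal :=
    sylow_normal hEn S
  rcases FrobRealize.FPF.sylow_cyclic_or_quaternion hK hEK hfpf S with hc | ⟨-, n, ⟨f⟩⟩
  · left
    refine Frobenius.AbelianRankOne.isCyclic_of_sylow fun r _ R => ?_
    refine (FrobRealize.FPF.sylow_cyclic_or_quaternion hK hEK hfpf R).elim id ?_
    rintro ⟨rfl, -⟩
    haveI : Subsingleton (Sylow 2 E) := by
      haveI := Sylow.unique_of_normal S hSn
      infer_instance
    rw [Subsingleton.elim R S]; exact hc
  right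
  obtain ⟨C₀, hC₀⟩ := Subgroup.exists_right_complement'_of_coprime S.card_coprime_index
  set C := C₀.map E.subtype with hC
  set Q := (S : Subgroup E).map E.subtype with hQ
  have hCE : C ≤ E := Subgroup.map_subtype_le _
  have hCc : Nat.card C = (S : Subgroup E).index := by
    rw [hC, Subgroup.card_map_of_injective E.subtype_injective]; exact hC₀.symm.index_eq_card.symm
  have hodd : Odd (Nat.card C) := by
    rw [hCc, ← Nat.not_even_iff_odd, even_iff_two_dvd]; exact S.not_dvd_index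
  have hcop : (Nat.card C).Coprime (Nat.card Q) := by
    rw [hCc, hQ, Subgroup.card_map_of_injective E.subtype_injective]; exact S.card_coprime_index.symm
  haveI : Group.IsNilpotent C := CN.isNilpotent_of_le hCE
  refine ⟨C, Q, ?_, fun a ha b hb => ?_, ?_, hodd, n,
    ⟨((S : Subgroup E).equivMapOfInjective E.subtype E.subtype_injective).symm.trans f⟩⟩
  · rw [hC, hQ, ← Subgroup.map_sup, sup_comm, hC₀.sup_eq_top, ← MonoidHom.range_eq_map, Subgroup.range_subtype]
  · exact (Basic.commute_of_mem_nilpotent (hCE ha) (Subgroup.map_subtype_le _ hb) (Nat.Coprime.of_dvd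
      (Stabilize.orderOf_dvd_card_of_mem ha) (Stabilize.orderOf_dvd_card_of_mem hb) hcop)).eq
  · refine Frobenius.AbelianRankOne.isCyclic_of_sylow fun r _ R => ?_
    refine (FrobRealize.FPF.sylow_cyclic_or_quaternion hK (hCE.trans hEK) (fun a ha => hfpf a (hCE ha)) R).elim id ?_
    rintro ⟨rfl, m, ⟨f'⟩⟩
    exfalso
    have h1 : 2 ∣ Nat.card C := by
      refine dvd_trans ?_ (Subgroup.card_subgroup_dvd_card (R : Subgroup C))
      rw [Nat.card_congr f'.toEquiv, Nat.card_eq_fintype_card, QuaternionGroup.card]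
      exact ⟨2 * 2 ^ m, by ring⟩
    exact Nat.not_odd_iff_even.mpr (even_iff_two_dvd.mpr h1) hodd

/-- A complement to a nilpotent normal subgroup containing the centralizers of its elements is a
Frobenius complement. -/
theorem isFrobeniusComplement_of_centralizer_le {K E : Subgroup G} [K.Normal]
    (hc : Subgroup.IsComplement' K E) (hK : K ≠ ⊥) (hKt : K ≠ ⊤)
    (hfpf : ∀ a ∈ E, a ≠ 1 → K ⊓ Subgroup.centralizer ({a} : Set G) = ⊥) : Cfsg.IsFrobeniusComplement E := by
  refine ⟨?_, ?_, fun g hg => ?_⟩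
  · rintro rfl
    exact hKt (Subgroup.isComplement'_bot_right.mp hc)
  · rintro rfl
    exact hK (Subgroup.isComplement'_top_right.mp hc)
  rw [eq_bot_iff]
  intro x hx
  rw [Subgroup.mem_bot]
  by_contra hx1
  obtain ⟨⟨k, e⟩, hke⟩ := hc.2 g
  simp only at hke
  subst hke
  have hxg : ((k : G) * e)⁻¹ * x * ((k : G) * e) ∈ E := Solvable.Basic.mem_conj_smul.mp hx.2
  set y := (k : G)⁻¹ * x * k with hy
  have hyE : y ∈ E := by
    have := mul_mem (mul_mem e.2 hxg) (inv_mem e.2)
    convert this using 1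
    rw [hy]; group
  have h1 : x⁻¹ * y = 1 := by
    have hKm : x⁻¹ * y ∈ K := by
      have e1 : x⁻¹ * y = (x⁻¹ * (k : G)⁻¹ * x) * k := by rw [hy]; group
      rw [e1]
      refine mul_mem ?_ k.2
      have := (inferInstance : K.Normal).conj_mem _ (inv_mem k.2) x⁻¹
      rwa [inv_inv] at this
    exact Subgroup.mem_bot.mp (hc.disjoint.le_bot ⟨hKm, (mul_mem (inv_mem hx.1) hyE : x⁻¹ * y ∈ E)⟩)
  rw [inv_mul_eq_one, hy, mul_assoc, eq_inv_mul_iff_mul_eq] at h1
  have hk : (k : G) ∈ K ⊓ Subgroup.centralizer ({x} : Set G) :=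
    ⟨k.2, Subgroup.mem_centralizer_singleton_iff.mpr h1⟩
  rw [hfpf x hx.1 hx1, Subgroup.mem_bot] at hk
  exact hg (by rw [hk, one_mul]; exact e.2)

/-- The structure theorem for solvable CN-groups. -/
theorem trichotomy [Group.IsSolvable G] (hCN : Cfsg.IsCNGroup G) :
    Group.IsNilpotent G ∨
      (∃ K E : Subgroup G, K.Normal ∧ Subgroup.IsComplement' K E ∧ Cfsg.IsFrobeniusComplement E ∧
        (IsCyclic E ∨ ∃ C Q : Subgroup G, C ⊔ Q = E ∧ (∀ a ∈ C, ∀ b ∈ Q, a * b = b * a) ∧ IsCyclic C ∧ Odd (Nat.card C) ∧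
          ∃ n : ℕ, Nonempty (↥Q ≃* QuaternionGroup (2 ^ n)))) ∨
      ∃ p : ℕ, p.Prime ∧ Cfsg.IsThreeStepGroup p G := by
  by_cases hn : Group.IsNilpotent G
  · exact Or.inl hn
  right
  haveI : Nontrivial G := by
    by_contra h
    rw [not_nontrivial_iff_subsingleton] at h
    exact hn inferInstance
  by_cases hH : Cfsg.fittingHall G = ⊥
  · right
    obtain ⟨p, hp, hF, hne, hidx⟩ := exists_prime_fitting hCN hH
    haveI := Fact.mk hp
    exact ⟨p, hp, threeStep hCN hF hne hidx⟩
  left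
  set K := Cfsg.fittingHall G with hK
  have hKt : K ≠ ⊤ := by
    intro h
    haveI := Basic.fittingHall_isNilpotent (G := G)
    exact hn (Group.isNilpotent_top.mp (h ▸ (inferInstance : Group.IsNilpotent K)))
  obtain ⟨E, hE⟩ := Subgroup.exists_right_complement'_of_coprime (Basic.fittingHall_coprime (G := G))
  have hfpf : ∀ a ∈ E, a ≠ 1 → K ⊓ Subgroup.centralizer ({a} : Set G) = ⊥ := by
    intro a ha ha1
    rw [eq_bot_iff]
    intro x hx
    rw [Subgroup.mem_bot]
    by_contra hx1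
    have h := centralizer_le_fittingHall hCN hx.1 hx1
      (Subgroup.mem_centralizer_singleton_iff.mpr (Subgroup.mem_centralizer_singleton_iff.mp hx.2).symm : a ∈ _)
    exact ha1 (Subgroup.mem_bot.mp (hE.disjoint.le_bot ⟨h, ha⟩))
  have hEn := isNilpotent_complement hCN (Basic.fittingHall_isNilpotent (G := G)) hH hfpf
  exact ⟨K, E, inferInstance, hE, isFrobeniusComplement_of_centralizer_le hE hH hKt hfpf,
    complement_shape hH (by rw [Subgroup.normalizer_eq_top]; exact le_top) hfpf hEn⟩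

end CfsgLib.OddOrder.CNSolvable
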