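import Cfsg.Agent.Lib.OddOrder.CNTheorem
import Cfsg.Prelude.Def_OddOrder

set_option autoImplicit false

/-!
By the CN theorem there is no minimal simple CN-group of odd order.
-/

namespace CfsgLib.OddOrder.CNVacuous

theorem not_minSimple {G : Type*} [Group G] [Finite G] (hG : Cfsg.IsMinSimpleOddOrder G) (hCN : Cfsg.IsCNGroup G) :
    False := by
  haveI := hG.2.1
  haveI := CNTheorem.isSolvable hG.1 hCN
  haveI : Nontrivial G := IsSimpleGroup.toNontrivial
  rcases (inferInstance : (_root_.commutator G).Normal).eq_bot_or_eq_top with h | h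
  · refine hG.2.2.1 ⟨⟨fun a b => commutatorElement_eq_one_iff_mul_comm.mp ?_⟩⟩
    exact Subgroup.mem_bot.mp (h ▸ Subgroup.commutator_mem_commutator (Subgroup.mem_top a) (Subgroup.mem_top b))
  · exact (Group.IsSolvable.commutator_lt_top_of_nontrivial G).ne h

end CfsgLib.OddOrder.CNVacuous
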