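import Cfsg.Agent.Lib.OddOrder.SigmaIntersection
import Mathlib

set_option autoImplicit false
set_option linter.style.haveILetI false
set_option linter.unusedSectionVars false

/-!
`σ(M)`-subgroups of `G` are conjugate into `M_σ`.
-/

namespace CfsgLib.OddOrder.SigmaConjugate

open SigmaFusion (cj)

variable {G : Type*} [Group G] [Finite G] {M : Subgroup G}

theorem exists_pCore_ne_bot {H : Type*} [Group H] [Finite H] [Group.IsSolvable H] [Nontrivial H] :
    ∃ q : ℕ, q.Prime ∧ Cfsg.pCore q H ≠ ⊥ := by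
  by_contra hcon
  push Not at hcon
  refine Solvable.Cores.fittingSubgroup_ne_bot (G := H) ?_
  rw [Solvable.Cores.fittingSubgroup_eq_iSup_pCore]
  exact le_bot_iff.mp (iSup_le fun q => (hcon q q.2).le)

theorem main (hG : Cfsg.IsMinSimpleOddOrder G) (hM : IsCoatom M) {Y : Subgroup G} (hY1 : Y ≠ ⊥)
    (hY : ∀ t : ℕ, t.Prime → t ∣ Nat.card Y → t ∈ Cfsg.sigma M) :
    ∃ g : G, cj g Y ≤ Cfsg.sigmaCore M := by
  suffices h : ∃ g : G, cj g Y ≤ M by
    obtain ⟨g, hg⟩ := h
    exact ⟨g, SigmaTools.le_sigmaCore hG hM hg fun t ht hd => hY t ht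
      (by rwa [Subgroup.card_map_of_injective (MulAut.conj g).injective] at hd)⟩
  have hYtop : Y ≠ ⊤ := fun e => by
    subst e
    refine hM.1 (Subgroup.eq_top_of_card_eq M (Nat.dvd_antisymm M.card_subgroup_dvd_card ?_))
    refine Nat.Coprime.dvd_of_dvd_mul_right (n := M.index) ?_ (by rw [M.card_mul_index])
    refine Nat.coprime_of_dvd fun t ht h1 h2 => ?_
    haveI := Fact.mk ht
    exact SigmaBasics.not_dvd_index (hY t ht (by rwa [Subgroup.card_top])) h2
  haveI : Group.IsSolvable Y := hG.2.2.2 Y hYtop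
  haveI : Nontrivial Y := (Subgroup.nontrivial_iff_ne_bot _).mpr hY1
  obtain ⟨q, hq, hne⟩ := exists_pCore_ne_bot (H := Y)
  haveI := Fact.mk hq
  set X := (Cfsg.pCore q Y).map Y.subtype with hX
  have hXY : X ≤ Y := Subgroup.map_subtype_le _
  have hXp : IsPGroup q X := (Solvable.Cores.isPGroup_pCore q).map _
  have hXb : X ≠ ⊥ := fun e => hne ((Subgroup.map_eq_bot_iff_of_injective _ Y.subtype_injective).mp e)
  have hqs : q ∈ Cfsg.sigma M := hY q hq
    ((hXp.card_eq_or_dvd.resolve_left fun e => hXb (Subgroup.eq_bot_of_card_eq _ e)).trans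
      (Subgroup.card_dvd_of_le hXY))
  obtain ⟨P, hPM, -⟩ := SigmaFusion.exists_sylow_sigma hqs
  obtain ⟨Q, hQ⟩ := hXp.exists_le_sylow
  obtain ⟨x, hx⟩ := MulAction.exists_smul_eq G Q P
  have hxM : cj x X ≤ M := by
    refine le_trans ?_ hPM
    rw [← hx, Sylow.coe_subgroup_smul]
    exact Subgroup.map_mono hQ
  have hn : Y ≤ Subgroup.normalizer (X : Set G) := by
    have h := Subgroup.le_normalizer_map (H := Cfsg.pCore q Y) Y.subtype
    rwa [Subgroup.normalizer_eq_top (H := Cfsg.pCore q Y), ← MonoidHom.range_eq_map, Subgroup.range_subtype] at h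
  obtain ⟨g, hg⟩ := SigmaIntersection.conj_le_of_normal hG hM hqs (X := cj x X) (Y := cj x Y)
    (fun t ht hd => hY t ht (by rwa [Subgroup.card_map_of_injective (MulAut.conj x).injective] at hd))
    (hXp.map _) (fun e => hXb ((Subgroup.map_eq_bot_iff_of_injective _ (MulAut.conj x).injective).mp e)) hxM
    ((Subgroup.map_mono hn).trans (Subgroup.le_normalizer_map _))
  exact ⟨g * x, SigmaFusion.cj_cj g x Y ▸ hg⟩

end CfsgLib.OddOrder.SigmaConjugate
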