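import Cfsg.Agent.Lib.OddOrder.PrimeActionMain
import Cfsg.Agent.Lib.OddOrder.SigmaConjugate
import Mathlib

set_option autoImplicit false
set_option linter.style.haveILetI false
set_option linter.unusedSectionVars false

/-!
Two non-conjugate maximal subgroups have no common element of prime order outside both `σ`-sets moving, on each
side, a subgroup centralised by the `β`-part of the other side.
-/

namespace CfsgLib.OddOrder.CommonMover

open scoped commutatorElement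
open SigmaFusion (cj)

variable {G : Type*} [Group G] [Finite G] {p t : ℕ} [hp : Fact p.Prime] [htf : Fact t.Prime]
  {M L P A A' : Subgroup G}

/-- One side of the configuration: `P` of order `p` moves `A`, which is normalised by `P` and pins down `L`. -/
structure Side (p : ℕ) (M L P A : Subgroup G) : Prop where
  hM : IsCoatom M
  hL : IsCoatom L
  not_conj : ∀ g : G, L ≠ cj g M
  hP : Nat.card P = p
  hPM : P ≤ M
  hpM : p ∉ Cfsg.sigma M
  hr1 : Cfsg.PRankLE p 1 M
  hAM : A ≤ M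
  hPA : P ≤ Subgroup.normalizer (A : Set G)
  fpf : A ⊓ Subgroup.centralizer (P : Set G) = ⊥
  hAcop : ∀ s : ℕ, s ∈ Cfsg.beta M → ¬ s ∣ Nat.card A
  hC : Subgroup.centralizer (A : Set G) ≤ L
  hK : Cfsg.piCoreOf (Cfsg.beta M) M ⊓ L ≤ Subgroup.centralizer (A : Set G)
  compl : ∃ E : Subgroup G, Cfsg.IsComplIn E (Cfsg.sigmaCore M) M ∧ E ≤ L ∧ P ≤ E
  beta : ∃ s : ℕ, s ∈ Cfsg.beta M

/-- A `P S`-invariant Sylow `t`-subgroup of `M_β` has fixed points of order `t` moved by `S`. -/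
theorem Side.exists_moved (hG : Cfsg.IsMinSimpleOddOrder G) (h : Side p M L P A) (htb : t ∈ Cfsg.beta M)
    {U : Subgroup G} (hU : U ≤ Cfsg.piCoreOf (Cfsg.beta M) M) (hUt : IsPGroup t U)
    (hUn : A ⊔ P ≤ Subgroup.normalizer (U : Set G)) :
    ∃ T : Subgroup G, IsPGroup t T ∧ T ≤ M ∧ U ≤ T ∧ IsCyclic ↥(T ⊓ Subgroup.centralizer (P : Set G)) ∧
      ∃ c ∈ T ⊓ Subgroup.centralizer (P : Set G), c ^ t = 1 ∧
        c ∉ Subgroup.centralizer (A : Set G) := by
  set K := Cfsg.piCoreOf (Cfsg.beta M) M with hK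
  have hts := SigmaBasics.mem_sigma_of_alpha hG h.hM htb.1
  have ht2 : t ≠ 2 := SigmaEmbedding.ne_two hG hts
  have htp : p ≠ t := fun e => h.hpM (e ▸ hts)
  have hKM : K ≤ M := Subgroup.map_subtype_le _
  have hAM : A ⊔ P ≤ M := sup_le h.hAM h.hPM
  have hPp : IsPGroup p P := IsPGroup.of_card (n := 1) (by rw [h.hP, pow_one])
  have hcop : (Nat.card ↥(A ⊔ P)).Coprime (Nat.card K) := Nat.coprime_of_dvd fun s hs h1 h2 => by
    have hsb : s ∈ Cfsg.beta M := SigmaBasics.mem_of_dvd_piCore hs (BetaCore.card_eq M _ ▸ h2)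
    haveI := Fact.mk hs
    have hbot : Disjoint A P := by
      haveI : IsCyclic P := isCyclic_of_prime_card (p := p) h.hP
      exact disjoint_iff_inf_le.mpr ((inf_le_inf_left _ P.le_centralizer).trans h.fpf.le)
    rw [Coprime.card_sup_of_le_normalizer h.hPA hbot] at h1
    rcases hs.dvd_mul.mp h1 with hh | hh
    · exact h.hAcop s hsb hh
    · exact h.hpM (PrimeAction.pGroup_dvd hPp hs hh ▸ SigmaBasics.mem_sigma_of_alpha hG h.hM hsb.1)
  obtain ⟨W, hUW, hAW⟩ := Coprime.exists_le_invariant_sylow (U := U)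
    (hAM.trans (Transitivity.le_normalizer_piCoreOf _ M)) hcop
    (Or.inr (hG.2.2.2 K fun e => h.hM.1 (top_le_iff.mp (e ▸ hKM)))) hU hUt hUn
  set T := (W : Subgroup K).map K.subtype with hT
  have hTp : IsPGroup t T := W.isPGroup'.map _
  have hTM : T ≤ M := (Subgroup.map_subtype_le _).trans hKM
  obtain ⟨E₂, hE₂T, hE₂e, hE₂3⟩ : ∃ E₂ : Subgroup G, E₂ ≤ T ∧ Cfsg.IsElementaryAbelian t E₂ ∧ t ^ 3 ≤ Nat.card E₂ := by
    obtain ⟨E, hEM, hEe, hE3⟩ := UniqueTools.exists_isEA_of_not_rankLE htb.1.2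
    have hr : ¬ Cfsg.PRankLE t 2 (W : Subgroup K) := fun hr => UniqueTools.not_pRankLE_of_isEA hEe hE3
      (PrimeAction.le_betaCore hG h.hM htb (Fusion.Thompson.isPGroup_isEA hEe) hEM) (SigmaFusion.pRankLE_of_sylow W hr)
    obtain ⟨E₁, hle, he, h3⟩ := UniqueTools.exists_isEA_of_not_rankLE hr
    exact ⟨E₁.map K.subtype, Subgroup.map_mono hle, Fusion.Thompson.isEA_map _ he,
      by rwa [Subgroup.card_map_of_injective K.subtype_injective]⟩
  obtain ⟨H, hH, hNP⟩ := Uniqueness.exists_coatom_normalizer (p := p) hG.2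
    (fun (e : P = ⊥) => hp.out.ne_one (by rw [← h.hP, e, Subgroup.card_bot])) hPp
  have htH : t ∉ Cfsg.sigma H := fun hs => by
    obtain ⟨y, hy⟩ := SigmaTools.exists_cj_of_alpha hG h.hM hH htb.1 hs
    obtain ⟨⟨-, hr1⟩, -⟩ := TauTwo.of_normalizer_le hG hH (hy ▸ SigmaTools.not_sigma_cj h.hpM y) h.hP hNP
    obtain ⟨A₁, hA₁H, hA₁e, hA₁c⟩ := UniqueTools.exists_isEA_of_not_rankLE hr1
    refine UniqueTools.not_pRankLE_of_isEA (Fusion.Thompson.isEA_map (MulAut.conj y⁻¹).toMonoidHom hA₁e)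
      (by rwa [Subgroup.card_map_of_injective (MulAut.conj y⁻¹).injective]) ?_
      h.hr1
    refine (Subgroup.map_mono hA₁H).trans (le_of_eq ?_)
    show cj y⁻¹ H = M
    rw [hy, SigmaFusion.cj_cj, inv_mul_cancel, SigmaFusion.cj_one]
  have hr2 : Cfsg.PRankLE t 2 H := by
    by_contra hcon
    exact htH (SigmaBasics.mem_sigma_of_alpha hG hH ⟨htb.1.1, hcon⟩)
  have hCPH : Subgroup.centralizer (P : Set G) ≤ H := (Subgroup.centralizer_le_normalizer _).trans hNP
  have hcyc : IsCyclic ↥(T ⊓ Subgroup.centralizer (P : Set G)) := by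
    by_contra hnc
    obtain ⟨B, hB, hBe, hBc⟩ := UniqueTools.exists_isEA_sq ht2 (hTp.to_le inf_le_left) hnc
    exact TauTwo.not_ideal hG hH hr2
      (UniqueTools.not_pRankLE_of_isEA hBe hBc (hB.trans (inf_le_right.trans hCPH))) htb.2
  refine ⟨T, hTp, hTM, hUW, hcyc, ?_⟩
  by_contra hcon
  push Not at hcon
  obtain ⟨x, hxP, hxo, hxe⟩ := PrimeAction.exists_gen h.hP
  have hCx : Subgroup.centralizer ({x} : Set G) = Subgroup.centralizer (P : Set G) := by
    rw [← SigmaTools.centralizer_zpowers, hxe]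
  have hSC := PrimeActionTools.centralizes_of_cyclic_fix ht2 hTp hp.out (by rw [← hxo, pow_orderOf_eq_one]) htp
    (le_sup_left.trans hAW) ((le_sup_right.trans hAW) hxP) (h.hPA hxP) (hCx.symm ▸ h.fpf)
    (htb.1.1.coprime_iff_not_dvd.mpr (h.hAcop t htb)).symm (hCx.symm ▸ hcyc) (hCx.symm ▸ hcon)
  obtain ⟨V, -, hV⟩ := UniquenessTheorem.rank_three hG hE₂e hE₂3
  refine h.not_conj 1 ?_
  rw [SigmaFusion.cj_one, hV L ⟨h.hL, hE₂T.trans ((Subgroup.le_centralizer_iff.mp hSC).trans h.hC)⟩,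
    hV M ⟨h.hM, hE₂T.trans hTM⟩]

/-- (a): `t` divides `|C_M(P)|`. -/
theorem Side.exists_fixed (hG : Cfsg.IsMinSimpleOddOrder G) (h : Side p M L P A) (htb : t ∈ Cfsg.beta M) :
    ∃ c ∈ M ⊓ Subgroup.centralizer (P : Set G), orderOf c = t := by
  obtain ⟨T, -, hTM, -, -, c, hc, hct, hcS⟩ := h.exists_moved hG htb (U := ⊥) bot_le IsPGroup.of_bot
    (fun a _ => Subgroup.mem_normalizer_iff.mpr fun z => by simp)
  exact ⟨c, ⟨hTM hc.1, hc.2⟩, orderOf_eq_prime hct fun e => hcS (e ▸ one_mem _)⟩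

/-- (b): no element of order `t` in `M ∩ L` centralises `P`. -/
theorem Side.no_fixed (hG : Cfsg.IsMinSimpleOddOrder G) (h : Side p M L P A) (htb : t ∈ Cfsg.beta M) {c : G}
    (hcM : c ∈ M) (hcL : c ∈ L) (hcP : c ∈ Subgroup.centralizer (P : Set G)) (hco : orderOf c = t) : False := by
  set U := Subgroup.zpowers c with hU
  have hUc : Nat.card U = t := by rw [hU, Nat.card_zpowers, hco]
  have hUp : IsPGroup t U := IsPGroup.of_card (n := 1) (by rw [hUc, pow_one])
  have hUK := PrimeAction.le_betaCore hG h.hM htb hUp (Subgroup.zpowers_le.mpr hcM)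
  have hUS : U ≤ Subgroup.centralizer (A : Set G) :=
    (le_inf hUK (Subgroup.zpowers_le.mpr hcL)).trans
      (h.hK)
  have hUP : U ≤ Subgroup.centralizer (P : Set G) := Subgroup.zpowers_le.mpr hcP
  obtain ⟨T, -, -, hUT, hcyc, d, hd, hdt, hdS⟩ := h.exists_moved hG htb hUK hUp
    ((sup_le (Subgroup.le_centralizer_iff.mp hUS) (Subgroup.le_centralizer_iff.mp hUP)).trans
      (Subgroup.centralizer_le_normalizer _))
  haveI := hcyc
  refine hdS (hUS ?_)
  rw [← Solvable.SupersolvableCriteria.eq_of_card_eq_of_le_cyclic (A := T ⊓ Subgroup.centralizer (P : Set G))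
    (Subgroup.zpowers_le.mpr hd) (le_inf hUT hUP)
    (by rw [Nat.card_zpowers, hUc, orderOf_eq_prime hdt fun e => hdS (e ▸ one_mem _)])]
  exact Subgroup.mem_zpowers d

/-- A Hall `π`-subgroup of a proper subgroup `C` with nontrivial `t`-core, `t ∈ β(M)`, conjugates into `M` when
`C` meets `M` in an element of order `t`. -/
theorem exists_elem (hG : Cfsg.IsMinSimpleOddOrder G) (hM : IsCoatom M) (htb : t ∈ Cfsg.beta M) {C J : Subgroup G}
    {π : Set ℕ} (hC : C ≠ ⊤) (hJ : Cfsg.IsPiHallOf π J C) (hne : Cfsg.pCore t J ≠ ⊥) (htπ : t ∈ π)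
    {c : G} (hcM : c ∈ M) (hcC : c ∈ C) (hco : orderOf c = t) {u : ℕ} [Fact u.Prime] (huπ : u ∈ π)
    (huC : u ∣ Nat.card C) : ∃ z ∈ M ⊓ C, orderOf z = u := by
  have hts := SigmaBasics.mem_sigma_of_alpha hG hM htb.1
  have hsol := hG.2.2.2 C hC
  set V := Subgroup.zpowers c with hV
  have hVc : Nat.card V = t := by rw [hV, Nat.card_zpowers, hco]
  have hVp : IsPGroup t V := IsPGroup.of_card (n := 1) (by rw [hVc, pow_one])
  obtain ⟨H, hH, hVH⟩ := Coprime.exists_hall_ge π hsol (U := V) (Subgroup.zpowers_le.mpr hcC) (fun s hs hd => by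
    rw [hVc] at hd
    exact (Nat.prime_dvd_prime_iff_eq hs htb.1.1).mp hd ▸ htπ)
  obtain ⟨n, -, hn⟩ := Coprime.hall_conj hsol hJ hH
  set O₀ := (Cfsg.pCore t J).map J.subtype with hO₀
  have hJO : J ≤ Subgroup.normalizer (O₀ : Set G) := by
    have h := Subgroup.le_normalizer_map (H := Cfsg.pCore t J) J.subtype
    rwa [Subgroup.normalizer_eq_top (H := Cfsg.pCore t J), ← MonoidHom.range_eq_map, Subgroup.range_subtype] at h
  set O := cj n O₀ with hO
  have hOp : IsPGroup t O := ((Solvable.Cores.isPGroup_pCore t).map _).map _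
  have hO1 : O ≠ ⊥ := fun e => hne ((Subgroup.map_eq_bot_iff_of_injective _ J.subtype_injective).mp
    ((Subgroup.map_eq_bot_iff_of_injective _ (MulAut.conj n).injective).mp e))
  have hHO : H ≤ Subgroup.normalizer (O : Set G) := by
    rw [← hn, hO, ← SigmaTools.cj_normalizer]
    exact Subgroup.map_mono hJO
  -- a `t`-group containing `c` lies in `M`
  have hin : O ⊔ V ≤ M := by
    have hWp : IsPGroup t ↥(O ⊔ V) := hOp.to_sup_of_normal_left' hVp (hVH.trans hHO)
    haveI : Nontrivial ↥(O ⊔ V) := (Subgroup.nontrivial_iff_ne_bot _).mpr fun e =>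
      hO1 (le_bot_iff.mp (le_sup_left.trans e.le))
    haveI := hWp.center_nontrivial
    obtain ⟨d, hd⟩ := exists_prime_orderOf_dvd_card' (G := Subgroup.center ↥(O ⊔ V)) t
      ((hWp.to_subgroup _).card_eq_or_dvd.resolve_left
        (Finite.one_lt_card (α := Subgroup.center ↥(O ⊔ V))).ne')
    set w := ((d : ↥(O ⊔ V)) : G) with hw
    have hwo : orderOf w = t := by rw [hw, Subgroup.orderOf_coe, Subgroup.orderOf_coe, hd]
    have hwc : ∀ a ∈ O ⊔ V, a * w = w * a := fun a ha =>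
      congrArg Subtype.val (Subgroup.mem_center_iff.mp d.2 ⟨a, ha⟩)
    have hwM : w ∈ M := SigmaTools.centralizer_le_of_ideal hG hM hts htb.2 hcM hco
      (Subgroup.mem_centralizer_singleton_iff.mpr (hwc c (Subgroup.mem_sup_right (Subgroup.mem_zpowers c))).symm)
    exact fun a ha => SigmaTools.centralizer_le_of_ideal hG hM hts htb.2 hwM hwo
      (Subgroup.mem_centralizer_singleton_iff.mpr (hwc a ha))
  have hOM : O ≤ M := le_sup_left.trans hin
  have hNO : Subgroup.normalizer (O : Set G) ≤ M := by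
    rw [(SigmaFusion.main hG hM hts hOp hO1 hOM).2]
    refine sup_le inf_le_left ?_
    obtain ⟨o, ho⟩ := exists_prime_orderOf_dvd_card' (G := O) t
      (hOp.card_eq_or_dvd.resolve_left fun e => hO1 (Subgroup.eq_bot_of_card_eq _ e))
    exact (Subgroup.centralizer_le (Set.singleton_subset_iff.mpr o.2)).trans
      (SigmaTools.centralizer_le_of_ideal hG hM hts htb.2 (hOM o.2) (by rw [Subgroup.orderOf_coe, ho]))
  have huH : u ∣ Nat.card H := by
    rw [← Coprime.card_mul_relIndex_eq hH.1] at huC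
    exact ((Fact.out : u.Prime).dvd_mul.mp huC).resolve_right (hH.2.2 u Fact.out huπ)
  obtain ⟨z, hz⟩ := exists_prime_orderOf_dvd_card' (G := H) u huH
  exact ⟨z, ⟨hNO (hHO z.2), hH.1 z.2⟩, by rw [Subgroup.orderOf_coe, hz]⟩

/-- A second element of order `u ∈ β(L)` in `M ∩ C(P)` gives a contradiction. -/
theorem Side.false_of_elem (hG : Cfsg.IsMinSimpleOddOrder G) (h : Side p M L P A) (h' : Side p L M P A') {u : ℕ} [hu : Fact u.Prime]
    (hub : u ∈ Cfsg.beta L) {z : G} (hzM : z ∈ M) (hzP : z ∈ Subgroup.centralizer (P : Set G))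
    (hzo : orderOf z = u) : False := by
  have hus : u ∉ Cfsg.sigma M := fun hs => by
    obtain ⟨x, hx⟩ := SigmaTools.exists_cj_of_alpha hG h.hL h.hM hub.1 hs
    exact h'.not_conj x hx
  have hup : u ≠ p := fun e => h'.hpM (e ▸ SigmaBasics.mem_sigma_of_alpha hG h.hL hub.1)
  have hZ : Nat.card (Subgroup.zpowers z) = u := by rw [Nat.card_zpowers, hzo]
  have hbot : Disjoint P (Subgroup.zpowers z) := Subgroup.disjoint_of_coprime_natCard (by
    rw [h.hP, hZ]; exact (Nat.coprime_primes hp.out hu.out).mpr hup.symm)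
  have hY : ∀ s : ℕ, s.Prime → s ∣ Nat.card ↥(P ⊔ Subgroup.zpowers z) → s ∉ Cfsg.sigma M := fun s hs hd => by
    rw [Coprime.card_sup_of_le_normalizer
      ((Subgroup.zpowers_le.mpr hzP).trans (Subgroup.centralizer_le_normalizer _)) hbot, h.hP, hZ] at hd
    rcases hs.dvd_mul.mp hd with hh | hh
    · exact (Nat.prime_dvd_prime_iff_eq hs hp.out).mp hh ▸ h.hpM
    · exact (Nat.prime_dvd_prime_iff_eq hs hu.out).mp hh ▸ hus
  obtain ⟨E, hE, hEL, hPE⟩ := h.compl
  obtain ⟨m, -, hmE⟩ := ComplementHall.exists_conj_le hG h.hM hE (sup_le h.hPM (Subgroup.zpowers_le.mpr hzM)) hY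
  have hPp : IsPGroup p P := IsPGroup.of_card (n := 1) (by rw [h.hP, pow_one])
  obtain ⟨T₁, hT₁⟩ := (hPp.of_equiv (Subgroup.subgroupOfEquivOfLe hPE).symm).exists_le_sylow
  have hP'E : cj m P ≤ E := (Subgroup.map_mono le_sup_left).trans hmE
  obtain ⟨T₂, hT₂⟩ := ((hPp.map _).of_equiv (Subgroup.subgroupOfEquivOfLe hP'E).symm).exists_le_sylow
  obtain ⟨e, he⟩ := MulAction.exists_smul_eq E T₂ T₁
  have h1 := congrArg (fun T : Sylow p E => (T : Subgroup E).map E.subtype) he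
  simp only [Coprime.map_smul_sylow] at h1
  set R := (T₁ : Subgroup E).map E.subtype with hR
  haveI : IsCyclic R := SigmaComplement.isCyclic_of_rank_one hG.1 ((Subgroup.map_subtype_le _).trans hE.1)
    (T₁.isPGroup'.map _) h.hr1
  have hPfix : cj ((e : G) * m) P = P := by
    refine Solvable.SupersolvableCriteria.eq_of_card_eq_of_le_cyclic (A := R) ?_
      (fun x hx => ⟨⟨x, hPE hx⟩, hT₁ (Subgroup.mem_subgroupOf.mpr hx), rfl⟩)
      (Subgroup.card_map_of_injective (MulAut.conj ((e : G) * m)).injective)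
    rw [← SigmaFusion.cj_cj]
    exact (Subgroup.map_mono (show cj m P ≤ (T₂ : Subgroup E).map E.subtype from fun x hx =>
      ⟨⟨x, hP'E hx⟩, hT₂ (Subgroup.mem_subgroupOf.mpr hx), rfl⟩)).trans h1.le
  set z' := MulAut.conj ((e : G) * m) z with hz'
  have hz'E : z' ∈ E := by
    have h2 : MulAut.conj m z ∈ E := hmE ⟨z, Subgroup.mem_sup_right (Subgroup.mem_zpowers z), rfl⟩
    rw [hz', map_mul, MulAut.mul_apply]
    simpa using mul_mem (mul_mem e.2 h2) (inv_mem e.2)
  have hz'P : z' ∈ Subgroup.centralizer (P : Set G) := by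
    refine Subgroup.mem_centralizer_iff.mpr fun x hx => ?_
    rw [← hPfix] at hx
    obtain ⟨y, hy, rfl⟩ := hx
    show MulAut.conj ((e : G) * m) y * z' = z' * MulAut.conj ((e : G) * m) y
    rw [hz', ← map_mul, ← map_mul, Subgroup.mem_centralizer_iff.mp hzP y hy]
  exact h'.no_fixed hG hub (hEL hz'E) (hE.1 hz'E) hz'P
    (by rw [hz', MulEquiv.orderOf_eq, hzo])

theorem Side.contradiction (hG : Cfsg.IsMinSimpleOddOrder G) (h : Side p M L P A) (h' : Side p L M P A') : False := by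
  obtain ⟨s, hs⟩ := h.beta
  obtain ⟨u, hu⟩ := h'.beta
  haveI := Fact.mk hs.1.1
  haveI := Fact.mk hu.1.1
  obtain ⟨c, hc, hco⟩ := h.exists_fixed hG hs
  obtain ⟨d, hd, hdo⟩ := h'.exists_fixed hG hu
  set C := Subgroup.centralizer (P : Set G) with hC
  have hCtop : C ≠ ⊤ := by
    obtain ⟨x, -, hxo, hxe⟩ := PrimeAction.exists_gen h.hP
    rw [hC, ← hxe, SigmaTools.centralizer_zpowers]
    exact SigmaTools.centralizer_singleton_ne_top hG hxo
  have hdC : ∀ {v : ℕ} {a : G}, a ∈ C → orderOf a = v → v ∣ Nat.card C := fun {v a} ha hao => by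
    have := orderOf_dvd_natCard (⟨a, ha⟩ : C)
    rwa [Subgroup.orderOf_mk, hao] at this
  obtain ⟨J, hJ⟩ := Coprime.exists_hall ({s, u} : Set ℕ) (hG.2.2.2 C hCtop)
  have hsJ : s ∣ Nat.card J := by
    have := hdC hc.2 hco
    rw [← Coprime.card_mul_relIndex_eq hJ.1] at this
    exact (hs.1.1.dvd_mul.mp this).resolve_right (hJ.2.2 s hs.1.1 (Set.mem_insert _ _))
  haveI : Nontrivial J := Finite.one_lt_card_iff_nontrivial.mp
    (lt_of_lt_of_le hs.1.1.one_lt (Nat.le_of_dvd Nat.card_pos hsJ))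
  haveI : Group.IsSolvable J := hG.2.2.2 J fun e => hCtop (top_le_iff.mp (e ▸ hJ.1))
  obtain ⟨v, hv, hne⟩ := SigmaConjugate.exists_pCore_ne_bot (H := J)
  haveI := Fact.mk hv
  have hvJ : v ∣ Nat.card J := ((Solvable.Cores.isPGroup_pCore v).card_eq_or_dvd.resolve_left
    fun e => hne (Subgroup.eq_bot_of_card_eq _ e)).trans (Subgroup.card_subgroup_dvd_card _)
  rcases hJ.2.1 v hv hvJ with e | e
  · subst e
    obtain ⟨z, hz, hzo⟩ := exists_elem hG h.hM hs hCtop hJ hne (Set.mem_insert _ _) hc.1 hc.2 hco (u := u)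
      (Set.mem_insert_of_mem _ rfl) (hdC hd.2 hdo)
    exact h.false_of_elem hG h' hu hz.1 hz.2 hzo
  · rw [Set.mem_singleton_iff] at e
    subst e
    obtain ⟨z, hz, hzo⟩ := exists_elem hG h.hL hu hCtop hJ hne (Set.mem_insert_of_mem _ rfl) hd.1 hd.2 hdo (u := s)
      (Set.mem_insert _ _) (hdC hc.2 hco)
    exact h'.false_of_elem hG h hs hz.1 hz.2 hzo

end CfsgLib.OddOrder.CommonMover
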