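import Cfsg.Agent.Lib.OddOrder.A2Centralize
import Cfsg.Agent.Lib.Coprime.Pairing
import Mathlib

set_option autoImplicit false
set_option linter.style.haveILetI false
set_option linter.unusedSectionVars false

/-!
More tools: invariant Sylow subgroups, conjugates, ideal primes.
-/

namespace CfsgLib.OddOrder.SigmaTools

open scoped commutatorElement
open A2Transitive (MaxPlane)
open SigmaFusion (cj)

variable {G : Type*} [Group G] [Finite G] {M : Subgroup G} {p q : ℕ} [hp : Fact p.Prime] [hq : Fact q.Prime]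

theorem mem_cj {g x : G} {H : Subgroup G} : x ∈ cj g H ↔ g⁻¹ * x * g ∈ H := by
  constructor
  · rintro ⟨y, hy, rfl⟩
    simpa [mul_assoc] using hy
  · intro h
    exact ⟨_, h, by simp [mul_assoc]⟩

theorem cj_normalizer (g : G) (H : Subgroup G) :
    cj g (Subgroup.normalizer (H : Set G)) = Subgroup.normalizer ((cj g H : Subgroup G) : Set G) :=
  Subgroup.map_equiv_normalizer_eq H (MulAut.conj g)

theorem sigma_dvd (hps : p ∈ Cfsg.sigma M) : p ∣ Nat.card G := hps.2.1.trans M.card_subgroup_dvd_card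

theorem sigma_cj (hps : p ∈ Cfsg.sigma M) (g : G) : p ∈ Cfsg.sigma (cj g M) := by
  obtain ⟨P, -, hN⟩ := SigmaFusion.exists_sylow_sigma hps
  refine mem_sigma_of_sylow (S := g • P) (sigma_dvd hps) ?_
  rw [Sylow.coe_subgroup_smul]
  exact (cj_normalizer g (P : Subgroup G)).ge.trans (Subgroup.map_mono hN)

theorem not_sigma_cj (hps : p ∉ Cfsg.sigma M) (g : G) : p ∉ Cfsg.sigma (cj g M) := fun h => hps <| by
  have := sigma_cj h g⁻¹
  rwa [SigmaFusion.cj_cj, inv_mul_cancel, SigmaFusion.cj_one] at this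

/-- Every Sylow subgroup in `M` for a prime in `σ(M)` has its normalizer in `M`. -/
theorem normalizer_sylow_le (hqs : q ∈ Cfsg.sigma M) (Q : Sylow q G) (hQ : (Q : Subgroup G) ≤ M) :
    Subgroup.normalizer ((Q : Subgroup G) : Set G) ≤ M := by
  obtain ⟨P, hPM, hN⟩ := SigmaFusion.exists_sylow_sigma hqs
  obtain ⟨m, hm⟩ := MulAction.exists_smul_eq M (P.subtype hPM) (Q.subtype hQ)
  have hPQ : (Q : Subgroup G) = cj (m : G) (P : Subgroup G) := by
    have h1 := congrArg (fun S : Sylow q M => (S : Subgroup M).map M.subtype) hm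
    simp only [Coprime.map_smul_sylow, Sylow.coe_subtype, Subgroup.subgroupOf_map_subtype] at h1
    rw [inf_eq_left.2 hPM, inf_eq_left.2 hQ] at h1
    exact h1.symm
  rw [hPQ, ← cj_normalizer]
  exact (Subgroup.map_mono hN).trans
    (Subgroup.mem_normalizer_iff_map_conj_eq.mp (Subgroup.le_normalizer m.2)).le

/-- An invariant `q`-subgroup of `M` lies in an invariant Sylow `q`-subgroup of `G` inside `M_σ`. -/
theorem exists_invariant_sylow (hG : Cfsg.IsMinSimpleOddOrder G) (hM : IsCoatom M) (hqs : q ∈ Cfsg.sigma M)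
    {A Q₀ : Subgroup G} (hAM : A ≤ M) (hcop : (Nat.card A).Coprime (Nat.card (Cfsg.sigmaCore M)))
    (h0M : Q₀ ≤ M) (h0 : IsPGroup q Q₀) (h0A : A ≤ Subgroup.normalizer (Q₀ : Set G)) :
    ∃ Q : Sylow q G, Q₀ ≤ (Q : Subgroup G) ∧ (Q : Subgroup G) ≤ Cfsg.sigmaCore M ∧
      A ≤ Subgroup.normalizer ((Q : Subgroup G) : Set G) := by
  have hsol : Group.IsSolvable (Cfsg.sigmaCore M) :=
    hG.2.2.2 _ fun h => hM.1 (top_le_iff.mp (h ▸ sigmaCore_le M))
  obtain ⟨P, hP0, hPA⟩ := Coprime.exists_le_invariant_sylow (hAM.trans (le_normalizer_sigmaCore M)) hcop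
    (Or.inr hsol) (pGroup_le_sigmaCore hG hM hqs h0M h0) h0 h0A
  set R := (P : Subgroup ↥(Cfsg.sigmaCore M)).map (Cfsg.sigmaCore M).subtype with hR
  have hcard : Nat.card R = q ^ (Nat.card G).factorization q := by
    rw [hR, Coprime.card_map_subtype, P.card_eq_multiplicity]
    congr 1
    rw [← Subgroup.card_mul_index (Cfsg.sigmaCore M), Nat.factorization_mul Nat.card_pos.ne'
      Subgroup.index_ne_zero_of_finite, Finsupp.add_apply,
      Nat.factorization_eq_zero_of_not_dvd ((SigmaCore.hall hG hM).2.2 q hq.out hqs), add_zero]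
  exact ⟨Sylow.ofCard R hcard, hP0, Subgroup.map_subtype_le _, hPA⟩

theorem sylow_mem_max {A : Subgroup G} (Q : Sylow q G) (hA : A ≤ Subgroup.normalizer ((Q : Subgroup G) : Set G)) :
    (Q : Subgroup G) ∈ Cfsg.maxInvSubgroups ⊤ A {q} :=
  ⟨(Transitivity.mem_inv_top hq.out).mpr ⟨Q.isPGroup', hA⟩,
    fun _ hR hle => Q.is_maximal' ((Transitivity.mem_inv_top hq.out).mp hR).1 hle⟩

theorem centralizer_zpowers (y : G) :
    Subgroup.centralizer (Subgroup.zpowers y : Set G) = Subgroup.centralizer ({y} : Set G) := by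
  refine le_antisymm (Subgroup.centralizer_le (Set.singleton_subset_iff.mpr (Subgroup.mem_zpowers y))) fun g hg => ?_
  refine Subgroup.mem_centralizer_iff.mpr fun b hb => ?_
  obtain ⟨i, rfl⟩ := Subgroup.mem_zpowers_iff.mp hb
  exact ((show Commute g y from Subgroup.mem_centralizer_singleton_iff.mp hg).zpow_right i).symm.eq

theorem centralizer_singleton_ne_top (hG : Cfsg.IsMinSimpleOddOrder G) {y : G} (hy : orderOf y = q) :
    Subgroup.centralizer ({y} : Set G) ≠ ⊤ := fun h => by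
  refine A2Transitive.max_ne_top hG hq.out (D := Subgroup.zpowers y)
    (IsPGroup.of_card (n := 1) (by rw [Nat.card_zpowers, hy, pow_one])) ?_
    (top_le_iff.mp (h.ge.trans ((centralizer_zpowers y).ge.trans (Subgroup.centralizer_le_normalizer _))))
  rw [Ne, Subgroup.zpowers_eq_bot]
  exact fun e => hq.out.ne_one (by rw [← hy, e, orderOf_one])

/-- Elements of ideal prime order have their centralisers inside the unique maximal subgroup. -/
theorem centralizer_le_of_ideal (hG : Cfsg.IsMinSimpleOddOrder G) (hM : IsCoatom M) (hqs : q ∈ Cfsg.sigma M)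
    (hqi : Cfsg.IsIdealPrime q G) {y : G} (hyM : y ∈ M) (hy : orderOf y = q) :
    Subgroup.centralizer ({y} : Set G) ≤ M := by
  obtain ⟨P, hPM, -⟩ := SigmaFusion.exists_sylow_sigma hqs
  have hyp : IsPGroup q (Subgroup.zpowers y) := IsPGroup.of_card (n := 1) (by rw [Nat.card_zpowers, hy, pow_one])
  obtain ⟨S, hS⟩ := (hyp.of_equiv (Subgroup.subgroupOfEquivOfLe (Subgroup.zpowers_le.mpr hyM)).symm).exists_le_sylow
  obtain ⟨m, hm⟩ := MulAction.exists_smul_eq M (P.subtype hPM) S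
  set Q : Sylow q G := (m : G) • P with hQ
  have hQM : (Q : Subgroup G) ≤ M := by
    rw [hQ, Sylow.coe_subgroup_smul]
    exact (Subgroup.map_mono hPM).trans (Subgroup.mem_normalizer_iff_map_conj_eq.mp (Subgroup.le_normalizer m.2)).le
  have hyQ : y ∈ (Q : Subgroup G) := by
    have h1 := congrArg (fun S : Sylow q M => (S : Subgroup M).map M.subtype) hm
    simp only [Coprime.map_smul_sylow, Sylow.coe_subtype, Subgroup.subgroupOf_map_subtype] at h1
    rw [inf_eq_left.2 hPM] at h1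
    rw [hQ, Sylow.coe_subgroup_smul]
    exact h1.ge ⟨⟨y, hyM⟩, hS (Subgroup.mem_zpowers y), rfl⟩
  have hQr : ¬ Cfsg.PRankLE q 2 (Q : Subgroup G) := fun h => hqi.2.1 (SigmaFusion.pRankLE_of_sylow Q h)
  obtain ⟨F, hFQ, hFe, hF3⟩ := UniqueTools.exists_isEA_of_not_rankLE hQr
  have hyq : y ^ q = 1 := hy ▸ pow_orderOf_eq_one y
  have hy1 : y ≠ 1 := fun h => hq.out.ne_one (by rw [← hy, h, orderOf_one])
  -- an element of order `q` commuting with `y`, outside `⟨y⟩`
  obtain ⟨z, hzQ, hzq, hzy, hzn⟩ : ∃ z ∈ (Q : Subgroup G), z ^ q = 1 ∧ Commute y z ∧ z ∉ Subgroup.zpowers y := by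
    haveI : Nontrivial (Q : Subgroup G) := (Subgroup.nontrivial_iff_ne_bot _).mpr fun h =>
      hy1 (Subgroup.mem_bot.mp (h ▸ hyQ))
    haveI := Q.isPGroup'.center_nontrivial
    obtain ⟨c, hc⟩ := exists_prime_orderOf_dvd_card' (G := Subgroup.center (Q : Subgroup G)) q
      (((Q.isPGroup').to_subgroup _).card_eq_or_dvd.resolve_left
        (Finite.one_lt_card (α := Subgroup.center (Q : Subgroup G))).ne')
    set z := ((c : (Q : Subgroup G)) : G) with hz
    have hzc : ∀ s ∈ (Q : Subgroup G), Commute s z := fun s hs =>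
      congrArg Subtype.val (Subgroup.mem_center_iff.mp c.2 ⟨s, hs⟩)
    have hzo : orderOf z = q := by rw [hz, Subgroup.orderOf_coe, Subgroup.orderOf_coe, hc]
    by_cases hmem : z ∈ Subgroup.zpowers y
    · have heq : Subgroup.zpowers z = Subgroup.zpowers y := Subgroup.eq_of_le_of_card_ge
        (Subgroup.zpowers_le.mpr hmem) (by rw [Nat.card_zpowers, Nat.card_zpowers, hzo, hy])
      obtain ⟨e, he, hen⟩ := SetLike.not_le_iff_exists.mp fun hle : F ≤ Subgroup.zpowers y => by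
        have h4 := hF3.trans ((Subgroup.card_le_of_le hle).trans (by rw [Nat.card_zpowers, hy]))
        have h5 : q ^ 1 < q ^ (2 + 1) := Nat.pow_lt_pow_right hq.out.one_lt (by norm_num)
        rw [pow_one] at h5
        omega
      obtain ⟨i, hi⟩ := Subgroup.mem_zpowers_iff.mp (heq.ge (Subgroup.mem_zpowers y))
      exact ⟨e, hFQ he, hFe.2 e he, hi ▸ ((hzc e (hFQ he)).zpow_right i).symm, hen⟩
    · exact ⟨z, (c : (Q : Subgroup G)).2, hzo ▸ pow_orderOf_eq_one z, hzc y hyQ, hmem⟩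
  set E₂ := Subgroup.zpowers y ⊔ Subgroup.zpowers z with hE₂
  have hE₂e : Cfsg.IsElementaryAbelian q E₂ := Replacement.isEA_sup (Replacement.isEA_zpowers hyq)
    (Replacement.isEA_zpowers hzq) (by
      rw [Subgroup.zpowers_le, centralizer_zpowers, Subgroup.mem_centralizer_singleton_iff]; exact hzy.eq)
  have hE₂Q : E₂ ≤ (Q : Subgroup G) := sup_le (Subgroup.zpowers_le.mpr hyQ) (Subgroup.zpowers_le.mpr hzQ)
  have hE₂p : q ^ 2 ≤ Nat.card E₂ := by
    obtain ⟨j, hj⟩ := (Fusion.Thompson.isPGroup_isEA hE₂e).exists_card_eq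
    have hlt : Nat.card (Subgroup.zpowers y) < Nat.card E₂ := Set.ncard_lt_ncard (SetLike.coe_ssubset_coe.mpr
      (lt_of_le_of_ne le_sup_left fun h => hzn (h.ge (Subgroup.mem_sup_right (Subgroup.mem_zpowers z)))))
    rw [Nat.card_zpowers, hy, hj] at hlt
    rw [hj]
    exact Nat.pow_le_pow_right hq.out.pos ((Nat.pow_lt_pow_iff_right hq.out.one_lt).mp (by rwa [pow_one]))
  obtain ⟨B, hBQ, hBe, hB3, hBy⟩ : ∃ B : Subgroup G, B ≤ (Q : Subgroup G) ∧ Cfsg.IsElementaryAbelian q B ∧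
      q ^ 3 ≤ Nat.card B ∧ y ∈ B := by
    obtain ⟨j, hj⟩ := (Fusion.Thompson.isPGroup_isEA hE₂e).exists_card_eq
    have hymem : y ∈ E₂ := Subgroup.mem_sup_left (Subgroup.mem_zpowers y)
    rcases Nat.lt_or_ge 2 j with h | h
    · exact ⟨E₂, hE₂Q, hE₂e, hj ▸ Nat.pow_le_pow_right hq.out.pos h, hymem⟩
    · have hE₂c : Nat.card E₂ = q ^ 2 :=
        le_antisymm (hj ▸ Nat.pow_le_pow_right hq.out.pos h) hE₂p
      obtain ⟨B, hB, hBe, hlt⟩ := hqi.2.2 Q E₂ hE₂Q hE₂e hE₂c
      refine ⟨B, hB, hBe, ?_, hlt.le hymem⟩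
      obtain ⟨k, hk⟩ := (Fusion.Thompson.isPGroup_isEA hBe).exists_card_eq
      have h' : Nat.card E₂ < Nat.card B := Set.ncard_lt_ncard (SetLike.coe_ssubset_coe.mpr hlt)
      rw [hE₂c, hk] at h'
      rw [hk]
      exact Nat.pow_le_pow_right hq.out.pos ((Nat.pow_lt_pow_iff_right hq.out.one_lt).mp h')
  exact UniqueTools.le_of_unique (UniquenessTheorem.rank_three hG hBe hB3) hM (hBQ.trans hQM)
    (fun b hb => Subgroup.mem_centralizer_singleton_iff.mpr (PlaneSylow.comm_of hBe.1 hb hBy).eq)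
    (centralizer_singleton_ne_top hG hy)

/-- If `y ∈ M` of `σ(M)`-prime order has centraliser in `M`, it lies in no other conjugate of `M`. -/
theorem mem_of_mem_cj (hG : Cfsg.IsMinSimpleOddOrder G) (hM : IsCoatom M) (hqs : q ∈ Cfsg.sigma M) {y g : G}
    (hy : orderOf y = q) (hC : Subgroup.centralizer ({y} : Set G) ≤ M) (hyM : y ∈ M) (hyg : y ∈ cj g M) :
    g ∈ M := by
  have h1 : (Subgroup.zpowers y).map (MulAut.conj g⁻¹).toMonoidHom ≤ M := by
    rw [MonoidHom.map_zpowers, Subgroup.zpowers_le]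
    simpa using mem_cj.mp hyg
  obtain ⟨m, hm, c, hc, e⟩ := (SigmaFusion.main hG hM hqs
    (IsPGroup.of_card (n := 1) (by rw [Nat.card_zpowers, hy, pow_one]))
    (by rw [Ne, Subgroup.zpowers_eq_bot]; exact fun e => hq.out.ne_one (by rw [← hy, e, orderOf_one]))
    (Subgroup.zpowers_le.mpr hyM)).1 g⁻¹ h1
  have : g⁻¹ ∈ M := e ▸ mul_mem hm (hC ((centralizer_zpowers y).le hc))
  simpa using inv_mem this

/-- `α(M)` meets `σ` only of conjugates of `M`. -/
theorem exists_cj_of_alpha (hG : Cfsg.IsMinSimpleOddOrder G) (hM : IsCoatom M) {H : Subgroup G} (hH : IsCoatom H)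
    (hqa : q ∈ Cfsg.alpha M) (hqH : q ∈ Cfsg.sigma H) : ∃ x : G, H = cj x M := by
  obtain ⟨P, hPM, -⟩ := SigmaFusion.exists_sylow_sigma (SigmaBasics.mem_sigma_of_alpha hG hM hqa)
  obtain ⟨Q, hQH, -⟩ := SigmaFusion.exists_sylow_sigma hqH
  obtain ⟨x, hx⟩ := MulAction.exists_smul_eq G P Q
  have hr : ¬ Cfsg.PRankLE q 2 (Q : Subgroup G) := fun h => hqa.2 fun A hAc hAe => by
    have h' := Fusion.Thompson.isEA_map M.subtype (p := q) ⟨hAc, hAe⟩
    have := SigmaFusion.pRankLE_of_sylow Q h _ h'.1 h'.2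
    rwa [Subgroup.card_map_of_injective M.subtype_injective] at this
  obtain ⟨F, hFQ, hFe, hF3⟩ := UniqueTools.exists_isEA_of_not_rankLE hr
  refine ⟨x, ?_⟩
  have hFx : F ≤ cj x M := hFQ.trans (by rw [← hx, Sylow.coe_subgroup_smul]; exact Subgroup.map_mono hPM)
  obtain ⟨U, -, hU⟩ := UniquenessTheorem.rank_three hG hFe hF3
  rw [hU H ⟨hH, hFQ.trans hQH⟩, hU (cj x M) ⟨SigmaFusion.isCoatom_cj hM x, hFx⟩]

end CfsgLib.OddOrder.SigmaTools
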