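import Cfsg.Agent.Lib.OddOrder.SigmaComplement
import Cfsg.Agent.Lib.OddOrder.SigmaTools2
import Cfsg.Agent.Lib.Coprime.Hall
import Mathlib

set_option autoImplicit false
set_option linter.style.haveILetI false
set_option linter.unusedSectionVars false

/-!
A complement to `M_σ` is a Hall `σ(M)'`-subgroup of `M`.
-/

namespace CfsgLib.OddOrder.ComplementHall

open SigmaFusion (cj)

variable {G : Type*} [Group G] [Finite G] {M E : Subgroup G}

theorem isHall (hG : Cfsg.IsMinSimpleOddOrder G) (hM : IsCoatom M) (hE : Cfsg.IsComplIn E (Cfsg.sigmaCore M) M) :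
    Cfsg.IsPiHallOf {q | q ∉ Cfsg.sigma M} E M := by
  refine ⟨hE.1, fun t ht hd hts => ?_, fun t ht hts hd => ?_⟩
  · haveI := Fact.mk ht
    exact SigmaComplement.not_dvd_card hG hM hE hts hd
  · haveI := Fact.mk ht
    have h1 : E.relIndex M = Nat.card (Cfsg.sigmaCore M) := by
      have h2 := Coprime.card_mul_relIndex_eq hE.1
      have h3 := Coprime.card_mul_relIndex_eq (SigmaTools.sigmaCore_le M)
      rw [Basic.IsComplIn.relIndex_right hE] at h3
      rw [← h3, mul_comm (Nat.card (Cfsg.sigmaCore M))] at h2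
      exact Nat.eq_of_mul_eq_mul_left Nat.card_pos h2
    exact hts (SigmaTools.mem_sigma_of_card (h1 ▸ hd))

theorem exists_conj_le (hG : Cfsg.IsMinSimpleOddOrder G) (hM : IsCoatom M)
    (hE : Cfsg.IsComplIn E (Cfsg.sigmaCore M) M) {X : Subgroup G} (hX : X ≤ M)
    (hπ : ∀ t : ℕ, t.Prime → t ∣ Nat.card X → t ∉ Cfsg.sigma M) : ∃ m ∈ M, cj m X ≤ E := by
  have hsol : Group.IsSolvable M := hG.2.2.2 M hM.1
  obtain ⟨H, hH, hXH⟩ := Coprime.exists_hall_ge {q | q ∉ Cfsg.sigma M} hsol hX hπ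
  obtain ⟨m, hm, he⟩ := Coprime.hall_conj hsol hH (isHall hG hM hE)
  exact ⟨m, hm, (Subgroup.map_mono hXH).trans he.le⟩

end CfsgLib.OddOrder.ComplementHall
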