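import Cfsg.Agent.Lib.OddOrder.FixedPointsFix
import Cfsg.Agent.Lib.OddOrder.Transitivity
import Cfsg.Agent.Lib.OddOrder.UniqueTools
import Cfsg.Agent.Lib.Components.Constrained
import Cfsg.Agent.Lib.Coprime.Generation
import Mathlib

set_option autoImplicit false

/-!
Thompson's transitivity theorem for groups with `p`-constrained `p`-local subgroups.
-/

namespace CfsgLib.OddOrder.ConstrainedTransitivity

open scoped commutatorElement

variable {p : ℕ} [hp : Fact p.Prime]

theorem le_core {X : Type*} [Group X] [Finite X] (hX : Cfsg.IsPConstrained p X) {E L : Subgroup X}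
    (hEp : IsPGroup p E)
    (hfull : ∀ x ∈ Subgroup.centralizer (E : Set X), IsPGroup p (Subgroup.zpowers x) → x ∈ E)
    (hclass : p = 2 → ∀ P : Subgroup X, IsPGroup p P → ∀ a ∈ P, ∀ b ∈ P, ∀ c ∈ P, Commute ⁅a, b⁆ c)
    (hL : (Nat.card L).Coprime p) (hEL : E ≤ Subgroup.normalizer (L : Set X)) :
    L ≤ Cfsg.pPrimeCore p X := by
  set O := Cfsg.pPrimeCore p X with hO
  set f := QuotientGroup.mk' O with hf
  have hfs : Function.Surjective f := QuotientGroup.mk'_surjective O
  set T := Cfsg.pCore p (X ⧸ O) with hT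
  have hTC : Subgroup.centralizer (T : Set (X ⧸ O)) ≤ T := by
    rw [Components.isPConstrained_iff, Components.pLayer_eq_bot_iff,
      ← Components.centralizer_pCore_le_iff_layer Components.pPrimeCore_quotient_eq_bot] at hX
    exact hX
  have hTp : IsPGroup p T := Solvable.Cores.isPGroup_pCore p
  have hTn : ∀ A : Subgroup (X ⧸ O), A ≤ Subgroup.normalizer (T : Set (X ⧸ O)) := fun A => by
    rw [Subgroup.normalizer_eq_top]; exact le_top
  have hLb : (Nat.card (L.map f)).Coprime p := hL.coprime_dvd_left (Subgroup.card_map_dvd _ f)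
  have hdisj : L.map f ⊓ T = ⊥ := by
    refine (Subgroup.disjoint_of_coprime_natCard ?_).eq_bot
    obtain ⟨j, hj⟩ := hTp.exists_card_eq
    rw [hj]; exact hLb.pow_right j
  have hELb : E.map f ≤ Subgroup.normalizer (L.map f : Set (X ⧸ O)) := by
    rintro _ ⟨e, he, rfl⟩
    exact Subgroup.le_normalizer_map f ⟨e, hEL he, rfl⟩
  have hmain : T ≤ Subgroup.centralizer (L.map f : Set (X ⧸ O)) := by
    refine FixedPointsFix.main hTp (hEp.map f) hLb (hTn _) (hTn _) hELb ?_ ?_
    · rintro t ⟨htT, htE⟩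
      obtain ⟨k, rfl⟩ := hfs t
      have hcopE : (Nat.card E).Coprime (Nat.card O) := by
        obtain ⟨j, hj⟩ := hEp.exists_card_eq
        rw [hj]; exact ((Solvable.Cores.coprime_card_pPrimeCore (G := X) p).symm).pow_left j
      obtain ⟨n, hn, hnk⟩ := Coprime.exists_mul_mem_centralizer (A := E) (N := O) (k := k)
        (by rw [Subgroup.normalizer_eq_top]; exact le_top) hcopE
        (Or.inl (IsNilpotent.to_isSolvable (h := hEp.isNilpotent))) fun a ha => by
          rw [← QuotientGroup.eq_one_iff (N := O), ← QuotientGroup.mk'_apply, map_commutatorElement,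
            commutatorElement_eq_one_iff_commute]
          exact Subgroup.mem_centralizer_iff.mp htE (f a) ⟨a, ha, rfl⟩
      have hfc : f (n * k) = f k := by
        rw [map_mul, show f n = 1 from (QuotientGroup.eq_one_iff n).mpr hn, one_mul]
      obtain ⟨j, hj⟩ := IsPGroup.iff_orderOf.mp hTp ⟨f k, htT⟩
      rw [Subgroup.orderOf_mk] at hj
      obtain ⟨a, b, hb, hab⟩ := Nat.exists_eq_pow_mul_and_not_dvd (orderOf_pos (n * k)).ne' p hp.out.ne_one
      have hpz : IsPGroup p (Subgroup.zpowers ((n * k) ^ b)) := by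
        refine IsPGroup.of_card (n := a) ?_
        rw [Nat.card_zpowers, orderOf_pow_of_dvd (fun h0 => hb (by rw [h0]; exact dvd_zero p)) (Dvd.intro_left _ hab.symm),
          hab, Nat.mul_div_cancel _ (Nat.pos_of_ne_zero fun h0 => hb (by rw [h0]; exact dvd_zero p))]
      have hmem : f k ^ b ∈ E.map f := ⟨_, hfull _ (pow_mem hnk b) hpz, by rw [map_pow, hfc]⟩
      obtain ⟨i, hi⟩ := exists_pow_eq_self_of_coprime (n := b) (x := f k) (by
        rw [hj]; exact ((hp.out.coprime_iff_not_dvd.mpr hb).symm).pow_right j)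
      have hkE : f k ∈ E.map f := hi ▸ pow_mem hmem i
      refine Subgroup.mem_centralizer_iff.mpr fun l hl => ?_
      have h1 : ⁅l, f k⁆ ∈ L.map f ⊓ T := by
        refine ⟨?_, ?_⟩
        · rw [SetLike.mem_coe, commutatorElement_def, show l * f k * l⁻¹ * (f k)⁻¹ = l * (f k * l⁻¹ * (f k)⁻¹) by group]
          exact (L.map f).mul_mem hl ((Subgroup.mem_normalizer_iff.mp (hELb hkE) _).mp ((L.map f).inv_mem hl))
        · rw [SetLike.mem_coe, commutatorElement_def]
          exact T.mul_mem ((Subgroup.mem_normalizer_iff.mp (hTn _ hl) _).mp htT) (T.inv_mem htT)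
      rw [hdisj, Subgroup.mem_bot] at h1
      exact (commutatorElement_eq_one_iff_commute.mp h1).eq
    · by_cases hp2 : p = 2
      · refine Or.inr ?_
        set P := E.map f ⊔ T
        have hPp : IsPGroup p P := IsPGroup.to_sup_of_normal_right (hEp.map f) hTp
        obtain ⟨S0, hS0⟩ := hPp.exists_le_sylow
        obtain ⟨S⟩ : Nonempty (Sylow p X) := inferInstance
        obtain ⟨g, hg⟩ := MulAction.exists_smul_eq (X ⧸ O) (S.mapSurjective hfs) S0
        obtain ⟨g0, rfl⟩ := hfs g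
        set S' := g0 • S
        have hle : P ≤ (S' : Subgroup X).map f := by
          refine hS0.trans (fun y hy => ?_)
          rw [← hg, Sylow.coe_subgroup_smul, Sylow.coe_mapSurjective] at hy
          obtain ⟨_, ⟨s, hs, rfl⟩, rfl⟩ := hy
          refine ⟨g0 * s * g0⁻¹, ?_, by simp⟩
          rw [Sylow.coe_subgroup_smul]
          exact ⟨s, hs, rfl⟩
        intro a ha b hb c hc
        obtain ⟨a', ha', rfl⟩ := hle ha
        obtain ⟨b', hb', rfl⟩ := hle hb
        obtain ⟨c', hc', rfl⟩ := hle hc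
        rw [← map_commutatorElement]
        exact (hclass hp2 _ S'.isPGroup' a' ha' b' hb' c' hc').map f
      · exact Or.inl hp2
  intro l hl
  have h1 : f l ∈ L.map f ⊓ T :=
    ⟨⟨l, hl, rfl⟩, hTC (Subgroup.mem_centralizer_iff.mpr fun t ht =>
      (Subgroup.mem_centralizer_iff.mp (hmain ht) (f l) ⟨l, hl, rfl⟩).symm)⟩
  rw [hdisj, Subgroup.mem_bot] at h1
  exact (QuotientGroup.eq_one_iff l).mp h1

variable {G : Type*} [Group G] [Finite G]

theorem main (hloc : ∀ T : Subgroup G, IsPGroup p T → T ≠ ⊥ →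
      Cfsg.IsPConstrained p ↥(Subgroup.normalizer (T : Set G)))
    (h2 : p = 2 → ∀ S : Sylow p G, Group.IsNilpotent (S : Subgroup G) ∧ Group.nilpotencyClass (S : Subgroup G) ≤ 2)
    {E : Subgroup G} (hEp : IsPGroup p E) (hEc : IsMulCommutative E) (hE3 : ¬ Cfsg.PRankLE p 2 E)
    (hfull : ∀ x ∈ Subgroup.centralizer (E : Set G), IsPGroup p (Subgroup.zpowers x) → x ∈ E)
    {q : ℕ} [hq : Fact q.Prime] (hqp : q ≠ p) :
    ∀ Q₁ ∈ Cfsg.maxInvSubgroups ⊤ E {q}, ∀ Q₂ ∈ Cfsg.maxInvSubgroups ⊤ E {q},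
      ∃ k ∈ Cfsg.piCoreOf (Cfsg.primesNotDvd p) (Subgroup.centralizer (E : Set G)),
        Q₂ = Q₁.map (MulAut.conj k).toMonoidHom := by
  classical
  set K := Cfsg.piCoreOf (Cfsg.primesNotDvd p) (Subgroup.centralizer (E : Set G)) with hK
  have hKC : K ≤ Subgroup.centralizer (E : Set G) := Transitivity.piCoreOf_le _ _
  have hclassG : p = 2 → ∀ P : Subgroup G, IsPGroup p P → ∀ a ∈ P, ∀ b ∈ P, ∀ c ∈ P, Commute ⁅a, b⁆ c := by
    intro hp2 P hP a ha b hb c hc
    obtain ⟨S, hS⟩ := hP.exists_le_sylow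
    obtain ⟨hn, hcl⟩ := h2 hp2 S
    haveI := hn
    have hbot := Subgroup.lowerCentralSeries_eq_bot_iff_nilpotencyClass_le.mpr hcl
    have h1 : ⁅⁅(⟨a, hS ha⟩ : (S : Subgroup G)), (⟨b, hS hb⟩ : (S : Subgroup G))⁆, (⟨c, hS hc⟩ : (S : Subgroup G))⁆ ∈
        Subgroup.lowerCentralSeries (⊤ : Subgroup (S : Subgroup G)) 2 :=
      Subgroup.commutator_mem_commutator (Subgroup.commutator_mem_commutator (Subgroup.mem_top _) (Subgroup.mem_top _))
        (Subgroup.mem_top _)
    rw [hbot, Subgroup.mem_bot] at h1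
    have h3 := congrArg Subtype.val h1
    exact commutatorElement_eq_one_iff_commute.mp (by simpa [commutatorElement_def] using h3)
  obtain ⟨E', hE', hE'e, hE'3⟩ := UniqueTools.exists_isEA_of_not_rankLE hE3
  obtain ⟨E₀, hE₀, hE₀e, hE₀c⟩ : ∃ E₀ : Subgroup G, E₀ ≤ E ∧ Cfsg.IsElementaryAbelian p E₀ ∧ Nat.card E₀ = p ^ 3 := by
    obtain ⟨j, hj⟩ := (Fusion.Thompson.isPGroup_isEA hE'e).exists_card_eq
    rw [hj] at hE'3
    obtain ⟨X, hX⟩ := Sylow.exists_subgroup_card_pow_prime (G := E') p (n := 3)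
      (hj ▸ pow_dvd_pow p ((Nat.pow_le_pow_iff_right hp.out.one_lt).mp hE'3))
    haveI := hE'e.1
    refine ⟨X.map E'.subtype, (Subgroup.map_subtype_le _).trans hE', ⟨?_, fun x hx => hE'e.2 x (Subgroup.map_subtype_le _ hx)⟩,
      by rw [Subgroup.card_map_of_injective E'.subtype_injective, hX]⟩
    exact Subgroup.le_centralizer_iff_isMulCommutative.mp (((Subgroup.map_subtype_le _).trans E'.le_centralizer).trans
      (Subgroup.centralizer_le (Subgroup.map_subtype_le _)))
  have hE₀3 : p ^ (2 + 1) ≤ Nat.card E₀ := hE₀c.ge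
  have hE₀cap : Nat.card E₀ < p ^ 4 := hE₀c ▸ Nat.pow_lt_pow_right hp.out.one_lt (by norm_num)
  haveI := hE₀e.1
  have hE₀p := Fusion.Thompson.isPGroup_isEA hE₀e
  -- signalizers
  have hsig : ∀ a ∈ E, a ≠ 1 → a ^ p = 1 → ∃ O : Subgroup G, O ≤ Subgroup.centralizer ({a} : Set G) ∧
      (Nat.card O).Coprime p ∧ Subgroup.centralizer ({a} : Set G) ≤ Subgroup.normalizer (O : Set G) ∧
      ∀ L : Subgroup G, L ≤ Subgroup.centralizer ({a} : Set G) → (Nat.card L).Coprime p →
        E ≤ Subgroup.normalizer (L : Set G) → L ≤ O := by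
    intro a ha ha1 hap
    set N := Subgroup.normalizer (Subgroup.zpowers a : Set G) with hN
    have hCN : Subgroup.centralizer ({a} : Set G) ≤ N := by
      refine le_trans ?_ (Subgroup.centralizer_le_normalizer _)
      rw [Subgroup.zpowers_eq_closure, Subgroup.centralizer_closure]
    haveI := hEc
    have hEC : E ≤ Subgroup.centralizer ({a} : Set G) :=
      E.le_centralizer.trans (Subgroup.centralizer_le (by simpa using ha))
    have hEN : E ≤ N := hEC.trans hCN
    have hNc : Cfsg.IsPConstrained p N := hloc _ (hEp.to_le (Subgroup.zpowers_le.mpr ha))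
      (Subgroup.zpowers_ne_bot.mpr ha1)
    set O₀ := (Cfsg.pPrimeCore p N).map N.subtype with hO₀
    refine ⟨O₀ ⊓ Subgroup.centralizer ({a} : Set G), inf_le_right, ?_, ?_, ?_⟩
    · refine Nat.Coprime.coprime_dvd_left (Subgroup.card_dvd_of_le inf_le_left) ?_
      rw [hO₀, Subgroup.card_map_of_injective N.subtype_injective]
      exact Solvable.Cores.coprime_card_pPrimeCore p
    · refine (le_inf (hCN.trans ?_) Subgroup.le_normalizer).trans Subgroup.inf_normalizer_le_normalizer_inf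
      refine (Subgroup.normal_subgroupOf_iff_le_normalizer (Subgroup.map_subtype_le _)).mp ?_
      rw [Subgroup.subgroupOf, Subgroup.comap_map_eq_self_of_injective N.subtype_injective]
      infer_instance
    · intro L hLC hL hEL
      refine le_inf (fun l hl => ⟨⟨l, hCN (hLC hl)⟩, ?_, rfl⟩) hLC
      refine le_core hNc (E := E.subgroupOf N) (L := L.subgroupOf N) (hEp.comap_of_injective N.subtype N.subtype_injective)
        (fun x hx hxp => ?_) (fun hp2 P hP u hu v hv w hw => ?_) ?_ ?_ hl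
      · refine hfull x (Subgroup.mem_centralizer_iff.mpr fun e he => ?_) ?_
        · exact congrArg Subtype.val (Subgroup.mem_centralizer_iff.mp hx ⟨e, hEN he⟩ he)
        · have := hxp.map N.subtype
          rwa [MonoidHom.map_zpowers] at this
      · have h := hclassG hp2 (P.map N.subtype) (hP.map _) u ⟨u, hu, rfl⟩ v ⟨v, hv, rfl⟩ w ⟨w, hw, rfl⟩
        exact Subtype.ext (by simpa [commutatorElement_def] using h.eq)
      · rwa [Nat.card_congr (Subgroup.subgroupOfEquivOfLe (hLC.trans hCN)).toEquiv]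
      · intro e he
        exact Subgroup.le_normalizer_comap N.subtype (hEL he)
  -- conjugacy
  have hconj_mem : ∀ {k : G}, k ∈ K → k ∈ Subgroup.normalizer (E : Set G) := fun hk =>
    Transitivity.centralizer_le_normalizer' E (hKC hk)
  suffices key : ∀ (m : ℕ), ∀ Q₁ ∈ Cfsg.maxInvSubgroups ⊤ E {q}, ∀ Q₂ ∈ Cfsg.maxInvSubgroups ⊤ E {q},
      Nat.card G - Nat.card (Q₁ ⊓ Q₂ : Subgroup G) = m → ∃ k ∈ K, Q₂ = Q₁.map (MulAut.conj k).toMonoidHom from
    fun Q₁ h₁ Q₂ h₂ => key _ Q₁ h₁ Q₂ h₂ rfl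
  intro m
  induction m using Nat.strong_induction_on with
  | _ m ih =>
  intro Q₁ h₁ Q₂ h₂ hm
  obtain ⟨h1p, h1E⟩ := (Transitivity.mem_inv_top hq.out).mp h₁.1
  obtain ⟨h2p, h2E⟩ := (Transitivity.mem_inv_top hq.out).mp h₂.1
  set D := Q₁ ⊓ Q₂ with hD
  by_cases hD1 : D = Q₁
  · exact ⟨1, one_mem _, by
      rw [h₁.2 Q₂ h₂.1 (hD1 ▸ inf_le_right)]
      exact (Coprime.conj_map_eq_self_of_mem_normalizer (one_mem _)).symm⟩
  by_cases hD2 : D = Q₂
  · exact ⟨1, one_mem _, by
      rw [← h₂.2 Q₁ h₁.1 (hD2 ▸ inf_le_left)]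
      exact (Coprime.conj_map_eq_self_of_mem_normalizer (one_mem _)).symm⟩
  have hlt1 : D < Q₁ := lt_of_le_of_ne inf_le_left hD1
  have hlt2 : D < Q₂ := lt_of_le_of_ne inf_le_right hD2
  set R₁ := Q₁ ⊓ Subgroup.normalizer (D : Set G) with hR₁
  set R₂ := Q₂ ⊓ Subgroup.normalizer (D : Set G) with hR₂
  have hDR1 : D < R₁ := Coprime.lt_normalizer_inf_of_lt h1p hlt1
  have hDR2 : D < R₂ := Coprime.lt_normalizer_inf_of_lt h2p hlt2
  have hED : E ≤ Subgroup.normalizer (D : Set G) := (le_inf h1E h2E).trans Subgroup.inf_normalizer_le_normalizer_inf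
  have hER1 : E ≤ Subgroup.normalizer (R₁ : Set G) :=
    (le_inf h1E (hED.trans Subgroup.le_normalizer)).trans Subgroup.inf_normalizer_le_normalizer_inf
  have hER2 : E ≤ Subgroup.normalizer (R₂ : Set G) :=
    (le_inf h2E (hED.trans Subgroup.le_normalizer)).trans Subgroup.inf_normalizer_le_normalizer_inf
  have hfind : ∀ {R : Subgroup G}, IsPGroup q R → E ≤ Subgroup.normalizer (R : Set G) → D < R →
      ∃ B : Subgroup G, B ≤ E₀ ∧ p ^ 2 ≤ Nat.card B ∧ ¬ R ⊓ Subgroup.centralizer (B : Set G) ≤ D := by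
    intro R hRq hER hDR
    have hcop : (Nat.card E₀).Coprime (Nat.card R) := by
      obtain ⟨i, hi⟩ := hE₀p.exists_card_eq
      obtain ⟨j, hj⟩ := hRq.exists_card_eq
      rw [hi, hj]; exact ((Nat.coprime_primes hp.out hq.out).mpr hqp.symm).pow i j
    by_contra hno
    push Not at hno
    refine hDR.not_ge ?_
    rw [← Coprime.iSup_centralizer_of_cyclic_quotient (A := E₀) (hE₀.trans hER) hcop]
    refine iSup₂_le fun B hB => hno B hB.1 ?_
    obtain ⟨a, ha, hsup⟩ := hB.2
    haveI := hE₀e.1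
    have h1 := Fusion.Thompson.card_sup_mul_card_inf (N := B) (K := Subgroup.zpowers a)
      (Subgroup.zpowers_le.mpr (Subgroup.centralizer_le_normalizer _
        (Subgroup.centralizer_le hB.1 (E₀.le_centralizer ha))))
    rw [hsup] at h1
    have h2 : Nat.card (Subgroup.zpowers a) ≤ p := by
      rw [Nat.card_zpowers]; exact orderOf_le_of_pow_eq_one hp.out.pos (hE₀e.2 a ha)
    have h3 : p ^ (2 + 1) ≤ Nat.card B * p :=
      hE₀3.trans (((Nat.le_mul_of_pos_right _ Nat.card_pos).trans h1.le).trans (Nat.mul_le_mul_left _ h2))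
    rw [pow_succ] at h3
    exact Nat.le_of_mul_le_mul_right h3 hp.out.pos
  obtain ⟨B₁, hB₁, hB₁c, hR₁B⟩ := hfind (h1p.to_le inf_le_left) hER1 hDR1
  obtain ⟨B₂, hB₂, hB₂c, hR₂B⟩ := hfind (h2p.to_le inf_le_left) hER2 hDR2
  obtain ⟨a, ⟨ha₁, ha₂⟩, ha1⟩ : ∃ a ∈ B₁ ⊓ B₂, a ≠ 1 := by
    by_contra hno
    push Not at hno
    have hb : B₁ ⊓ B₂ = ⊥ := eq_bot_iff.mpr fun b hb => Subgroup.mem_bot.mpr (hno b hb)
    have h := Fusion.Thompson.card_sup_mul_card_inf (N := B₁) (K := B₂)
      (hB₂.trans ((E₀.le_centralizer.trans (Subgroup.centralizer_le hB₁)).trans (Subgroup.centralizer_le_normalizer _)))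
    rw [hb, Subgroup.card_bot, mul_one] at h
    obtain ⟨j, hj⟩ := hE₀p.exists_card_eq
    have hle : Nat.card (B₁ ⊔ B₂ : Subgroup G) ≤ Nat.card E₀ := Subgroup.card_le_of_le (sup_le hB₁ hB₂)
    -- `|E₀| = p ^ 3` may be assumed
    have h4 : p ^ 4 ≤ Nat.card E₀ := by
      calc p ^ 4 = p ^ 2 * p ^ 2 := by rw [← pow_add]
        _ ≤ Nat.card B₁ * Nat.card B₂ := Nat.mul_le_mul hB₁c hB₂c
        _ ≤ _ := h ▸ hle
    exact absurd h4 (not_le.mpr (hE₀cap))
  have haE : a ∈ E := hE₀ (hB₁ ha₁)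
  obtain ⟨O, hOC, hOp, hON, hOmax⟩ := hsig a haE ha1 (hE₀e.2 a (hB₁ ha₁))
  haveI := hEc
  have hEa : E ≤ Subgroup.centralizer ({a} : Set G) :=
    E.le_centralizer.trans (Subgroup.centralizer_le (by simpa using haE))
  set W := O ⊓ Subgroup.normalizer (D : Set G) with hW
  have hEW : E ≤ Subgroup.normalizer (W : Set G) :=
    (le_inf (hEa.trans hON) (hED.trans Subgroup.le_normalizer)).trans Subgroup.inf_normalizer_le_normalizer_inf
  have hCE : E ≤ Subgroup.normalizer (Subgroup.centralizer ({a} : Set G) : Set G) := hEa.trans Subgroup.le_normalizer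
  have hCq : ∀ {R : Subgroup G}, IsPGroup q R → E ≤ Subgroup.normalizer (R : Set G) →
      R ≤ Subgroup.normalizer (D : Set G) → R ⊓ Subgroup.centralizer ({a} : Set G) ≤ W := by
    intro R hRq hER hRD
    refine le_inf (hOmax _ inf_le_right ?_ ((le_inf hER hCE).trans Subgroup.inf_normalizer_le_normalizer_inf))
      (inf_le_left.trans hRD)
    obtain ⟨j, hj⟩ := (hRq.to_le (inf_le_left : R ⊓ Subgroup.centralizer ({a} : Set G) ≤ R)).exists_card_eq
    rw [hj]; exact ((Nat.coprime_primes hq.out hp.out).mpr hqp).pow_left j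
  have hcopW : (Nat.card E).Coprime (Nat.card W) := by
    obtain ⟨j, hj⟩ := hEp.exists_card_eq
    rw [hj]; exact ((hOp.coprime_dvd_left (Subgroup.card_dvd_of_le inf_le_left)).symm).pow_left j
  have hEsolv : Group.IsSolvable E := IsNilpotent.to_isSolvable (h := hEp.isNilpotent)
  set L₁ := R₁ ⊓ Subgroup.centralizer ({a} : Set G)
  set L₂ := R₂ ⊓ Subgroup.centralizer ({a} : Set G)
  have hL1q : IsPGroup q L₁ := h1p.to_le (inf_le_left.trans inf_le_left)
  have hL2q : IsPGroup q L₂ := h2p.to_le (inf_le_left.trans inf_le_left)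
  have hEL1 : E ≤ Subgroup.normalizer (L₁ : Set G) := (le_inf hER1 hCE).trans Subgroup.inf_normalizer_le_normalizer_inf
  have hEL2 : E ≤ Subgroup.normalizer (L₂ : Set G) := (le_inf hER2 hCE).trans Subgroup.inf_normalizer_le_normalizer_inf
  obtain ⟨S₁, hS₁, hES₁⟩ := Coprime.exists_le_invariant_sylow hEW hcopW (Or.inl hEsolv)
    (hCq (h1p.to_le inf_le_left) hER1 inf_le_right) hL1q hEL1
  obtain ⟨S₂, hS₂, hES₂⟩ := Coprime.exists_le_invariant_sylow hEW hcopW (Or.inl hEsolv)
    (hCq (h2p.to_le inf_le_left) hER2 inf_le_right) hL2q hEL2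
  obtain ⟨c, hc, hce⟩ := Coprime.exists_centralizer_conj_sylow hEW hcopW (Or.inl hEsolv) S₂ S₁ hES₂ hES₁
  have hcD : (c : G) ∈ Subgroup.normalizer (D : Set G) := c.2.2
  have hcK : (c : G) ∈ K := by
    have hN : Subgroup.centralizer (E : Set G) ≤ Subgroup.normalizer
        ((O ⊓ Subgroup.centralizer (E : Set G) : Subgroup G) : Set G) :=
      (le_inf ((Subgroup.centralizer_le (by simpa using haE)).trans hON) Subgroup.le_normalizer).trans
        Subgroup.inf_normalizer_le_normalizer_inf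
    exact Transitivity.le_piCoreOf inf_le_right hN (hOp.coprime_dvd_left (Subgroup.card_dvd_of_le inf_le_left))
      ⟨c.2.1, hc⟩
  set S := (S₁ : Subgroup W).map W.subtype with hS
  have hSq : IsPGroup q S := S₁.isPGroup'.map _
  have hSD : S ≤ Subgroup.normalizer (D : Set G) := (Subgroup.map_subtype_le _).trans inf_le_right
  have hSDp : IsPGroup q (D ⊔ S : Subgroup G) := IsPGroup.to_sup_of_normal_left' (h1p.to_le inf_le_left) hSq hSD
  have hESD : E ≤ Subgroup.normalizer ((D ⊔ S : Subgroup G) : Set G) := by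
    refine fun e he => Subgroup.mem_normalizer_iff_map_conj_eq.mpr ?_
    rw [Subgroup.map_sup, Subgroup.mem_normalizer_iff_map_conj_eq.mp (hED he),
      Subgroup.mem_normalizer_iff_map_conj_eq.mp (hES₁ he)]
  obtain ⟨Q₃, h₃, hle3⟩ := Transitivity.exists_max hq.out hSDp hESD
  have hcmax := Transitivity.map_conj_max hq.out (hconj_mem hcK) h₂
  set Q₂' := Q₂.map (MulAut.conj (c : G)).toMonoidHom with hQ₂'
  have hL2S : L₂.map (MulAut.conj (c : G)).toMonoidHom ≤ S := by
    rw [hS, ← hce, Coprime.map_smul_sylow]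
    exact Subgroup.map_mono hS₂
  have hDc : D.map (MulAut.conj (c : G)).toMonoidHom = D := Subgroup.mem_normalizer_iff_map_conj_eq.mp hcD
  have hlt13 : Nat.card D < Nat.card (Q₁ ⊓ Q₃ : Subgroup G) := by
    refine lt_of_lt_of_le ?_ (Subgroup.card_le_of_le (le_inf (sup_le (a := D) inf_le_left
      (inf_le_left.trans inf_le_left : L₁ ≤ Q₁)) ((sup_le_sup_left hS₁ D).trans hle3)))
    refine Set.ncard_lt_ncard (SetLike.coe_ssubset_coe.mpr (lt_of_le_of_ne le_sup_left fun h => hR₁B ?_))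
    refine le_trans ?_ (le_sup_right.trans h.ge)
    exact inf_le_inf_left _ (Subgroup.centralizer_le (by simpa using ha₁))
  have hlt23 : Nat.card D < Nat.card (Q₃ ⊓ Q₂' : Subgroup G) := by
    refine lt_of_lt_of_le ?_ (Subgroup.card_le_of_le (le_inf
      ((sup_le_sup_left hL2S D).trans hle3) (sup_le (hDc.ge.trans (Subgroup.map_mono inf_le_right))
        (Subgroup.map_mono (inf_le_left.trans inf_le_left : L₂ ≤ Q₂)))))
    refine Set.ncard_lt_ncard (SetLike.coe_ssubset_coe.mpr (lt_of_le_of_ne le_sup_left fun h => hR₂B ?_))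
    have h5 : L₂.map (MulAut.conj (c : G)).toMonoidHom ≤ D.map (MulAut.conj (c : G)).toMonoidHom :=
      hDc.symm ▸ (le_sup_right.trans h.ge)
    refine le_trans ?_ ((Subgroup.map_le_map_iff_of_injective (MulAut.conj (c : G)).injective).mp h5)
    exact inf_le_inf_left _ (Subgroup.centralizer_le (by simpa using ha₂))
  have hbound : ∀ U : Subgroup G, Nat.card U ≤ Nat.card G := fun U => Subgroup.card_le_card_group U
  obtain ⟨k₁, hk₁, e₁⟩ := ih _ (by have := hbound (Q₁ ⊓ Q₃); omega) Q₁ h₁ Q₃ h₃ rfl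
  obtain ⟨k₂, hk₂, e₂⟩ := ih _ (by have := hbound (Q₃ ⊓ Q₂'); omega) Q₃ h₃ Q₂' hcmax rfl
  refine ⟨(c : G)⁻¹ * (k₂ * k₁), mul_mem (inv_mem hcK) (mul_mem hk₂ hk₁), ?_⟩
  rw [← Transitivity.map_conj_conj, ← Transitivity.map_conj_conj, ← e₁, ← e₂, hQ₂', Transitivity.map_conj_inv]

end CfsgLib.OddOrder.ConstrainedTransitivity
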