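import Cfsg.Agent.Lib.OddOrder.SylowCentral
import Cfsg.Agent.Lib.Fusion.Alperin
import Mathlib

set_option autoImplicit false
set_option linter.style.haveILetI false
set_option linter.unusedSectionVars false

/-!
Fixed points on `M_σ` of subgroups of cyclic Sylow subgroups.
-/

namespace CfsgLib.OddOrder.CyclicFix

open scoped commutatorElement
open A2Transitive (MaxPlane)
open SigmaFusion (cj)
open Exceptional (Exc)

variable {G : Type*} [Group G] [Finite G] {q r : ℕ} [hqf : Fact q.Prime] [hrf : Fact r.Prime] {M L : Subgroup G}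

/-- In `L'`, outside `β(L)`, elements of order prime to `q` centralise the `q`-subgroups they normalise. -/
theorem centralizes_of_not_beta (hG : Cfsg.IsMinSimpleOddOrder G) (hL : IsCoatom L) (hqr : q ≠ r)
    (hqb : q ∉ Cfsg.beta L) {Q R : Subgroup G} (hQ : IsPGroup q Q) (hR : IsPGroup r R) (hQL : Q ≤ ⁅L, L⁆)
    (hRL : R ≤ ⁅L, L⁆) (hRQ : R ≤ Subgroup.normalizer (Q : Set G)) : R ≤ Subgroup.centralizer (Q : Set G) := by
  rcases hQ.card_eq_or_dvd with h1 | h1
  · intro x _
    refine Subgroup.mem_centralizer_iff.mpr fun a ha => ?_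
    rw [Subgroup.eq_bot_of_card_eq _ h1] at ha
    simp [Set.mem_singleton_iff.mp (by simpa using ha)]
  set H := Q ⊔ R with hH
  have hnpc := NarrowMaximal.npc_of_le_derived hG hL
    (h1.trans (Subgroup.card_dvd_of_le (hQL.trans (SigmaComplement.derived_le_self L)))) hqb
    (sup_le hQL hRL : H ≤ ⁅L, L⁆)
  intro x hx
  refine Subgroup.mem_centralizer_iff.mpr fun a ha => ?_
  have hQ' : IsPGroup q (Q.subgroupOf H) :=
    hQ.of_equiv (Subgroup.subgroupOfEquivOfLe (le_sup_left : Q ≤ H)).symm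
  have hxN : (⟨x, Subgroup.mem_sup_right hx⟩ : H) ∈ Subgroup.normalizer (Q.subgroupOf H : Set H) := by
    refine Subgroup.mem_normalizer_iff.mpr fun b => ?_
    rw [Subgroup.mem_subgroupOf, Subgroup.mem_subgroupOf]
    exact Subgroup.mem_normalizer_iff.mp (hRQ hx) (b : G)
  obtain ⟨i, hi⟩ := IsPGroup.iff_orderOf.mp hR ⟨x, hx⟩
  rw [Subgroup.orderOf_mk] at hi
  have hc := Fusion.Alperin.centralizes_of_npc hnpc hQ' hxN (by
    rw [Subgroup.orderOf_mk, hi]
    exact ((Nat.coprime_primes hrf.out hqf.out).mpr hqr.symm).pow_left i)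
  exact congrArg Subtype.val (Subgroup.mem_centralizer_iff.mp hc ⟨a, Subgroup.mem_sup_left ha⟩ ha)

/-- A plane of `L` through a line `Y` with `N(Y) ≤ L`. -/
theorem exists_exc_through (hG : Cfsg.IsMinSimpleOddOrder G) (hL : IsCoatom L) (hrL : r ∉ Cfsg.sigma L)
    {Y : Subgroup G} (hY : Nat.card Y = r) (hNY : Subgroup.normalizer (Y : Set G) ≤ L) :
    ∃ B : Subgroup G, Exc r L B Y := by
  obtain ⟨-, -, B, hBe, hBc, hYB⟩ := TauTwo.of_normalizer_le hG hL hrL hY hNY
  have hBL : B ≤ L := fun b hb => hNY (Subgroup.centralizer_le_normalizer _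
    (Subgroup.mem_centralizer_iff.mpr fun a ha => (PlaneSylow.comm_of hBe.1 (hYB ha) hb).eq))
  exact ⟨B, hL, hrL, hBL, hBe, hBc, hYB, hY, hNY⟩

/-- **Fixed points of cyclic Sylow subgroups.** -/
theorem centralizes (hG : Cfsg.IsMinSimpleOddOrder G) (hM : IsCoatom M) (hrs : r ∉ Cfsg.sigma M)
    (hr1 : Cfsg.PRankLE r 1 M) (hqs : q ∈ Cfsg.sigma M) {Q R : Subgroup G} (hQ : IsPGroup q Q) (hQM : Q ≤ M)
    (hR : IsPGroup r R) (hRM : R ≤ M) (hRQ : R ≤ Subgroup.normalizer (Q : Set G)) {y : G} (hyR : y ∈ R)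
    (hy : orderOf y = r) (hQy : Q ≤ Subgroup.centralizer ({y} : Set G)) :
    Q ≤ Subgroup.centralizer (R : Set G) := by
  have hqr : q ≠ r := fun e => hrs (e ▸ hqs)
  haveI : IsCyclic R := SigmaComplement.isCyclic_of_rank_one hG.1 hRM hR hr1
  have hRab : IsMulCommutative R := inferInstance
  set Y := Subgroup.zpowers y with hY
  have hYc : Nat.card Y = r := by rw [hY, Nat.card_zpowers, hy]
  obtain ⟨L, hL, hNY⟩ := Uniqueness.exists_coatom_normalizer (p := r) hG.2 (P := Y)
    (fun (e : Y = ⊥) => hrf.out.ne_one (by rw [← hYc, e, Subgroup.card_bot]))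
    (IsPGroup.of_card (n := 1) (by rw [hYc, pow_one]))
  have hCL : Subgroup.centralizer ({y} : Set G) ≤ L :=
    ((SigmaTools.centralizer_zpowers y).ge.trans (Subgroup.centralizer_le_normalizer _)).trans hNY
  have hQL : Q ≤ L := hQy.trans hCL
  have hRL : R ≤ L := (fun x hx => hCL (Subgroup.mem_centralizer_singleton_iff.mpr
    (PlaneSylow.comm_of hRab hx hyR).eq) : R ≤ L)
  have hLM : L ≠ M := fun e => (TauTwo.of_normalizer_le hG hM hrs hYc (e ▸ hNY)).1.2 hr1
  by_cases hqL : q ∈ Cfsg.sigma L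
  · by_cases hrL : r ∈ Cfsg.sigma L
    · by_cases hqb : q ∈ Cfsg.beta L
      · obtain ⟨x, hx⟩ := SigmaTools.exists_cj_of_alpha hG hL hM hqb.1 hqs
        exact absurd (hx ▸ SigmaTools.sigma_cj hrL x) hrs
      · exact Subgroup.le_centralizer_iff.mp (centralizes_of_not_beta hG hL hqr hqb hQ hR
          ((SigmaTools.pGroup_le_sigmaCore hG hL hqL hQL hQ).trans (SigmaCore.le_derived hG hL))
          ((SigmaTools.pGroup_le_sigmaCore hG hL hrL hRL hR).trans (SigmaCore.le_derived hG hL)) hRQ)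
    · exfalso
      obtain ⟨B, hB⟩ := exists_exc_through hG hL hrL hYc hNY
      haveI := hB.sigma_nilpotent hG
      obtain ⟨x, hx⟩ := PlaneMaximal.exists_cj_of_nilpotent hG hL hqL hM hqs
      refine UniqueTools.not_pRankLE_of_isEA (Fusion.Thompson.isEA_map (MulAut.conj x).toMonoidHom hB.ea) ?_
        ((Subgroup.map_mono hB.le).trans hx.ge) hr1
      rw [Subgroup.card_map_of_injective (MulAut.conj x).injective, hB.card]
  · by_cases hrL : r ∈ Cfsg.sigma L
    · refine Subgroup.commutator_eq_bot_iff_le_centralizer.mp (le_bot_iff.mp ?_)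
      obtain ⟨k, hk⟩ := hQ.exists_card_eq
      have hbot : Q ⊓ Cfsg.sigmaCore L = ⊥ := (Subgroup.disjoint_of_coprime_natCard
        (hk ▸ ((SigmaTools.coprime_sigmaCore hqL).symm.pow_left k))).eq_bot
      rw [← hbot]
      refine le_inf (Subgroup.le_normalizer_iff_commutator_le_left.1 hRQ) ?_
      rw [Subgroup.commutator_comm]
      exact (Subgroup.commutator_mono (SigmaTools.pGroup_le_sigmaCore hG hL hrL hRL hR) le_rfl).trans
        (Subgroup.le_normalizer_iff_commutator_le_left.1 (hQL.trans (SigmaTools.le_normalizer_sigmaCore L)))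
    obtain ⟨B₁, hB₁⟩ := exists_exc_through hG hL hrL hYc hNY
    have hτ : r ∈ Cfsg.tau2 L :=
      ⟨hrf.out, hrL, hB₁.rank_two hG, UniqueTools.not_pRankLE_of_isEA hB₁.ea hB₁.card.ge hB₁.le⟩
    have hQR : ∀ t : ℕ, t.Prime → t ∣ Nat.card ↥(Q ⊔ R) → t ∉ Cfsg.sigma L := by
      intro t ht hd hts
      haveI := Fact.mk ht
      have hbot : Disjoint Q R := by
        obtain ⟨i, hi⟩ := hQ.exists_card_eq
        obtain ⟨j, hj⟩ := hR.exists_card_eq
        exact Subgroup.disjoint_of_coprime_natCard (hi ▸ hj ▸ ((Nat.coprime_primes hqf.out hrf.out).mpr hqr).pow i j)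
      rw [Coprime.card_sup_of_le_normalizer hRQ hbot] at hd
      rcases ht.dvd_mul.mp hd with h | h
      · obtain ⟨i, hi⟩ := hQ.exists_card_eq
        rw [hi] at h
        exact hqL ((Nat.prime_dvd_prime_iff_eq ht hqf.out).mp (ht.dvd_of_dvd_pow h) ▸ hts)
      · obtain ⟨j, hj⟩ := hR.exists_card_eq
        rw [hj] at h
        exact hrL ((Nat.prime_dvd_prime_iff_eq ht hrf.out).mp (ht.dvd_of_dvd_pow h) ▸ hts)
    obtain ⟨F, hF, hle⟩ := Coprime.exists_hall_ge {t | t ∉ Cfsg.sigma L} (hG.2.2.2 L hL.1) (sup_le hQL hRL) hQR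
    have hFc := SylowCentral.isComplIn_of_hall hG hL hF
    obtain ⟨hQF, hRF⟩ := sup_le_iff.mp hle
    obtain ⟨B, hBF, hBe, hBc⟩ := TauTwoAbelian.exists_plane hFc hτ
    obtain ⟨B₀, hB⟩ := TauTwoStructure.exists_exc hG hL hrL (hBF.trans hFc.1) hBe hBc
    have hFB := TauTwoStructure.normal_in_complement hG hB hFc hBF
    have hRC := TauTwoStructure.pGroup_le_centralizer hG hB hR hRL (hRF.trans hFB)
    obtain ⟨S, hBS⟩ := (hB.maxPlane hG).isPGroup.exists_le_sylow
    by_cases hab : IsMulCommutative (S : Subgroup G)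
    · refine Subgroup.commutator_eq_bot_iff_le_centralizer.mp (le_bot_iff.mp ?_)
      have hbot : Q ⊓ (S : Subgroup G) = ⊥ := by
        obtain ⟨i, hi⟩ := hQ.exists_card_eq
        obtain ⟨j, hj⟩ := S.isPGroup'.exists_card_eq
        exact (Subgroup.disjoint_of_coprime_natCard (hi ▸ hj ▸ ((Nat.coprime_primes hqf.out hrf.out).mpr hqr).pow i j)).eq_bot
      rw [← hbot]
      refine le_inf (Subgroup.le_normalizer_iff_commutator_le_left.1 hRQ) ?_
      exact (Subgroup.commutator_mono le_rfl (SylowCentral.mem_sylow hG hB hBS hab hR hRC)).trans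
        (Subgroup.le_normalizer_iff_commutator_le_right.1
          ((hQF.trans hFB).trans (SylowCentral.normalizer_le hG hB hBS hab)))
    -- nonabelian case: `R` has order `r`
    suffices hRY : R ≤ Y by
      refine (hQy.trans (SigmaTools.centralizer_zpowers y).ge).trans (Subgroup.centralizer_le (SetLike.coe_subset_coe.mpr hRY))
    have hyB : y ∈ B := (hB.maxPlane hG).mem_of_commute (hy ▸ pow_orderOf_eq_one y) (hRC hyR)
    have hExc : Exc r L B Y := ⟨hL, hrL, hBF.trans hFc.1, hBe, hBc, Subgroup.zpowers_le.mpr hyB, hYc, hNY⟩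
    intro x hx
    by_contra hxY
    obtain ⟨k, hk⟩ := IsPGroup.iff_orderOf.mp hR ⟨x, hx⟩
    rw [Subgroup.orderOf_mk] at hk
    have hle1 : ∀ z ∈ R, z ^ r = 1 → z ∈ Y := fun z hz hzr => by
      by_cases hz1 : z = 1
      · rw [hz1]; exact one_mem _
      exact (Solvable.SupersolvableCriteria.eq_of_card_eq_of_le_cyclic (A := R) (Subgroup.zpowers_le.mpr hz)
        (Subgroup.zpowers_le.mpr hyR) (by rw [Nat.card_zpowers, Nat.card_zpowers, hy, orderOf_eq_prime hzr hz1])).le
        (Subgroup.mem_zpowers z)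
    rcases k with - | - | k
    · exact hxY ((orderOf_eq_one_iff.mp (by rw [hk, pow_zero])) ▸ one_mem _)
    · exact hxY (hle1 x hx (by
        have h2 := pow_orderOf_eq_one x
        rw [hk] at h2
        simpa using h2))
    set w := x ^ r ^ k with hw
    have hwo : orderOf w = r ^ 2 := by
      rw [hw, orderOf_pow' x (pow_ne_zero k hrf.out.ne_zero), hk,
        Nat.gcd_eq_right (pow_dvd_pow r (by omega)), Nat.pow_div (by omega) hrf.out.pos]
      congr 1
      omega
    have hwr : (w ^ r) ^ r = 1 := by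
      rw [← pow_mul, ← sq, ← hwo, pow_orderOf_eq_one]
    have hwY : w ^ r ∈ Y := hle1 _ (pow_mem (pow_mem hx _) r) hwr
    have hwB : w ^ r ∈ B := Subgroup.zpowers_le.mpr hyB hwY
    have hw1 : w ^ r ≠ 1 := fun e => by
      have h2 := orderOf_dvd_of_pow_eq_one e
      rw [hwo] at h2
      have h3 := Nat.le_of_dvd hrf.out.pos h2
      have h4 : r ^ 1 < r ^ 2 := Nat.pow_lt_pow_right hrf.out.one_lt one_lt_two
      rw [pow_one] at h4
      omega
    obtain ⟨T, hT⟩ := (hR.to_sup_of_normal_right' (hB.maxPlane hG).isPGroup (hRF.trans hFB)).exists_le_sylow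
    have hBT : B ≤ (T : Subgroup G) := le_sup_right.trans hT
    have hTna : ¬ IsMulCommutative (T : Subgroup G) := fun hc => hab (by
      obtain ⟨g, hg⟩ := MulAction.exists_smul_eq G T S
      refine ⟨⟨fun a b => Subtype.ext ?_⟩⟩
      have hST : ∀ x ∈ (S : Subgroup G), g⁻¹ * x * g ∈ (T : Subgroup G) := fun x hx =>
        SigmaTools.mem_cj.mp (by rwa [← hg, Sylow.coe_subgroup_smul] at hx)
      have := PlaneSylow.comm_of hc (hST a a.2) (hST b b.2)
      show (a : G) * b = b * a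
      calc (a : G) * b = g * ((g⁻¹ * a * g) * (g⁻¹ * b * g)) * g⁻¹ := by group
        _ = g * ((g⁻¹ * b * g) * (g⁻¹ * a * g)) * g⁻¹ := by rw [this.eq]
        _ = _ := by group)
    have hwZ := TauTwoNonabelian.pow_mem_zLine hG (hB.maxPlane hG) hBT hTna
      (hT (Subgroup.mem_sup_left (pow_mem hx _))) (hRC (pow_mem hx _)) hwB
    refine hExc.ne_zLine hG T ?_
    rw [← (FPFTools.line_eq_zpowers hYc hwY hw1).1,
      (FPFTools.line_eq_zpowers (PlaneSylow.zLine_card hG (hB.maxPlane hG) hBT hTna) hwZ hw1).1]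

end CfsgLib.OddOrder.CyclicFix
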