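import Cfsg.Agent.Lib.OddOrder.SigmaDichotomy
import Mathlib

set_option autoImplicit false
set_option linter.style.haveILetI false
set_option linter.unusedSectionVars false

/-!
Centralisers of elements of `M_σ` which leave `M` (BG 14.4).
-/

namespace CfsgLib.OddOrder.SigmaCentralizer

open scoped commutatorElement
open SigmaFusion (cj)
open RankOneTools (isPGroup_of_card ne_bot_of_card line_of_orderOf)

variable {G : Type*} [Group G] [Finite G] {q : ℕ} [hqf : Fact q.Prime] {M N : Subgroup G} {x y : G}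

omit hqf in
theorem fittingHallOf_le_sigmaCore (hG : Cfsg.IsMinSimpleOddOrder G) (hM : IsCoatom M) :
    Cfsg.fittingHallOf M ≤ Cfsg.sigmaCore M := by
  refine Subgroup.map_mono (sSup_le ?_)
  rintro N ⟨hN, hnil, hcop⟩
  haveI := hN
  haveI := hnil
  refine SigmaBasics.le_piCore fun t ht hd => ?_
  haveI := Fact.mk ht
  obtain ⟨P⟩ : Nonempty (Sylow t M) := inferInstance
  have hPN : (P : Subgroup M) ≤ N := by
    refine SigmaCore.le_of_coprime_index (Nat.coprime_of_dvd fun s hs h1 h2 => ?_)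
    rw [PrimeAction.pGroup_dvd P.isPGroup' hs h1] at h2
    exact ht.ne_one (Nat.eq_one_of_dvd_coprimes hcop hd h2)
  haveI : ((P.subtype hPN : Sylow t N) : Subgroup N).Normal := inferInstance
  haveI := (P.subtype hPN).characteristic_of_normal inferInstance
  have hPn : (P : Subgroup M).Normal := by
    have h : (((P.subtype hPN : Sylow t N) : Subgroup N).map N.subtype).Normal :=
      ConjAct.normal_of_characteristic_of_normal
    rwa [Sylow.coe_subtype, Subgroup.map_subgroupOf_eq_of_le hPN] at h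
  have htM : t ∣ Nat.card M := hd.trans N.card_subgroup_dvd_card
  refine ⟨ht, htM, P, ?_⟩
  set P₁ := (P : Subgroup M).map M.subtype with hP₁
  have hP1 : P₁ ≠ ⊥ := fun e => by
    rw [hP₁, Subgroup.map_eq_bot_iff_of_injective _ M.subtype_injective] at e
    have := P.dvd_card_of_dvd_card htM
    rw [e, Subgroup.card_bot] at this
    exact ht.ne_one (Nat.dvd_one.mp this)
  have hle : M ≤ Subgroup.normalizer (P₁ : Set G) := by
    have h := Subgroup.le_normalizer_map (H := (P : Subgroup M)) M.subtype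
    rwa [Subgroup.normalizer_eq_top (H := (P : Subgroup M)), ← MonoidHom.range_eq_map, Subgroup.range_subtype] at h
  haveI := (P.isPGroup'.map M.subtype).isNilpotent
  exact ((hM.le_iff.mp hle).resolve_left (Uniqueness.normalizer_ne_top hG.2 hP1 inferInstance)).le

omit hqf in
/-- A nilpotent `M_σ` is `M_F`. -/
theorem sigmaCore_eq_fittingHallOf (hG : Cfsg.IsMinSimpleOddOrder G) (hM : IsCoatom M)
    (hn : Group.IsNilpotent (Cfsg.sigmaCore M)) : Cfsg.sigmaCore M = Cfsg.fittingHallOf M := by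
  refine le_antisymm (Basic.le_fittingHallOf (SigmaTools.sigmaCore_le M) (SigmaTools.le_normalizer_sigmaCore M) hn
    (Coprime.hall_coprime (SigmaCore.hall hG hM).1)) (fittingHallOf_le_sigmaCore hG hM)

omit hqf in
/-- Factors of an element commuting with an element of the complement commute with it. -/
theorem split (hcompl : Cfsg.IsComplIn (M ⊓ N) (Cfsg.sigmaCore N) N) {z c : G} (hz : z ∈ M ⊓ N) (hc : c ∈ N)
    (hcz : Commute c z) :
    ∃ a ∈ M ⊓ N, ∃ b ∈ Cfsg.sigmaCore N, c = a * b ∧ Commute a z ∧ Commute b z := by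
  obtain ⟨a, ha, b, hb, rfl⟩ := hcompl.2.2.2 c hc
  have h1 : b * z * b⁻¹ = a⁻¹ * z * a := by
    have h := hcz.eq
    calc b * z * b⁻¹ = a⁻¹ * (a * b * z) * b⁻¹ := by group
      _ = a⁻¹ * (z * (a * b)) * b⁻¹ := by rw [h]
      _ = _ := by group
  have h2 : ⁅b, z⁆ ∈ (M ⊓ N) ⊓ Cfsg.sigmaCore N := by
    refine ⟨?_, ?_⟩
    · rw [commutatorElement_def, h1]
      exact (M ⊓ N).mul_mem ((M ⊓ N).mul_mem ((M ⊓ N).mul_mem ((M ⊓ N).inv_mem ha) hz) ha) ((M ⊓ N).inv_mem hz)
    · rw [show ⁅b, z⁆ = b * (z * b⁻¹ * z⁻¹) by simp [commutatorElement_def, mul_assoc]]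
      exact (Cfsg.sigmaCore N).mul_mem hb ((Subgroup.mem_normalizer_iff.mp
        (SigmaTools.le_normalizer_sigmaCore N hz.2) _).mp ((Cfsg.sigmaCore N).inv_mem hb))
  rw [hcompl.2.2.1, Subgroup.mem_bot, commutatorElement_eq_one_iff_commute] at h2
  refine ⟨a, ha, b, hb, rfl, ?_, h2⟩
  have : Commute (a * b * b⁻¹) z := hcz.mul_left h2.inv_left
  rwa [mul_inv_cancel_right] at this

omit hqf in
theorem not_mem_sigma (hG : Cfsg.IsMinSimpleOddOrder G) (hN : IsCoatom N)
    (hcompl : Cfsg.IsComplIn (M ⊓ N) (Cfsg.sigmaCore N) N) {z : G} (hz : z ∈ M ⊓ N) {t : ℕ} (ht : t.Prime)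
    (hd : t ∣ orderOf z) : t ∉ Cfsg.sigma N := fun h => by
  haveI := Fact.mk ht
  exact SigmaComplement.not_dvd_card hG hN hcompl h (hd.trans (Subgroup.orderOf_dvd_natCard _ hz))

/-- The maximal subgroup over the centraliser of an element of prime order. -/
theorem exists_N (hG : Cfsg.IsMinSimpleOddOrder G) (hM : IsCoatom M) (hy : y ∈ Cfsg.sigmaCore M) (hyo : orderOf y = q)
    (hyM : ¬ Subgroup.centralizer ({y} : Set G) ≤ M) :
    ∃ N : Subgroup G, IsCoatom N ∧ Subgroup.centralizer ({y} : Set G) ≤ N ∧ N ≠ M ∧ (∀ g : G, N ≠ cj g M) ∧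
      q ∈ Cfsg.tau2 N ∧ Group.IsNilpotent (Cfsg.sigmaCore N) ∧ Cfsg.IsComplIn (M ⊓ N) (Cfsg.sigmaCore N) N ∧
      Cfsg.sigmaCore N ⊓ M = ⊥ := by
  set Y := Subgroup.zpowers y with hY
  have hYc : Nat.card Y = q := line_of_orderOf hyo
  obtain ⟨N, hN, hNY⟩ := Uniqueness.exists_coatom_normalizer (p := q) hG.2 (ne_bot_of_card hYc) (isPGroup_of_card hYc)
  have hC : Subgroup.centralizer ({y} : Set G) ≤ N :=
    (SigmaTools.centralizer_zpowers y).ge.trans ((Subgroup.centralizer_le_normalizer _).trans hNY)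
  have hne : N ≠ M := fun e => hyM (e ▸ hC)
  obtain ⟨h1, h2, h3, h4, h5⟩ := SigmaMutual.embedded hG hM
    (SigmaTools.mem_sigma_of_card (hyo ▸ Subgroup.orderOf_dvd_natCard _ hy)) (isPGroup_of_card hYc) (ne_bot_of_card hYc)
    (Subgroup.zpowers_le.mpr (SigmaTools.sigmaCore_le M hy)) hN hne hNY
  exact ⟨N, hN, hC, hne, h1, h2, h3, h4, h5⟩

/-- `N` is the maximal subgroup over `C(x)`, for `x ∈ M_σ` with `C(x)` outside `M`. -/
structure Over (M N : Subgroup G) (x : G) : Prop where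
  coatom : IsCoatom N
  le : Subgroup.centralizer ({x} : Set G) ≤ N
  unique : ∀ L : Subgroup G, IsCoatom L → Subgroup.centralizer ({x} : Set G) ≤ L → L = N
  nonconj : ∀ g : G, N ≠ cj g M
  nilpotent : Group.IsNilpotent (Cfsg.sigmaCore N)
  compl : Cfsg.IsComplIn (M ⊓ N) (Cfsg.sigmaCore N) N
  bot : Cfsg.sigmaCore N ⊓ M = ⊥
  mem : x ∈ M ⊓ N
  tau2 : ∀ t : ℕ, t.Prime → t ∣ orderOf x → t ∈ Cfsg.tau2 N
  fixed : Cfsg.sigmaCore N ⊓ Subgroup.centralizer ({x} : Set G) ≠ ⊥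

omit hqf in
theorem exists_over (hG : Cfsg.IsMinSimpleOddOrder G) (hM : IsCoatom M) (hx : x ∈ Cfsg.sigmaCore M) (hx1 : x ≠ 1)
    (hxM : ¬ Subgroup.centralizer ({x} : Set G) ≤ M) : ∃ N : Subgroup G, Over M N x := by
  obtain ⟨t, ht, htd⟩ := Nat.exists_prime_and_dvd (mt orderOf_eq_one_iff.mp hx1)
  haveI := Fact.mk ht
  have hyo : orderOf (x ^ (orderOf x / t)) = t := orderOf_pow_orderOf_div (orderOf_pos x).ne' htd
  have hle := CN.centralizer_singleton_le_pow x (orderOf x / t)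
  obtain ⟨N, hN, hC, hne, hnc, hτ, hnil, hcompl, hbot⟩ :=
    exists_N hG hM (pow_mem hx _) hyo fun e => hxM (hle.trans e)
  have hxMN : x ∈ M ⊓ N :=
    ⟨SigmaTools.sigmaCore_le M hx, hC (hle (Subgroup.mem_centralizer_singleton_iff.mpr rfl))⟩
  obtain ⟨c, hc, hcM⟩ := SetLike.not_le_iff_exists.mp hxM
  obtain ⟨a, ha, b, hb, rfl, -, hbx⟩ := split hcompl hxMN (hC (hle hc)) (Subgroup.mem_centralizer_singleton_iff.mp hc)
  have hb1 : b ≠ 1 := fun e => hcM (by rw [e, mul_one]; exact ha.1)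
  have hfix : Cfsg.sigmaCore N ⊓ Subgroup.centralizer ({x} : Set G) ≠ ⊥ := fun e =>
    hb1 (Subgroup.mem_bot.mp (e.le ⟨hb, Subgroup.mem_centralizer_singleton_iff.mpr hbx.eq⟩))
  rcases SigmaDichotomy.main hG hN hb hb1 (x' := x) ⟨hxMN.2, Subgroup.mem_centralizer_singleton_iff.mpr hbx.eq.symm⟩
    hx1 (fun s hs hd => not_mem_sigma hG hN hcompl hxMN hs hd) with ⟨hκ, -⟩ | ⟨hall, -, hCN, huniq⟩
  · exact absurd (KappaHall.kappa_rank_one (hκ t ht htd)) hτ.2.2.2
  · exact ⟨N, hN, hCN, huniq, hnc, hnil, hcompl, hbot, hxMN, hall, hfix⟩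

omit hqf in
/-- `C(x) = C_M(x) C_{N_σ}(x)`. -/
theorem Over.compl_centralizer (h : Over M N x) :
    Cfsg.IsComplIn (M ⊓ Subgroup.centralizer ({x} : Set G))
      (Cfsg.sigmaCore N ⊓ Subgroup.centralizer ({x} : Set G)) (Subgroup.centralizer ({x} : Set G)) := by
  refine ⟨inf_le_right, inf_le_right, ?_, fun c hc => ?_⟩
  · refine le_bot_iff.mp (le_trans ?_ h.bot.le)
    exact le_inf (inf_le_right.trans inf_le_left) (inf_le_left.trans inf_le_left)
  · obtain ⟨a, ha, b, hb, rfl, hax, hbx⟩ := split h.compl h.mem (h.le hc) (Subgroup.mem_centralizer_singleton_iff.mp hc)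
    exact ⟨a, ⟨ha.1, Subgroup.mem_centralizer_singleton_iff.mpr hax.eq⟩, b,
      ⟨hb, Subgroup.mem_centralizer_singleton_iff.mpr hbx.eq⟩, rfl⟩

omit hqf in
theorem Over.le_normalizer (h : Over M N x) : Subgroup.centralizer ({x} : Set G) ≤
    Subgroup.normalizer ((Cfsg.sigmaCore N ⊓ Subgroup.centralizer ({x} : Set G) : Subgroup G) : Set G) :=
  (le_inf (h.le.trans (SigmaTools.le_normalizer_sigmaCore N)) Subgroup.le_normalizer).trans
    Subgroup.inf_normalizer_le_normalizer_inf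

omit hqf in
/-- The conjugates of `M` containing `x` are conjugate under `C(x)`. -/
theorem exists_centralizer_conj (hG : Cfsg.IsMinSimpleOddOrder G) (hM : IsCoatom M) (hx : x ∈ Cfsg.sigmaCore M)
    (hx1 : x ≠ 1) {g : G} (hg : x ∈ cj g M) :
    ∃ b ∈ Subgroup.centralizer ({x} : Set G), cj b M = cj g M := by
  obtain ⟨t, ht, htd⟩ := Nat.exists_prime_and_dvd (mt orderOf_eq_one_iff.mp hx1)
  haveI := Fact.mk ht
  set y := x ^ (orderOf x / t) with hydef
  have hyo : orderOf y = t := orderOf_pow_orderOf_div (orderOf_pos x).ne' htd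
  have hy : y ∈ Cfsg.sigmaCore M := pow_mem hx _
  have hY : Nat.card (Subgroup.zpowers y) = t := line_of_orderOf hyo
  obtain ⟨m, hm, c, hc, e⟩ := (SigmaFusion.main hG hM (SigmaTools.mem_sigma_of_card (hyo ▸ Subgroup.orderOf_dvd_natCard _ hy))
    (isPGroup_of_card hY) (ne_bot_of_card hY) (Subgroup.zpowers_le.mpr (SigmaTools.sigmaCore_le M hy))).1 g⁻¹ (by
      refine (Subgroup.map_mono (Subgroup.zpowers_le.mpr (Subgroup.pow_mem _ hg _))).trans ?_
      show cj g⁻¹ (cj g M) ≤ M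
      rw [SigmaFusion.cj_cj, inv_mul_cancel, SigmaFusion.cj_one])
  rw [SigmaTools.centralizer_zpowers] at hc
  have heq : cj g M = cj c⁻¹ M := by
    rw [show g = c⁻¹ * m⁻¹ by rw [← inv_inv g, e, mul_inv_rev], ← SigmaFusion.cj_cj,
      SigmaFusion.cj_eq_self (Subgroup.le_normalizer (inv_mem hm))]
  by_cases hyM : Subgroup.centralizer ({y} : Set G) ≤ M
  · exact ⟨1, one_mem _, by rw [heq, SigmaFusion.cj_one, SigmaFusion.cj_eq_self (Subgroup.le_normalizer (inv_mem (hyM hc)))]⟩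
  obtain ⟨N, hN, hC, hne, hnc, hτ, hnil, hcompl, hbot⟩ := exists_N hG hM hy hyo hyM
  have hyMN : y ∈ M ⊓ N := ⟨SigmaTools.sigmaCore_le M hy, hC (Subgroup.mem_centralizer_singleton_iff.mpr rfl)⟩
  obtain ⟨a, ha, b, hb, hcab, -, hby⟩ := split hcompl hyMN (hC hc) (Subgroup.mem_centralizer_singleton_iff.mp hc)
  have heq' : cj g M = cj b⁻¹ M := by
    rw [heq, hcab, mul_inv_rev, ← SigmaFusion.cj_cj, SigmaFusion.cj_eq_self (Subgroup.le_normalizer (inv_mem ha.1))]
  refine ⟨b⁻¹, ?_, heq'.symm⟩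
  have hxN : x ∈ N := hC (CN.centralizer_singleton_le_pow x _ (Subgroup.mem_centralizer_singleton_iff.mpr rfl))
  have hmem : ⁅b, x⁆ ∈ Cfsg.sigmaCore N ⊓ M := by
    refine ⟨?_, ?_⟩
    · rw [show ⁅b, x⁆ = b * (x * b⁻¹ * x⁻¹) by simp [commutatorElement_def, mul_assoc]]
      exact (Cfsg.sigmaCore N).mul_mem hb ((Subgroup.mem_normalizer_iff.mp
        (SigmaTools.le_normalizer_sigmaCore N hxN) _).mp ((Cfsg.sigmaCore N).inv_mem hb))
    · have := SigmaTools.mem_cj.mp (heq' ▸ hg)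
      rw [inv_inv] at this
      rw [commutatorElement_def]
      exact M.mul_mem this (M.inv_mem (SigmaTools.sigmaCore_le M hx))
  rw [hbot, Subgroup.mem_bot, commutatorElement_eq_one_iff_commute] at hmem
  exact Subgroup.mem_centralizer_singleton_iff.mpr hmem.inv_left.eq

omit hqf in
theorem Over.supportR_eq (hG : Cfsg.IsMinSimpleOddOrder G) (h : Over M N x)
    (hxM : ¬ Subgroup.centralizer ({x} : Set G) ≤ M) :
    Cfsg.supportR M x = Cfsg.sigmaCore N ⊓ Subgroup.centralizer ({x} : Set G) := by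
  have hex : ∃! L : Subgroup G, IsCoatom L ∧ Subgroup.centralizer ({x} : Set G) ≤ L :=
    ⟨N, ⟨h.coatom, h.le⟩, fun L hL => h.unique L hL.1 hL.2⟩
  rw [Cfsg.supportR, dif_pos ⟨hxM, hex⟩, sigmaCore_eq_fittingHallOf hG h.coatom h.nilpotent]
  have := h.unique _ (Classical.choose_spec hex.exists).1 (Classical.choose_spec hex.exists).2
  rw [this]

omit hqf in
theorem supportR_eq_bot (hxM : Subgroup.centralizer ({x} : Set G) ≤ M) : Cfsg.supportR M x = ⊥ := by
  rw [Cfsg.supportR, dif_neg fun h => h.1 hxM]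

end CfsgLib.OddOrder.SigmaCentralizer
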