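import Cfsg.Agent.Lib.OddOrder.PlaneMaximal
import Mathlib

set_option autoImplicit false
set_option linter.style.haveILetI false
set_option linter.unusedSectionVars false

/-!
Maximal subgroups with a plane for a prime in `τ₂(M)`.
-/

namespace CfsgLib.OddOrder.TauTwoStructure

open scoped commutatorElement
open A2Transitive (MaxPlane)
open SigmaFusion (cj)
open Exceptional (Exc)

variable {G : Type*} [Group G] [Finite G] {p : ℕ} [hp : Fact p.Prime] {M A : Subgroup G}

theorem exists_exc (hG : Cfsg.IsMinSimpleOddOrder G) (hM : IsCoatom M) (hps : p ∉ Cfsg.sigma M) (hAM : A ≤ M)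
    (hAe : Cfsg.IsElementaryAbelian p A) (hA2 : Nat.card A = p ^ 2) : ∃ A₀ : Subgroup G, Exc p M A A₀ := by
  obtain ⟨A₀, h₀, h₀c, hN⟩ := PlaneMaximal.exists_line_of_not_others hG fun hH =>
    hps (PlaneMaximal.mem_sigma hG hM (PlaneMaximal.maxPlane_of_others hG hM hAM hAe hA2 hH) hAM hH)
  exact ⟨A₀, hM, hps, hAM, hAe, hA2, h₀, h₀c, hN⟩

/-- An element of `p`-power order normalising `A` centralises it. -/
theorem pGroup_le_centralizer {A₀ P : Subgroup G} (hG : Cfsg.IsMinSimpleOddOrder G) (h : Exc p M A A₀)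
    (hP : IsPGroup p P) (hPM : P ≤ M) (hPA : P ≤ Subgroup.normalizer (A : Set G)) :
    P ≤ Subgroup.centralizer (A : Set G) :=
  le_sup_left.trans (h.pGroup hG (hP.to_sup_of_normal_right' (h.maxPlane hG).isPGroup hPA)
    (sup_le hPM h.le) le_sup_right).2

/-- `M_σ ∩ M* = 1` for other maximal subgroups `M*` over `A`. -/
theorem inter_eq_bot {A₀ : Subgroup G} (hG : Cfsg.IsMinSimpleOddOrder G) (h : Exc p M A A₀) {L : Subgroup G}
    (hL : IsCoatom L) (hne : L ≠ M) (hAL : A ≤ L) : Cfsg.sigmaCore M ⊓ L = ⊥ := by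
  have hA := h.maxPlane hG
  set D₀ := Cfsg.sigmaCore M ⊓ L with hD₀
  by_contra hne'
  obtain ⟨q, hq, hd⟩ := Nat.exists_prime_and_dvd (mt Subgroup.card_eq_one.mp hne')
  haveI := Fact.mk hq
  have hDA : A ≤ Subgroup.normalizer (D₀ : Set G) :=
    (le_inf (h.le.trans (SigmaTools.le_normalizer_sigmaCore M)) (hAL.trans Subgroup.le_normalizer)).trans
      Subgroup.inf_normalizer_le_normalizer_inf
  obtain ⟨T, hT⟩ := Coprime.exists_invariant_sylow hDA
    (h.coprime.coprime_dvd_right (Subgroup.card_dvd_of_le inf_le_left)) (Or.inl h.solvable_A) q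
  set D := (T : Subgroup D₀).map D₀.subtype with hD
  have hD1 : D ≠ ⊥ := fun e => T.not_dvd_index (by
    rw [(Subgroup.map_eq_bot_iff_of_injective _ D₀.subtype_injective).mp e, Subgroup.index_bot]
    exact hd)
  have hDσ : D ≤ Cfsg.sigmaCore M := (Subgroup.map_subtype_le _).trans inf_le_left
  have hDL : D ≤ L := (Subgroup.map_subtype_le _).trans inf_le_right
  have hDq : IsPGroup q D := T.isPGroup'.map _
  have hqs : q ∈ Cfsg.sigma M := SigmaTools.mem_sigma_of_card (hd.trans (Subgroup.card_dvd_of_le inf_le_left))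
  have hqp : q ≠ p := fun e => h.not_sigma (e ▸ hqs)
  by_cases hqL : q ∈ Cfsg.sigma L
  · haveI := h.sigma_nilpotent hG
    obtain ⟨x, hx⟩ := PlaneMaximal.exists_cj_of_nilpotent hG h.coatom hqs hL hqL
    exact hne (hx.trans (SigmaFusion.cj_eq_self (Subgroup.le_normalizer (h.eq_of_inter hG hqs hDq hD1 hT
      (hDσ.trans (SigmaTools.sigmaCore_le M)) (hx ▸ hDL) (hx ▸ hAL)))))
  · refine hD1 (le_bot_iff.mp (le_trans (le_inf hDσ ?_) (h.centralizer_sigma hG).le))
    by_cases hpL : p ∈ Cfsg.sigma L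
    · refine Subgroup.commutator_eq_bot_iff_le_centralizer.mp (le_bot_iff.mp ?_)
      obtain ⟨k, hk⟩ := hDq.exists_card_eq
      have hbot : D ⊓ Cfsg.sigmaCore L = ⊥ := (Subgroup.disjoint_of_coprime_natCard
        (hk ▸ ((SigmaTools.coprime_sigmaCore hqL).symm.pow_left k))).eq_bot
      rw [← hbot]
      refine le_inf (Subgroup.le_normalizer_iff_commutator_le_left.1 hT) ?_
      rw [Subgroup.commutator_comm]
      exact (Subgroup.commutator_mono (SigmaTools.pGroup_le_sigmaCore hG hL hpL hAL hA.isPGroup) le_rfl).trans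
        (Subgroup.le_normalizer_iff_commutator_le_left.1 (hDL.trans (SigmaTools.le_normalizer_sigmaCore L)))
    · obtain ⟨B, hB⟩ := exists_exc hG hL hpL hAL h.ea h.card
      exact hB.centralizes hG hqp hqL hDq hDL hT

variable {E : Subgroup G}

/-- Dedekind: `(M_σ A) ∩ E = A`. -/
theorem sup_inf_eq (hE : Cfsg.IsComplIn E (Cfsg.sigmaCore M) M) (hAE : A ≤ E) :
    (Cfsg.sigmaCore M ⊔ A) ⊓ E = A := by
  refine le_antisymm (fun x hx => ?_) (le_inf le_sup_right hAE)
  obtain ⟨hx1, hxE⟩ := Subgroup.mem_inf.mp hx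
  rw [← SetLike.mem_coe, Subgroup.coe_mul_of_right_le_normalizer_left (Cfsg.sigmaCore M) A ((hAE.trans hE.1).trans (SigmaTools.le_normalizer_sigmaCore M))] at hx1
  obtain ⟨s, hs, a, ha, rfl⟩ := hx1
  have hsE : s ∈ E ⊓ Cfsg.sigmaCore M :=
    ⟨(Subgroup.mul_mem_cancel_right E (hAE ha)).mp hxE, hs⟩
  rw [hE.2.2.1, Subgroup.mem_bot] at hsE
  simpa [hsE] using ha

theorem normal_in_complement {A₀ : Subgroup G} (hG : Cfsg.IsMinSimpleOddOrder G) (h : Exc p M A A₀)
    (hE : Cfsg.IsComplIn E (Cfsg.sigmaCore M) M) (hAE : A ≤ E) : E ≤ Subgroup.normalizer (A : Set G) := by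
  calc E ≤ Subgroup.normalizer ((Cfsg.sigmaCore M ⊔ A : Subgroup G) : Set G) ⊓
        Subgroup.normalizer (E : Set G) := le_inf (hE.1.trans (h.plane_sup_normal hG)) Subgroup.le_normalizer
    _ ≤ Subgroup.normalizer (((Cfsg.sigmaCore M ⊔ A) ⊓ E : Subgroup G) : Set G) :=
        Subgroup.inf_normalizer_le_normalizer_inf
    _ = Subgroup.normalizer (A : Set G) := by rw [sup_inf_eq hE hAE]

theorem inf_normalizer_eq {A₀ : Subgroup G} (hG : Cfsg.IsMinSimpleOddOrder G) (h : Exc p M A A₀)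
    (hE : Cfsg.IsComplIn E (Cfsg.sigmaCore M) M) (hAE : A ≤ E) :
    M ⊓ Subgroup.normalizer (A : Set G) = E := by
  have hN := normal_in_complement hG h hE hAE
  refine le_antisymm (fun m hm => ?_) (le_inf hE.1 hN)
  obtain ⟨hmM, hmA⟩ := hm
  obtain ⟨e, he, s, hs, rfl⟩ := hE.2.2.2 m hmM
  have hsA : s ∈ Subgroup.normalizer (A : Set G) := (Subgroup.mul_mem_cancel_left _ (hN he)).mp hmA
  have hsC : s ∈ Cfsg.sigmaCore M ⊓ Subgroup.centralizer (A : Set G) := ⟨hs, Subgroup.mem_centralizer_iff.mpr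
    fun a ha => by
      have h1 : ⁅s, a⁆ ∈ Cfsg.sigmaCore M ⊓ A := by
        refine ⟨?_, ?_⟩
        · rw [commutatorElement_def, mul_assoc, mul_assoc]
          exact mul_mem hs (by
            rw [← mul_assoc]
            exact (Subgroup.mem_normalizer_iff.mp (SigmaTools.le_normalizer_sigmaCore M (h.le ha)) _).mp ((Cfsg.sigmaCore M).inv_mem hs))
        · rw [commutatorElement_def]
          exact mul_mem ((Subgroup.mem_normalizer_iff.mp hsA a).mp ha) (A.inv_mem ha)
      rw [(Subgroup.disjoint_of_coprime_natCard h.coprime.symm).eq_bot, Subgroup.mem_bot] at h1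
      exact (commutatorElement_eq_one_iff_mul_comm.mp h1).symm⟩
  rw [h.centralizer_sigma hG, Subgroup.mem_bot] at hsC
  simpa [hsC] using he

end CfsgLib.OddOrder.TauTwoStructure
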