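import Cfsg.Agent.Lib.OddOrder.StarFitting
import Cfsg.Agent.Lib.OddOrder.SigmaCentralizer
import Cfsg.Agent.S1417
import Cfsg.Agent.S1418
import Mathlib

set_option autoImplicit false
set_option linter.style.haveILetI false
set_option linter.unusedSectionVars false

/-!
The maximal subgroups over the normalizers of the Sylow subgroups of `U`.
-/

namespace CfsgLib.OddOrder.StarNormalizer

open scoped commutatorElement
open SigmaFusion (cj)
open KappaHall (Str rest)
open StarPartner (Dstar Zsub Pk)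
open StarPair (Pair)
open RankOneTools (isPGroup_of_card line_of_orderOf)
open SupportCosets (sigma_number)

variable {G : Type*} [Group G] [Finite G] {M K U L H E A : Subgroup G} {p : ℕ} [hp : Fact p.Prime]

omit hp in
theorem mem_centralizer_of_commute {f z : G} (h : Commute z f) : z ∈ Subgroup.centralizer ({f} : Set G) :=
  Subgroup.mem_centralizer_singleton_iff.mpr h.eq

omit hp in
theorem le_fittingOf {N : Subgroup G} (hNE : N ≤ E) (hn : E ≤ Subgroup.normalizer (N : Set G))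
    (hnil : Group.IsNilpotent N) : N ≤ Cfsg.fittingOf E := by
  haveI := Subgroup.normal_subgroupOf_of_le_normalizer hn
  rw [← Subgroup.map_subgroupOf_eq_of_le hNE]
  exact Subgroup.map_mono (Solvable.Cores.le_fittingSubgroup
    (Group.nilpotent_of_mulEquiv (Subgroup.subgroupOfEquivOfLe hNE).symm))

/-- An operator fixed point free on `M_σ` and on a `p`-subgroup `R`, `p ∉ σ(M)`: `R` centralises `M_σ`. -/
theorem fpf_centralizes (hG : Cfsg.IsMinSimpleOddOrder G) (hH : IsCoatom H) (hps : p ∉ Cfsg.sigma H) {R : Subgroup G}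
    (hR : IsPGroup p R) (hRH : R ≤ H) {f : G} (hfH : f ∈ H) (hfp : (orderOf f).Prime) (hkH : orderOf f ∉ Cfsg.sigma H)
    (hfix : Cfsg.sigmaCore H ⊓ Subgroup.centralizer ({f} : Set G) = ⊥) (hfR : f ∈ Subgroup.normalizer (R : Set G))
    (hRf : R ⊓ Subgroup.centralizer ({f} : Set G) = ⊥) :
    R ≤ Subgroup.centralizer (Cfsg.sigmaCore H : Set G) := by
  haveI := Fact.mk hfp
  have hn := FPFTools.isNilpotent_of_fpf hfp (pow_orderOf_eq_one f) (SigmaTools.le_normalizer_sigmaCore H hfH) hfix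
  obtain ⟨j, hj⟩ := hR.exists_card_eq
  refine FPFTools.centralizes_of_fpf hfp hn (pow_orderOf_eq_one f) (SigmaTools.le_normalizer_sigmaCore H hfH)
    (hRH.trans (SigmaTools.le_normalizer_sigmaCore H)) hfR hRf hfix ?_ (SigmaTools.coprime_sigmaCore hkH)
  rw [hj]
  exact (SigmaTools.coprime_sigmaCore hps).pow_right j

theorem tau2_of (hG : Cfsg.IsMinSimpleOddOrder G) (hH : IsCoatom H) (hps : p ∉ Cfsg.sigma H)
    (hr : ¬ Cfsg.PRankLE p 1 H) : p ∈ Cfsg.tau2 H := by
  refine ⟨hp.out, hps, ?_, hr⟩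
  by_contra h2
  exact hps (SigmaBasics.mem_sigma_of_alpha hG hH ⟨hp.out, h2⟩)

theorem plane_bot (hG : Cfsg.IsMinSimpleOddOrder G) (hH : IsCoatom H) (hτ : p ∈ Cfsg.tau2 H) (hAH : A ≤ H)
    (hAe : Cfsg.IsElementaryAbelian p A) (hAc : Nat.card A = p ^ 2) :
    Cfsg.sigmaCore H ⊓ Subgroup.centralizer (A : Set G) = ⊥ :=
  (Cfsg.Agent.S1417.result hG H hH p hτ A ⟨hAH, hAe, hAc⟩).2.2.2.1

/-- No maximal plane in `M` for a prime in `σ(M)` when `U ≠ 1`. -/
theorem no_plane (hG : Cfsg.IsMinSimpleOddOrder G) (hM : IsCoatom M) (hs : Str M E K U) (hK1 : K ≠ ⊥) (hU : U ≠ ⊥)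
    (hA : A2Transitive.MaxPlane p A) (hAM : A ≤ M) (hps : p ∈ Cfsg.sigma M) : False := by
  obtain ⟨hn, hfix⟩ := PrimeK.fixed_of_hall hG hM hs.hall hU
  have hk := (PrimeK.prime_K hG hM hs hK1 hU).1
  set W₀ := Cfsg.sigmaCore M with hW₀
  haveI := hn
  haveI : Group.IsNilpotent (⊤ : Subgroup W₀) := Subgroup.isNilpotent _
  set P := (Cfsg.pCore p W₀).map W₀.subtype with hP
  have hPp : IsPGroup p P := (Solvable.Cores.isPGroup_pCore p).map _
  have hAP : A ≤ P := fun x hx =>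
    ⟨⟨x, SigmaTools.pGroup_le_sigmaCore hG hM hps hAM hA.isPGroup hx⟩, RankTwoGlobal.mem_pCore_of_mem (N := ⊤)
      (Subgroup.mem_top _) (((Nat.dvd_prime_pow hp.out).mp (orderOf_dvd_of_pow_eq_one (n := p ^ 1)
        (Subtype.ext (by simpa using hA.ea.2 x hx)))).imp fun _ h => h.2), rfl⟩
  set Z₀ := P ⊓ Subgroup.centralizer (P : Set G) with hZ₀
  have hZc : ∀ a ∈ Z₀, ∀ b ∈ Z₀, Commute a b := fun a ha b hb => Subgroup.mem_centralizer_iff.mp hb.2 a ha.1
  let W : Subgroup G :=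
    { carrier := {a | a ∈ Z₀ ∧ a ^ p = 1}
      one_mem' := ⟨Z₀.one_mem, one_pow p⟩
      mul_mem' := fun {a b} ha hb => ⟨Z₀.mul_mem ha.1 hb.1, by
        rw [(hZc a ha.1 b hb.1).mul_pow, ha.2, hb.2, one_mul]⟩
      inv_mem' := fun {a} ha => ⟨Z₀.inv_mem ha.1, by rw [inv_pow, ha.2, inv_one]⟩ }
  have hWA : W ≤ A := fun x hx => hA.mem_of_commute hx.2
    (Subgroup.centralizer_le (SetLike.coe_subset_coe.mpr hAP) hx.1.2)
  have hMP : M ≤ Subgroup.normalizer (P : Set G) :=
    (SigmaTools.le_normalizer_sigmaCore M).trans (WLine.normalizer_le_normalizer_pCore p W₀)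
  have hMW : M ≤ Subgroup.normalizer (W : Set G) := fun g hg => by
    refine NormalizerFusion.mem_normalizer_of_conj fun x hx => ?_
    refine ⟨⟨(Subgroup.mem_normalizer_iff.mp (hMP hg) x).mp hx.1.1, ?_⟩, by
      rw [conj_pow, hx.2, mul_one, mul_inv_cancel]⟩
    refine Subgroup.mem_centralizer_iff.mpr fun t ht => ?_
    have h1 := Subgroup.mem_centralizer_iff.mp hx.1.2 (g⁻¹ * t * g) ((Subgroup.mem_normalizer_iff''.mp (hMP hg) t).mp ht)
    calc t * (g * x * g⁻¹) = g * ((g⁻¹ * t * g) * x) * g⁻¹ := by group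
      _ = g * (x * (g⁻¹ * t * g)) * g⁻¹ := by rw [h1]
      _ = g * x * g⁻¹ * t := by group
  have hPne : P ≠ ⊥ := fun e => hA.ne_bot (le_bot_iff.mp (e ▸ hAP))
  haveI : Nontrivial P := (Subgroup.nontrivial_iff_ne_bot P).mpr hPne
  haveI := hPp.center_nontrivial
  obtain ⟨j, hj⟩ := (hPp.to_subgroup (Subgroup.center P)).exists_card_eq
  have hpz : p ∣ Nat.card (Subgroup.center P) := by
    rcases j with _ | j
    · rw [pow_zero] at hj
      exact absurd (Subgroup.card_eq_one.mp hj) ((Subgroup.nontrivial_iff_ne_bot _).mp inferInstance)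
    · exact hj ▸ dvd_pow_self p (Nat.succ_ne_zero j)
  obtain ⟨z, hz⟩ := exists_prime_orderOf_dvd_card' (G := Subgroup.center P) p hpz
  have hzW : ((z : P) : G) ∈ W := by
    refine ⟨⟨(z : P).2, Subgroup.mem_centralizer_iff.mpr fun t ht => ?_⟩, ?_⟩
    · exact congrArg Subtype.val (Subgroup.mem_center_iff.mp z.2 ⟨t, ht⟩)
    · simpa using congrArg (fun w : Subgroup.center P => ((w : P) : G)) (hz ▸ pow_orderOf_eq_one z : z ^ p = 1)
  have hW1 : W ≠ ⊥ := fun e => by
    have h1 : ((z : P) : G) = 1 := Subgroup.mem_bot.mp (e ▸ hzW)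
    rw [← hz, ← Subgroup.orderOf_coe, ← Subgroup.orderOf_coe, h1, orderOf_one] at hp
    exact Nat.not_prime_one hp.out
  have hWσ : W ≤ W₀ := fun x hx => Subgroup.map_subtype_le _ hx.1.1
  have hEW : E ≤ Subgroup.normalizer (W : Set G) := hs.compl.1.trans hMW
  have hcop : ∀ X : Subgroup G, X ≤ E → (Nat.card X).Coprime (Nat.card W) := fun X hX =>
    Nat.coprime_of_dvd fun t ht h1 h2 => by
      haveI := Fact.mk ht
      exact SigmaComplement.not_dvd_card hG hM hs.compl
        (SigmaTools.mem_sigma_of_card (h2.trans (Subgroup.card_dvd_of_le hWσ))) (h1.trans (Subgroup.card_dvd_of_le hX))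
  have hdata : FrobeniusFormulaGroup.FData U K W :=
    { hKR := hs.le.trans hs.normal
      hKM := hs.Ule.trans hEW
      hRM := hs.le.trans hEW
      hfpf := fun r hr hr1 u hu hc => Subgroup.mem_bot.mp ((hs.free r hr hr1).le
        ⟨hu, Subgroup.mem_centralizer_singleton_iff.mpr hc.symm.eq⟩)
      hsolv := hG.2.2.2 U fun e => hM.1 (top_le_iff.mp (e ▸ hs.Ule.trans hs.compl.1))
      hcop := hcop U hs.Ule
      hcopR := hcop K hs.le }
  haveI : Group.IsNilpotent W := ((hA.isPGroup).to_le hWA).isNilpotent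
  have hform := (FrobeniusFormulaGroup.main _ G U K W le_rfl hdata inferInstance
    (le_bot_iff.mp ((inf_le_inf_right _ hWσ).trans hfix.le))).1
  obtain ⟨a, ha⟩ := (hA.isPGroup.to_le (inf_le_left.trans hWA : W ⊓ Subgroup.centralizer (K : Set G) ≤ A)).exists_card_eq
  rw [ha, ← pow_mul] at hform
  have h2 : Nat.card W ≤ p ^ 2 := hA.card ▸ Subgroup.card_le_of_le hWA
  rw [hform] at h2
  have h2' := (Nat.pow_le_pow_iff_right hp.out.one_lt).mp h2
  have ha0 : a ≠ 0 := fun e => hW1 (Subgroup.card_eq_one.mp (by rw [hform, e, zero_mul, pow_zero]))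
  have hk3 : 3 ≤ Nat.card K := by
    obtain ⟨j, hj⟩ := hG.1.of_dvd_nat K.card_subgroup_dvd_card
    have := hk.two_le
    omega
  nlinarith [Nat.one_le_iff_ne_zero.mpr ha0]

/-- A plane centralising an element of `L_σ` with centraliser outside `L` is centralised by `f`. -/
theorem centralizer_le_of_plane (hG : Cfsg.IsMinSimpleOddOrder G) (hL : IsCoatom L) {f y : G}
    (hAe : Cfsg.IsElementaryAbelian p A) (hAc : Nat.card A = p ^ 2) (hfp : (orderOf f).Prime) (hpf : orderOf f ≠ p)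
    (hkL : orderOf f ∈ Cfsg.sigma L) (hfA : f ∈ Subgroup.normalizer (A : Set G))
    (hCf : Subgroup.centralizer ({f} : Set G) ≤ L) (hyA : y ∈ A) (hy1 : y ≠ 1) (hyf : Commute y f)
    (hyL : y ∈ Cfsg.sigmaCore L) (hnot : ¬ A ≤ Subgroup.centralizer ({f} : Set G)) :
    Subgroup.centralizer ({y} : Set G) ≤ L := by
  by_contra hyC
  haveI := hAe.1
  obtain ⟨N, hN⟩ := SigmaCentralizer.exists_over hG hL hyL hy1 hyC
  have hyo : orderOf y = p := orderOf_eq_prime (hAe.2 y hyA) hy1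
  have hτ : p ∈ Cfsg.tau2 N := hN.tau2 p hp.out (hyo ▸ dvd_rfl)
  have hAy : A ≤ Subgroup.centralizer ({y} : Set G) := fun a ha =>
    mem_centralizer_of_commute (PlaneSylow.comm_of inferInstance ha hyA)
  have hAN : A ≤ N := hAy.trans hN.le
  have hfN : f ∈ N := hN.le (mem_centralizer_of_commute hyf.symm)
  have hfix : Cfsg.sigmaCore N ⊓ Subgroup.centralizer ({f} : Set G) = ⊥ :=
    le_bot_iff.mp ((inf_le_inf_left _ hCf).trans hN.bot.le)
  have hkN : orderOf f ∉ Cfsg.sigma N := SupportCosets.disjoint hG hL hN.coatom hN.nonconj hfp hkL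
  have hfA' : Subgroup.zpowers f ≤ Subgroup.normalizer (A : Set G) := Subgroup.zpowers_le.mpr hfA
  have hcop : (Nat.card (Subgroup.zpowers f)).Coprime (Nat.card A) := by
    rw [Nat.card_zpowers, hAc]
    exact ((Nat.coprime_primes hfp hp.out).mpr hpf).pow_right 2
  have hsup := Coprime.commutator_sup_centralizer hfA' hcop (.inl (Coprime.isSolvable_zpowers f))
  have hdis := Coprime.centralizer_inf_commutator_eq_bot hfA' hcop
  rw [SigmaTools.centralizer_zpowers] at hsup hdis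
  have hXA : ⁅A, Subgroup.zpowers f⁆ ≤ A := Subgroup.le_normalizer_iff_commutator_le_left.1 hfA'
  have hX : ⁅A, Subgroup.zpowers f⁆ ≤ Subgroup.centralizer (Cfsg.sigmaCore N : Set G) :=
    fpf_centralizes hG hN.coatom hτ.2.1 ((IsPGroup.of_card (n := 2) hAc).to_le hXA) (hXA.trans hAN) hfN hfp hkN hfix
      (Subgroup.normalizer_commutator_ge_right A (Subgroup.zpowers f) (Subgroup.mem_zpowers f))
      (le_bot_iff.mp (le_trans (fun x hx => Subgroup.mem_inf.mpr ⟨Subgroup.mem_inf.mpr ⟨hXA hx.1, hx.2⟩, hx.1⟩) hdis.le))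
  -- the fixed points of `f` on `A` are the line of `y`
  have hline : A ⊓ Subgroup.centralizer ({f} : Set G) = Subgroup.zpowers y := by
    refine (Subgroup.eq_of_le_of_card_ge
      (Subgroup.zpowers_le.mpr (Subgroup.mem_inf.mpr ⟨hyA, mem_centralizer_of_commute hyf⟩)) ?_).symm
    obtain ⟨i, hi, e⟩ := (Nat.dvd_prime_pow hp.out).mp
      (hAc ▸ Subgroup.card_dvd_of_le (inf_le_left : A ⊓ Subgroup.centralizer ({f} : Set G) ≤ A))
    rw [e, Nat.card_zpowers, hyo]
    have hi2 : i ≠ 2 := fun e2 => hnot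
      ((Subgroup.eq_of_le_of_card_ge inf_le_left (by rw [hAc, e, e2])).ge.trans inf_le_right)
    calc p ^ i ≤ p ^ 1 := Nat.pow_le_pow_right hp.out.pos (by omega)
      _ = p := pow_one p
  refine hN.fixed (le_bot_iff.mp (le_trans ?_ (plane_bot hG hN.coatom hτ hAN hAe hAc).le))
  refine le_inf inf_le_left (Subgroup.le_centralizer_iff.mp ?_)
  rw [← hsup, hline]
  refine sup_le (hX.trans (Subgroup.centralizer_le (SetLike.coe_subset_coe.mpr inf_le_left))) ?_
  rw [Subgroup.zpowers_le]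
  exact Subgroup.mem_centralizer_iff.mpr fun b hb => Subgroup.mem_centralizer_singleton_iff.mp hb.2

/-- The data of a maximal subgroup over the normalizer of a Sylow subgroup of `U`. -/
structure Nbr (M K U L H : Subgroup G) : Prop where
  pair : Pair M K L
  str : Str M (U ⊔ K) K U
  U_ne : U ≠ ⊥
  coatom : IsCoatom H
  U_le : U ≤ H
  K_le : K ≤ H
  nonconjM : ∀ g : G, H ≠ cj g M
  nonconjL : ∀ g : G, H ≠ cj g L

omit hp

theorem Nbr.kappa_empty (hG : Cfsg.IsMinSimpleOddOrder G) (h : Nbr M K U L H) : Cfsg.kappa H = ∅ := by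
  by_contra hne
  obtain ⟨g, hg | hg⟩ := StarFacts.conjugate hG h.pair h.coatom (Set.nonempty_iff_ne_empty.mpr hne)
  · exact h.nonconjM g hg
  · exact h.nonconjL g hg

theorem Nbr.gen (hG : Cfsg.IsMinSimpleOddOrder G) (h : Nbr M K U L H) :
    ∃ f ∈ K, (orderOf f).Prime ∧ Subgroup.zpowers f = K ∧ orderOf f ∈ Cfsg.sigma L ∧
      orderOf f ∉ Cfsg.sigma H ∧ Subgroup.centralizer ({f} : Set G) ≤ L := by
  obtain ⟨f, hf, hfp⟩ := KappaHall.exists_prime_elem h.pair.left.ne
  have hk := (PrimeK.prime_K hG h.pair.left.coatom h.str h.pair.left.ne h.U_ne).1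
  have hL := sigma_number (h.pair.eq.ge hf).1 _ hfp dvd_rfl
  refine ⟨f, hf, hfp, ?_, hL, SupportCosets.disjoint hG h.pair.right.coatom h.coatom h.nonconjL hfp hL,
    (StarPartner.centralizer_le hG h.pair.right (h.pair.eq.ge hf) hfp).1⟩
  refine Subgroup.eq_of_le_of_card_ge (Subgroup.zpowers_le.mpr hf) ?_
  rw [Nat.card_zpowers]
  exact ((Nat.prime_dvd_prime_iff_eq hfp hk).mp (Subgroup.orderOf_dvd_natCard K hf)).ge

theorem Nbr.core_fix (hG : Cfsg.IsMinSimpleOddOrder G) (h : Nbr M K U L H) {f : G} (hf : f ∈ K)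
    (hfp : (orderOf f).Prime) (hkH : orderOf f ∉ Cfsg.sigma H) (hCf : Subgroup.centralizer ({f} : Set G) ≤ L) :
    Cfsg.sigmaCore H ⊓ Subgroup.centralizer ({f} : Set G) = ⊥ := by
  haveI := Fact.mk hfp
  by_contra hne
  by_cases hr : Cfsg.PRankLE (orderOf f) 1 H
  · have := KappaHall.mem_kappa hG hkH hr (h.K_le hf) rfl hne
    rw [h.kappa_empty hG] at this
    exact this
  obtain ⟨E, hE⟩ := Coprime.exists_hall {t | t ∉ Cfsg.sigma H} (hG.2.2.2 H h.coatom.1)
  obtain ⟨-, hu⟩ := (Cfsg.Agent.S1420.result hG H h.coatom E (SylowCentral.isComplIn_of_hall hG h.coatom hE)).2.2.2 f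
    (h.K_le hf) (fun e => hfp.ne_one (e ▸ orderOf_one)) (fun t ht hd => by
      rw [(Nat.prime_dvd_prime_iff_eq ht hfp).mp hd]
      exact tau2_of hG h.coatom hkH hr) (SigmaA.hat_of_fix (h.K_le hf) hne)
  exact h.nonconjL 1 (by rw [SigmaFusion.cj_one]; exact (hu L h.pair.right.coatom hCf).symm)

include hp

/-- A `τ₂`-plane of `H` normalised by `K` lies in `M*`. -/
theorem Nbr.plane_le (hG : Cfsg.IsMinSimpleOddOrder G) (h : Nbr M K U L H) {f : G} (hf : f ∈ K)
    (hfp : (orderOf f).Prime) (hpf : orderOf f ≠ p) (hkL : orderOf f ∈ Cfsg.sigma L)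
    (hkH : orderOf f ∉ Cfsg.sigma H) (hCf : Subgroup.centralizer ({f} : Set G) ≤ L) (hτ : p ∈ Cfsg.tau2 H)
    (hAH : A ≤ H) (hAe : Cfsg.IsElementaryAbelian p A) (hAc : Nat.card A = p ^ 2)
    (hfA : f ∈ Subgroup.normalizer (A : Set G)) : A ≤ L := by
  haveI := hAe.1
  by_cases hAf : A ≤ Subgroup.centralizer ({f} : Set G)
  · exact hAf.trans hCf
  have hL := h.pair.right.coatom
  have hYne : A ⊓ Subgroup.centralizer ({f} : Set G) ≠ ⊥ := fun e => by
    refine SigmaCore.sigmaCore_ne_bot hG h.coatom (le_bot_iff.mp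
      ((le_inf le_rfl (Subgroup.le_centralizer_iff.mp ?_)).trans (plane_bot hG h.coatom hτ hAH hAe hAc).le))
    exact fpf_centralizes hG h.coatom hτ.2.1 (IsPGroup.of_card (n := 2) hAc) hAH (h.K_le hf) hfp hkH
      (h.core_fix hG hf hfp hkH hCf) hfA e
  obtain ⟨y, hy, hy1⟩ := (A ⊓ Subgroup.centralizer ({f} : Set G)).bot_or_exists_ne_one.resolve_left hYne
  have hyf : Commute y f := Subgroup.mem_centralizer_singleton_iff.mp hy.2
  have hyo : orderOf y = p := orderOf_eq_prime (hAe.2 y hy.1) hy1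
  have hyL : y ∈ L := hCf hy.2
  have hAy : A ≤ Subgroup.centralizer ({y} : Set G) := fun a ha =>
    mem_centralizer_of_commute (PlaneSylow.comm_of inferInstance ha hy.1)
  by_cases hpL : p ∈ Cfsg.sigma L
  · exact hAy.trans (centralizer_le_of_plane hG hL hAe hAc hfp hpf hkL hfA hCf hy.1 hy1 hyf
      (SigmaTools.pGroup_le_sigmaCore hG hL hpL (Subgroup.zpowers_le.mpr hyL)
        (isPGroup_of_card (line_of_orderOf hyo)) (Subgroup.mem_zpowers y)) hAf)
  have hyprimes : ∀ t : ℕ, t.Prime → t ∣ orderOf y → t = p := fun t ht hd =>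
    (Nat.prime_dvd_prime_iff_eq ht hp.out).mp (hyo ▸ hd)
  by_cases hpκ : p ∈ Cfsg.kappa L
  · exfalso
    obtain ⟨m, hm, hmD⟩ := StarFacts.conj_K h.pair.right hG hyL fun t ht hd => (hyprimes t ht hd).symm ▸ hpκ
    have hmo : orderOf (m * y * m⁻¹) = p := (MulEquiv.orderOf_eq (MulAut.conj m) y).trans hyo
    obtain ⟨B₀, hexc⟩ := TauTwoStructure.exists_exc hG h.coatom hτ.2.1 hAH hAe hAc
    have hmax := hexc.maxPlane hG
    have hC := (StarPartner.centralizer_le hG h.pair.left hmD (hmo.symm ▸ hp.out)).1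
    have hB : A.map (MulAut.conj m).toMonoidHom ≤ M := by
      rintro _ ⟨a, ha, rfl⟩
      refine hC (mem_centralizer_of_commute ?_)
      exact (PlaneSylow.comm_of (inferInstance : IsMulCommutative A) ha hy.1).map (MulAut.conj m).toMonoidHom
    refine no_plane hG h.pair.left.coatom h.str h.pair.left.ne h.U_ne (A := A.map (MulAut.conj m).toMonoidHom) ?_ hB
      (sigma_number hmD.1 p hp.out (hmo ▸ dvd_rfl))
    refine ⟨Fusion.Thompson.isEA_map _ hAe, by rw [Subgroup.card_map_of_injective (MulAut.conj m).injective, hAc],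
      fun B hBe hle => ?_⟩
    have h1 := hmax.max (B.comap (MulAut.conj m).toMonoidHom) ?_ (Subgroup.map_le_iff_le_comap.mp hle)
    · rw [← h1, Subgroup.map_comap_eq_self_of_surjective (MulAut.conj m).surjective]
    · have he : B.comap (MulAut.conj m).toMonoidHom = B.map (MulAut.conj m).symm.toMonoidHom :=
        Subgroup.comap_equiv_eq_map_symm' (MulAut.conj m) B
      rw [he]
      exact Fusion.Thompson.isEA_map _ hBe
  · refine hAy.trans (SigmaA.rest_fix hG hL hyL hy1 (fun t ht hd => ⟨ht, ?_, ?_⟩)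
      (SigmaA.hat_of_fix hyL fun e => hfp.ne_one ?_)).2.1
    · rw [hyprimes t ht hd]; exact hpκ
    · rw [hyprimes t ht hd]; exact hpL
    · rw [show f = 1 from Subgroup.mem_bot.mp (e.le ⟨(h.pair.eq.ge hf).1, mem_centralizer_of_commute hyf.symm⟩),
        orderOf_one]

omit hp

/-- `U ≤ H_σ`. -/
theorem Nbr.U_le_core (hG : Cfsg.IsMinSimpleOddOrder G) (h : Nbr M K U L H) : U ≤ Cfsg.sigmaCore H := by
  obtain ⟨f, hf, hfp, hgen, hkL, hkH, hCf⟩ := h.gen hG
  refine SigmaTools.le_sigmaCore hG h.coatom h.U_le fun p hp hpU => ?_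
  haveI := Fact.mk hp
  by_contra hps
  haveI := h.str.comm
  let W : Subgroup G :=
    { carrier := {a | a ∈ U ∧ a ^ p = 1}
      one_mem' := ⟨U.one_mem, one_pow p⟩
      mul_mem' := fun {a b} ha hb => ⟨U.mul_mem ha.1 hb.1, by
        rw [(PlaneSylow.comm_of h.str.comm ha.1 hb.1).mul_pow, ha.2, hb.2, one_mul]⟩
      inv_mem' := fun {a} ha => ⟨U.inv_mem ha.1, by rw [inv_pow, ha.2, inv_one]⟩ }
  have hWp : IsPGroup p W := fun w => ⟨1, Subtype.ext (by simpa using w.2.2)⟩
  have hWU : W ≤ U := fun x hx => hx.1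
  have hKU : K ≤ Subgroup.normalizer (U : Set G) := le_sup_right.trans h.str.normal
  have hKW : K ≤ Subgroup.normalizer (W : Set G) := fun g hg =>
    NormalizerFusion.mem_normalizer_of_conj fun x hx => ⟨(Subgroup.mem_normalizer_iff.mp (hKU hg) x).mp hx.1, by
      rw [conj_pow, hx.2, mul_one, mul_inv_cancel]⟩
  have hfree : U ⊓ Subgroup.centralizer ({f} : Set G) = ⊥ :=
    h.str.free f hf fun e => hfp.ne_one (e ▸ orderOf_one)
  have hWC : W ≤ Subgroup.centralizer (Cfsg.sigmaCore H : Set G) :=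
    fpf_centralizes hG h.coatom hps hWp (hWU.trans h.U_le) (h.K_le hf) hfp hkH (h.core_fix hG hf hfp hkH hCf) (hKW hf)
      (le_bot_iff.mp ((inf_le_inf_right _ hWU).trans hfree.le))
  obtain ⟨s, hs⟩ := exists_prime_orderOf_dvd_card' (G := U) p hpU
  have hso : orderOf (s : G) = p := by rw [Subgroup.orderOf_coe, hs]
  have hsW : (s : G) ∈ W := ⟨s.2, hso ▸ pow_orderOf_eq_one _⟩
  have hsfix : Cfsg.sigmaCore H ⊓ Subgroup.centralizer ({(s : G)} : Set G) ≠ ⊥ := fun e => by
    refine SigmaCore.sigmaCore_ne_bot hG h.coatom (le_bot_iff.mp (fun x hx => e.le ⟨hx, ?_⟩))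
    exact mem_centralizer_of_commute (Subgroup.mem_centralizer_iff.mp (hWC hsW) x hx)
  have hτ : p ∈ Cfsg.tau2 H := tau2_of hG h.coatom hps fun hr => by
    have := KappaHall.mem_kappa hG hps hr (h.U_le s.2) hso hsfix
    rw [h.kappa_empty hG] at this
    exact this
  have hpf : orderOf f ≠ p := fun e => (h.str.hall.2.1 p hp hpU).2.1 (e ▸ h.pair.left.sigma' hf _ hfp dvd_rfl)
  -- a complement containing `s` and `K`
  have hWcop : (Nat.card W).Coprime (Nat.card K) := by
    obtain ⟨j, hj⟩ := hWp.exists_card_eq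
    rw [hj, ← hgen, Nat.card_zpowers]
    exact ((Nat.coprime_primes hp hfp).mpr hpf.symm).pow_left j
  obtain ⟨E₀, hE₀, hle⟩ := Coprime.exists_hall_ge {t | t ∉ Cfsg.sigma H} (hG.2.2.2 H h.coatom.1)
    (sup_le (hWU.trans h.U_le) h.K_le) fun t ht hd => by
      rw [Coprime.card_sup_of_le_normalizer hKW (Subgroup.disjoint_of_coprime_natCard hWcop), ← hgen,
        Nat.card_zpowers] at hd
      rcases ht.dvd_mul.mp hd with h1 | h1
      · rwa [PrimeAction.pGroup_dvd hWp ht h1]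
      · rwa [(Nat.prime_dvd_prime_iff_eq ht hfp).mp h1]
  obtain ⟨hWE, hKE⟩ := sup_le_iff.mp hle
  have hE := SylowCentral.isComplIn_of_hall hG h.coatom hE₀
  obtain ⟨B, hBE, hBe, hBc⟩ := TauTwoAbelian.exists_plane hE hτ
  obtain ⟨⟨hEB, hlines⟩, -⟩ := Cfsg.Agent.S1418.result hG H h.coatom E₀ hE p hτ B ⟨hBE, hBe, hBc⟩
  have hsB : (s : G) ∈ B := hlines _ (Subgroup.zpowers_le.mpr (hWE hsW)) (line_of_orderOf hso)
    (Subgroup.mem_zpowers _)
  have hBL := h.plane_le hG hf hfp hpf hkL hkH hCf hτ (hBE.trans hE.1) hBe hBc (hEB (hKE hf))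
  have hZ : (s : G) ∈ Zsub M K := (h.pair.inf_eq hG).le ⟨h.str.hall.1 s.2, hBL hsB⟩
  haveI := h.pair.cyclic_Z hG
  letI := IsCyclic.commGroup (α := ↥(Zsub M K))
  have hc : Commute (s : G) f := congrArg Subtype.val
    (mul_comm (⟨(s : G), hZ⟩ : ↥(Zsub M K)) ⟨f, Subgroup.mem_sup_left hf⟩)
  have : (s : G) = 1 := Subgroup.mem_bot.mp (hfree.le ⟨s.2, mem_centralizer_of_commute hc⟩)
  rw [this, orderOf_one] at hso
  exact hp.ne_one hso.symm

theorem Nbr.meet (hG : Cfsg.IsMinSimpleOddOrder G) (h : Nbr M K U L H) :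
    M ⊓ H = U ⊔ K ∧ Cfsg.sigmaCore H ⊓ M = U := by
  have hU := h.U_le_core hG
  have hM := h.pair.left.coatom
  have hbot : Cfsg.sigmaCore M ⊓ H = ⊥ := by
    refine le_bot_iff.mp (le_trans (le_inf inf_le_left ?_) (PrimeK.fixed_of_hall hG hM h.str.hall h.U_ne).2.le)
    exact Subgroup.le_centralizer_iff.mp ((le_inf hU h.str.hall.1).trans
      (SigmaMutual.inf_le_centralizer hG hM h.coatom h.nonconjM))
  have h1 : M ⊓ H = U ⊔ K := by
    refine le_antisymm (fun x hx => ?_) (sup_le (le_inf h.str.hall.1 h.U_le) (le_inf h.pair.left.hall.1 h.K_le))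
    obtain ⟨e, he, s, hs, rfl⟩ := h.str.compl.2.2.2 x hx.1
    have hs1 : s ∈ Cfsg.sigmaCore M ⊓ H :=
      ⟨hs, by simpa using H.mul_mem (H.inv_mem (sup_le h.U_le h.K_le he)) hx.2⟩
    rw [hbot, Subgroup.mem_bot] at hs1
    rwa [hs1, mul_one]
  refine ⟨h1, le_antisymm (fun x hx => ?_) (le_inf hU h.str.hall.1)⟩
  have hx' := h1.le ⟨hx.2, SigmaTools.sigmaCore_le H hx.1⟩
  rw [← SetLike.mem_coe, Subgroup.coe_mul_of_right_le_normalizer_left U K (le_sup_right.trans h.str.normal)] at hx'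
  obtain ⟨u, hu, k, hk, rfl⟩ := Set.mem_mul.mp hx'
  have hkσ : k ∈ Cfsg.sigmaCore H := by
    simpa using (Cfsg.sigmaCore H).mul_mem ((Cfsg.sigmaCore H).inv_mem (hU hu)) hx.1
  obtain ⟨f, hf, hfp, hgen, -, hkH, -⟩ := h.gen hG
  by_cases hk1 : k = 1
  · rw [hk1, mul_one]; exact hu
  haveI := Fact.mk hfp
  refine absurd ?_ hkH
  have hko : orderOf k = orderOf f := by
    refine ((Nat.dvd_prime hfp).mp ?_).resolve_left (mt orderOf_eq_one_iff.mp hk1)
    rw [← Nat.card_zpowers f, hgen]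
    exact Subgroup.orderOf_dvd_natCard K hk
  exact sigma_number hkσ _ hfp (dvd_of_eq hko.symm)

theorem Nbr.nilpotent (hG : Cfsg.IsMinSimpleOddOrder G) (h : Nbr M K U L H) : Group.IsNilpotent (Cfsg.sigmaCore H) := by
  obtain ⟨f, hf, hfp, -, -, hkH, hCf⟩ := h.gen hG
  exact FPFTools.isNilpotent_of_fpf hfp (pow_orderOf_eq_one f) (SigmaTools.le_normalizer_sigmaCore H (h.K_le hf))
    (h.core_fix hG hf hfp hkH hCf)

theorem Nbr.not_normalizer_le (hG : Cfsg.IsMinSimpleOddOrder G) (h : Nbr M K U L H) :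
    ¬ H ⊓ Subgroup.normalizer (U : Set G) ≤ M := by
  intro hle
  have hU := h.U_le_core hG
  haveI := h.nilpotent hG
  have e : Cfsg.sigmaCore H = U := by
    have htop : U.subgroupOf (Cfsg.sigmaCore H) = ⊤ := by
      refine (normalizerCondition_iff_only_full_group_self_normalizing.mp Group.normalizerCondition_of_isNilpotent) _ ?_
      refine le_antisymm (fun x hx => ?_) Subgroup.le_normalizer
      refine (h.meet hG).2.le ⟨x.2, hle ⟨SigmaTools.sigmaCore_le H x.2, NormalizerFusion.mem_normalizer_of_conj fun u hu => ?_⟩⟩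
      exact (Subgroup.mem_normalizer_iff.mp hx ⟨u, hU hu⟩).mp hu
    exact le_antisymm (Subgroup.subgroupOf_eq_top.mp htop) hU
  have hHM : H ≤ M := (le_inf le_rfl (e ▸ SigmaTools.le_normalizer_sigmaCore H)).trans hle
  exact h.nonconjM 1 (by rw [SigmaFusion.cj_one]; exact ((h.coatom.le_iff.mp hHM).resolve_left h.pair.left.coatom.1).symm)

theorem normalizer_K_le (hG : Cfsg.IsMinSimpleOddOrder G) (h : Pair M K L) :
    Subgroup.normalizer (K : Set G) ≤ L := fun g hg => by
  obtain ⟨E, U, hs⟩ := h.right.str hG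
  by_contra hgL
  have hle : K ≤ cj g L := by
    rw [← Subgroup.mem_normalizer_iff_map_conj_eq.mp hg]
    exact Subgroup.map_mono (h.eq.ge.trans (inf_le_left.trans (SigmaTools.sigmaCore_le L)))
  exact h.left.ne (le_bot_iff.mp ((le_inf h.eq.ge hle).trans (KappaStar.ti hG h.right.coatom hs h.right.ne hgL).le))

/-- `K` centralises the planes of `τ₂(H)` it normalises. -/
theorem Nbr.plane_commute (hG : Cfsg.IsMinSimpleOddOrder G) (h : Nbr M K U L H) {p : ℕ} {A : Subgroup G} {f : G}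
    (hf : f ∈ K) (hfp : (orderOf f).Prime) (hp : p.Prime) (hne : orderOf f ≠ p) (hkL : orderOf f ∈ Cfsg.sigma L)
    (hkH : orderOf f ∉ Cfsg.sigma H) (hCf : Subgroup.centralizer ({f} : Set G) ≤ L) (hτ : p ∈ Cfsg.tau2 H)
    (hAH : A ≤ H) (hAe : Cfsg.IsElementaryAbelian p A) (hAc : Nat.card A = p ^ 2)
    (hfA : f ∈ Subgroup.normalizer (A : Set G)) {z : G} (hzA : z ∈ A) : Commute f z := by
  haveI := Fact.mk hfp
  haveI := Fact.mk hp
  have hL := h.pair.right.coatom
  have hAL := h.plane_le hG hf hfp hne hkL hkH hCf hτ hAH hAe hAc hfA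
  set c := z⁻¹ * (f * z * f⁻¹) with hc
  have hcA : c ∈ A := A.mul_mem (A.inv_mem hzA) ((Subgroup.mem_normalizer_iff.mp hfA z).mp hzA)
  have hcf : Commute f c := by
    by_cases hpL : p ∈ Cfsg.sigma L
    · obtain ⟨UL, hUL⟩ := StarDerived.exists_decomp' hG h.pair.symm
      have hfF : f ∈ Cfsg.fittingHallOf L :=
        (StarFitting.main hG hL hUL h.pair.right.ne).2.2.1 (h.pair.eq.ge hf)
      have hcF : c ∈ Cfsg.fittingHallOf L := by
        rw [hc, show z⁻¹ * (f * z * f⁻¹) = (z⁻¹ * f * z) * f⁻¹ by group]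
        refine Subgroup.mul_mem _ ?_ (inv_mem hfF)
        exact (Subgroup.mem_normalizer_iff''.mp (Basic.le_normalizer_fittingHallOf (hAL hzA)) f).mp hfF
      haveI : Group.IsNilpotent (Cfsg.fittingHallOf L) := Basic.fittingHallOf_isNilpotent
      exact Basic.commute_of_mem_nilpotent hfF hcF
        (((Nat.coprime_primes hfp hp).mpr hne).coprime_dvd_right (orderOf_dvd_of_pow_eq_one (hAe.2 c hcA)))
    · have hcL : c ∈ Cfsg.sigmaCore L := by
        rw [hc, show z⁻¹ * (f * z * f⁻¹) = (z⁻¹ * f * z) * f⁻¹ by group]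
        exact Subgroup.mul_mem _ ((Subgroup.mem_normalizer_iff''.mp
          (SigmaTools.le_normalizer_sigmaCore L (hAL hzA)) f).mp (h.pair.eq.ge hf).1) (inv_mem (h.pair.eq.ge hf).1)
      have hc1 : c = 1 := by
        by_contra hc1
        exact hpL (sigma_number hcL _ hp (by rw [orderOf_eq_prime (hAe.2 c hcA) hc1]))
      rw [hc1]
      exact Commute.one_right f
  have hc1 : c = 1 := Stabilize.eq_one_of_conj_eq_mul (a := f) (h := z) (by rw [hc]; group) hcf
    (((Nat.coprime_primes hfp hp).mpr hne).coprime_dvd_right (orderOf_dvd_of_pow_eq_one (hAe.2 c hcA)))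
  rw [hc, inv_mul_eq_one] at hc1
  show f * z = z * f
  exact mul_inv_eq_iff_eq_mul.mp hc1.symm

/-- If `|K|` has rank one in `H`, then `K` is normal in the complements containing it. -/
theorem Nbr.normalizer_of_rank_one (hG : Cfsg.IsMinSimpleOddOrder G) (h : Nbr M K U L H) {E : Subgroup G}
    (hE : Cfsg.IsComplIn E (Cfsg.sigmaCore H) H) (hKE : K ≤ E) (hr : Cfsg.PRankLE (Nat.card K) 1 H) :
    E ≤ Subgroup.normalizer (K : Set G) := by
  obtain ⟨f, hf, hfp, hgen, hkL, hkH, hCf⟩ := h.gen hG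
  haveI := Fact.mk hfp
  have hH := h.coatom
  have hKc : Nat.card K = orderOf f := by rw [← hgen, Nat.card_zpowers]
  rw [hKc] at hr
  have hab := (Cfsg.Agent.S1420.result hG H hH E hE).2.1
  by_cases hd : orderOf f ∣ Nat.card ↥⁅E, E⁆
  · have hdE : ⁅E, E⁆ ≤ E := SigmaComplement.derived_le_self E
    have hKd : K ≤ ⁅E, E⁆ :=
      RankOneTools.mem_of_rank_one hG.1 hE.1 hr hdE (WLine.le_normalizer_derived E) hd hKc hKE
    intro g hg
    have hg' : K.map (MulAut.conj g).toMonoidHom ≤ ⁅E, E⁆ :=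
      (Subgroup.map_mono hKd).trans (Subgroup.mem_normalizer_iff_map_conj_eq.mp (WLine.le_normalizer_derived E hg)).le
    refine Subgroup.mem_normalizer_iff_map_conj_eq.mpr (PrimeAction.eq_of_rank_one hr ?_ hKc
      (hg'.trans (hdE.trans hE.1)) h.K_le ?_)
    · rw [Subgroup.card_map_of_injective (MulAut.conj g).injective, hKc]
    · intro a ha
      refine Subgroup.mem_centralizer_iff.mpr fun b hb => ?_
      exact (PlaneSylow.comm_of hab (hKd hb) (hg' ha)).eq
  · have hc := KappaHall.central_of_derived hab (hKE hf) rfl hd fun z hz hzp => ?_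
    · exact hc.trans (by rw [← hgen]; exact (SigmaTools.centralizer_zpowers f).ge.trans (Subgroup.centralizer_le_normalizer _))
    have hzE : z ∈ E := SigmaComplement.derived_le_self E hz
    haveI := Fact.mk hzp
    have hzps : orderOf z ∉ Cfsg.sigma H := fun hs' => SigmaComplement.not_dvd_card hG hH hE hs' (Subgroup.orderOf_dvd_natCard E hzE)
    have hne : orderOf f ≠ orderOf z := fun e => hd (e ▸ Subgroup.orderOf_dvd_natCard _ hz)
    by_cases hzr : Cfsg.PRankLE (orderOf z) 1 H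
    · -- `f` normalises the line of `z`
      have hdn : Subgroup.normalizer (⁅E, E⁆ : Subgroup G) ≥ E := WLine.le_normalizer_derived E
      have hfz : f ∈ Subgroup.normalizer (Subgroup.zpowers z : Set G) := by
        refine Subgroup.mem_normalizer_iff_map_conj_eq.mpr (PrimeAction.eq_of_rank_one hzr ?_ (line_of_orderOf rfl)
          ?_ (Subgroup.zpowers_le.mpr (hE.1 hzE)) ?_)
        · rw [Subgroup.card_map_of_injective (MulAut.conj f).injective, line_of_orderOf rfl]
        · rw [MonoidHom.map_zpowers]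
          exact Subgroup.zpowers_le.mpr (H.mul_mem (H.mul_mem (h.K_le hf) (hE.1 hzE)) (H.inv_mem (h.K_le hf)))
        · rw [MonoidHom.map_zpowers, SigmaTools.centralizer_zpowers, Subgroup.zpowers_le]
          refine mem_centralizer_of_commute (PlaneSylow.comm_of hab ?_ hz)
          exact (Subgroup.mem_normalizer_iff.mp (hdn (hKE hf)) z).mp hz
      by_contra hzf
      have hbot : Subgroup.zpowers z ⊓ Subgroup.centralizer ({f} : Set G) = ⊥ := by
        refine Subgroup.eq_bot_of_card_eq _ (((Nat.dvd_prime hzp).mp ?_).resolve_right fun e => hzf ?_)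
        · rw [← Nat.card_zpowers z]
          exact Subgroup.card_dvd_of_le inf_le_left
        · have := (Subgroup.eq_of_le_of_card_ge inf_le_left (by rw [Nat.card_zpowers, e])).ge (Subgroup.mem_zpowers z)
          exact (Subgroup.mem_centralizer_singleton_iff.mp this.2).symm
      have hcz := fpf_centralizes hG hH hzps (isPGroup_of_card (line_of_orderOf rfl))
        (Subgroup.zpowers_le.mpr (hE.1 hzE)) (h.K_le hf) hfp hkH (h.core_fix hG hf hfp hkH hCf) hfz hbot
      have := KappaHall.mem_kappa hG hzps hzr (hE.1 hzE) rfl fun e => SigmaCore.sigmaCore_ne_bot hG hH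
        (le_bot_iff.mp fun x hx => e.le ⟨hx, mem_centralizer_of_commute
          (Subgroup.mem_centralizer_iff.mp (hcz (Subgroup.mem_zpowers z)) x hx)⟩)
      rw [h.kappa_empty hG] at this
      exact this
    · have hτ := tau2_of hG hH hzps hzr
      obtain ⟨A, hAE, hAe, hAc⟩ := TauTwoAbelian.exists_plane hE hτ
      obtain ⟨⟨hEA, hlines⟩, -⟩ := Cfsg.Agent.S1418.result hG H hH E hE _ hτ A ⟨hAE, hAe, hAc⟩
      have hzA : z ∈ A := hlines _ (Subgroup.zpowers_le.mpr hzE) (line_of_orderOf rfl) (Subgroup.mem_zpowers z)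
      have hfA := hEA (hKE hf)
      exact h.plane_commute hG hf hfp hzp hne hkL hkH hCf hτ (hAE.trans hE.1) hAe hAc hfA hzA

theorem Nbr.tail (hG : Cfsg.IsMinSimpleOddOrder G) (h : Nbr M K U L H) :
    K ≤ Cfsg.fittingOf (H ⊓ L) ∧ Cfsg.IsComplIn (H ⊓ L) (Cfsg.sigmaCore H) H := by
  obtain ⟨f, hf, hfp, hgen, hkL, hkH, hCf⟩ := h.gen hG
  haveI := Fact.mk hfp
  have hH := h.coatom
  have hL := h.pair.right.coatom
  have hKc : Nat.card K = orderOf f := by rw [← hgen, Nat.card_zpowers]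
  obtain ⟨E, hE₀, hKE⟩ := Coprime.exists_hall_ge {t | t ∉ Cfsg.sigma H} (hG.2.2.2 H hH.1) h.K_le fun t ht hd => by
    rw [hKc] at hd
    rwa [(Nat.prime_dvd_prime_iff_eq ht hfp).mp hd]
  have hE := SylowCentral.isComplIn_of_hall hG hH hE₀
  have hfix : Cfsg.sigmaCore H ⊓ L = ⊥ := by
    refine le_bot_iff.mp (le_trans (le_inf inf_le_left ?_) (h.core_fix hG hf hfp hkH hCf).le)
    intro x hx
    exact mem_centralizer_of_commute (Subgroup.mem_centralizer_iff.mp
      (SigmaMutual.inf_le_centralizer hG hH hL (fun g e => h.nonconjL g⁻¹ (by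
        rw [e, SigmaFusion.cj_cj, inv_mul_cancel, SigmaFusion.cj_one]))
      (⟨(h.pair.eq.ge hf).1, h.K_le hf⟩ : f ∈ Cfsg.sigmaCore L ⊓ H)) x hx)
  have hab := (Cfsg.Agent.S1420.result hG H hH E hE).2.1
  suffices hmain : E ≤ L ∧ K ≤ Cfsg.fittingOf E by
    have heq : H ⊓ L = E := by
      refine le_antisymm (fun x hx => ?_) (le_inf hE.1 hmain.1)
      obtain ⟨e, he, s, hs, rfl⟩ := hE.2.2.2 x hx.1
      have hs1 : s ∈ Cfsg.sigmaCore H ⊓ L := ⟨hs, by simpa using L.mul_mem (L.inv_mem (hmain.1 he)) hx.2⟩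
      rw [hfix, Subgroup.mem_bot] at hs1
      rwa [hs1, mul_one]
    rw [heq]
    exact ⟨hmain.2, hE⟩
  haveI hKn : Group.IsNilpotent K := (isPGroup_of_card hKc).isNilpotent
  by_cases hr : Cfsg.PRankLE (orderOf f) 1 H
  swap
  · have hτ := tau2_of hG hH hkH hr
    obtain ⟨A, hAE, hAe, hAc⟩ := TauTwoAbelian.exists_plane hE hτ
    obtain ⟨⟨hEA, hlines⟩, -⟩ := Cfsg.Agent.S1418.result hG H hH E hE _ hτ A ⟨hAE, hAe, hAc⟩
    have hKA : K ≤ A := hlines K hKE hKc
    have hAL : A ≤ L := (show A ≤ Subgroup.centralizer ({f} : Set G) from fun a ha =>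
      mem_centralizer_of_commute (PlaneSylow.comm_of hAe.1 ha (hKA hf))).trans hCf
    obtain ⟨EL, hEL⟩ := Coprime.exists_hall {t | t ∉ Cfsg.sigma L} (hG.2.2.2 L hL.1)
    obtain ⟨A₀, hexc⟩ := TauTwoStructure.exists_exc hG hH hkH (hAE.trans hE.1) hAe hAc
    have hN := (Cfsg.Agent.S1420.result hG L hL EL (SylowCentral.isComplIn_of_hall hG hL hEL)).2.2.1 _ A hkL
      (IsPGroup.of_card (n := 2) hAc) hAL (FPFTools.not_isCyclic (hexc.maxPlane hG))
    exact ⟨hEA.trans hN, hKA.trans (le_fittingOf hAE hEA (IsPGroup.of_card (n := 2) hAc).isNilpotent)⟩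
  exact ⟨(h.normalizer_of_rank_one hG hE hKE (hKc.symm ▸ hr)).trans (normalizer_K_le hG h.pair),
    le_fittingOf hKE (h.normalizer_of_rank_one hG hE hKE (hKc.symm ▸ hr)) hKn⟩

theorem nbr_of_sylow (hG : Cfsg.IsMinSimpleOddOrder G) (hp' : Pair M K L) (hs : Str M (U ⊔ K) K U) (hU : U ≠ ⊥)
    {r : ℕ} [Fact r.Prime] (hr : r ∣ Nat.card U) (R : Sylow r U) (hH : IsCoatom H)
    (hNR : Subgroup.normalizer (((R : Subgroup U).map U.subtype : Subgroup G) : Set G) ≤ H) : Nbr M K U L H := by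
  haveI := hs.comm
  haveI hRn : (R : Subgroup U).Normal := ⟨fun n hn g => by
    rwa [(mul_comm' g n), mul_inv_cancel_right]⟩
  haveI := R.characteristic_of_normal hRn
  set R₁ := (R : Subgroup U).map U.subtype with hR₁
  have hKR : K ≤ Subgroup.normalizer (R₁ : Set G) :=
    PrimeActionTools.le_normalizer_map_char (le_sup_right.trans hs.normal) _
  have hUR : U ≤ Subgroup.normalizer (R₁ : Set G) :=
    PrimeActionTools.le_normalizer_map_char Subgroup.le_normalizer _
  have hR1 : R₁ ≠ ⊥ := fun e => by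
    have h1 := R.dvd_card_of_dvd_card hr
    rw [(Subgroup.map_eq_bot_iff_of_injective _ U.subtype_injective).mp e, Subgroup.card_bot] at h1
    exact (Fact.out : r.Prime).ne_one (Nat.dvd_one.mp h1)
  have hUH := hUR.trans hNR
  have hKH := hKR.trans hNR
  have hrr := hs.hall.2.1 r Fact.out hr
  refine ⟨hp', hs, hU, hH, hUH, hKH, fun g e => ?_, fun g e => ?_⟩
  · have hcard : Nat.card H = Nat.card M := by rw [e, Subgroup.card_map_of_injective (MulAut.conj g).injective]
    have hR₁H : R₁ ≤ H := (Subgroup.map_subtype_le _).trans hUH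
    have hRc : Nat.card R₁ = r ^ (Nat.card H).factorization r := by
      rw [hR₁, Coprime.card_map_subtype, R.card_eq_multiplicity, hcard, ← Coprime.card_mul_relIndex_eq hs.hall.1,
        Nat.factorization_mul Nat.card_pos.ne' (Nat.pos_of_mul_pos_left
          (Coprime.card_mul_relIndex_eq hs.hall.1 ▸ Nat.card_pos)).ne', Finsupp.add_apply,
        Nat.factorization_eq_zero_of_not_dvd (hs.hall.2.2 r Fact.out hrr), add_zero]
    obtain ⟨S, hS⟩ := Coprime.exists_sylow_map_eq hR₁H hRc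
    have hrH : r ∈ Cfsg.sigma H := ⟨Fact.out, hr.trans (Subgroup.card_dvd_of_le hUH), S, by rw [hS]; exact hNR⟩
    exact hrr.2.2 ((SupportCosets.sigma_cj_iff Fact.out M g).mp (e ▸ hrH))
  · obtain ⟨E', U', hsL⟩ := hp'.right.str hG
    have hg : g ∈ L := by
      by_contra hg
      exact hp'.left.ne (le_bot_iff.mp ((le_inf hp'.eq.ge (e ▸ hKH)).trans
        (KappaStar.ti hG hp'.right.coatom hsL hp'.right.ne hg).le))
    rw [SigmaFusion.cj_eq_self (Subgroup.le_normalizer hg)] at e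
    haveI := hp'.cyclic_Z hG
    letI := IsCyclic.commGroup (α := ↥(Zsub M K))
    obtain ⟨f, hf, hfp⟩ := KappaHall.exists_prime_elem hp'.left.ne
    refine hU (le_bot_iff.mp fun u hu => (hs.free f hf fun e => hfp.ne_one (e ▸ orderOf_one)).le ⟨hu, ?_⟩)
    have huZ : u ∈ Zsub M K := (hp'.inf_eq hG).le ⟨hs.hall.1 hu, e ▸ hUH hu⟩
    exact mem_centralizer_of_commute (congrArg Subtype.val
      (mul_comm (⟨u, huZ⟩ : ↥(Zsub M K)) ⟨f, Subgroup.mem_sup_left hf⟩))

/-- BG 15: `U` has normalizer outside `M`. -/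
theorem normalizer_not_le (hG : Cfsg.IsMinSimpleOddOrder G) (hp' : Pair M K L) (hs : Str M (U ⊔ K) K U) (hU : U ≠ ⊥) :
    ¬ Subgroup.normalizer (U : Set G) ≤ M := by
  obtain ⟨r, hr, hrd⟩ := Nat.exists_prime_and_dvd (mt Subgroup.card_eq_one.mp hU)
  haveI := Fact.mk hr
  obtain ⟨R⟩ : Nonempty (Sylow r U) := inferInstance
  obtain ⟨H, hH, hNR⟩ := Uniqueness.exists_coatom_normalizer (p := r) hG.2 (P := (R : Subgroup U).map U.subtype)
    (fun e => by
      have h1 := R.dvd_card_of_dvd_card hrd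
      rw [(Subgroup.map_eq_bot_iff_of_injective _ U.subtype_injective).mp e, Subgroup.card_bot] at h1
      exact hr.ne_one (Nat.dvd_one.mp h1))
    (R.isPGroup'.map _)
  exact fun hle => (nbr_of_sylow hG hp' hs hU hrd R hH hNR).not_normalizer_le hG (inf_le_right.trans hle)

end CfsgLib.OddOrder.StarNormalizer
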