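import Cfsg.Agent.Lib.OddOrder.SigmaCore
import Cfsg.Agent.Lib.OddOrder.CN
import Mathlib

set_option autoImplicit false
set_option linter.style.haveILetI false
set_option linter.unusedSectionVars false

/-!
Complements of `M_σ` in `M`.
-/

namespace CfsgLib.OddOrder.SigmaComplement

open scoped commutatorElement

variable {G : Type*} [Group G] [Finite G] {M E : Subgroup G} {p : ℕ} [hp : Fact p.Prime]

theorem le_M (hE : Cfsg.IsComplIn E (Cfsg.sigmaCore M) M) : E ≤ M := hE.1

theorem card_E (hE : Cfsg.IsComplIn E (Cfsg.sigmaCore M) M) :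
    Nat.card E = (Cfsg.piCore (Cfsg.sigma M) M).index := by
  rw [← SigmaCore.relIndex_eq, Basic.IsComplIn.relIndex_right hE]

theorem not_dvd_card (hG : Cfsg.IsMinSimpleOddOrder G) (hM : IsCoatom M)
    (hE : Cfsg.IsComplIn E (Cfsg.sigmaCore M) M) (hps : p ∈ Cfsg.sigma M) : ¬ p ∣ Nat.card E := by
  rw [card_E hE]
  exact SigmaCore.not_dvd_index hG hM hps

/-- Subgroups of a rank one `p`-group are cyclic. -/
theorem isCyclic_of_rank_one (hodd : Odd (Nat.card G)) {X : Subgroup G} (hXM : X ≤ M)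
    (hX : IsPGroup p X) (hr : Cfsg.PRankLE p 1 M) : IsCyclic X := by
  by_contra hnc
  have hp2 : p ≠ 2 := by
    intro h
    rcases hX.card_eq_or_dvd with h1 | h1
    · exact hnc (@isCyclic_of_subsingleton _ _ (Nat.card_eq_one_iff_unique.mp h1).1)
    · exact Nat.not_even_iff_odd.mpr hodd (even_iff_two_dvd.mpr (h ▸ h1.trans X.card_subgroup_dvd_card))
  obtain ⟨A, hA, hAe, hA2⟩ := UniqueTools.exists_isEA_sq hp2 hX hnc
  exact UniqueTools.not_pRankLE_of_isEA hAe hA2 (hA.trans hXM) hr

omit hp in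
theorem isZGroup (hodd : Odd (Nat.card G)) {X : Subgroup G} (hXM : X ≤ M)
    (hr : ∀ t : ℕ, t.Prime → t ∣ Nat.card X → Cfsg.PRankLE t 1 M) : IsZGroup X := by
  refine ⟨fun t ht P => ?_⟩
  haveI := Fact.mk ht
  rcases (P.isPGroup').card_eq_or_dvd with h1 | h1
  · exact @isCyclic_of_subsingleton _ _ (Nat.card_eq_one_iff_unique.mp h1).1
  have hc : IsCyclic ↥((P : Subgroup X).map X.subtype) :=
    isCyclic_of_rank_one hodd ((Subgroup.map_subtype_le _).trans hXM) (P.isPGroup'.map _)
      (hr t ht (h1.trans (Subgroup.card_subgroup_dvd_card _)))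
  exact isCyclic_of_surjective ((P : Subgroup X).equivMapOfInjective X.subtype X.subtype_injective).symm
    (MulEquiv.surjective _)

omit hp in
theorem derived_le (hE : Cfsg.IsComplIn E (Cfsg.sigmaCore M) M) : ⁅E, E⁆ ≤ ⁅M, M⁆ :=
  Subgroup.commutator_mono hE.1 hE.1

omit hp in
theorem derived_le_self (H : Subgroup G) : ⁅H, H⁆ ≤ H :=
  (Subgroup.map_subtype_commutator H).ge.trans (Subgroup.map_subtype_le _)

omit hp in
/-- The derived group of a complement is nilpotent. -/
theorem derived_isNilpotent (hG : Cfsg.IsMinSimpleOddOrder G) (hM : IsCoatom M)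
    (hE : Cfsg.IsComplIn E (Cfsg.sigmaCore M) M) : Group.IsNilpotent ↥⁅E, E⁆ := by
  set N := Cfsg.piCore (Cfsg.alpha M) M with hN
  haveI := (SigmaBasics.quotient_facts hG hM).2.2
  set C := (_root_.commutator M).map (QuotientGroup.mk' N) with hC
  have hle : ⁅E, E⁆ ≤ M := (derived_le_self E).trans hE.1
  set f : ↥⁅E, E⁆ →* M ⧸ N := (QuotientGroup.mk' N).comp (Subgroup.inclusion hle) with hf
  have hfC : ∀ x, f x ∈ C := fun x => by
    obtain ⟨y, hy, hyx⟩ := (Subgroup.map_subtype_commutator M).ge (derived_le hE x.2)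
    refine ⟨y, hy, ?_⟩
    show _ = QuotientGroup.mk' N _
    rw [show y = Subgroup.inclusion hle x from M.subtype_injective hyx]
  refine Subgroup.isNilpotent_of_ker_le_center (f.codRestrict C hfC) fun x hx => ?_
  have h1 : f x = 1 := congrArg Subtype.val hx
  have h2 : Subgroup.inclusion hle x ∈ N := (QuotientGroup.eq_one_iff _).mp h1
  have h3 : (x : G) ∈ E ⊓ Cfsg.sigmaCore M :=
    ⟨derived_le_self E x.2, SigmaBasics.alphaCore_le_sigmaCore hG hM ⟨_, h2, rfl⟩⟩
  rw [hE.2.2.1, Subgroup.mem_bot] at h3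
  rw [show x = 1 from Subtype.ext h3]
  exact one_mem _

/-- Primes outside `σ(M)` dividing `|M'|` divide `|E'|`. -/
theorem dvd_card_derived (hG : Cfsg.IsMinSimpleOddOrder G) (hM : IsCoatom M)
    (hE : Cfsg.IsComplIn E (Cfsg.sigmaCore M) M) (hps : p ∉ Cfsg.sigma M) (hd : p ∣ Nat.card ↥⁅M, M⁆) :
    p ∣ Nat.card (_root_.commutator E) := by
  set N := Cfsg.piCore (Cfsg.sigma M) M with hN
  set f : E →* M ⧸ N := (QuotientGroup.mk' N).comp (Subgroup.inclusion hE.1) with hf
  have hfi : Function.Injective f := by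
    refine (injective_iff_map_eq_one f).mpr fun x hx => ?_
    have h2 : Subgroup.inclusion hE.1 x ∈ N := (QuotientGroup.eq_one_iff _).mp hx
    have h3 : (x : G) ∈ E ⊓ Cfsg.sigmaCore M := ⟨x.2, _, h2, rfl⟩
    rw [hE.2.2.1, Subgroup.mem_bot] at h3
    exact Subtype.ext h3
  have hfs : Function.Surjective f := by
    intro y
    obtain ⟨m, rfl⟩ := QuotientGroup.mk'_surjective N y
    obtain ⟨a, ha, b, hb, hab⟩ := hE.2.2.2 m m.2
    obtain ⟨n, hn, rfl⟩ := hb
    refine ⟨⟨a, ha⟩, QuotientGroup.eq.mpr ?_⟩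
    have h6 : (Subgroup.inclusion hE.1 ⟨a, ha⟩)⁻¹ * m = n := Subtype.ext (by simp [hab])
    exact h6 ▸ hn
  set e := MulEquiv.ofBijective f ⟨hfi, hfs⟩ with he
  have h1 : Nat.card (_root_.commutator E) = Nat.card ((_root_.commutator M).map (QuotientGroup.mk' N)) := by
    rw [← Subgroup.card_map_of_injective (f := f) (K := _root_.commutator E) hfi, _root_.commutator_def, _root_.commutator_def,
      Subgroup.map_commutator, Subgroup.map_top_of_surjective f hfs, Subgroup.map_commutator,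
      Subgroup.map_top_of_surjective _ (QuotientGroup.mk'_surjective N)]
  set C := _root_.commutator M with hC
  have h3 : Nat.card ↥⁅M, M⁆ = Nat.card C := by
    rw [← Subgroup.map_subtype_commutator, Subgroup.card_map_of_injective M.subtype_injective]
  rw [h3] at hd
  set g := (QuotientGroup.mk' N).subgroupMap C with hg
  have h4 : Nat.card C = Nat.card (C.map (QuotientGroup.mk' N)) * Nat.card g.ker := by
    rw [Subgroup.card_eq_card_quotient_mul_card_subgroup g.ker]
    congr 1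
    exact Nat.card_congr (QuotientGroup.quotientKerEquivOfSurjective g
      ((QuotientGroup.mk' N).subgroupMap_surjective C)).toEquiv
  have h5 : ¬ p ∣ Nat.card g.ker := by
    intro h
    refine hps (SigmaBasics.mem_of_dvd_piCore (H := M) hp.out (h.trans ?_))
    rw [← Subgroup.card_map_of_injective (K := g.ker) C.subtype_injective]
    refine Subgroup.card_dvd_of_le ?_
    rintro _ ⟨x, hx, rfl⟩
    exact (QuotientGroup.eq_one_iff (x : M)).mp (congrArg Subtype.val hx)
  rw [h1]
  rw [h4] at hd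
  exact (hp.out.dvd_mul.mp hd).resolve_right h5

/-- Hall `τ₁`-subgroups are cyclic. -/
theorem tau1_cyclic (hodd : Odd (Nat.card G)) {X : Subgroup G} (hXM : X ≤ M)
    (hπ : ∀ t : ℕ, t.Prime → t ∣ Nat.card X → t ∈ Cfsg.tau1 M) : IsCyclic X := by
  haveI : IsZGroup X := isZGroup hodd hXM fun t ht hd => (hπ t ht hd).2.2.2.2
  have hc : IsMulCommutative X := by
    refine ⟨⟨fun a b => commutatorElement_eq_one_iff_commute.mp ?_⟩⟩
    have hmem : ((⁅a, b⁆ : X) : G) ∈ X ⊓ ⁅M, M⁆ :=
      ⟨(⁅a, b⁆ : X).2, Subgroup.commutator_mem_commutator (hXM a.2) (hXM b.2)⟩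
    have hbot : X ⊓ ⁅M, M⁆ = ⊥ := by
      refine (Subgroup.disjoint_of_coprime_natCard (Nat.coprime_of_dvd fun t ht h1 h2 => ?_)).eq_bot
      exact (hπ t ht h1).2.2.2.1 h2
    rw [hbot, Subgroup.mem_bot] at hmem
    exact Subtype.ext hmem
  haveI : Group.IsNilpotent X := by
    letI : CommGroup X := { (inferInstance : Group X) with mul_comm := fun a b => hc.1.comm a b }
    infer_instance
  infer_instance

omit hp in
/-- Hall `τ₃`-subgroups of `E` lie in `E'`. -/
theorem tau3_le (hG : Cfsg.IsMinSimpleOddOrder G) (hM : IsCoatom M)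
    (hE : Cfsg.IsComplIn E (Cfsg.sigmaCore M) M) {X : Subgroup G} (hXE : X ≤ E)
    (hπ : ∀ t : ℕ, t.Prime → t ∣ Nat.card X → t ∈ Cfsg.tau3 M) : X ≤ ⁅E, E⁆ := by
  have h : X.subgroupOf E ≤ _root_.commutator E := by
    refine SigmaCore.le_of_coprime_index (Nat.coprime_of_dvd fun t ht h1 h2 => ?_)
    rw [Nat.card_congr (Subgroup.subgroupOfEquivOfLe hXE).toEquiv] at h1
    haveI := Fact.mk ht
    obtain ⟨-, hts, htd, htr⟩ := hπ t ht h1
    obtain ⟨P⟩ : Nonempty (Sylow t E) := inferInstance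
    haveI : IsCyclic ↥((P : Subgroup E).map E.subtype) :=
      isCyclic_of_rank_one hG.1 ((Subgroup.map_subtype_le _).trans hE.1) (P.isPGroup'.map _) htr
    haveI : IsCyclic P := isCyclic_of_surjective
      ((P : Subgroup E).equivMapOfInjective E.subtype E.subtype_injective).symm (MulEquiv.surjective _)
    exact P.not_dvd_card_commutator_or_not_dvd_index_commutator.elim
      (fun h => h (dvd_card_derived hG hM hE hts htd)) (fun h => h h2)
  intro x hx
  exact (Subgroup.map_subtype_commutator E).le ⟨⟨x, hXE hx⟩, h hx, rfl⟩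

/-- A Hall `π`-subgroup of `E` inside a nilpotent normal subgroup is normal. -/
theorem normal_of_hall {π : Set ℕ} {E K X : Subgroup G} [Group.IsNilpotent K]
    (hEK : E ≤ Subgroup.normalizer (K : Set G)) (hKE : K ≤ E) (hXK : X ≤ K)
    (hX : Cfsg.IsPiHallOf π X E) : E ≤ Subgroup.normalizer (X : Set G) := by
  set P := Cfsg.piCore π K with hP
  have hin : ∀ Y : Subgroup G, Y ≤ K → (∀ t : ℕ, t.Prime → t ∣ Nat.card Y → t ∈ π) → Y ≤ P.map K.subtype := by
    intro Y hYK hY
    suffices h : Y.subgroupOf K ≤ P from fun y hy => ⟨⟨y, hYK hy⟩, h hy, rfl⟩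
    refine CN.le_of_primary fun q hq d hd hdq => ?_
    haveI := Fact.mk hq
    by_cases hd1 : d = 1
    · rw [hd1]; exact one_mem _
    have hdvd : q ∣ Nat.card Y := by
      obtain ⟨k, hk⟩ := hdq
      have hk0 : k ≠ 0 := fun h => hd1 (orderOf_eq_one_iff.mp (by rw [hk, h, pow_zero]))
      have hd' := Subgroup.orderOf_dvd_natCard (Y.subgroupOf K) hd
      rw [Nat.card_congr (Subgroup.subgroupOfEquivOfLe hYK).toEquiv, hk] at hd'
      exact (dvd_pow_self q hk0).trans hd'
    haveI : Group.IsNilpotent (⊤ : Subgroup K) := Subgroup.isNilpotent _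
    refine SigmaBasics.le_piCore (fun t ht htd => ?_) (RankTwoGlobal.mem_pCore_of_mem (N := ⊤) (Subgroup.mem_top d) hdq)
    obtain ⟨j, hj⟩ := (Solvable.Cores.isPGroup_pCore q (G := K)).exists_card_eq
    rw [hj] at htd
    exact (Nat.prime_dvd_prime_iff_eq ht hq).mp (ht.dvd_of_dvd_pow htd) ▸ hY q hq hdvd
  have hPle : P.map K.subtype ≤ E := (Subgroup.map_subtype_le _).trans hKE
  have hXP := hin X hXK hX.2.1
  have heq : X = P.map K.subtype := by
    refine le_antisymm hXP (Subgroup.relIndex_eq_one.mp ?_)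
    refine Nat.eq_one_of_dvd_coprimes (a := Nat.card ↥(P.map K.subtype)) (b := X.relIndex E) ?_ ?_ ?_
    · refine Nat.coprime_of_dvd fun t ht h1 h2 => hX.2.2 t ht ?_ h2
      rw [Subgroup.card_map_of_injective K.subtype_injective] at h1
      exact SigmaBasics.mem_of_dvd_piCore ht h1
    · exact Subgroup.relIndex_dvd_card _ _
    · exact Dvd.intro _ (Subgroup.relIndex_mul_relIndex _ _ _ hXP hPle)
  intro g hg
  refine NormalizerFusion.mem_normalizer_of_conj fun x hx => ?_
  rw [heq]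
  refine hin (X.map (MulAut.conj g).toMonoidHom) ?_ ?_ ⟨x, hx, rfl⟩
  · rintro _ ⟨y, hy, rfl⟩
    exact (Subgroup.mem_normalizer_iff.mp (hEK hg) y).mp (hXK hy)
  · intro t ht htd
    rw [Subgroup.card_map_of_injective (MulAut.conj g).injective] at htd
    exact hX.2.1 t ht htd

end CfsgLib.OddOrder.SigmaComplement
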