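import Cfsg.Agent.Lib.OddOrder.SigmaBasics
import Cfsg.Agent.Lib.Solvable.SupersolvableCriteria
import Mathlib

set_option autoImplicit false

/-!
Primes outside `σ(M)` of rank two.
-/

namespace CfsgLib.OddOrder.TauTwo

variable {G : Type*} [Group G] [Finite G] {p : ℕ} [hp : Fact p.Prime] {M : Subgroup G}

theorem maximal_plane (hG : Cfsg.IsMinSimpleOddOrder G) (hM : IsCoatom M) (hr2 : Cfsg.PRankLE p 2 M)
    {A : Subgroup G} (hAM : A ≤ M) (hAe : Cfsg.IsElementaryAbelian p A) (hA2 : Nat.card A = p ^ 2)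
    {B : Subgroup G} (hBe : Cfsg.IsElementaryAbelian p B) (hAB : A ≤ B) : B = A := by
  by_contra hne
  obtain ⟨j, hj⟩ := (Fusion.Thompson.isPGroup_isEA hBe).exists_card_eq
  have hlt : Nat.card A < Nat.card B :=
    Set.ncard_lt_ncard (SetLike.coe_ssubset_coe.mpr (lt_of_le_of_ne hAB (Ne.symm hne)))
  rw [hA2, hj] at hlt
  have hB3 : p ^ 3 ≤ Nat.card B := hj ▸ Nat.pow_le_pow_right hp.out.pos ((Nat.pow_lt_pow_iff_right hp.out.one_lt).mp hlt)
  haveI := hBe.1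
  have hBC : B ≤ Subgroup.centralizer (A : Set G) := B.le_centralizer.trans (Subgroup.centralizer_le hAB)
  have hAtop : A ≠ ⊤ := fun h => hM.1 (top_le_iff.mp (h ▸ hAM))
  have hU := UniquenessTheorem.main hG hAtop (UniqueTools.not_rankLE_one hAe hA2.ge le_rfl)
    (Or.inr fun h => UniqueTools.not_pRankLE_of_isEA hBe hB3 hBC (h p hp.out))
  have hBtop : B ≠ ⊤ := fun h => hG.2.2.1 ⟨⟨fun a b => congrArg Subtype.val
    (hBe.1.1.comm ⟨a, h ▸ Subgroup.mem_top a⟩ ⟨b, h ▸ Subgroup.mem_top b⟩)⟩⟩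
  exact absurd (RankTwo.card_le_sq hr2 hBe (UniqueTools.le_of_unique hU hM hAM hAB hBtop))
    (not_le.mpr (lt_of_lt_of_le (Nat.pow_lt_pow_right hp.out.one_lt (by norm_num)) hB3))

theorem not_ideal (hG : Cfsg.IsMinSimpleOddOrder G) (hM : IsCoatom M) (hr2 : Cfsg.PRankLE p 2 M)
    (hr1 : ¬ Cfsg.PRankLE p 1 M) : ¬ Cfsg.IsIdealPrime p G := by
  rintro ⟨-, -, h⟩
  obtain ⟨A, hAM, hAe, hA2⟩ := UniqueTools.exists_isEA_of_not_rankLE hr1
  have hA2' : Nat.card A = p ^ 2 := le_antisymm (RankTwo.card_le_sq hr2 hAe hAM) hA2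
  obtain ⟨P, hP⟩ := (Fusion.Thompson.isPGroup_isEA hAe).exists_le_sylow
  obtain ⟨B, -, hBe, hlt⟩ := h P A hP hAe hA2'
  exact hlt.ne' (maximal_plane hG hM hr2 hAM hAe hA2' hBe hlt.le)

theorem of_normalizer_le (hG : Cfsg.IsMinSimpleOddOrder G) (hM : IsCoatom M) (hp' : p ∉ Cfsg.sigma M)
    {X : Subgroup G} (hX : Nat.card X = p) (hNX : Subgroup.normalizer (X : Set G) ≤ M) :
    (Cfsg.PRankLE p 2 M ∧ ¬ Cfsg.PRankLE p 1 M) ∧ ¬ Cfsg.IsIdealPrime p G ∧
      ∃ A : Subgroup G, Cfsg.IsElementaryAbelian p A ∧ Nat.card A = p ^ 2 ∧ X ≤ A := by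
  have hr2 : Cfsg.PRankLE p 2 M := by
    by_contra h
    exact hp' (SigmaBasics.mem_sigma_of_alpha hG hM ⟨hp.out, h⟩)
  have hXM : X ≤ M := Subgroup.le_normalizer.trans hNX
  have hpM : p ∣ Nat.card M := hX ▸ Subgroup.card_dvd_of_le hXM
  have hXp : IsPGroup p X := IsPGroup.of_card (n := 1) (by rw [hX, pow_one])
  obtain ⟨S, hS⟩ := (hXp.comap_of_injective M.subtype M.subtype_injective).exists_le_sylow
  set R := (S : Subgroup M).map M.subtype with hR
  have hRp : IsPGroup p R := S.isPGroup'.map _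
  have hXR : X ≤ R := fun x hx => ⟨⟨x, hXM hx⟩, hS hx, rfl⟩
  have hRM : R ≤ M := Subgroup.map_subtype_le _
  have hp2 : p ≠ 2 := fun h => Nat.not_even_iff_odd.mpr hG.1
    (even_iff_two_dvd.mpr (h ▸ hpM.trans M.card_subgroup_dvd_card))
  obtain ⟨x, hxX, hx1⟩ : ∃ x ∈ X, x ≠ 1 := X.bot_or_exists_ne_one.resolve_left fun h => by
    rw [h, Subgroup.card_bot] at hX; exact hp.out.ne_one hX.symm
  have hxp : x ^ p = 1 := by
    rw [← hX]; exact congrArg Subtype.val (pow_card_eq_one' (x := (⟨x, hxX⟩ : X)))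
  have hXz : X = Subgroup.zpowers x := (Subgroup.eq_of_le_of_card_ge (Subgroup.zpowers_le.mpr hxX)
    (by rw [Nat.card_zpowers, orderOf_eq_prime hxp hx1, hX])).symm
  have hnc : ¬ IsCyclic R := by
    intro hc
    refine hp' ⟨hp.out, hpM, S, le_trans ?_ hNX⟩
    intro g hg
    haveI := hc
    refine Subgroup.mem_normalizer_iff_map_conj_eq.mpr ?_
    exact Solvable.SupersolvableCriteria.eq_of_card_eq_of_le_cyclic (A := R)
      ((Subgroup.map_mono hXR).trans (Subgroup.mem_normalizer_iff_map_conj_eq.mp hg).le) hXR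
      (Subgroup.card_map_of_injective (MulAut.conj g).injective)
  obtain ⟨E₀, hE₀R, hE₀e, hE₀2⟩ := UniqueTools.exists_isEA_sq hp2 hRp hnc
  have hr1 : ¬ Cfsg.PRankLE p 1 M := UniqueTools.not_pRankLE_of_isEA hE₀e hE₀2 (hE₀R.trans hRM)
  refine ⟨⟨hr2, hr1⟩, not_ideal hG hM hr2 hr1, ?_⟩
  obtain ⟨y, hyR, hyp, hyX, hxy⟩ : ∃ y ∈ R, y ^ p = 1 ∧ y ∉ X ∧ Commute x y := by
    haveI : Nontrivial R := (Subgroup.nontrivial_iff_ne_bot R).mpr fun h => hx1 (by
      have := h ▸ hXR hxX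
      rwa [Subgroup.mem_bot] at this)
    haveI := hRp.center_nontrivial
    obtain ⟨z, hz⟩ := exists_prime_orderOf_dvd_card' (G := Subgroup.center R) p
      ((hRp.to_subgroup _).card_eq_or_dvd.resolve_left (Finite.one_lt_card (α := Subgroup.center R)).ne')
    have hzc : ∀ r ∈ R, Commute ((z : R) : G) r := fun r hr =>
      (congrArg Subtype.val (Subgroup.mem_center_iff.mp z.2 ⟨r, hr⟩)).symm
    have hzp : ((z : R) : G) ^ p = 1 := by rw [← hz, ← Subgroup.coe_pow, ← Subgroup.coe_pow, pow_orderOf_eq_one]; rfl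
    by_cases hzX : ((z : R) : G) ∈ X
    · obtain ⟨e, he, heX⟩ := SetLike.not_le_iff_exists.mp fun hle : E₀ ≤ X => by
        have := hE₀2.trans ((Subgroup.card_le_of_le hle).trans hX.le)
        exact absurd this (not_le.mpr (by simpa using Nat.pow_lt_pow_right hp.out.one_lt one_lt_two))
      refine ⟨e, hE₀R he, hE₀e.2 e he, heX, ?_⟩
      have hz1 : ((z : R) : G) ≠ 1 := fun h => hp.out.ne_one (by
        rw [← hz, ← Subgroup.orderOf_coe, ← Subgroup.orderOf_coe, h, orderOf_one])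
      have hzX' : Subgroup.zpowers ((z : R) : G) = X := Subgroup.eq_of_le_of_card_ge (Subgroup.zpowers_le.mpr hzX)
        (by rw [Nat.card_zpowers, orderOf_eq_prime hzp hz1, hX])
      obtain ⟨i, hi⟩ := Subgroup.mem_zpowers_iff.mp (hzX'.ge hxX)
      rw [← hi]
      exact (hzc e (hE₀R he)).zpow_left i
    · exact ⟨_, (z : R).2, hzp, hzX, (hzc x (hXR hxX)).symm⟩
  have he := Replacement.isEA_sup (Replacement.isEA_zpowers hxp) (Replacement.isEA_zpowers hyp) (by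
    rw [Subgroup.zpowers_le, Subgroup.mem_centralizer_iff]
    intro g hg
    obtain ⟨i, rfl⟩ := Subgroup.mem_zpowers_iff.mp hg
    exact (hxy.symm.zpow_left i).eq)
  rw [← hXz] at he
  refine ⟨_, he, le_antisymm (RankTwo.card_le_sq hr2 he (sup_le hXM (Subgroup.zpowers_le.mpr (hRM hyR)))) ?_, le_sup_left⟩
  obtain ⟨j, hj⟩ := (Fusion.Thompson.isPGroup_isEA he).exists_card_eq
  have hlt : Nat.card X < Nat.card ↥(X ⊔ Subgroup.zpowers y) := Set.ncard_lt_ncard (SetLike.coe_ssubset_coe.mpr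
    (lt_of_le_of_ne le_sup_left fun h => hyX (h.ge (Subgroup.mem_sup_right (Subgroup.mem_zpowers y)))))
  rw [hX, hj] at hlt
  rw [hj]
  exact Nat.pow_le_pow_right hp.out.pos ((Nat.pow_lt_pow_iff_right hp.out.one_lt).mp (by rwa [pow_one]))

end CfsgLib.OddOrder.TauTwo
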