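import Cfsg.Agent.Lib.OddOrder.SigmaTools2
import Cfsg.Agent.Lib.OddOrder.SigmaComplement
import Cfsg.Agent.Lib.OddOrder.TauTwo
import Cfsg.Agent.Lib.OddOrder.RankTwoGlobal
import Mathlib

set_option autoImplicit false
set_option linter.style.haveILetI false
set_option linter.unusedSectionVars false

/-!
The nilpotent normal subgroup `M' ∩ C(M_σ)` and the normal lines it gives.
-/

namespace CfsgLib.OddOrder.WLine

open scoped commutatorElement
open A2Transitive (MaxPlane)

variable {G : Type*} [Group G] [Finite G] {M : Subgroup G}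

theorem normalizer_le_normalizer_centralizer (X : Subgroup G) :
    Subgroup.normalizer (X : Set G) ≤ Subgroup.normalizer (Subgroup.centralizer (X : Set G) : Set G) := by
  intro g hg
  refine NormalizerFusion.mem_normalizer_of_conj fun y hy => Subgroup.mem_centralizer_iff.mpr fun a ha => ?_
  have ha' : g⁻¹ * a * g ∈ X :=
    (Subgroup.mem_normalizer_iff.mp hg _).mpr (by simpa [mul_assoc] using SetLike.mem_coe.mp ha)
  have := Subgroup.mem_centralizer_iff.mp hy _ ha'
  calc a * (g * y * g⁻¹) = g * ((g⁻¹ * a * g) * y) * g⁻¹ := by group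
    _ = g * (y * (g⁻¹ * a * g)) * g⁻¹ := by rw [this]
    _ = _ := by group

theorem le_normalizer_derived (M : Subgroup G) : M ≤ Subgroup.normalizer ((⁅M, M⁆ : Subgroup G) : Set G) := by
  intro g hg
  refine NormalizerFusion.mem_normalizer_of_conj fun x hx => ?_
  obtain ⟨y, hy, rfl⟩ := (Subgroup.map_subtype_commutator M).ge hx
  exact (Subgroup.map_subtype_commutator M).le
    ⟨⟨g, hg⟩ * y * ⟨g, hg⟩⁻¹, (inferInstance : (_root_.commutator M).Normal).conj_mem y hy _, rfl⟩

theorem normalizer_le_normalizer_pCore (p : ℕ) (X : Subgroup G) :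
    Subgroup.normalizer (X : Set G) ≤
      Subgroup.normalizer ((Cfsg.pCore p X).map X.subtype : Subgroup G) := by
  intro g hg
  refine NormalizerFusion.mem_normalizer_of_conj ?_
  have hmap := Subgroup.mem_normalizer_iff_map_conj_eq.mp hg
  let e : X ≃* X := ((MulAut.conj g).subgroupMap X).trans (MulEquiv.subgroupCongr hmap)
  rintro _ ⟨x, hx, rfl⟩
  refine ⟨e x, ?_, by rfl⟩
  have hs : Function.Surjective e.toMonoidHom := e.surjective
  haveI := (inferInstance : (Cfsg.pCore p X).Normal).map e.toMonoidHom hs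
  exact Solvable.Cores.le_pCore (N := (Cfsg.pCore p X).map e.toMonoidHom)
    ((Solvable.Cores.isPGroup_pCore p).map _) ⟨x, hx, rfl⟩

/-- `M' ∩ C(M_σ)`. -/
def W (M : Subgroup G) : Subgroup G := ⁅M, M⁆ ⊓ Subgroup.centralizer (Cfsg.sigmaCore M : Set G)

theorem W_le (M : Subgroup G) : W M ≤ M := inf_le_left.trans (SigmaComplement.derived_le_self M)

theorem le_normalizer_W (M : Subgroup G) : M ≤ Subgroup.normalizer (W M : Set G) :=
  (le_inf (le_normalizer_derived M) ((SigmaTools.le_normalizer_sigmaCore M).trans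
    (normalizer_le_normalizer_centralizer _))).trans Subgroup.inf_normalizer_le_normalizer_inf

theorem W_isNilpotent (hG : Cfsg.IsMinSimpleOddOrder G) (hM : IsCoatom M) : Group.IsNilpotent (W M) := by
  refine BetaCore.isNilpotent_of_npc fun p hp hd => ?_
  haveI := Fact.mk hp
  by_cases hb : p ∈ Cfsg.beta M
  · obtain ⟨P⟩ : Nonempty (Sylow p (W M)) := inferInstance
    have hPσ : (P : Subgroup (W M)).map (W M).subtype ≤ Cfsg.sigmaCore M :=
      SigmaTools.pGroup_le_sigmaCore hG hM (SigmaBasics.mem_sigma_of_alpha hG hM hb.1)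
        ((Subgroup.map_subtype_le _).trans (W_le M)) (P.isPGroup'.map _)
    have hcen : ∀ x ∈ (P : Subgroup (W M)), ∀ w : W M, w * x = x * w := fun x hx w =>
      Subtype.ext (Subgroup.mem_centralizer_iff.mp w.2.2 x (hPσ ⟨x, hx, rfl⟩)).symm
    refine ⟨P, _, inferInstance, MonoidHom.ker_transferSylow_isComplement' P fun g _ => ?_⟩
    exact Subgroup.mem_centralizer_iff.mpr fun x hx => (hcen x hx g).symm
  · exact NarrowMaximal.npc_of_le_derived hG hM
      (hd.trans (Subgroup.card_dvd_of_le (W_le M))) hb inf_le_left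

variable {p : ℕ} [hp : Fact p.Prime]

/-- For `p ∉ σ(M)` the maximal subgroup normalises no plane of order `p ^ 2`. -/
theorem no_normal_plane (hG : Cfsg.IsMinSimpleOddOrder G) (hM : IsCoatom M) (hps : p ∉ Cfsg.sigma M)
    {B : Subgroup G} (hB : MaxPlane p B) (hMB : M ≤ Subgroup.normalizer (B : Set G)) : False := by
  obtain ⟨S, hBS⟩ := hB.isPGroup.exists_le_sylow
  have hN : Subgroup.normalizer (B : Set G) = M := (hM.le_iff.mp hMB).resolve_left
    (Uniqueness.normalizer_ne_top hG.2 hB.ne_bot (by haveI := hB.isPGroup.isNilpotent; infer_instance))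
  have hpG : p ∣ Nat.card G := (hB.card ▸ dvd_pow_self p (by norm_num : 2 ≠ 0)).trans B.card_subgroup_dvd_card
  by_cases hab : IsMulCommutative (S : Subgroup G)
  · exact hps (SigmaTools.mem_sigma_of_sylow hpG ((PlaneSylow.abelian_case hG hB hBS hab).2.1.trans hN.le))
  · have hZle := hN.ge.trans (PlaneSylow.normalizer_le_zLine hG hB hBS hab)
    have hNZ : Subgroup.normalizer (PlaneSylow.zLine S : Set G) = M := (hM.le_iff.mp hZle).resolve_left (by
      have hZB := PlaneSylow.zLine_le (S := S) hB hBS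
      refine Uniqueness.normalizer_ne_top hG.2 (fun h => ?_)
        (by haveI := (hB.isPGroup.to_le hZB).isNilpotent; infer_instance)
      have := PlaneSylow.zLine_card hG hB hBS hab
      rw [h, Subgroup.card_bot] at this
      exact hp.out.ne_one this.symm)
    exact hps (SigmaTools.mem_sigma_of_sylow hpG ((PlaneSylow.normalizer_le_normalizer_zLine S).trans hNZ.le))

/-- A nontrivial `p`-element of `M' ∩ C(M_σ)` gives a line with normalizer `M`. -/
theorem exists_line (hG : Cfsg.IsMinSimpleOddOrder G) (hM : IsCoatom M) (hps : p ∉ Cfsg.sigma M) {w : G}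
    (hw : w ∈ W M) (hw1 : w ≠ 1) (hwp : ∃ k, orderOf w = p ^ k) :
    ∃ X : Subgroup G, X ≤ W M ∧ Nat.card X = p ∧ Subgroup.normalizer (X : Set G) = M ∧
      ∀ P : Subgroup G, IsPGroup p P → P ≤ M → P ≤ Subgroup.centralizer (X : Set G) := by
  haveI := W_isNilpotent hG hM
  set D := (Cfsg.pCore p (W M)).map (W M).subtype with hD
  have hDW : D ≤ W M := Subgroup.map_subtype_le _
  have hDp : IsPGroup p D := (Solvable.Cores.isPGroup_pCore p).map _
  haveI : Group.IsNilpotent (⊤ : Subgroup (W M)) := Subgroup.isNilpotent _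
  have hwD : w ∈ D := ⟨⟨w, hw⟩, RankTwoGlobal.mem_pCore_of_mem (N := ⊤) (Subgroup.mem_top _)
    (by obtain ⟨k, hk⟩ := hwp; exact ⟨k, by rw [Subgroup.orderOf_mk, hk]⟩), rfl⟩
  have hMD : M ≤ Subgroup.normalizer (D : Set G) := (le_normalizer_W M).trans (normalizer_le_normalizer_pCore p _)
  set Z := D ⊓ Subgroup.centralizer (D : Set G) with hZ
  have hZc : ∀ a ∈ Z, ∀ b ∈ Z, Commute a b := fun a ha b hb => Subgroup.mem_centralizer_iff.mp hb.2 a ha.1
  set Y := Subgroup.closure {x : G | x ∈ Z ∧ x ^ p = 1} with hY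
  have hYe : Cfsg.IsElementaryAbelian p Y := Replacement.isEA_closure
    (fun a ha b hb => hZc a ha.1 b hb.1) fun a ha => ha.2
  have hYZ : Y ≤ Z := (Subgroup.closure_le _).mpr fun x hx => hx.1
  have hMY : M ≤ Subgroup.normalizer (Y : Set G) := by
    have hMZ : M ≤ Subgroup.normalizer (Z : Set G) :=
      (le_inf hMD (hMD.trans (normalizer_le_normalizer_centralizer D))).trans
        Subgroup.inf_normalizer_le_normalizer_inf
    intro g hg
    refine Subgroup.mem_normalizer_iff_map_conj_eq.mpr ?_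
    refine Subgroup.eq_of_le_of_card_ge ?_
      (by rw [Subgroup.card_map_of_injective (MulAut.conj g).injective])
    rw [hY, MonoidHom.map_closure]
    refine Subgroup.closure_mono ?_
    rintro _ ⟨x, ⟨hx, hxp⟩, rfl⟩
    refine ⟨(Subgroup.mem_normalizer_iff.mp (hMZ hg) x).mp hx, ?_⟩
    show (g * x * g⁻¹) ^ p = 1
    rw [conj_pow, hxp]; group
  have hY1 : Y ≠ ⊥ := by
    haveI : Nontrivial D := (Subgroup.nontrivial_iff_ne_bot D).mpr fun h => hw1 (Subgroup.mem_bot.mp (h ▸ hwD))
    haveI := hDp.center_nontrivial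
    obtain ⟨z, hz⟩ := exists_prime_orderOf_dvd_card' (G := Subgroup.center D) p
      ((hDp.to_subgroup _).card_eq_or_dvd.resolve_left (Finite.one_lt_card (α := Subgroup.center D)).ne')
    intro h
    have hm : ((z : D) : G) ∈ Y := Subgroup.subset_closure ⟨⟨(z : D).2, Subgroup.mem_centralizer_iff.mpr
      fun s hs => congrArg Subtype.val (Subgroup.mem_center_iff.mp z.2 ⟨s, hs⟩)⟩, by
        have h' := pow_orderOf_eq_one z
        rw [hz] at h'
        exact congrArg (fun t : Subgroup.center D => ((t : D) : G)) h'⟩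
    rw [h, Subgroup.mem_bot] at hm
    rw [show z = 1 from Subtype.ext (Subtype.ext hm), orderOf_one] at hz
    exact hp.out.ne_one hz.symm
  have hYM : Y ≤ M := hYZ.trans (inf_le_left.trans (hDW.trans (W_le M)))
  have hr2 : Cfsg.PRankLE p 2 M := by
    by_contra h
    exact hps (SigmaBasics.mem_sigma_of_alpha hG hM ⟨hp.out, h⟩)
  obtain ⟨k, hk⟩ := (Fusion.Thompson.isPGroup_isEA hYe).exists_card_eq
  have hk0 : k ≠ 0 := fun h => hY1 (Subgroup.eq_bot_of_card_eq _ (by rw [hk, h, pow_zero]))
  have hk2 : k ≤ 2 := (Nat.pow_le_pow_iff_right hp.out.one_lt).mp (hk ▸ RankTwo.card_le_sq hr2 hYe hYM)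
  have hk1 : k = 1 := by
    by_contra h
    have hYc : Nat.card Y = p ^ 2 := by rw [hk, show k = 2 by omega]
    exact no_normal_plane hG hM hps
      ⟨hYe, hYc, fun B hB hle => TauTwo.maximal_plane hG hM hr2 hYM hYe hYc hB hle⟩ hMY
  have hYcard : Nat.card Y = p := by rw [hk, hk1, pow_one]
  refine ⟨Y, hYZ.trans (inf_le_left.trans hDW), hYcard, (hM.le_iff.mp hMY).resolve_left ?_,
    fun P hP hPM => Coprime.le_centralizer_of_card_eq_prime hP hYcard (hPM.trans hMY)⟩
  refine Uniqueness.normalizer_ne_top hG.2 hY1 ?_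
  haveI := (Fusion.Thompson.isPGroup_isEA hYe).isNilpotent
  infer_instance

end CfsgLib.OddOrder.WLine
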