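import Cfsg.Agent.Lib.OddOrder.FrobeniusFormula
import Cfsg.Agent.Lib.OddOrder.WLine
import Cfsg.Prelude.Def_OddOrderLocal
import Mathlib

set_option autoImplicit false
set_option linter.style.haveILetI false
set_option linter.unusedSectionVars false

/-!
BG 3.10 in group form: `R` acts without fixed points on `K`, and `K R` acts coprimely on a nilpotent group `M`
on which `K` has no fixed points. Then `|M| = |C_M(R)| ^ |R|`.
-/

universe u

namespace CfsgLib.OddOrder.FrobeniusFormulaGroup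

open Subgroup
open scoped commutatorElement

/-- The data of the action. -/
structure FData {X : Type u} [Group X] (K R M : Subgroup X) : Prop where
  hKR : R ≤ normalizer (K : Set X)
  hKM : K ≤ normalizer (M : Set X)
  hRM : R ≤ normalizer (M : Set X)
  hfpf : ∀ r ∈ R, r ≠ 1 → ∀ k ∈ K, Commute r k → k = 1
  hsolv : Group.IsSolvable K
  hcop : (Nat.card K).Coprime (Nat.card M)
  hcopR : (Nat.card R).Coprime (Nat.card M)

variable {X : Type u} [Group X] [Finite X] {K R V A B : Subgroup X} {l : ℕ} [hl : Fact l.Prime]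

omit hl in
theorem normalizer_inf_le (g : X) {A B : Subgroup X} (hA : g ∈ normalizer (A : Set X)) (hB : g ∈ normalizer (B : Set X)) :
    g ∈ normalizer ((A ⊓ B : Subgroup X) : Set X) :=
  Subgroup.inf_normalizer_le_normalizer_inf ⟨hA, hB⟩

omit hl in
theorem normalizer_commutator_le (g : X) {A B : Subgroup X} (hA : g ∈ normalizer (A : Set X))
    (hB : g ∈ normalizer (B : Set X)) : g ∈ normalizer ((⁅A, B⁆ : Subgroup X) : Set X) := by
  refine mem_normalizer_iff_map_conj_eq.mpr ?_
  rw [Subgroup.map_commutator, mem_normalizer_iff_map_conj_eq.mp hA, mem_normalizer_iff_map_conj_eq.mp hB]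

/-- Additive endomorphisms as a linear representation. -/
def repOf {H A : Type*} [Group H] [AddCommGroup A] (n : ℕ) [Module (ZMod n) A] (act : H → A →+ A)
    (h1 : ∀ a, act 1 a = a) (hm : ∀ g h a, act (g * h) a = act g (act h a)) : H →* Module.End (ZMod n) A where
  toFun g := (act g).toZModLinearMap n
  map_one' := LinearMap.ext h1
  map_mul' g h := LinearMap.ext (hm g h)

/-- The action of the normalizer of an elementary abelian group. -/
theorem exists_rep (hVe : Cfsg.IsElementaryAbelian l V) :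
    ∃ (W : Type u) (_ : AddCommGroup W) (_ : Module (ZMod l) W) (_ : Finite W) (e : W ≃ V)
      (ρ : normalizer (V : Set X) →* Module.End (ZMod l) W),
      e 0 = 1 ∧ ∀ (g : normalizer (V : Set X)) (w : W), (e (ρ g w) : X) = (g : X) * e w * (g : X)⁻¹ := by
  letI : CommGroup V := { (inferInstance : Group V) with mul_comm := fun a b => hVe.1.1.comm a b }
  letI : Module (ZMod l) (Additive V) := AddCommGroup.zmodModule fun a => by
    apply Additive.toMul.injective
    rw [toMul_nsmul, toMul_zero]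
    exact Subtype.ext (hVe.2 _ (Additive.toMul a).2)
  let act : normalizer (V : Set X) → Additive V →+ Additive V := fun g =>
    AddMonoidHom.mk' (fun a => Additive.ofMul (⟨(g : X) * (Additive.toMul a : V) * (g : X)⁻¹,
        (mem_normalizer_iff.mp g.2 _).mp (Additive.toMul a).2⟩ : V)) fun a b =>
      Additive.toMul.injective (Subtype.ext (conj_mul (a := ((Additive.toMul a : V) : X))).symm)
  let ρ := repOf l act (fun a => Additive.toMul.injective (Subtype.ext (by simp [act])))
    (fun g h a => Additive.toMul.injective (Subtype.ext (by simp [act, mul_assoc])))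
  exact ⟨Additive V, inferInstance, inferInstance, inferInstance, Additive.toMul, ρ, rfl, fun g w => rfl⟩

omit hl in
theorem commutator_subgroupOf {H : Subgroup X} (hKH : K ≤ H) {k : K.subgroupOf H}
    (hk : k ∈ _root_.commutator (K.subgroupOf H)) : ((k : H) : X) ∈ ⁅K, K⁆ := by
  have h : (k : H) ∈ ⁅K.subgroupOf H, K.subgroupOf H⁆ :=
    (Subgroup.map_subtype_commutator _).le ⟨k, hk, rfl⟩
  have h2 : ((k : H) : X) ∈ (⁅K.subgroupOf H, K.subgroupOf H⁆).map H.subtype := ⟨_, h, rfl⟩
  rwa [Subgroup.map_commutator, subgroupOf_map_subtype, inf_eq_left.mpr hKH] at h2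

/-- The formula when `K'` centralises `V`. -/
theorem card_abelian_case (h : FData K R V) (hVe : Cfsg.IsElementaryAbelian l V) (hl' : ¬ l ∣ Nat.card K)
    (hder : ⁅K, K⁆ ≤ centralizer (V : Set X)) (hC : V ⊓ centralizer (K : Set X) = ⊥) :
    Nat.card V = Nat.card ↥(V ⊓ centralizer (R : Set X)) ^ Nat.card R := by
  obtain ⟨W, _, _, _, e, ρ, he0, hρ⟩ := exists_rep hVe
  let H := normalizer (V : Set X)
  have hfixiff : ∀ (S : Subgroup X) (hS : S ≤ H) (w : W),
      (∀ s ∈ S.subgroupOf H, ρ s w = w) ↔ (e w : X) ∈ centralizer (S : Set X) := by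
    intro S hS w
    constructor
    · intro hw
      refine mem_centralizer_iff.mpr fun s hs => ?_
      have := hρ ⟨s, hS hs⟩ w
      rw [hw ⟨s, hS hs⟩ (mem_subgroupOf.mpr hs)] at this
      conv_rhs => rw [this]
      group
    · intro hw s hs
      apply e.injective
      apply Subtype.ext
      rw [hρ, mem_centralizer_iff.mp hw s (mem_subgroupOf.mp hs)]
      group
  have key := FrobeniusFormula.card_fixed_pow ρ (K := K.subgroupOf H) (R := R.subgroupOf H)
    (fun r hr => Subgroup.le_normalizer_comap H.subtype (h.hKR (mem_subgroupOf.mp hr)))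
    (fun r hr hr1 k hk hc => Subtype.ext (h.hfpf r (mem_subgroupOf.mp hr) (fun e' => hr1 (Subtype.ext e')) k
      (mem_subgroupOf.mp hk) (congrArg Subtype.val hc)))
    (by rwa [Nat.card_congr (subgroupOfEquivOfLe h.hKM).toEquiv])
    (fun k hk => LinearMap.ext fun w => e.injective (Subtype.ext (by
      rw [hρ, show ((k : H) : X) * e w = e w * (k : H) from
        (mem_centralizer_iff.mp (hder (commutator_subgroupOf h.hKM hk)) _ (e w).2).symm]
      simp)))
    (fun w hw => e.injective (by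
      rw [he0]
      refine Subtype.ext ?_
      have hmem : (e w : X) ∈ V ⊓ centralizer (K : Set X) := ⟨(e w).2, (hfixiff K h.hKM w).mp hw⟩
      rwa [hC, mem_bot] at hmem))
  rw [Nat.card_congr e, Nat.card_congr (subgroupOfEquivOfLe h.hRM).toEquiv] at key
  rw [key]
  congr 1
  exact Nat.card_congr
    { toFun := fun w => ⟨e w.1, (e w.1).2, (hfixiff R h.hRM _).mp w.2⟩
      invFun := fun v => ⟨e.symm ⟨v.1, v.2.1⟩, (hfixiff R h.hRM _).mpr (by rw [Equiv.apply_symm_apply]; exact v.2.2)⟩
      left_inv := fun w => Subtype.ext (by simp)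
      right_inv := fun v => Subtype.ext (by simp) }

omit hl in
/-- Cardinalities along an invariant decomposition. -/
theorem card_split (hab : IsMulCommutative V) (hA : A ≤ V) (hB : B ≤ V) (hsup : A ⊔ B = V) (hbot : A ⊓ B = ⊥)
    (hRA : R ≤ normalizer (A : Set X)) (hRB : R ≤ normalizer (B : Set X)) :
    Nat.card V = Nat.card A * Nat.card B ∧
      Nat.card ↥(V ⊓ centralizer (R : Set X)) =
        Nat.card ↥(A ⊓ centralizer (R : Set X)) * Nat.card ↥(B ⊓ centralizer (R : Set X)) := by
  have hAB : A ≤ centralizer (B : Set X) :=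
    hA.trans ((haveI := hab; V.le_centralizer).trans (centralizer_le (SetLike.coe_subset_coe.mpr hB)))
  have hBn : A ≤ normalizer (B : Set X) := hAB.trans (centralizer_le_normalizer _)
  refine ⟨?_, ?_⟩
  · rw [← hsup, sup_comm, Coprime.card_sup_of_le_normalizer hBn (disjoint_iff.mpr (by rw [inf_comm, hbot])), mul_comm]
  have hle : V ⊓ centralizer (R : Set X) = (B ⊓ centralizer (R : Set X)) ⊔ (A ⊓ centralizer (R : Set X)) := by
    refine le_antisymm (fun v hv => ?_) (sup_le (inf_le_inf_right _ hB) (inf_le_inf_right _ hA))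
    have hv' : v ∈ A ⊔ B := hsup ▸ hv.1
    rw [← SetLike.mem_coe, coe_mul_of_left_le_normalizer_right A B hBn] at hv'
    obtain ⟨a, ha, b, hb, rfl⟩ := Set.mem_mul.mp hv'
    have hfix : ∀ r ∈ R, r * a * r⁻¹ = a ∧ r * b * r⁻¹ = b := by
      intro r hr
      have h1 : r * a * r⁻¹ * (r * b * r⁻¹) = a * b := by
        rw [show r * a * r⁻¹ * (r * b * r⁻¹) = r * (a * b) * r⁻¹ by group, mem_centralizer_iff.mp hv.2 r hr]
        group
      have h2 : a⁻¹ * (r * a * r⁻¹) ∈ A ⊓ B := by
        refine ⟨A.mul_mem (A.inv_mem ha) ((mem_normalizer_iff.mp (hRA hr) a).mp ha), ?_⟩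
        rw [show a⁻¹ * (r * a * r⁻¹) = b * (r * b * r⁻¹)⁻¹ by
          rw [eq_mul_inv_iff_mul_eq, mul_assoc, h1, inv_mul_cancel_left]]
        exact B.mul_mem hb (B.inv_mem ((mem_normalizer_iff.mp (hRB hr) b).mp hb))
      rw [hbot, mem_bot, inv_mul_eq_one] at h2
      refine ⟨h2.symm, ?_⟩
      rw [← h2] at h1
      exact mul_left_cancel h1
    have haC : a ∈ A ⊓ centralizer (R : Set X) :=
      ⟨ha, mem_centralizer_iff.mpr fun r hr => by rw [← mul_inv_eq_iff_eq_mul]; exact (hfix r hr).1⟩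
    have hbC : b ∈ B ⊓ centralizer (R : Set X) :=
      ⟨hb, mem_centralizer_iff.mpr fun r hr => by rw [← mul_inv_eq_iff_eq_mul]; exact (hfix r hr).2⟩
    exact mul_mem (mem_sup_right haC) (mem_sup_left hbC)
  rw [hle, Coprime.card_sup_of_le_normalizer
    ((inf_le_left.trans hAB).trans ((centralizer_le (SetLike.coe_subset_coe.mpr inf_le_left)).trans
      (centralizer_le_normalizer _)))
    (disjoint_iff.mpr (le_bot_iff.mp ((inf_le_inf inf_le_left inf_le_left).trans (by rw [inf_comm, hbot])))), mul_comm]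

omit hl in
/-- The fixed points and the commutators of a normalised subgroup form an invariant decomposition. -/
theorem split {Z : Subgroup X} (hab : IsMulCommutative V) (hZV : Z ≤ normalizer (V : Set X))
    (hcop : (Nat.card Z).Coprime (Nat.card V)) :
    (V ⊓ centralizer (Z : Set X)) ⊔ ⁅V, Z⁆ = V ∧ (V ⊓ centralizer (Z : Set X)) ⊓ ⁅V, Z⁆ = ⊥ ∧ ⁅V, Z⁆ ≤ V ∧
      ⁅V, Z⁆ ⊓ centralizer (Z : Set X) = ⊥ ∧
      ∀ g ∈ normalizer (V : Set X), g ∈ normalizer (Z : Set X) →
        g ∈ normalizer ((V ⊓ centralizer (Z : Set X) : Subgroup X) : Set X) ∧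
          g ∈ normalizer ((⁅V, Z⁆ : Subgroup X) : Set X) := by
  haveI := hab
  have hle : ⁅V, Z⁆ ≤ V := le_normalizer_iff_commutator_le_left.1 hZV
  have hbot := Coprime.centralizer_inf_commutator_eq_bot (A := Z) (V := V) hZV hcop
  refine ⟨by rw [sup_comm]; exact Coprime.commutator_sup_centralizer hZV hcop (Or.inr (Group.isSolvable_of_comm fun a b => mul_comm' a b)), hbot, hle, ?_,
    fun g hg hgZ => ⟨normalizer_inf_le g hg (WLine.normalizer_le_normalizer_centralizer Z hgZ),
      normalizer_commutator_le g hg hgZ⟩⟩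
  refine le_bot_iff.mp ?_
  rw [← hbot]
  exact le_inf (le_inf (inf_le_left.trans hle) inf_le_right) inf_le_left

/-- The formula for elementary abelian `V`. -/
theorem card_elementary : ∀ (n : ℕ) (K V : Subgroup X), Nat.card K ≤ n → FData K R V →
    Cfsg.IsElementaryAbelian l V → ¬ l ∣ Nat.card K → V ⊓ centralizer (K : Set X) = ⊥ →
    Nat.card V = Nat.card ↥(V ⊓ centralizer (R : Set X)) ^ Nat.card R := by
  intro n
  induction n with
  | zero => intro K V hn; exact absurd hn (by have := Nat.card_pos (α := K); omega)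
  | succ n ih =>
    intro K V hn h hVe hlK hC
    by_cases hK1 : K = ⊥
    · have hV : V = ⊥ := by
        rw [← hC, hK1, eq_comm, inf_eq_left]
        exact fun v _ => mem_centralizer_iff.mpr fun a ha => by
          rw [mem_bot.mp ha, one_mul, mul_one]
      subst hV
      rw [bot_inf_eq, card_bot, one_pow]
    set K₁ := ⁅K, K⁆ with hK₁
    have hK₁K : K₁ ≤ K := (Subgroup.map_subtype_commutator K).ge.trans (map_subtype_le _)
    have hlt : Nat.card K₁ < Nat.card K := by
      haveI := h.hsolv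
      haveI : Nontrivial K := (nontrivial_iff_ne_bot K).mpr hK1
      have h1 := Group.IsSolvable.commutator_lt_top_of_nontrivial K
      rw [hK₁, ← Subgroup.map_subtype_commutator K, card_map_of_injective K.subtype_injective]
      refine lt_of_le_of_ne (card_le_card_group _) fun e => h1.ne (card_eq_iff_eq_top _ |>.mp e)
    have hcop₁ := h.hcop.coprime_dvd_left (card_dvd_of_le hK₁K)
    obtain ⟨hsup, hbot, hBV, hCB, hnorm⟩ := split hVe.1 (hK₁K.trans h.hKM) hcop₁
    set A := V ⊓ centralizer (K₁ : Set X) with hA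
    set B := ⁅V, K₁⁆ with hB
    have hAV : A ≤ V := inf_le_left
    have hNK₁ : ∀ g ∈ normalizer (K : Set X), g ∈ normalizer (K₁ : Set X) := fun g hg => normalizer_commutator_le g hg hg
    have hRn := fun r (hr : r ∈ R) => hnorm r (h.hRM hr) (hNK₁ r (h.hKR hr))
    have hKn := fun k (hk : k ∈ K) => hnorm k (h.hKM hk) (hNK₁ k (le_normalizer hk))
    have eA : Nat.card A = Nat.card ↥(A ⊓ centralizer (R : Set X)) ^ Nat.card R := by
      refine card_abelian_case ⟨h.hKR, fun k hk => (hKn k hk).1, fun r hr => (hRn r hr).1, h.hfpf, h.hsolv,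
        h.hcop.coprime_dvd_right (card_dvd_of_le hAV), h.hcopR.coprime_dvd_right (card_dvd_of_le hAV)⟩
        (Fusion.Thompson.isEA_le hVe hAV) hlK (le_centralizer_iff.mp inf_le_right) ?_
      exact le_bot_iff.mp (hC ▸ inf_le_inf_right _ hAV)
    have eB : Nat.card B = Nat.card ↥(B ⊓ centralizer (R : Set X)) ^ Nat.card R :=
      ih K₁ B (by omega) ⟨fun r hr => hNK₁ r (h.hKR hr), fun k hk => (hKn k (hK₁K hk)).2, fun r hr => (hRn r hr).2,
        fun r hr hr1 k hk => h.hfpf r hr hr1 k (hK₁K hk), Coprime.isSolvable_of_le hK₁K h.hsolv,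
        hcop₁.coprime_dvd_right (card_dvd_of_le hBV), h.hcopR.coprime_dvd_right (card_dvd_of_le hBV)⟩
        (Fusion.Thompson.isEA_le hVe hBV) (fun e => hlK (e.trans (card_dvd_of_le hK₁K))) hCB
    obtain ⟨e1, e2⟩ := card_split hVe.1 hAV hBV hsup hbot (fun r hr => (hRn r hr).1) (fun r hr => (hRn r hr).2)
    rw [e1, e2, eA, eB, mul_pow]

/-- With cyclic fixed points `K'` centralises `V`. -/
theorem derived_elementary (h : FData K R V) (hVe : Cfsg.IsElementaryAbelian l V) (hlK : ¬ l ∣ Nat.card K)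
    (hKn : Group.IsNilpotent K) (hC : V ⊓ centralizer (K : Set X) = ⊥)
    (hsmall : Nat.card ↥(V ⊓ centralizer (R : Set X)) ≤ l) : ⁅K, K⁆ ≤ centralizer (V : Set X) := by
  by_contra hne
  set C := centralizer (V : Set X) with hCdef
  -- a minimal invariant subgroup of `K'` outside the kernel
  obtain ⟨Z, ⟨hZK, hZR, hZn, hZC⟩, hmin⟩ := (Set.toFinite {Z : Subgroup X | Z ≤ ⁅K, K⁆ ∧
    R ≤ normalizer (Z : Set X) ∧ K ≤ normalizer (Z : Set X) ∧ ¬ Z ≤ C}).exists_minimal
    ⟨⁅K, K⁆, le_rfl, fun r hr => normalizer_commutator_le r (h.hKR hr) (h.hKR hr),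
      fun k hk => normalizer_commutator_le k (le_normalizer hk) (le_normalizer hk), hne⟩
  have hZK' : Z ≤ K := hZK.trans ((Subgroup.map_subtype_commutator K).ge.trans (map_subtype_le _))
  have hcent : ⁅Z, K⁆ ≤ C := by
    by_contra hnc
    have hsub : ⁅Z, K⁆ ≤ Z := le_normalizer_iff_commutator_le_left.1 hZn
    have heq : Z ≤ ⁅Z, K⁆ := hmin
      (⟨hsub.trans hZK, fun r hr => normalizer_commutator_le r (hZR hr) (h.hKR hr),
        fun k hk => normalizer_commutator_le k (hZn hk) (le_normalizer hk), hnc⟩ : ⁅Z, K⁆ ∈ {Z : Subgroup X | Z ≤ ⁅K, K⁆ ∧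
          R ≤ normalizer (Z : Set X) ∧ K ≤ normalizer (Z : Set X) ∧ ¬ Z ≤ C}) hsub
    have hlcs : ∀ m : ℕ, Z ≤ K.lowerCentralSeries m := by
      intro m
      induction m with
      | zero => rw [Subgroup.lowerCentralSeries_zero]; exact hZK'
      | succ m ihm => exact heq.trans (commutator_mono ihm le_rfl)
    obtain ⟨m, hm⟩ := (Subgroup.isNilpotent_iff_lowerCentralSeries K).mp hKn
    have := hlcs m
    rw [hm, le_bot_iff] at this
    exact hZC (this ▸ bot_le)
  have hZV : Z ≤ normalizer (V : Set X) := hZK'.trans h.hKM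
  have hcopZ := h.hcop.coprime_dvd_left (card_dvd_of_le hZK')
  have hlZ : ¬ l ∣ Nat.card Z := fun e => hlK (e.trans (card_dvd_of_le hZK'))
  obtain ⟨hsup, hbot, hBV, hCB, hnorm⟩ := split hVe.1 hZV hcopZ
  set A := V ⊓ centralizer (Z : Set X) with hA
  set B := ⁅V, Z⁆ with hB
  have hAV : A ≤ V := inf_le_left
  have hRn := fun r (hr : r ∈ R) => hnorm r (h.hRM hr) (hZR hr)
  have hKn' := fun k (hk : k ∈ K) => hnorm k (h.hKM hk) (hZn hk)
  have eB := card_elementary (R := R) (Nat.card Z) Z B le_rfl ⟨hZR, fun k hk => (hKn' k (hZK' hk)).2,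
    fun r hr => (hRn r hr).2, fun r hr hr1 k hk => h.hfpf r hr hr1 k (hZK' hk), Coprime.isSolvable_of_le hZK' h.hsolv,
    hcopZ.coprime_dvd_right (card_dvd_of_le hBV), h.hcopR.coprime_dvd_right (card_dvd_of_le hBV)⟩
    (Fusion.Thompson.isEA_le hVe hBV) hlZ hCB
  have eA := card_elementary (R := R) (Nat.card K) K A le_rfl ⟨h.hKR, fun k hk => (hKn' k hk).1,
    fun r hr => (hRn r hr).1, h.hfpf, h.hsolv, h.hcop.coprime_dvd_right (card_dvd_of_le hAV),
    h.hcopR.coprime_dvd_right (card_dvd_of_le hAV)⟩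
    (Fusion.Thompson.isEA_le hVe hAV) hlK (le_bot_iff.mp (hC ▸ inf_le_inf_right _ hAV))
  obtain ⟨-, e2⟩ := card_split hVe.1 hAV hBV hsup hbot (fun r hr => (hRn r hr).1) (fun r hr => (hRn r hr).2)
  have hB1 : B ≠ ⊥ := fun e => hZC (by
    rw [e, sup_bot_eq] at hsup
    exact le_centralizer_iff.mp (hsup.ge.trans inf_le_right))
  have hBd : l ≤ Nat.card ↥(B ⊓ centralizer (R : Set X)) := by
    have hne1 : Nat.card ↥(B ⊓ centralizer (R : Set X)) ≠ 1 := fun e => hB1 (eq_bot_of_card_eq _ (by
      rw [eB, e, one_pow]))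
    exact Nat.le_of_dvd Nat.card_pos (((Fusion.Thompson.isPGroup_isEA hVe).to_le
      (inf_le_left.trans hBV)).card_eq_or_dvd.resolve_left hne1)
  have hA0 : Nat.card ↥(A ⊓ centralizer (R : Set X)) = 1 := by
    rw [e2] at hsmall
    have := Nat.card_pos (α := ↥(A ⊓ centralizer (R : Set X)))
    nlinarith [hl.out.two_le]
  have hA1 : A = ⊥ := eq_bot_of_card_eq _ (by rw [eA, hA0, one_pow])
  -- `K` acts commutatively
  obtain ⟨W, _, _, _, e, ρ, he0, hρ⟩ := exists_rep hVe
  let H := normalizer (V : Set X)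
  have hρC : ∀ a b : H, (a : X)⁻¹ * b ∈ C → ρ a = ρ b := by
    intro a b hab
    refine LinearMap.ext fun w => e.injective (Subtype.ext ?_)
    rw [hρ, hρ, eq_comm, ← inv_mul_eq_one]
    have h1 := mem_centralizer_iff.mp hab (e w : X) (e w).2
    calc ((b : X) * e w * (b : X)⁻¹)⁻¹ * ((a : X) * e w * (a : X)⁻¹)
        = (b : X) * (e w : X)⁻¹ * ((b : X)⁻¹ * a) * e w * (a : X)⁻¹ := by group
      _ = (b : X) * (e w : X)⁻¹ * ((a : X)⁻¹ * b)⁻¹ * e w * (a : X)⁻¹ := by group
      _ = (b : X) * ((e w : X)⁻¹ * (((a : X)⁻¹ * b)⁻¹ * e w)) * (a : X)⁻¹ := by group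
      _ = (b : X) * ((e w : X)⁻¹ * ((e w : X) * ((a : X)⁻¹ * b)⁻¹)) * (a : X)⁻¹ := by
          congr 2
          congr 1
          rw [inv_mul_eq_iff_eq_mul, ← mul_assoc, ← h1, mul_assoc, mul_inv_cancel, mul_one]
      _ = 1 := by group
  have hfixiff : ∀ (S : Subgroup X) (hS : S ≤ H) (w : W),
      (∀ s ∈ S.subgroupOf H, ρ s w = w) ↔ (e w : X) ∈ centralizer (S : Set X) := by
    intro S hS w
    constructor
    · intro hw
      refine mem_centralizer_iff.mpr fun s hs => ?_
      have := hρ ⟨s, hS hs⟩ w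
      rw [hw ⟨s, hS hs⟩ (mem_subgroupOf.mpr hs)] at this
      conv_rhs => rw [this]
      group
    · intro hw s hs
      apply e.injective
      apply Subtype.ext
      rw [hρ, mem_centralizer_iff.mp hw s (mem_subgroupOf.mp hs)]
      group
  have hcardR : Nat.card {w : W // ∀ r ∈ R.subgroupOf H, ρ r w = w} = Nat.card ↥(V ⊓ centralizer (R : Set X)) :=
    Nat.card_congr
      { toFun := fun w => ⟨e w.1, (e w.1).2, (hfixiff R h.hRM _).mp w.2⟩
        invFun := fun v => ⟨e.symm ⟨v.1, v.2.1⟩, (hfixiff R h.hRM _).mpr (by rw [Equiv.apply_symm_apply]; exact v.2.2)⟩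
        left_inv := fun w => Subtype.ext (by simp)
        right_inv := fun v => Subtype.ext (by simp) }
  have hcomm : ∀ (a : X) (ha : a ∈ K) (z : Z.subgroupOf H),
      ρ ((⟨a, h.hKM ha⟩ : H) * (z : H)) = ρ ((z : H) * ⟨a, h.hKM ha⟩) := by
    intro a ha z
    refine hρC _ _ ?_
    show (a * ((z : H) : X))⁻¹ * (((z : H) : X) * a) ∈ C
    have := hcent (Subgroup.commutator_mem_commutator (Z.inv_mem (mem_subgroupOf.mp z.2)) (K.inv_mem ha))
    rwa [show ⁅(((z : H) : X))⁻¹, a⁻¹⁆ = (a * ((z : H) : X))⁻¹ * (((z : H) : X) * a) by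
      simp [commutatorElement_def, mul_assoc]] at this
  have hmain : ∀ a ∈ K, ∀ b ∈ K, ⁅a, b⁆ ∈ C := by
    intro a ha b hb
    have heq := FrobeniusFormula.commute_of_small ρ (K := Z.subgroupOf H) (R := R.subgroupOf H)
      (fun r hr => Subgroup.le_normalizer_comap H.subtype (hZR (mem_subgroupOf.mp hr)))
      (fun r hr hr1 k hk hc => Subtype.ext (h.hfpf r (mem_subgroupOf.mp hr) (fun e' => hr1 (Subtype.ext e')) k
        (hZK' (mem_subgroupOf.mp hk)) (congrArg Subtype.val hc)))
      (by rwa [Nat.card_congr (subgroupOfEquivOfLe hZV).toEquiv])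
      (fun k hk => LinearMap.ext fun w => e.injective (Subtype.ext (by
        rw [hρ, show ((k : H) : X) * e w = e w * (k : H) from
          (mem_centralizer_iff.mp (((commutator_mono le_rfl hZK').trans hcent) (commutator_subgroupOf hZV hk)) _
            (e w).2).symm]
        simp)))
      (fun w hw => e.injective (by
        rw [he0]
        refine Subtype.ext ?_
        have hmem : (e w : X) ∈ A := ⟨(e w).2, (hfixiff Z hZV w).mp hw⟩
        rwa [hA1, mem_bot] at hmem))
      (hcardR.trans_le hsmall) (hcomm a ha) (hcomm b hb)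
    refine mem_centralizer_iff.mpr fun v hv => ?_
    have hv' := congrArg (fun w => (e w : X)) (LinearMap.congr_fun heq (e.symm ⟨b⁻¹ * a⁻¹ * v * (b⁻¹ * a⁻¹)⁻¹,
      (mem_normalizer_iff.mp (H.mul_mem (H.inv_mem (h.hKM hb)) (H.inv_mem (h.hKM ha))) v).mp hv⟩))
    simp only [hρ, Equiv.apply_symm_apply, Subgroup.coe_mul] at hv'
    rw [commutatorElement_def]
    have hfixv : v = (a * b * a⁻¹ * b⁻¹)⁻¹ * v * (a * b * a⁻¹ * b⁻¹) :=
      calc v = a * b * (b⁻¹ * a⁻¹ * v * (b⁻¹ * a⁻¹)⁻¹) * (a * b)⁻¹ := by group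
        _ = b * a * (b⁻¹ * a⁻¹ * v * (b⁻¹ * a⁻¹)⁻¹) * (b * a)⁻¹ := hv'
        _ = _ := by group
    conv_rhs => rw [hfixv]
    group
  exact hne (commutator_le.mpr hmain)

omit hl in
/-- **BG 3.10.** -/
theorem main : ∀ (n : ℕ) (X : Type u) [Group X] [Finite X] (K R M : Subgroup X), Nat.card M ≤ n → FData K R M →
    Group.IsNilpotent M → M ⊓ centralizer (K : Set X) = ⊥ →
    Nat.card M = Nat.card ↥(M ⊓ centralizer (R : Set X)) ^ Nat.card R ∧
      (Group.IsNilpotent K → IsCyclic ↥(M ⊓ centralizer (R : Set X)) → ⁅K, K⁆ ≤ centralizer (M : Set X)) := by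
  intro n
  induction n with
  | zero => intro X _ _ K R M hn; exact absurd hn (by have := Nat.card_pos (α := M); omega)
  | succ n ih =>
    intro X _ _ K R M hn h hMn hC
    by_cases hM : M = ⊥
    · subst hM
      refine ⟨by rw [bot_inf_eq, card_bot, one_pow], fun _ _ a _ => mem_centralizer_iff.mpr fun m hm => ?_⟩
      rw [SetLike.mem_coe, mem_bot] at hm
      rw [hm, one_mul, mul_one]
    haveI := hMn
    haveI : Nontrivial M := (nontrivial_iff_ne_bot M).mpr hM
    obtain ⟨l, hl', hld⟩ := Nat.exists_prime_and_dvd (mt (Subgroup.card_eq_one (H := center M)).mp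
      (by
        intro e
        exact (Group.IsNilpotent.center_ne_bot (G := M)) e))
    haveI := Fact.mk hl'
    obtain ⟨z, hz⟩ := exists_prime_orderOf_dvd_card' (G := center M) l hld
    -- the `l`-socle of the centre
    set Zs := M ⊓ centralizer (M : Set X) with hZs
    have hZc : ∀ a ∈ Zs, ∀ b ∈ Zs, Commute a b := fun a ha b hb => mem_centralizer_iff.mp hb.2 a ha.1
    let V : Subgroup X :=
      { carrier := {a | a ∈ Zs ∧ a ^ l = 1}
        one_mem' := ⟨Zs.one_mem, one_pow l⟩
        mul_mem' := fun {a b} ha hb => ⟨Zs.mul_mem ha.1 hb.1, by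
          rw [(hZc a ha.1 b hb.1).mul_pow, ha.2, hb.2, one_mul]⟩
        inv_mem' := fun {a} ha => ⟨Zs.inv_mem ha.1, by rw [inv_pow, ha.2, inv_one]⟩ }
    have hVM : V ≤ M := fun a ha => ha.1.1
    have hMC : M ≤ centralizer (V : Set X) := le_centralizer_iff.mp fun a ha => ha.1.2
    have hVe : Cfsg.IsElementaryAbelian l V :=
      ⟨⟨⟨fun a b => Subtype.ext (hZc a a.2.1 b b.2.1).eq⟩⟩, fun a ha => ha.2⟩
    have hVn : ∀ g ∈ normalizer (M : Set X), g ∈ normalizer (V : Set X) := fun g hg =>
      NormalizerFusion.mem_normalizer_of_conj fun a ha => ⟨(mem_normalizer_iff.mp (normalizer_inf_le g hg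
        (WLine.normalizer_le_normalizer_centralizer M hg)) a).mp ha.1, by rw [conj_pow, ha.2, mul_one, mul_inv_cancel]⟩
    have hV1 : V ≠ ⊥ := fun e => hl'.ne_one (by
      have hzV : ((z : M) : X) ∈ V := ⟨⟨(z : M).2, mem_centralizer_iff.mpr fun m hm =>
        congrArg Subtype.val (mem_center_iff.mp z.2 ⟨m, hm⟩)⟩, by
          rw [← hz, ← SubmonoidClass.coe_pow, ← SubmonoidClass.coe_pow, pow_orderOf_eq_one]; rfl⟩
      rw [e, mem_bot] at hzV
      rw [← hz, ← Subgroup.orderOf_coe, ← Subgroup.orderOf_coe, hzV, orderOf_one])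
    have hcopV := h.hcop.coprime_dvd_right (card_dvd_of_le hVM)
    have hcopRV := h.hcopR.coprime_dvd_right (card_dvd_of_le hVM)
    have hlK : ¬ l ∣ Nat.card K := fun e => hl'.ne_one (Nat.eq_one_of_dvd_coprimes hcopV e
      ((Fusion.Thompson.isPGroup_isEA hVe).card_eq_or_dvd.resolve_left fun e' => hV1 (eq_bot_of_card_eq _ e')))
    have hFV : FData K R V := ⟨h.hKR, fun k hk => hVn k (h.hKM hk), fun r hr => hVn r (h.hRM hr), h.hfpf, h.hsolv,
      hcopV, hcopRV⟩
    have hCV : V ⊓ centralizer (K : Set X) = ⊥ := le_bot_iff.mp (hC ▸ inf_le_inf_right _ hVM)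
    have eV := card_elementary (R := R) (Nat.card K) K V le_rfl hFV hVe hlK hCV
    -- the quotient
    let H := normalizer (V : Set X)
    have hKH : K ≤ H := hFV.hKM
    have hRH : R ≤ H := hFV.hRM
    have hMH : M ≤ H := hMC.trans (centralizer_le_normalizer _)
    have hVH : V ≤ H := le_normalizer
    haveI : (V.subgroupOf H).Normal := normal_in_normalizer
    let f := QuotientGroup.mk' (V.subgroupOf H)
    let bar : Subgroup X → Subgroup (H ⧸ V.subgroupOf H) := fun Y => (Y.subgroupOf H).map f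
    have hker : ∀ {y : H}, f y = 1 ↔ (y : X) ∈ V := fun {y} =>
      (QuotientGroup.eq_one_iff y).trans mem_subgroupOf
    have hcard : ∀ {Y : Subgroup X}, Y ≤ H → Nat.card (bar Y) * Nat.card ↥(Y ⊓ V) = Nat.card Y := by
      intro Y hY
      let g : Y →* _ := f.comp (inclusion hY)
      have h1 : g.range = bar Y := by
        rw [MonoidHom.range_comp, inclusion_range]
      have h2 : Nat.card g.ker = Nat.card ↥(Y ⊓ V) := Nat.card_congr
        { toFun := fun y => ⟨y.1, y.1.2, hker.mp y.2⟩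
          invFun := fun y => ⟨⟨y.1, y.2.1⟩, hker.mpr y.2.2⟩
          left_inv := fun y => rfl
          right_inv := fun y => rfl }
      rw [← h1, ← Nat.card_congr (QuotientGroup.quotientKerEquivRange g).toEquiv, ← h2,
        ← Subgroup.card_eq_card_quotient_mul_card_subgroup]
    have hinj : ∀ {Y : Subgroup X}, Y ≤ H → (Nat.card Y).Coprime (Nat.card V) → Nat.card (bar Y) = Nat.card Y := by
      intro Y hY hc
      have := hcard hY
      rwa [(disjoint_of_coprime_natCard hc).eq_bot, card_bot, mul_one] at this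
    have hdvd : Nat.card (bar M) ∣ Nat.card M := ⟨_, (hcard hMH).symm⟩
    have hlt : Nat.card (bar M) < Nat.card M := by
      have e := hcard hMH
      rw [inf_eq_right.mpr hVM] at e
      have h1 : 1 < Nat.card V := by
        haveI := (nontrivial_iff_ne_bot V).mpr hV1
        exact Finite.one_lt_card
      have := Nat.card_pos (α := bar M)
      nlinarith
    have hnorm : ∀ {A Y : Subgroup X}, A ≤ normalizer (Y : Set X) → A ≤ H →
        bar A ≤ normalizer ((bar Y : Subgroup _) : Set (H ⧸ V.subgroupOf H)) := by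
      intro A Y hA hAH
      rintro _ ⟨a, ha, rfl⟩
      exact le_normalizer_map f ⟨a, le_normalizer_comap H.subtype (show (a : X) ∈ normalizer (Y : Set X) from hA ha), rfl⟩
    have hFbar : FData (bar K) (bar R) (bar M) := by
      refine ⟨hnorm h.hKR hRH, hnorm h.hKM hKH, hnorm h.hRM hRH, ?_, ?_, ?_, ?_⟩
      · rintro _ ⟨r, hr, rfl⟩ hr1 _ ⟨k, hk, rfl⟩ hc
        have h1 : ⁅(r : X), (k : X)⁆ ∈ V := (hker (y := ⁅r, k⁆)).mp (by
          rw [map_commutatorElement, commutatorElement_eq_one_iff_commute.mpr hc])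
        have h2 : ⁅(r : X), (k : X)⁆ ∈ K := by
          rw [commutatorElement_def]
          exact K.mul_mem ((mem_normalizer_iff.mp (h.hKR hr) _).mp hk) (K.inv_mem hk)
        have h3 : ⁅(r : X), (k : X)⁆ ∈ K ⊓ V := ⟨h2, h1⟩
        rw [(disjoint_of_coprime_natCard hcopV).eq_bot, mem_bot, commutatorElement_eq_one_iff_commute] at h3
        rw [show k = 1 from Subtype.ext (h.hfpf r hr (fun e => hr1 (by
          rw [show r = 1 from Subtype.ext e, map_one])) k hk h3), map_one]
      · haveI := h.hsolv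
        haveI : Group.IsSolvable (K.subgroupOf H) :=
          Group.isSolvable_of_surjective (f := (subgroupOfEquivOfLe hKH).symm.toMonoidHom) (MulEquiv.surjective _)
        exact Group.isSolvable_of_surjective (f.subgroupMap_surjective (K.subgroupOf H))
      · rw [hinj hKH hcopV]; exact h.hcop.coprime_dvd_right hdvd
      · rw [hinj hRH hcopRV]; exact h.hcopR.coprime_dvd_right hdvd
    have hMbn : Group.IsNilpotent (bar M) := by
      haveI : Group.IsNilpotent (M.subgroupOf H) := Group.nilpotent_of_mulEquiv (subgroupOfEquivOfLe hMH).symm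
      exact Group.nilpotent_of_surjective _ (f.subgroupMap_surjective (M.subgroupOf H))
    have hlift : ∀ {A : Subgroup X}, A ≤ normalizer (V : Set X) → (Nat.card A).Coprime (Nat.card V) →
        bar M ⊓ centralizer (bar A : Set _) = bar (M ⊓ centralizer (A : Set X)) := by
      intro A hA hc
      refine le_antisymm ?_ ?_
      · rintro _ ⟨⟨m, hm, rfl⟩, hmC⟩
        obtain ⟨c, hc', hcm⟩ := Coprime.exists_centralizer_inv_mul_mem (A := A) (K := M) (N := V) hA hVM hMH hc
          (Or.inr (Group.isSolvable_of_comm fun a b => hVe.1.1.comm a b)) (k := (m : X)) hm fun a ha => by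
          refine (hker (y := ⁅(⟨a, hA ha⟩ : H), m⁆)).mp ?_
          rw [map_commutatorElement, commutatorElement_eq_one_iff_commute]
          exact mem_centralizer_iff.mp hmC _ ⟨⟨a, hA ha⟩, ha, rfl⟩
        refine ⟨⟨c, hMH hc'.1⟩, hc', ?_⟩
        have : f m⁻¹ * f ⟨c, hMH hc'.1⟩ = 1 := by rw [← map_mul]; exact hker.mpr hcm
        rw [map_inv, inv_mul_eq_one] at this
        exact this.symm
      · rintro _ ⟨m, hm, rfl⟩
        refine ⟨⟨m, hm.1, rfl⟩, mem_centralizer_iff.mpr ?_⟩
        rintro _ ⟨a, ha, rfl⟩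
        rw [← map_mul, ← map_mul]
        exact congrArg f (Subtype.ext (mem_centralizer_iff.mp hm.2 a ha))
    have hCbar : bar M ⊓ centralizer (bar K : Set _) = ⊥ := by
      rw [hlift hKH hcopV, hC]
      exact (Subgroup.map_eq_bot_iff _).mpr fun x hx => (show x = 1 from Subtype.ext (mem_bot.mp hx)) ▸ one_mem _
    obtain ⟨eM, hder⟩ := ih (H ⧸ V.subgroupOf H) (bar K) (bar R) (bar M) (by omega) hFbar hMbn hCbar
    rw [hinj hRH hcopRV, hlift hRH hcopRV] at eM
    rw [hlift hRH hcopRV] at hder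
    refine ⟨?_, fun hKn hcyc => ?_⟩
    · have e1 := hcard hMH
      have e2 := hcard (Y := M ⊓ centralizer (R : Set X)) (inf_le_left.trans hMH)
      rw [inf_eq_right.mpr hVM] at e1
      rw [show M ⊓ centralizer (R : Set X) ⊓ V = V ⊓ centralizer (R : Set X) by
        rw [inf_right_comm, inf_eq_right.mpr hVM]] at e2
      rw [← e1, ← e2, eM, eV, mul_pow]
    haveI := hcyc
    have hbcyc : IsCyclic ↥(bar (M ⊓ centralizer (R : Set X))) := by
      haveI : IsCyclic ((M ⊓ centralizer (R : Set X)).subgroupOf H) :=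
        (subgroupOfEquivOfLe (inf_le_left.trans hMH)).isCyclic.mpr hcyc
      exact isCyclic_of_surjective _ (f.subgroupMap_surjective _)
    have hbKn : Group.IsNilpotent (bar K) := by
      haveI := hKn
      haveI : Group.IsNilpotent (K.subgroupOf H) := Group.nilpotent_of_mulEquiv (subgroupOfEquivOfLe hKH).symm
      exact Group.nilpotent_of_surjective _ (f.subgroupMap_surjective (K.subgroupOf H))
    have hsmall : Nat.card ↥(V ⊓ centralizer (R : Set X)) ≤ l := by
      haveI : IsCyclic ↥(V ⊓ centralizer (R : Set X)) :=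
        (subgroupOfEquivOfLe (inf_le_inf_right _ hVM)).isCyclic.mp inferInstance
      rw [← IsCyclic.exponent_eq_card]
      exact Nat.le_of_dvd hl'.pos (Monoid.exponent_dvd_of_forall_pow_eq_one fun a => Subtype.ext (hVe.2 a a.2.1))
    have hK₁ : ⁅K, K⁆ ≤ K := (Subgroup.map_subtype_commutator K).ge.trans (map_subtype_le _)
    refine Coprime.le_centralizer_of_stabilizes (hcopV.coprime_dvd_left (card_dvd_of_le hK₁))
      (derived_elementary hFV hVe hlK hKn hCV hsmall) fun a ha m hm => (hker (y := ⁅(⟨a, hKH (hK₁ ha)⟩ : H), ⟨m, hMH hm⟩⁆)).mp ?_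
    rw [map_commutatorElement, commutatorElement_eq_one_iff_commute]
    have hab : f ⟨a, hKH (hK₁ ha)⟩ ∈ ⁅bar K, bar K⁆ := by
      rw [← map_commutator]
      refine mem_map_of_mem f ?_
      have h1 : a ∈ (⁅K.subgroupOf H, K.subgroupOf H⁆).map H.subtype := by
        rw [map_commutator, subgroupOf_map_subtype, inf_eq_left.mpr hKH]; exact ha
      obtain ⟨b, hb, rfl⟩ := h1
      exact hb
    exact (mem_centralizer_iff.mp (hder hbKn hbcyc hab) _ ⟨⟨m, hMH hm⟩, hm, rfl⟩).symm

end CfsgLib.OddOrder.FrobeniusFormulaGroup
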