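import Cfsg.Agent.Lib.OddOrder.StarFitting
import Cfsg.Agent.Lib.OddOrder.StarNormalizer
import Cfsg.Agent.Lib.OddOrder.CyclicFix
import Cfsg.Agent.Lib.Coprime.Generation
import Cfsg.Agent.S1446
import Mathlib

set_option autoImplicit false
set_option linter.style.haveILetI false
set_option linter.unusedSectionVars false

/-!
The structure of `M_σ` when it is not nilpotent (BG 15.2).
-/

namespace CfsgLib.OddOrder.CoreStructure

open scoped commutatorElement
open StarPartner (Dstar)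

variable {G : Type*} [Group G] [Finite G] {M K U Q D : Subgroup G} {q : ℕ}

theorem le_normalizer_commutator {H A B : Subgroup G} (hA : H ≤ Subgroup.normalizer (A : Set G))
    (hB : H ≤ Subgroup.normalizer (B : Set G)) :
    H ≤ Subgroup.normalizer ((⁅A, B⁆ : Subgroup G) : Set G) := fun h hh =>
  Subgroup.mem_normalizer_iff_map_conj_eq.mpr
    ((Subgroup.map_commutator A B _).trans (congrArg₂ (fun X Y : Subgroup G => ⁅X, Y⁆)
      (Subgroup.mem_normalizer_iff_map_conj_eq.mp (hA hh)) (Subgroup.mem_normalizer_iff_map_conj_eq.mp (hB hh))))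

theorem map_centralizer (g : G) (A : Subgroup G) :
    (Subgroup.centralizer (A : Set G)).map (MulAut.conj g).toMonoidHom =
      Subgroup.centralizer ((A.map (MulAut.conj g).toMonoidHom : Subgroup G) : Set G) := by
  ext x
  rw [Subgroup.mem_map_equiv, Subgroup.mem_centralizer_iff, Subgroup.mem_centralizer_iff]
  constructor
  · rintro h _ ⟨a, ha, rfl⟩
    have h1 := congrArg (fun z => g * z * g⁻¹) (h a ha)
    simpa [mul_assoc] using h1
  · intro h a ha
    have h1 := congrArg (fun z => g⁻¹ * z * g) (h _ ⟨a, ha, rfl⟩)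
    simpa [mul_assoc] using h1

theorem le_normalizer_centralizer {H A : Subgroup G} (hA : H ≤ Subgroup.normalizer (A : Set G)) :
    H ≤ Subgroup.normalizer ((Subgroup.centralizer (A : Set G) : Subgroup G) : Set G) := fun h hh => by
  refine NormalizerFusion.mem_normalizer_of_conj fun c hc => Subgroup.mem_centralizer_iff.mpr fun a ha => ?_
  have h1 := (Subgroup.mem_normalizer_iff''.mp (hA hh) a).mp ha
  have h2 := Subgroup.mem_centralizer_iff.mp hc _ h1
  calc a * (h * c * h⁻¹) = h * (h⁻¹ * a * h * c) * h⁻¹ := by group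
    _ = h * (c * (h⁻¹ * a * h)) * h⁻¹ := by rw [h2]
    _ = h * c * h⁻¹ * a := by group

/-- `M_σ` is nilpotent unless `U = 1` and `K ≠ 1`. -/
theorem not_nilpotent (hG : Cfsg.IsMinSimpleOddOrder G) (hM : IsCoatom M) (h : Cfsg.IsSigmaDecomposition M K U)
    (hn : ¬ Group.IsNilpotent (Cfsg.sigmaCore M)) : U = ⊥ ∧ K ≠ ⊥ := by
  by_cases hK : K = ⊥
  · exfalso
    obtain ⟨E, hEh⟩ := Coprime.exists_hall {t | t ∉ Cfsg.sigma M} (hG.2.2.2 M hM.1)
    have hE := SylowCentral.isComplIn_of_hall hG hM hEh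
    have hE1 : E ≠ ⊥ := fun e => by
      have hM' := Basic.IsComplIn.eq_sup hE
      rw [e, bot_sup_eq] at hM'
      haveI : Group.IsSolvable M := hG.2.2.2 M hM.1
      refine (Coprime.commutator_self_lt inferInstance fun e' => ?_).not_ge
        (hM'.le.trans (SigmaCore.le_derived hG hM))
      exact SigmaCore.coatom_ne_bot hG hM e'
    obtain ⟨e, he, hep⟩ := KappaHall.exists_prime_elem hE1
    haveI := Fact.mk hep
    have hts : orderOf e ∉ Cfsg.sigma M := hEh.2.1 _ hep (Subgroup.orderOf_dvd_natCard _ he)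
    by_cases hr : Cfsg.PRankLE (orderOf e) 1 M
    · refine hn (FPFTools.isNilpotent_of_fpf hep (pow_orderOf_eq_one e)
        (SigmaTools.le_normalizer_sigmaCore M (hE.1 he)) ?_)
      by_contra hfix
      have hk := KappaHall.mem_kappa hG hts hr (hE.1 he) rfl hfix
      have := KappaHall.dvd_card_of_hall h.hall hep hk hk.2.1
      rw [hK, Subgroup.card_bot] at this
      exact hep.ne_one (Nat.dvd_one.mp this)
    · have hτ := StarNormalizer.tau2_of hG hM hts hr
      obtain ⟨B, hBE, hBe, hBc⟩ := TauTwoAbelian.exists_plane hE hτ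
      exact hn (Cfsg.Agent.S1417.result hG M hM _ hτ B ⟨hBE.trans hE.1, hBe, hBc⟩).1
  · refine ⟨?_, hK⟩
    by_contra hU
    exact hn (PrimeK.fixed_of_hall hG hM (SigmaDecomp.str hG hM h hK).hall hU).1

/-- The configuration `M = Q D K` with `Q` the normal Sylow `q`-subgroup of `M_σ` over `K*`. -/
structure Split (M K Q : Subgroup G) (q : ℕ) : Prop where
  coatom : IsCoatom M
  prime : q.Prime
  derived : ⁅M, M⁆ = Cfsg.sigmaCore M
  ne : K ≠ ⊥
  K_le : K ≤ M
  sup : Cfsg.sigmaCore M ⊔ K = M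
  coprime : (Nat.card K).Coprime (Nat.card (Cfsg.sigmaCore M))
  cyclic : IsCyclic K
  fix : ∀ k ∈ K, k ≠ 1 → Cfsg.sigmaCore M ⊓ Subgroup.centralizer ({k} : Set G) = Dstar M K
  star : Dstar M K ≤ Q
  star_card : Nat.card ↥(Dstar M K) = q
  le : Q ≤ Cfsg.sigmaCore M
  normal : M ≤ Subgroup.normalizer (Q : Set G)
  pgroup : IsPGroup q Q
  not_dvd : ¬ q ∣ Q.relIndex (Cfsg.sigmaCore M)
  le_fittingHall : Q ≤ Cfsg.fittingHallOf M
  compl_nilpotent : ∀ D : Subgroup G, D ≤ Cfsg.sigmaCore M → Q ⊓ D = ⊥ → Group.IsNilpotent D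
  not_nilpotent : ¬ Group.IsNilpotent (Cfsg.sigmaCore M)

theorem exists_split (hG : Cfsg.IsMinSimpleOddOrder G) (hM : IsCoatom M) (h : Cfsg.IsSigmaDecomposition M K U)
    (hn : ¬ Group.IsNilpotent (Cfsg.sigmaCore M)) : ∃ (q : ℕ) (Q : Subgroup G), Split M K Q q := by
  obtain ⟨hU, hK⟩ := CoreStructure.not_nilpotent hG hM h hn
  obtain ⟨q, hq, -, S, hS, hSF, hqc, hSn, hnil⟩ := StarFitting.exists_sylow_bot hG hM h hK hU
  haveI := Fact.mk hq
  refine ⟨q, _, hM, hq, ?_, hK, SigmaDecomp.K_le h, ?_, SigmaDecomp.coprime_K_core h, h.cyclic,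
    (SigmaDecomp.str hG hM h hK).fix, hS, hqc.symm, Subgroup.map_subtype_le _, hSn, S.isPGroup'.map _, ?_, hSF, hnil, hn⟩
  · rw [StarDerived.derived_eq hG hM h hK, hU, bot_sup_eq]
  · refine le_antisymm (sup_le (SigmaTools.sigmaCore_le M) (SigmaDecomp.K_le h)) fun m hm => ?_
    obtain ⟨u, hu, w, hw, rfl⟩ := h.compl.2.2.2 m hm
    rw [hU, Subgroup.mem_bot] at hu
    rw [hu, one_mul, sup_comm]
    exact hw
  · rw [Subgroup.relIndex, Subgroup.subgroupOf, Subgroup.comap_map_eq_self_of_injective (Cfsg.sigmaCore M).subtype_injective]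
    exact S.not_dvd_index

theorem Split.card_coprime (h : Split M K Q q) : (Nat.card Q).Coprime (Q.relIndex (Cfsg.sigmaCore M)) := by
  haveI := Fact.mk h.prime
  obtain ⟨j, hj⟩ := h.pgroup.exists_card_eq
  rw [hj]
  exact (h.prime.coprime_iff_not_dvd.mpr h.not_dvd).pow_left j

theorem Split.hall_of_compl (h : Split M K Q q) (hD : Cfsg.IsComplIn Q D (Cfsg.sigmaCore M)) :
    Cfsg.IsPiHallOf {t | t ≠ q} D (Cfsg.sigmaCore M) := by
  haveI := Fact.mk h.prime
  refine ⟨hD.2.1, fun t ht hd e => ?_, fun t ht htq hd => htq ?_⟩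
  · rw [← Basic.IsComplIn.relIndex_left hD] at hd
    exact h.not_dvd (e ▸ hd)
  · rw [Basic.IsComplIn.relIndex_right hD] at hd
    exact PrimeAction.pGroup_dvd h.pgroup ht hd

theorem Split.compl_of_hall (h : Split M K Q q) (hD : Cfsg.IsPiHallOf {t | t ≠ q} D (Cfsg.sigmaCore M)) :
    Cfsg.IsComplIn Q D (Cfsg.sigmaCore M) := by
  haveI := Fact.mk h.prime
  have hcop : (Nat.card Q).Coprime (Nat.card D) := by
    obtain ⟨j, hj⟩ := h.pgroup.exists_card_eq
    rw [hj]
    exact (h.prime.coprime_iff_not_dvd.mpr fun hd => hD.2.1 q h.prime hd rfl).pow_left j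
  have hDn : D ≤ Subgroup.normalizer (Q : Set G) := hD.1.trans ((SigmaTools.sigmaCore_le M).trans h.normal)
  have hle : Q ⊔ D ≤ Cfsg.sigmaCore M := sup_le h.le hD.1
  have htop : Q ⊔ D = Cfsg.sigmaCore M := by
    refine Subgroup.eq_of_le_of_card_ge hle (Nat.le_of_dvd Nat.card_pos ?_)
    rw [← Coprime.card_mul_relIndex_eq h.le]
    refine Nat.Coprime.mul_dvd_of_dvd_of_dvd h.card_coprime (Subgroup.card_dvd_of_le le_sup_left) ?_
    refine dvd_trans ?_ (Subgroup.card_dvd_of_le (le_sup_right : D ≤ Q ⊔ D))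
    refine (Coprime.coprime_of_pi (π := {t | t ≠ q}) (fun t ht hd e => h.not_dvd ?_) hD.2.2).dvd_of_dvd_mul_right ?_
    · exact (show t = q from e) ▸ hd
    · rw [Coprime.card_mul_relIndex_eq hD.1]
      exact Subgroup.index_dvd_card (Q.subgroupOf (Cfsg.sigmaCore M))
  refine ⟨h.le, hD.1, Subgroup.inf_eq_bot_of_coprime hcop, fun x hx => ?_⟩
  obtain ⟨a, ha, b, hb, e⟩ := (Coprime.mem_sup_of_le_normalizer hDn).mp (htop.ge hx)
  exact ⟨a, ha, b, hb, e.symm⟩

/-- A `K`-invariant complement to `Q`. -/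
theorem Split.exists_compl (hG : Cfsg.IsMinSimpleOddOrder G) (h : Split M K Q q) :
    ∃ D : Subgroup G, Cfsg.IsComplIn Q D (Cfsg.sigmaCore M) ∧ K ≤ Subgroup.normalizer (D : Set G) := by
  obtain ⟨D, hD, hK⟩ := Coprime.exists_invariant_hall {t | t ≠ q}
    (h.K_le.trans (SigmaTools.le_normalizer_sigmaCore M)) h.coprime
    (hG.2.2.2 _ fun e => h.coatom.1 (top_le_iff.mp (e ▸ SigmaTools.sigmaCore_le M)))
  exact ⟨D, h.compl_of_hall hD, hK⟩

/-- What the action of `D K` on `Q` gives. -/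
structure Facts (M K Q D : Subgroup G) (q : ℕ) : Prop where
  normal : M ≤ Subgroup.normalizer ((Q ⊓ Subgroup.centralizer (D : Set G) : Subgroup G) : Set G)
  lt : Q ⊓ Subgroup.centralizer (D : Set G) < Q
  card : Nat.card Q = Nat.card ↥(Q ⊓ Subgroup.centralizer (D : Set G)) * q ^ Nat.card K
  elem : ∀ a ∈ Q, ∀ b ∈ Q, a ^ q ∈ Q ⊓ Subgroup.centralizer (D : Set G) ∧
    a * b * a⁻¹ * b⁻¹ ∈ Q ⊓ Subgroup.centralizer (D : Set G)
  chief : ∀ N : Subgroup G, Q ⊓ Subgroup.centralizer (D : Set G) < N → N < Q → ¬ M ≤ Subgroup.normalizer (N : Set G)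
  K_prime : (Nat.card K).Prime
  beta : q ∈ Cfsg.beta M
  derived : ⁅D, D⁆ ≤ Subgroup.centralizer (Q : Set G)

theorem Split.not_central (h : Split M K Q q) (hD : Cfsg.IsComplIn Q D (Cfsg.sigmaCore M)) :
    ¬ D ≤ Subgroup.centralizer (Q : Set G) := by
  intro hc
  haveI := Fact.mk h.prime
  haveI := h.compl_nilpotent D hD.2.1 hD.2.2.1
  haveI := h.pgroup.isNilpotent
  haveI := Basic.isNilpotent_sup_of_commute (A := Q) (B := D) fun a ha b hb => Subgroup.mem_centralizer_iff.mp (hc hb) a ha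
  exact h.not_nilpotent ((Basic.IsComplIn.eq_sup hD).symm ▸ this)

theorem Split.facts_of_invariant (hG : Cfsg.IsMinSimpleOddOrder G) (h : Split M K Q q)
    (hD : Cfsg.IsComplIn Q D (Cfsg.sigmaCore M)) (hKD : K ≤ Subgroup.normalizer (D : Set G)) :
    Facts M K Q D q := by
  haveI := Fact.mk h.prime
  have hW := SigmaTools.sigmaCore_le M
  have hhall := h.hall_of_compl hD
  have hcopDQ : (Nat.card D).Coprime (Nat.card Q) := by
    obtain ⟨j, hj⟩ := h.pgroup.exists_card_eq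
    rw [hj]
    exact ((h.prime.coprime_iff_not_dvd.mpr fun hd => hhall.2.1 q h.prime hd rfl).pow_left j).symm
  have hDM : D ≤ M := hD.2.1.trans hW
  have hQM : Q ≤ M := h.le.trans hW
  have hDQ : D ≤ Subgroup.normalizer (Q : Set G) := hDM.trans h.normal
  have hKQ : K ≤ Subgroup.normalizer (Q : Set G) := h.K_le.trans h.normal
  haveI hQnil : Group.IsNilpotent Q := h.pgroup.isNilpotent
  haveI hDnil := h.compl_nilpotent D hD.2.1 hD.2.2.1
  obtain ⟨k, hk, hkp⟩ := KappaHall.exists_prime_elem h.ne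
  have hk1 : k ≠ 1 := fun e => hkp.ne_one (e ▸ orderOf_one)
  have hfixk := h.fix k hk hk1
  have hDk : D ⊓ Subgroup.centralizer ({k} : Set G) = ⊥ := by
    refine le_bot_iff.mp (le_trans ?_ hD.2.2.1.le)
    exact le_inf (((inf_le_inf_right _ hD.2.1).trans hfixk.le).trans h.star) inf_le_left
  have hcopk : (Nat.card Q).Coprime (orderOf k) :=
    (h.coprime.coprime_dvd_left (Subgroup.orderOf_dvd_natCard _ hk)).coprime_dvd_right
      (Subgroup.card_dvd_of_le h.le) |>.symm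
  set Q₀ := Q ⊓ Subgroup.centralizer (D : Set G) with hQ₀
  set R := ⁅Q, D⁆ with hR
  have hRQ : R ≤ Q := Subgroup.le_normalizer_iff_commutator_le_left.mp hDQ
  have hQsup : R ⊔ Q₀ = Q := Coprime.commutator_sup_centralizer hDQ hcopDQ (.inl inferInstance)
  have hRR : ⁅R, D⁆ = R := Coprime.commutator_commutator_self hDQ hcopDQ (.inl inferInstance)
  have hQ0ne : ¬ R ≤ Q₀ := fun e => h.not_central hD (Subgroup.le_centralizer_iff.mp
    ((hQsup.ge.trans (sup_le e le_rfl)).trans inf_le_right))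
  have hR1 : R ≠ ⊥ := fun e => hQ0ne (e ▸ bot_le)
  have hDR : D ≤ Subgroup.normalizer (R : Set G) := Subgroup.normalizer_commutator_ge_right Q D
  have hKR : K ≤ Subgroup.normalizer (R : Set G) := le_normalizer_commutator hKQ hKD
  have hQR : Q ≤ Subgroup.normalizer (R : Set G) := Subgroup.normalizer_commutator_ge_left Q D
  have hKQ₀ : K ≤ Subgroup.normalizer (Q₀ : Set G) :=
    (le_inf hKQ (le_normalizer_centralizer hKD)).trans Subgroup.inf_normalizer_le_normalizer_inf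
  have hDQ₀ : D ≤ Subgroup.normalizer (Q₀ : Set G) :=
    (le_inf hDQ (le_normalizer_centralizer Subgroup.le_normalizer)).trans Subgroup.inf_normalizer_le_normalizer_inf
  have hQk : ∀ N : Subgroup G, N ≤ Q → N ⊓ Subgroup.centralizer ({k} : Set G) ≠ ⊥ → Dstar M K ≤ N := by
    intro N hN hne
    have hle : N ⊓ Subgroup.centralizer ({k} : Set G) ≤ Dstar M K :=
      (inf_le_inf_right _ (hN.trans h.le)).trans hfixk.le
    refine le_trans ?_ (inf_le_left : N ⊓ Subgroup.centralizer ({k} : Set G) ≤ N)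
    refine (Subgroup.eq_of_le_of_card_ge hle ?_).ge
    rcases (Nat.dvd_prime h.prime).mp (h.star_card ▸ Subgroup.card_dvd_of_le hle) with h1 | h1
    · exact absurd (Subgroup.card_eq_one.mp h1) hne
    · rw [h1, h.star_card]
  have hRd : ⁅R, R⁆ < R := Coprime.commutator_self_lt (Coprime.isSolvable_of_le hRQ inferInstance) hR1
  have proper_le : ∀ N : Subgroup G, ⁅R, R⁆ ≤ N → N < R → K ≤ Subgroup.normalizer (N : Set G) →
      D ≤ Subgroup.normalizer (N : Set G) → N ≤ Q₀ := by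
    intro N hd hlt hKN hDN
    have hnot : ¬ R ⊓ Subgroup.centralizer ({k} : Set G) ≤ N :=
      FrobeniusFixed.inf_centralizer_not_le hlt.le hd hkp (pow_orderOf_eq_one k) (hKR hk) hDR (hKN hk) hDN
        (hKD hk) hDk (hcopDQ.symm.coprime_dvd_left (Subgroup.card_dvd_of_le hRQ))
        (hcopk.coprime_dvd_left (Subgroup.card_dvd_of_le hRQ)) fun e => hlt.not_ge (hRR.ge.trans e)
    have hfix : N ⊓ Subgroup.centralizer ({k} : Set G) = ⊥ := by
      by_contra hne
      have h1 := hQk N (hlt.le.trans hRQ) hne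
      exact hnot (((inf_le_inf_right _ (hRQ.trans h.le)).trans hfixk.le).trans h1)
    haveI : Group.IsNilpotent N := (h.pgroup.to_le (hlt.le.trans hRQ)).isNilpotent
    refine le_inf (hlt.le.trans hRQ) (Subgroup.le_centralizer_iff.mp ?_)
    exact FPFTools.centralizes_of_fpf hkp inferInstance (pow_orderOf_eq_one k) (hKN hk) hDN (hKD hk) hDk hfix
      (hcopDQ.symm.coprime_dvd_left (Subgroup.card_dvd_of_le (hlt.le.trans hRQ)))
      (hcopk.coprime_dvd_left (Subgroup.card_dvd_of_le (hlt.le.trans hRQ)))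
  have hnorm_d : ∀ {H : Subgroup G}, H ≤ Subgroup.normalizer (R : Set G) →
      H ≤ Subgroup.normalizer ((⁅R, R⁆ : Subgroup G) : Set G) := fun hH => le_normalizer_commutator hH hH
  have hR' : ⁅R, R⁆ ≤ Q₀ := proper_le _ le_rfl hRd (hnorm_d hKR) (hnorm_d hDR)
  have hstarR : Dstar M K ≤ R := by
    refine hQk R hRQ fun e => ?_
    exact FrobeniusFixed.inf_centralizer_not_le hRd.le le_rfl hkp (pow_orderOf_eq_one k) (hKR hk) hDR
      (hnorm_d hKR hk) (hnorm_d hDR)
      (hKD hk) hDk (hcopDQ.symm.coprime_dvd_left (Subgroup.card_dvd_of_le hRQ))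
      (hcopk.coprime_dvd_left (Subgroup.card_dvd_of_le hRQ)) (fun e' => hRd.not_ge (hRR.ge.trans e')) (e.le.trans bot_le)
  have hR0lt : R ⊓ Q₀ < R := lt_of_le_of_ne inf_le_left fun e => hQ0ne (inf_eq_left.mp e)
  have hstar0 : Dstar M K ⊓ Q₀ = ⊥ := by
    by_contra hne
    have he : Dstar M K ⊓ Q₀ = Dstar M K := by
      refine Subgroup.eq_of_le_of_card_ge inf_le_left ?_
      rcases (Nat.dvd_prime h.prime).mp (h.star_card ▸ (Subgroup.card_dvd_of_le
        (inf_le_left : Dstar M K ⊓ Q₀ ≤ Dstar M K))) with h1 | h1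
      · exact absurd (Subgroup.card_eq_one.mp h1) hne
      · rw [h1, h.star_card]
    refine FrobeniusFixed.inf_centralizer_not_le inf_le_left (le_inf hRd.le hR') hkp
      (pow_orderOf_eq_one k) (hKR hk) hDR
      ((le_inf hKR hKQ₀).trans Subgroup.inf_normalizer_le_normalizer_inf hk)
      ((le_inf hDR hDQ₀).trans Subgroup.inf_normalizer_le_normalizer_inf)
      (hKD hk) hDk (hcopDQ.symm.coprime_dvd_left (Subgroup.card_dvd_of_le hRQ))
      (hcopk.coprime_dvd_left (Subgroup.card_dvd_of_le hRQ)) (fun e' => hR0lt.not_ge (hRR.ge.trans e')) ?_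
    exact ((inf_le_inf_right _ (hRQ.trans h.le)).trans hfixk.le).trans (le_inf hstarR (he.ge.trans inf_le_right))
  have hRQc : ⁅R, Q⁆ ≤ Q₀ := proper_le _ (Subgroup.commutator_mono le_rfl hRQ)
    (Coprime.commutator_lt_of_isPGroup h.pgroup (h.pgroup.to_le hRQ) hQR hR1)
    (le_normalizer_commutator hKR hKQ) (le_normalizer_commutator hDR hDQ)
  have hQQ₀ : Q ≤ Subgroup.normalizer (Q₀ : Set G) := by
    rw [← hQsup]
    refine sup_le (fun x hx => ?_) Subgroup.le_normalizer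
    refine NormalizerFusion.mem_normalizer_of_conj fun c hc => ?_
    have h1 := hRQc (Subgroup.commutator_mem_commutator hx hc.1)
    rw [show x * c * x⁻¹ = ⁅x, c⁆ * c by simp [commutatorElement_def]]
    exact mul_mem h1 hc
  have hcomm : ∀ a ∈ Q, ∀ b ∈ Q, ⁅a, b⁆ ∈ Q₀ := by
    intro a ha b hb
    have hQR' : Q₀ ≤ Subgroup.normalizer (R : Set G) := inf_le_left.trans hQR
    obtain ⟨r, hr, c, hc, rfl⟩ := (Coprime.mem_sup_of_le_normalizer hQR').mp (hQsup.ge ha)
    have h1 := hRQc (Subgroup.commutator_mem_commutator hr hb)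
    have h2 : ⁅c, b⁆ ∈ Q₀ := by
      rw [commutatorElement_def, show c * b * c⁻¹ * b⁻¹ = c * (b * c⁻¹ * b⁻¹) by group]
      exact mul_mem hc ((Subgroup.mem_normalizer_iff.mp (hQQ₀ hb) _).mp (inv_mem hc))
    rw [show ⁅r * c, b⁆ = r * ⁅c, b⁆ * r⁻¹ * ⁅r, b⁆ by simp [commutatorElement_def, mul_assoc]]
    exact mul_mem ((Subgroup.mem_normalizer_iff.mp (hQQ₀ (hRQ hr)) _).mp h2) h1
  have hMQ₀ : M ≤ Subgroup.normalizer (Q₀ : Set G) := by
    rw [← h.sup, Basic.IsComplIn.eq_sup hD]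
    exact sup_le (sup_le hQQ₀ hDQ₀) hKQ₀
  have hchief : ∀ N : Subgroup G, Q₀ ≤ N → N < Q → K ≤ Subgroup.normalizer (N : Set G) →
      D ≤ Subgroup.normalizer (N : Set G) → N ≤ Q₀ := by
    intro N h0 hlt hKN hDN
    have hlt' : N ⊓ R < R := lt_of_le_of_ne inf_le_right fun e => hlt.not_ge
      (hQsup.ge.trans (sup_le (inf_eq_right.mp e) h0))
    have h1 := proper_le _ (le_inf (hR'.trans h0) hRd.le) hlt'
      ((le_inf hKN hKR).trans Subgroup.inf_normalizer_le_normalizer_inf)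
      ((le_inf hDN hDR).trans Subgroup.inf_normalizer_le_normalizer_inf)
    intro x hx
    obtain ⟨r, hr, c, hc, rfl⟩ := (Coprime.mem_sup_of_le_normalizer
      (show Q₀ ≤ Subgroup.normalizer (R : Set G) from inf_le_left.trans hQR)).mp (hQsup.ge (hlt.le hx))
    have hrN : r ∈ N := (mul_mem_cancel_right (h0 hc)).mp hx
    exact mul_mem (h1 ⟨hrN, hr⟩) hc
  -- the quotient
  haveI hQ0n : (Q₀.subgroupOf M).Normal := (Subgroup.normal_subgroupOf_iff_le_normalizer (inf_le_left.trans hQM)).mpr hMQ₀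
  set φ := QuotientGroup.mk' (Q₀.subgroupOf M) with hφ
  have hker : ∀ m : M, φ m = 1 ↔ (m : G) ∈ Q₀ := fun m => QuotientGroup.eq_one_iff m
  have hlt : Q₀ < Q := lt_of_le_of_ne inf_le_left fun e => hQ0ne (hRQ.trans e.ge)
  set Qb := (Q.subgroupOf M).map φ with hQb
  have hQbc : ∀ a b : ↥Qb, a * b = b * a := by
    rintro ⟨_, a, ha, rfl⟩ ⟨_, b, hb, rfl⟩
    refine Subtype.ext (commutatorElement_eq_one_iff_mul_comm.mp ?_)
    show ⁅φ a, φ b⁆ = 1
    rw [← map_commutatorElement, hker]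
    exact hcomm _ ha _ hb
  have hcardQ : Nat.card Q = Nat.card ↥Q₀ * Nat.card Qb := by
    have h1 := Subgroup.card_eq_card_quotient_mul_card_subgroup ((φ.subgroupMap (Q.subgroupOf M)).ker)
    have h2 : Nat.card ↥(φ.subgroupMap (Q.subgroupOf M)).ker = Nat.card ↥Q₀ := by
      refine Nat.card_congr ⟨fun x => ⟨((x : ↥(Q.subgroupOf M)) : M), (hker _).mp (congrArg Subtype.val x.2)⟩,
        fun y => ⟨⟨⟨y, hQM y.2.1⟩, y.2.1⟩, Subtype.ext ((hker _).mpr y.2)⟩, fun x => rfl, fun y => rfl⟩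
    rw [h2, Nat.card_congr (QuotientGroup.quotientKerEquivOfSurjective _ (φ.subgroupMap_surjective _)).toEquiv,
      Nat.card_congr (Subgroup.subgroupOfEquivOfLe hQM).toEquiv, mul_comm] at h1
    exact h1
  -- exponent
  have helem : ∀ a ∈ Q, a ^ q ∈ Q₀ := by
    letI : CommGroup Qb := { (inferInstance : Group Qb) with mul_comm := hQbc }
    set P := (powMonoidHom q : Qb →* Qb).range with hP
    let ψ : ↥(Q.subgroupOf M) →* Qb := φ.subgroupMap (Q.subgroupOf M)
    set N := ((P.comap ψ).map (Q.subgroupOf M).subtype).map M.subtype with hN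
    have hmemN : ∀ x : G, x ∈ N ↔ ∃ hx : x ∈ Q, ψ ⟨⟨x, hQM hx⟩, hx⟩ ∈ P := by
      intro x
      constructor
      · rintro ⟨_, ⟨y, hy, rfl⟩, rfl⟩
        exact ⟨y.2, hy⟩
      · rintro ⟨hx, hy⟩
        exact ⟨_, ⟨_, hy, rfl⟩, rfl⟩
    have hNnorm : ∀ m ∈ M, m ∈ Subgroup.normalizer (N : Set G) := by
      intro m hm
      refine NormalizerFusion.mem_normalizer_of_conj fun x hx => ?_
      obtain ⟨hxQ, z, hz⟩ := (hmemN x).mp hx
      have hxQ' : m * x * m⁻¹ ∈ Q := (Subgroup.mem_normalizer_iff.mp (h.normal hm) x).mp hxQ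
      obtain ⟨y, hy, hyz⟩ := z.2
      have hyQ : (m : G) * y * m⁻¹ ∈ Q := (Subgroup.mem_normalizer_iff.mp (h.normal hm) _).mp hy
      refine (hmemN _).mpr ⟨hxQ', ψ ⟨⟨m, hm⟩ * y * ⟨m, hm⟩⁻¹, hyQ⟩, ?_⟩
      refine Subtype.ext ?_
      have hz' : (φ y) ^ q = φ ⟨x, hQM hxQ⟩ := by
        have := congrArg Subtype.val hz
        rw [powMonoidHom_apply, SubgroupClass.coe_pow, ← hyz] at this
        exact this
      show ((ψ ⟨⟨m, hm⟩ * y * ⟨m, hm⟩⁻¹, hyQ⟩ : Qb) : M ⧸ Q₀.subgroupOf M) ^ q = φ _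
      show φ (⟨m, hm⟩ * y * ⟨m, hm⟩⁻¹) ^ q = φ _
      rw [map_mul, map_mul, map_inv, conj_pow, hz', ← map_inv, ← map_mul, ← map_mul]
      rfl
    intro a ha
    have h1 : a ^ q ∈ N := (hmemN _).mpr ⟨pow_mem ha q, ψ ⟨⟨a, hQM ha⟩, ha⟩, by
      rw [powMonoidHom_apply, ← map_pow]; rfl⟩
    have h0 : Q₀ ≤ N := fun x hx => (hmemN x).mpr ⟨hx.1, (show ψ ⟨⟨x, hQM hx.1⟩, hx.1⟩ = 1 from
      Subtype.ext ((hker _).mpr hx)) ▸ P.one_mem⟩
    have hNQ : N < Q := by
      refine lt_of_le_of_ne (fun x hx => ((hmemN x).mp hx).1) fun e => ?_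
      have htop : ∀ y : Qb, y ∈ P := by
        rintro ⟨_, y, hy, rfl⟩
        obtain ⟨h', hh'⟩ := (hmemN (y : G)).mp (e.ge hy)
        exact hh'
      have hinj : Function.Injective (powMonoidHom q : Qb →* Qb) :=
        Finite.injective_iff_surjective.mpr fun y => htop y
      have hd : q ∣ Nat.card Qb := by
        refine ((h.pgroup.of_equiv (Subgroup.subgroupOfEquivOfLe hQM).symm).map φ).card_eq_or_dvd.resolve_left fun h1 => ?_
        rw [h1, mul_one] at hcardQ
        exact hlt.ne (Subgroup.eq_of_le_of_card_ge inf_le_left hcardQ.le)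
      obtain ⟨z, hz⟩ := exists_prime_orderOf_dvd_card' (G := Qb) q hd
      have hz1 : z = 1 := hinj (by rw [map_one, powMonoidHom_apply, ← hz, pow_orderOf_eq_one])
      rw [hz1, orderOf_one] at hz
      exact h.prime.ne_one hz.symm
    exact hchief N h0 hNQ (fun z hz => hNnorm z (h.K_le hz)) (fun z hz => hNnorm z (hDM hz)) h1
  -- the Frobenius formula
  haveI : Group.IsSolvable M := hG.2.2.2 M h.coatom.1
  set Kb := (K.subgroupOf M).map φ with hKb
  set Db := (D.subgroupOf M).map φ with hDb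
  have hcardD : Nat.card Db ∣ Nat.card D := (Subgroup.card_map_dvd _ φ).trans
    (Nat.card_congr (Subgroup.subgroupOfEquivOfLe hDM).toEquiv).dvd
  have hcardK : Nat.card Kb = Nat.card K := by
    refine (Nat.card_congr (Equiv.ofBijective _ ⟨?_, φ.subgroupMap_surjective (K.subgroupOf M)⟩)).symm.trans
      (Nat.card_congr (Subgroup.subgroupOfEquivOfLe h.K_le).toEquiv)
    refine (injective_iff_map_eq_one (φ.subgroupMap (K.subgroupOf M))).mpr fun x hx => ?_
    have h1 : ((x : M) : G) ∈ K ⊓ Q := ⟨x.2, ((hker _).mp (congrArg Subtype.val hx)).1⟩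
    rw [Subgroup.inf_eq_bot_of_coprime (h.coprime.coprime_dvd_right (Subgroup.card_dvd_of_le h.le)),
      Subgroup.mem_bot] at h1
    exact Subtype.ext (Subtype.ext h1)
  have hcardQb : Nat.card Qb ∣ Nat.card Q := ⟨Nat.card ↥Q₀, by rw [hcardQ, mul_comm]⟩
  have hmapN : ∀ {A B : Subgroup G}, A ≤ M → A ≤ Subgroup.normalizer (B : Set G) →
      (A.subgroupOf M).map φ ≤ Subgroup.normalizer (((B.subgroupOf M).map φ : Subgroup _) : Set _) := by
    intro A B _ hAB
    exact (Subgroup.map_mono (fun x hx => Subgroup.le_normalizer_comap M.subtype (hAB hx))).trans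
      (Subgroup.le_normalizer_map φ)
  have hcopKD : (Nat.card K).Coprime (Nat.card D) := h.coprime.coprime_dvd_right (Subgroup.card_dvd_of_le hD.2.1)
  have hCK : Qb ⊓ Subgroup.centralizer (Db : Set (M ⧸ Q₀.subgroupOf M)) = ⊥ := by
    refine le_bot_iff.mp ?_
    rintro _ ⟨⟨y, hy, rfl⟩, hyc⟩
    obtain ⟨y', hy', hyc', e⟩ := Solvable.FPFOperators.exists_fixed_of_map (A := D.subgroupOf M) (Q := Q.subgroupOf M)
      (K₀ := Q₀.subgroupOf M) (fun x hx => Subgroup.le_normalizer_comap M.subtype (hDQ hx))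
      (by rw [Nat.card_congr (Subgroup.subgroupOfEquivOfLe hDM).toEquiv,
        Nat.card_congr (Subgroup.subgroupOfEquivOfLe hQM).toEquiv]; exact hcopDQ)
      inferInstance hy fun a ha => Subgroup.mem_centralizer_iff.mp hyc _ ⟨a, ha, rfl⟩
    rw [Subgroup.mem_bot, ← e, hker]
    exact ⟨hy', Subgroup.mem_centralizer_iff.mpr fun d hd => congrArg Subtype.val (hyc' ⟨d, hDM hd⟩ hd)⟩
  have hpr : ∀ x ∈ Kb, x ≠ 1 → Qb ⊓ Subgroup.centralizer ({x} : Set (M ⧸ Q₀.subgroupOf M)) =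
      ((Dstar M K).subgroupOf M).map φ := by
    rintro _ ⟨z, hz, rfl⟩ hz1
    have hz1' : (z : G) ≠ 1 := fun e => hz1 (by rw [show z = 1 from Subtype.ext e, map_one])
    refine le_antisymm ?_ ?_
    · rintro _ ⟨⟨y, hy, rfl⟩, hyc⟩
      obtain ⟨y', hy', hyc', e⟩ := Solvable.FPFOperators.exists_fixed_of_map (A := Subgroup.zpowers z) (Q := Q.subgroupOf M)
        (K₀ := Q₀.subgroupOf M) (Subgroup.zpowers_le.mpr (Subgroup.le_normalizer_comap M.subtype (hKQ hz)))
        (by rw [Nat.card_zpowers, Nat.card_congr (Subgroup.subgroupOfEquivOfLe hQM).toEquiv, ← Subgroup.orderOf_coe]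
            exact (h.coprime.coprime_dvd_left (Subgroup.orderOf_dvd_natCard K (show (z : G) ∈ K from hz))).coprime_dvd_right
              (Subgroup.card_dvd_of_le h.le))
        (Coprime.isSolvable_zpowers z) hy fun a ha => by
          obtain ⟨i, rfl⟩ := Subgroup.mem_zpowers_iff.mp ha
          rw [map_zpow]
          exact ((show Commute (φ z) (φ y) from (Subgroup.mem_centralizer_singleton_iff.mp hyc).symm).zpow_left i).eq
      refine ⟨y', ?_, e⟩
      refine (h.fix z hz hz1').le ⟨h.le hy', Subgroup.mem_centralizer_singleton_iff.mpr ?_⟩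
      exact (congrArg Subtype.val (hyc' z (Subgroup.mem_zpowers z))).symm
    · rintro _ ⟨y, hy, rfl⟩
      refine ⟨⟨y, h.star hy, rfl⟩, Subgroup.mem_centralizer_singleton_iff.mpr ?_⟩
      rw [← map_mul, ← map_mul]
      exact congrArg φ (Subtype.ext (Subgroup.mem_centralizer_iff.mp hy.2 _ hz).symm)
  have hKb1 : Kb ≠ ⊥ := fun e => h.ne (Subgroup.card_eq_one.mp (by rw [← hcardK, e, Subgroup.card_bot]))
  have hCb : Qb ⊓ Subgroup.centralizer (Kb : Set (M ⧸ Q₀.subgroupOf M)) = ((Dstar M K).subgroupOf M).map φ := by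
    refine le_antisymm ?_ ?_
    · obtain ⟨z, hz, hzp⟩ := KappaHall.exists_prime_elem hKb1
      rw [← hpr z hz fun e => hzp.ne_one (e ▸ orderOf_one)]
      exact inf_le_inf_left _ (Subgroup.centralizer_le (Set.singleton_subset_iff.mpr hz))
    · rintro _ ⟨y, hy, rfl⟩
      refine ⟨⟨y, h.star hy, rfl⟩, Subgroup.mem_centralizer_iff.mpr ?_⟩
      rintro _ ⟨z, hz, rfl⟩
      rw [← map_mul, ← map_mul]
      exact congrArg φ (Subtype.ext (Subgroup.mem_centralizer_iff.mp hy.2 _ hz))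
  have hcardC : Nat.card ↥(((Dstar M K).subgroupOf M).map φ) = q := by
    refine Eq.trans ?_ h.star_card
    refine (Nat.card_congr (Equiv.ofBijective _ ⟨?_, φ.subgroupMap_surjective ((Dstar M K).subgroupOf M)⟩)).symm.trans
      (Nat.card_congr (Subgroup.subgroupOfEquivOfLe (inf_le_left.trans hW)).toEquiv)
    refine (injective_iff_map_eq_one (φ.subgroupMap ((Dstar M K).subgroupOf M))).mpr fun x hx => ?_
    exact Subtype.ext (Subtype.ext (Subgroup.mem_bot.mp (hstar0.le ⟨x.2, (hker _).mp (congrArg Subtype.val hx)⟩)))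
  have hD1 : D ≠ ⊥ := fun e => h.not_central hD (e ▸ bot_le)
  obtain ⟨hp, hcardf, hder⟩ := Cfsg.Agent.S1446.result Db Kb Qb
    (fun e => hD1 (le_bot_iff.mp fun d hd => by
      have h1 : φ ⟨d, hDM hd⟩ = 1 := Subgroup.mem_bot.mp (e.le ⟨_, hd, rfl⟩)
      exact hD.2.2.1.le ⟨((hker _).mp h1).1, hd⟩))
    hKb1
    (Subgroup.inf_eq_bot_of_coprime (by rw [hcardK]; exact hcopKD.symm.coprime_dvd_left hcardD))
    (hmapN h.K_le hKD)
    (fun z hz hz1 => le_bot_iff.mp fun d hd => by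
      obtain ⟨⟨a, ha, rfl⟩, hc⟩ := hd
      obtain ⟨b, hb, rfl⟩ := hz
      have hb1 : (b : G) ≠ 1 := fun e => hz1 (by rw [show b = 1 from Subtype.ext e, map_one])
      have hq0 : ⁅(a : G), (b : G)⁆ ∈ Q₀ := (hker ⁅a, b⁆).mp (by
        rw [map_commutatorElement, commutatorElement_eq_one_iff_mul_comm]
        exact Subgroup.mem_centralizer_singleton_iff.mp hc)
      have hD' : ⁅(a : G), (b : G)⁆ ∈ D := by
        rw [commutatorElement_def, show (a : G) * b * (a : G)⁻¹ * (b : G)⁻¹ = a * (b * (a : G)⁻¹ * (b : G)⁻¹) by group]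
        exact mul_mem ha ((Subgroup.mem_normalizer_iff.mp (hKD hb) _).mp (inv_mem ha))
      have h1 : Commute (a : G) b := commutatorElement_eq_one_iff_commute.mp
        (Subgroup.mem_bot.mp (hD.2.2.1.le ⟨hq0.1, hD'⟩))
      have h2 : (a : G) ∈ Q ⊓ D := ⟨h.star ((h.fix b hb hb1).le
        ⟨hD.2.1 ha, Subgroup.mem_centralizer_singleton_iff.mpr h1.eq⟩), ha⟩
      rw [hD.2.2.1, Subgroup.mem_bot] at h2
      rw [Subgroup.mem_bot, show a = 1 from Subtype.ext h2, map_one])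
    inferInstance
    (hG.1.of_dvd_nat (((Subgroup.card_subgroup_dvd_card _).trans (Subgroup.card_quotient_dvd_card _)).trans
      M.card_subgroup_dvd_card))
    (fun e => hlt.ne (Subgroup.eq_of_le_of_card_ge inf_le_left (by rw [hcardQ, e, Subgroup.card_bot, mul_one])))
    ((h.pgroup.of_equiv (Subgroup.subgroupOfEquivOfLe hQM).symm).map φ).isNilpotent
    (hmapN hDM hDQ) (hmapN h.K_le hKQ)
    (by
      refine Nat.Coprime.coprime_dvd_right hcardQb (Nat.Coprime.coprime_dvd_left ?_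
        (Nat.Coprime.mul_left hcopDQ (h.coprime.coprime_dvd_right (Subgroup.card_dvd_of_le h.le))))
      rw [← hcardK, Coprime.card_sup_of_le_normalizer (hmapN h.K_le hKD) (Subgroup.disjoint_of_coprime_natCard
        (by rw [hcardK]; exact hcopKD.symm.coprime_dvd_left hcardD))]
      exact mul_dvd_mul hcardD dvd_rfl)
    hCK
    (fun x hx hx1 => by rw [hpr x hx hx1, hCb])
  rw [hCb, hcardC, hcardK] at hcardf
  rw [hcardK] at hp
  have hcyc : IsCyclic ↥(Qb ⊓ Subgroup.centralizer (Kb : Set (M ⧸ Q₀.subgroupOf M))) := by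
    rw [hCb]
    exact isCyclic_of_prime_card (p := q) hcardC
  have hder' : ⁅D, D⁆ ≤ Subgroup.centralizer (Q : Set G) := by
    refine Coprime.le_centralizer_of_stabilizes (N := Q₀) ((hcopDQ.coprime_dvd_left
      (Subgroup.card_dvd_of_le (Subgroup.commutator_le_self D))).coprime_dvd_right (Subgroup.card_dvd_of_le inf_le_left))
      ((Subgroup.commutator_le_self D).trans (Subgroup.le_centralizer_iff.mp inf_le_right)) fun a ha b hb => ?_
    have haM : a ∈ M := hDM (Subgroup.commutator_le_self D ha)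
    have h1 : φ ⟨a, haM⟩ ∈ ⁅Db, Db⁆ := by
      rw [← Subgroup.map_commutator]
      refine ⟨_, ?_, rfl⟩
      have h2 : (⁅D, D⁆ : Subgroup G) ≤ (⁅D.subgroupOf M, D.subgroupOf M⁆).map M.subtype := by
        rw [Subgroup.map_commutator, Subgroup.map_subgroupOf_eq_of_le hDM]
      obtain ⟨a', ha', e⟩ := h2 ha
      rwa [show (⟨a, haM⟩ : M) = a' from Subtype.ext e.symm]
    have h3 := Subgroup.mem_centralizer_iff.mp (hder hcyc h1) (φ ⟨b, hQM hb⟩) ⟨_, hb, rfl⟩
    exact (hker ⁅(⟨a, haM⟩ : M), ⟨b, hQM hb⟩⁆).mp (by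
      rw [map_commutatorElement, commutatorElement_eq_one_iff_mul_comm, h3])
  refine ⟨hMQ₀, hlt, by rw [hcardQ, hcardf], fun a ha b hb => ⟨helem a ha, ?_⟩, fun N h1 h2 h3 => ?_, hp, ?_, hder'⟩
  · exact hcomm a ha b hb
  · exact h1.not_ge (hchief N h1.le h2 (h.K_le.trans h3) (hDM.trans h3))
  · by_contra hb
    refine h.not_central hD (KappaHall.le_of_sylows fun t ht => ?_)
    haveI := Fact.mk ht
    obtain ⟨T⟩ : Nonempty (Sylow t D) := inferInstance
    refine ⟨T, ?_⟩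
    have hTD : (T : Subgroup D).map D.subtype ≤ D := Subgroup.map_subtype_le _
    rcases (T.isPGroup'.map D.subtype).card_eq_or_dvd with h1 | h1
    · rw [Subgroup.card_eq_one.mp h1]; exact bot_le
    · exact CyclicFix.centralizes_of_not_beta hG h.coatom
        (fun e => hhall.2.1 t ht (h1.trans (Subgroup.card_dvd_of_le hTD)) e.symm)
        hb h.pgroup (T.isPGroup'.map D.subtype) (h.derived.ge.trans' h.le)
        (h.derived.ge.trans' (hTD.trans hD.2.1)) (hTD.trans hDQ)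

/-- BG 15.2(e), for every complement `D`. -/
theorem Split.facts (hG : Cfsg.IsMinSimpleOddOrder G) (h : Split M K Q q)
    (hD : Cfsg.IsComplIn Q D (Cfsg.sigmaCore M)) :
    ∃ D₀ : Subgroup G, Facts M K Q D₀ q ∧
      Q ⊓ Subgroup.centralizer (D₀ : Set G) = Q ⊓ Subgroup.centralizer (D : Set G) := by
  obtain ⟨D₀, hD₀, hK⟩ := h.exists_compl hG
  have hf := h.facts_of_invariant hG hD₀ hK
  obtain ⟨g, hg, e⟩ := Coprime.hall_conj
    (hG.2.2.2 _ fun e => h.coatom.1 (top_le_iff.mp (e ▸ SigmaTools.sigmaCore_le M)))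
    (h.hall_of_compl hD₀) (h.hall_of_compl hD)
  refine ⟨D₀, hf, ?_⟩
  have hgM := SigmaTools.sigmaCore_le M hg
  rw [← Subgroup.mem_normalizer_iff_map_conj_eq.mp (hf.normal hgM),
    Subgroup.map_inf _ _ _ (MulAut.conj g).injective, Subgroup.mem_normalizer_iff_map_conj_eq.mp (h.normal hgM)]
  exact congrArg (Q ⊓ ·) ((map_centralizer g D₀).trans (by rw [e]))

end CfsgLib.OddOrder.CoreStructure
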