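import Mathlib

/-!
A cyclic group of odd order acting without fixed points, and without scalars, on a group of order `p ^ 2`.
-/

set_option autoImplicit false

namespace CfsgLib.OddOrder.CyclicPlane

open Polynomial

variable {p : ℕ} [hp : Fact p.Prime] {V : Type*} [CommGroup V] [Finite V]

omit [Finite V] in
/-- An endomorphism `f` of a `ZMod p`-space with `f ^ p = f` has an eigenvector. -/
theorem exists_eigen_add {W : Type*} [AddCommGroup W] [Module (ZMod p) W] [Finite W] [Nontrivial W] (f : W →+ W)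
    (hf : ∀ v, f^[p] v = f v) : ∃ (c : ℕ) (v : W), v ≠ 0 ∧ f v = c • v := by
  haveI : Module.Finite (ZMod p) W := Module.Finite.of_finite
  let F : Module.End (ZMod p) W := f.toZModLinearMap p
  have hFp : F ^ p = F := LinearMap.ext fun v => by
    rw [Module.End.pow_apply]; exact hf v
  have hzero : aeval F (X ^ p - X : (ZMod p)[X]) = 0 := by
    rw [map_sub, map_pow, aeval_X, hFp, sub_self]
  have hdvd := minpoly.dvd (ZMod p) F hzero
  have hne : (X ^ p - X : (ZMod p)[X]) ≠ 0 := FiniteField.X_pow_card_sub_X_ne_zero _ hp.out.one_lt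
  have hsp : (X ^ p - X : (ZMod p)[X]).Splits := by
    rw [splits_iff_card_roots, FiniteField.X_pow_card_sub_X_natDegree_eq _ hp.out.one_lt]
    have := FiniteField.roots_X_pow_card_sub_X (ZMod p)
    rw [ZMod.card] at this
    rw [this]
    simp
  have hint : IsIntegral (ZMod p) F := Algebra.IsIntegral.isIntegral F
  obtain ⟨c, hc⟩ := (hsp.of_dvd hne hdvd).exists_eval_eq_zero (minpoly.degree_pos hint).ne'
  obtain ⟨v, hv⟩ := (Module.End.hasEigenvalue_of_isRoot hc).exists_hasEigenvector
  refine ⟨c.val, v, hv.2, ?_⟩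
  have h := hv.apply_eq_smul
  rw [← ZMod.natCast_zmod_val c, Nat.cast_smul_eq_nsmul] at h
  exact h

/-- An automorphism of `p - 1`-torsion of an elementary abelian group has an eigenvector. -/
theorem exists_eigen (hV : ∀ v : V, v ^ p = 1) (h1 : Nontrivial V) (f : MulAut V) (hf : f ^ (p - 1) = 1) :
    ∃ (c : ℕ) (v : V), v ≠ 1 ∧ f v = v ^ c := by
  haveI : Module (ZMod p) (Additive V) := AddCommGroup.zmodModule fun a => hV (Additive.toMul a)
  haveI : Nontrivial (Additive V) := Equiv.nontrivial Additive.toMul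
  have hit : ∀ (n : ℕ) (v : Additive V), (MonoidHom.toAdditive f.toMonoidHom)^[n] v =
      Additive.ofMul ((f ^ n) (Additive.toMul v)) := by
    intro n
    induction n with
    | zero => intro v; rfl
    | succ n ih => intro v; rw [Function.iterate_succ_apply', ih, pow_succ']; rfl
  obtain ⟨c, v, hv, h⟩ := exists_eigen_add (p := p) (MonoidHom.toAdditive f.toMonoidHom) fun v => by
    rw [hit, show f ^ p = f ^ (p - 1) * f by rw [← pow_succ, Nat.sub_add_cancel hp.out.one_le], hf, one_mul]
    rfl
  exact ⟨c, Additive.toMul v, fun e => hv e, h⟩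

/-- A fixed-point-free cyclic group of odd order of automorphisms without scalars. -/
theorem card_dvd (hV : ∀ v : V, v ^ p = 1) (hcard : Nat.card V = p ^ 2) {Γ : Type*} [Group Γ] [Finite Γ]
    [IsCyclic Γ] (hodd : Odd (Nat.card Γ)) (ρ : Γ →* MulAut V) (hfpf : ∀ g : Γ, g ≠ 1 → ∀ v, ρ g v = v → v = 1)
    (hscal : ∀ g : Γ, ∀ c : ℕ, (∀ v, ρ g v = v ^ c) → g = 1) :
    Nat.card Γ ∣ p - 1 ∨ Nat.card Γ ∣ p + 1 := by
  classical
  by_cases hL : ∃ L : Subgroup V, Nat.card L = p ∧ ∀ g : Γ, ∀ v ∈ L, ρ g v ∈ L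
  · left
    obtain ⟨L, hLc, hinv⟩ := hL
    haveI : IsCyclic L := isCyclic_of_prime_card hLc
    let σ : Γ → MulAut L := fun g =>
      { toFun := fun v => ⟨ρ g (v : V), hinv g v v.2⟩
        invFun := fun v => ⟨ρ g⁻¹ (v : V), hinv g⁻¹ v v.2⟩
        left_inv := fun (v : L) => Subtype.ext (by simp [map_inv])
        right_inv := fun (v : L) => Subtype.ext (by simp [map_inv])
        map_mul' := fun a b => Subtype.ext (map_mul (ρ g) (a : V) (b : V)) }
    let θ : Γ →* MulAut L := MonoidHom.mk' σ fun a b => MulEquiv.ext fun v => Subtype.ext (by simp [σ, map_mul])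
    have hθ : Function.Injective θ := (injective_iff_map_eq_one θ).mpr fun g hg => by
      by_contra hg1
      obtain ⟨v, hv⟩ := exists_prime_orderOf_dvd_card' (G := L) p (by rw [hLc])
      have h := congrArg (fun φ : MulAut L => ((φ v : L) : V)) hg
      have hv1 : (v : V) = 1 := hfpf g hg1 v h
      rw [show v = 1 from Subtype.ext hv1, orderOf_one] at hv
      exact hp.out.ne_one hv.symm
    have := Subgroup.card_dvd_of_injective θ hθ
    rwa [IsCyclic.card_mulAut, hLc, Nat.totient_prime hp.out] at this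
  right
  haveI : Nontrivial V := Finite.one_lt_card_iff_nontrivial.mp (by
    rw [hcard]; exact Nat.one_lt_pow two_ne_zero hp.out.one_lt)
  have hcop : (Nat.card Γ).Coprime (p - 1) := Nat.coprime_of_dvd fun q hq h1 h2 => by
    haveI := Fact.mk hq
    obtain ⟨a, ha⟩ := exists_prime_orderOf_dvd_card' q h1
    have ha1 : a ≠ 1 := fun e => hq.ne_one (by rw [← ha, e, orderOf_one])
    obtain ⟨c, v, hv1, hv⟩ := exists_eigen hV inferInstance (ρ a) (by
      rw [← map_pow, orderOf_dvd_iff_pow_eq_one.mp (ha.symm ▸ h2), map_one])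
    let E : Subgroup V :=
      { carrier := {w | ρ a w = w ^ c}
        one_mem' := by simp
        mul_mem' := fun {x y} (hx : ρ a x = x ^ c) (hy : ρ a y = y ^ c) => by
          show ρ a (x * y) = (x * y) ^ c
          rw [map_mul, hx, hy, mul_pow]
        inv_mem' := fun {x} (hx : ρ a x = x ^ c) => by
          show ρ a x⁻¹ = x⁻¹ ^ c
          rw [map_inv, hx, inv_pow] }
    obtain ⟨j, hj, hjc⟩ := (Nat.dvd_prime_pow hp.out).mp (hcard ▸ Subgroup.card_subgroup_dvd_card E)
    interval_cases j
    · have : v ∈ E := hv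
      rw [Subgroup.eq_bot_of_card_eq E (by simpa using hjc), Subgroup.mem_bot] at this
      exact hv1 this
    · refine hL ⟨E, by simpa using hjc, fun g w hw => ?_⟩
      show ρ a (ρ g w) = (ρ g w) ^ c
      letI := IsCyclic.commGroup (α := Γ)
      have hag : ρ a * ρ g = ρ g * ρ a := by rw [← map_mul, ← map_mul, mul_comm]
      have := congrArg (fun φ : MulAut V => φ w) hag
      simp only [MulAut.mul_apply] at this
      rw [this, show ρ a w = w ^ c from hw, map_pow]
    · exact ha1 (hscal a c fun w => (Subgroup.eq_top_of_card_eq E (by rw [hjc, hcard])).ge (Subgroup.mem_top w))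
  have hdvd : Nat.card Γ ∣ (p - 1) * (p + 1) := by
    letI : MulAction Γ {v : V // v ≠ 1} :=
      { smul := fun g v => ⟨ρ g v, fun e => v.2 ((map_eq_one_iff _ (ρ g).injective).mp e)⟩
        one_smul := fun v => Subtype.ext (by show ρ 1 v = v; simp)
        mul_smul := fun a b v => Subtype.ext (by show ρ (a * b) v = ρ a (ρ b v); simp) }
    have hstab : ∀ v : {v : V // v ≠ 1}, MulAction.stabilizer Γ v = ⊥ := fun v =>
      (Subgroup.eq_bot_iff_forall _).mpr fun g hg => by_contra fun hg1 =>
        v.2 (hfpf g hg1 v (congrArg Subtype.val hg))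
    have h := Nat.card_congr (MulAction.selfEquivOrbitsQuotientProd hstab)
    rw [Nat.card_prod] at h
    have h2 : Nat.card {v : V // v ≠ 1} = (p - 1) * (p + 1) := by
      haveI := Fintype.ofFinite V
      rw [Nat.card_eq_fintype_card, Fintype.card_subtype_compl, Fintype.card_subtype_eq, ← Nat.card_eq_fintype_card,
        hcard, mul_comm, ← Nat.sq_sub_sq, one_pow]
    exact h2 ▸ h ▸ dvd_mul_left _ _
  exact hcop.dvd_of_dvd_mul_left hdvd

end CfsgLib.OddOrder.CyclicPlane
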