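import Cfsg.Agent.Lib.OddOrder.NarrowAction
import Cfsg.Agent.Lib.OddOrder.ProperPLength
import Mathlib

set_option autoImplicit false

/-!
Solvable groups of odd order with narrow Sylow `p`-subgroups.
-/

namespace CfsgLib.OddOrder.NarrowSylow

open scoped commutatorElement

variable {R R' : Type*} [Group R] [Group R'] {p : ℕ}

theorem pRankLE_congr (e : R ≃* R') {k : ℕ} (h : Cfsg.PRankLE p k R) : Cfsg.PRankLE p k R' := by
  intro A hAc hAe
  have h1 := Fusion.Thompson.isEA_map e.symm.toMonoidHom (A := A) ⟨hAc, hAe⟩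
  have := h _ h1.1 h1.2
  rwa [Subgroup.card_map_of_injective e.symm.injective] at this

theorem isNarrow_congr (e : R ≃* R') (h : Cfsg.IsNarrow p R) : Cfsg.IsNarrow p R' := by
  rcases h with h | ⟨R₀, R₁, hc, hcyc, hint, hcomm, hsup⟩
  · exact Or.inl (pRankLE_congr e h)
  haveI := hcyc
  refine Or.inr ⟨R₀.map e.toMonoidHom, R₁.map e.toMonoidHom, by
    rw [Subgroup.card_map_of_injective e.injective, hc],
    isCyclic_of_surjective (e.toMonoidHom.subgroupMap R₁) (e.toMonoidHom.subgroupMap_surjective R₁),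
    by rw [← Subgroup.map_inf _ _ _ e.injective, hint, Subgroup.map_bot], ?_, ?_⟩
  · rintro _ ⟨a, ha, rfl⟩ _ ⟨b, hb, rfl⟩
    show e a * e b = e b * e a
    rw [← map_mul, ← map_mul, hcomm a ha b hb]
  · rw [← Subgroup.map_sup, hsup]
    ext x
    constructor
    · rintro ⟨y, hy, rfl⟩
      refine Subgroup.mem_centralizer_iff.mpr ?_
      rintro _ ⟨a, ha, rfl⟩
      show e a * e y = e y * e a
      rw [← map_mul, ← map_mul, Subgroup.mem_centralizer_iff.mp hy a ha]
    · intro hx
      refine ⟨e.symm x, Subgroup.mem_centralizer_iff.mpr fun a ha => e.injective ?_, e.apply_symm_apply x⟩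
      rw [map_mul, map_mul, e.apply_symm_apply]
      exact Subgroup.mem_centralizer_iff.mp hx (e a) ⟨a, ha, rfl⟩

variable {G : Type*} [Group G] [Finite G] [hp : Fact p.Prime]

/-- The key conclusions modulo `O_{p'}`. -/
theorem core [Group.IsSolvable G] (hodd : Odd (Nat.card G)) (hp2 : p ≠ 2) (hO : Cfsg.pPrimeCore p G = ⊥)
    (S : Sylow p G) (hSn : (S : Subgroup G).Normal) (hS : Cfsg.IsNarrow p (S : Subgroup G))
    (hr : ¬ Cfsg.PRankLE p 2 (S : Subgroup G)) :
    _root_.commutator G ≤ Cfsg.pCore p G ∧ ∀ q : ℕ, q.Prime → q ∣ Nat.card G → q ≤ p := by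
  haveI := hSn
  have hSeq : Cfsg.pCore p G = (S : Subgroup G) :=
    le_antisymm (Solvable.Cores.pCore_le_sylow S) (Solvable.Cores.le_pCore S.isPGroup')
  have hCS : Subgroup.centralizer ((S : Subgroup G) : Set G) ≤ (S : Subgroup G) := by
    rw [← hSeq]
    exact Fusion.PSolvable.centralizer_pCore_le Fusion.PSolvable.psolvable_of_solvable hO
  obtain ⟨A, hA⟩ := Subgroup.exists_right_complement'_of_coprime S.card_coprime_index
  have hfaith : A ⊓ Subgroup.centralizer ((S : Subgroup G) : Set G) = ⊥ := by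
    refine eq_bot_iff.mpr fun x hx => ?_
    have : x ∈ (S : Subgroup G) ⊓ A := ⟨hCS hx.2, hx.1⟩
    rwa [disjoint_iff.mp hA.disjoint] at this
  have hAn : A ≤ Subgroup.normalizer ((S : Subgroup G) : Set G) := by
    rw [Subgroup.normalizer_eq_top]; exact le_top
  have hAodd : Odd (Nat.card A) := hodd.of_dvd_nat (Subgroup.card_subgroup_dvd_card A)
  have hAcop : (Nat.card A).Coprime p := by
    rw [← hA.symm.index_eq_card]
    exact (hp.out.coprime_iff_not_dvd.mpr S.not_dvd_index).symm
  obtain ⟨h1, h2⟩ := NarrowAction.detect hp2 S.isPGroup' hS hAn inferInstance hAodd hfaith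
  have hexp : ∀ a : A, a ^ (p - 1) = 1 := fun a =>
    h2 hr a (hAcop.coprime_dvd_left (orderOf_dvd_natCard a))
  have hab : ∀ a b : A, a * b = b * a := by
    intro a b
    rw [← commutatorElement_eq_one_iff_mul_comm]
    exact h1 _ (Subgroup.commutator_mem_commutator (Subgroup.mem_top _) (Subgroup.mem_top _))
      (hAcop.coprime_dvd_left (orderOf_dvd_natCard _))
  refine ⟨?_, fun q hq hqd => ?_⟩
  · rw [hSeq]
    refine Subgroup.Normal.quotient_commutative_iff_commutator_le.mp ⟨⟨fun x y => ?_⟩⟩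
    have hs : ∀ z : G ⧸ (S : Subgroup G), ∃ a : A, QuotientGroup.mk' (S : Subgroup G) (a : G) = z := by
      intro z
      obtain ⟨g, rfl⟩ := QuotientGroup.mk'_surjective _ z
      obtain ⟨⟨s, a⟩, he, -⟩ := hA.existsUnique g
      refine ⟨a, ?_⟩
      rw [← show (s : G) * a = g from he, map_mul,
        show QuotientGroup.mk' (S : Subgroup G) (s : G) = 1 from (QuotientGroup.eq_one_iff _).mpr s.2, one_mul]
    obtain ⟨a, rfl⟩ := hs x
    obtain ⟨b, rfl⟩ := hs y
    rw [← map_mul, ← map_mul, show (a : G) * b = b * a from congrArg Subtype.val (hab a b)]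
  · haveI := Fact.mk hq
    rw [← hA.card_mul] at hqd
    rcases hq.dvd_mul.mp hqd with h | h
    · obtain ⟨k, hk⟩ := S.isPGroup'.exists_card_eq
      rw [hk] at h
      exact ((Nat.prime_dvd_prime_iff_eq hq hp.out).mp (hq.dvd_of_dvd_pow h)).le
    · obtain ⟨a, ha⟩ := exists_prime_orderOf_dvd_card' (G := A) q h
      have hle := Nat.le_of_dvd (by have := hp.out.two_le; omega) (ha ▸ orderOf_dvd_of_pow_eq_one (hexp a))
      omega

theorem main [Group.IsSolvable G] (hodd : Odd (Nat.card G)) (hp2 : p ≠ 2) (S : Sylow p G)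
    (hS : Cfsg.IsNarrow p (S : Subgroup G))
    (hpl : ¬ Cfsg.PRankLE p 2 (S : Subgroup G) → Cfsg.PLengthLE p 1 G) :
    _root_.commutator G ≤ Cfsg.pPrimePCore p G ∧ ((Cfsg.pPrimePCore p G).index).Coprime p ∧
      ∀ q : ℕ, q.Prime → q ∣ (Cfsg.pPrimeCore p G).index → q ≤ p := by
  by_cases hr : Cfsg.PRankLE p 2 (S : Subgroup G)
  · exact RankTwo.main hodd hp2 (SigmaFusion.pRankLE_of_sylow S hr)
  have hl := hpl hr
  set O := Cfsg.pPrimeCore p G with hO
  set f := QuotientGroup.mk' O with hf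
  have hfs : Function.Surjective f := QuotientGroup.mk'_surjective O
  set T := S.mapSurjective hfs with hT
  have hTc : (T : Subgroup (G ⧸ O)) = (S : Subgroup G).map f := Sylow.coe_mapSurjective hfs S
  have hTn : (T : Subgroup (G ⧸ O)).Normal := by
    have h := (PLengthOne.normal_sup S hl).map f hfs
    have hOb : O.map f = ⊥ := (Subgroup.map_eq_bot_iff O).mpr (by rw [hf, QuotientGroup.ker_mk'])
    rwa [Subgroup.map_sup, hOb, bot_sup_eq, ← hTc] at h
  let e : (S : Subgroup G) ≃* (T : Subgroup (G ⧸ O)) :=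
    (MulEquiv.ofBijective (f.subgroupMap (S : Subgroup G)) ⟨fun a b hab => by
      have h1 : f (a : G) = f b := congrArg Subtype.val hab
      have h2 : (a : G)⁻¹ * b ∈ O := QuotientGroup.eq.mp h1
      have h3 := PLengthOne.eq_one_of_mem S (mul_mem (inv_mem a.2) b.2) h2
      exact Subtype.ext (inv_mul_eq_one.mp h3), f.subgroupMap_surjective _⟩).trans
      (MulEquiv.subgroupCongr hTc.symm)
  obtain ⟨h1, h2⟩ := core (G := G ⧸ O) (Odd.of_dvd_nat hodd (Subgroup.card_quotient_dvd_card O)) hp2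
    Components.pPrimeCore_quotient_eq_bot T hTn (isNarrow_congr e hS) fun h => hr (pRankLE_congr e.symm h)
  refine ⟨?_, (ProperPLength.pLength_iff).mp hl, fun q hq hd => h2 q hq (by rwa [← Subgroup.index_eq_card])⟩
  show _root_.commutator G ≤ (Cfsg.pCore p (G ⧸ O)).comap f
  rw [← Subgroup.map_le_iff_le_comap, _root_.commutator_def, Subgroup.map_commutator,
    Subgroup.map_top_of_surjective f hfs]
  exact h1

/-- The `p'`-elements of `O_{p',p}` lie in `O_{p'}`. -/
theorem le_pPrimeCore_of_coprime {L : Subgroup G} (hL : L ≤ Cfsg.pPrimePCore p G)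
    (hcop : (Nat.card L).Coprime p) : L ≤ Cfsg.pPrimeCore p G := by
  intro x hx
  obtain ⟨k, hk⟩ := Solvable.Cores.isPGroup_pCore (G := G ⧸ Cfsg.pPrimeCore p G) p
    ⟨QuotientGroup.mk' (Cfsg.pPrimeCore p G) x, hL hx⟩
  refine (QuotientGroup.eq_one_iff x).mp (orderOf_eq_one_iff.mp ?_)
  refine Nat.eq_one_of_dvd_coprimes (hcop.symm.pow_left k) (orderOf_dvd_of_pow_eq_one ?_)
    ((orderOf_map_dvd (QuotientGroup.mk' (Cfsg.pPrimeCore p G)) x).trans (Subgroup.orderOf_dvd_natCard L hx))
  exact congrArg Subtype.val hk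

theorem hasNormalPComplement_of_index {N : Subgroup G} [N.Normal] (hcop : (Nat.card N).Coprime p)
    (h : ∀ q : ℕ, q.Prime → q ∣ N.index → q = p) : Cfsg.HasNormalPComplement p G := by
  obtain ⟨P⟩ : Nonempty (Sylow p G) := inferInstance
  have h0 : N.index ≠ 0 := Subgroup.index_ne_zero_of_finite
  have hidx : N.index = p ^ N.index.factorization p := by
    refine Nat.eq_of_factorization_eq h0 (pow_ne_zero _ hp.out.ne_zero) fun q => ?_
    rw [hp.out.factorization_pow]
    by_cases hq : q = p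
    · subst hq; simp
    · rw [Finsupp.single_eq_of_ne hq]
      by_contra hne
      have hmem := Nat.support_factorization N.index ▸ Finsupp.mem_support_iff.mpr hne
      exact hq (h q (Nat.prime_of_mem_primeFactors hmem) (Nat.dvd_of_mem_primeFactors hmem))
  obtain ⟨k, hk⟩ := P.isPGroup'.exists_card_eq
  refine ⟨P, N, inferInstance, Subgroup.isComplement'_of_coprime ?_ (hk ▸ hcop.pow_right k)⟩
  have hN := Subgroup.card_mul_index N
  rw [← hN]
  congr 1
  rw [hidx] at hN ⊢
  have hd1 : p ^ N.index.factorization p ∣ Nat.card (P : Subgroup G) := by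
    refine Nat.Coprime.dvd_of_dvd_mul_right (m := Nat.card (P : Subgroup G))
      (Nat.Coprime.pow_left _ (hp.out.coprime_iff_not_dvd.mpr P.not_dvd_index)) ?_
    rw [Subgroup.card_mul_index, ← hN]
    exact dvd_mul_left _ _
  have hd2 : Nat.card (P : Subgroup G) ∣ p ^ N.index.factorization p := by
    refine Nat.Coprime.dvd_of_dvd_mul_left (m := Nat.card N) ?_ ?_
    · rw [hk]; exact (hcop.pow_right k).symm
    · rw [hN]; exact Subgroup.card_subgroup_dvd_card _
  exact Nat.dvd_antisymm hd2 hd1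

/-- Subgroups inherit normal `p`-complements from `O_{p',p}`. -/
theorem hasNormalPComplement_of_le {H : Subgroup G} (hH : H ≤ Cfsg.pPrimePCore p G) :
    Cfsg.HasNormalPComplement p H := by
  haveI : ((Cfsg.pPrimeCore p G).subgroupOf H).Normal := Subgroup.Normal.subgroupOf inferInstance H
  refine hasNormalPComplement_of_index (N := (Cfsg.pPrimeCore p G).subgroupOf H) ?_ ?_
  · exact (Solvable.Cores.coprime_card_pPrimeCore (G := G) p).coprime_dvd_left
      (Subgroup.card_comap_dvd_of_injective _ H.subtype H.subtype_injective)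
  · intro q hq hd
    haveI := Fact.mk hq
    rw [Subgroup.index_eq_card] at hd
    obtain ⟨y, hy⟩ := exists_prime_orderOf_dvd_card' q hd
    obtain ⟨h, rfl⟩ := QuotientGroup.mk'_surjective _ y
    obtain ⟨k, hk⟩ := Solvable.Cores.isPGroup_pCore (G := G ⧸ Cfsg.pPrimeCore p G) p
      ⟨QuotientGroup.mk' (Cfsg.pPrimeCore p G) (h : G), hH h.2⟩
    have h1 : (h : G) ^ p ^ k ∈ Cfsg.pPrimeCore p G :=
      (QuotientGroup.eq_one_iff ((h : G) ^ p ^ k)).mp (congrArg Subtype.val hk)
    have h2 : q ∣ p ^ k := by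
      rw [← hy]
      refine orderOf_dvd_of_pow_eq_one ?_
      rw [← map_pow]
      refine (QuotientGroup.eq_one_iff _).mpr ?_
      rw [Subgroup.mem_subgroupOf, Subgroup.coe_pow]
      exact h1
    exact (Nat.prime_dvd_prime_iff_eq hq hp.out).mp (hq.dvd_of_dvd_pow h2)

end CfsgLib.OddOrder.NarrowSylow
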