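import Cfsg.Agent.Lib.OddOrder.SupportCount
import Cfsg.Agent.Lib.OddOrder.NarrowSylow
import Cfsg.Agent.Lib.OddOrder.ComplementHall
import Cfsg.Agent.S1425
import Mathlib

set_option autoImplicit false
set_option linter.style.haveILetI false
set_option linter.unusedSectionVars false

/-!
Every element lies in some `M̃` or is of `κ`-type, and not both (BG 14.6).
-/

namespace CfsgLib.OddOrder.SigmaCover

open scoped commutatorElement
open SigmaFusion (cj)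
open SigmaCentralizer (Over)
open SupportCosets (sigma_number sigma_cj_iff parts_eq)

variable {G : Type*} [Group G] [Finite G] {M : Subgroup G}

/-- `g = x x'` with `x ∈ M_σ`, `x'` a `κ(M)`-element of `C_M(x)`, both nontrivial. -/
def KappaType (g : G) : Prop :=
  ∃ (M : Subgroup G) (x x' : G), IsCoatom M ∧ x ∈ Cfsg.sigmaCore M ∧ x ≠ 1 ∧
    x' ∈ M ⊓ Subgroup.centralizer ({x} : Set G) ∧ x' ≠ 1 ∧
    (∀ t : ℕ, t.Prime → t ∣ orderOf x' → t ∈ Cfsg.kappa M) ∧ g = x * x'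

/-- `g` lies in some `M̃`. -/
def InTilde (g : G) : Prop :=
  ∃ M : Subgroup G, IsCoatom M ∧ g ∈ Cfsg.tildeOf M ((Cfsg.sigmaCore M : Set G) \ {1})

theorem mem_tilde {x r : G} (hx : x ∈ Cfsg.sigmaCore M) (hx1 : x ≠ 1) (hr : r ∈ Cfsg.supportR M x) :
    x * r ∈ Cfsg.tildeOf M ((Cfsg.sigmaCore M : Set G) \ {1}) :=
  ⟨x, ⟨hx, hx1⟩, r, hr, 1, by rw [one_mul, inv_one, mul_one]⟩

/-- Commuting factors of an element for a set of primes. -/
theorem exists_parts (π : Set ℕ) (g : G) : ∃ a b : G, a ∈ Subgroup.zpowers g ∧ b ∈ Subgroup.zpowers g ∧ g = a * b ∧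
    Commute a b ∧ (∀ t : ℕ, t.Prime → t ∣ orderOf a → t ∈ π) ∧ ∀ t : ℕ, t.Prime → t ∣ orderOf b → t ∉ π := by
  obtain ⟨m, k, hmk, hm, hk⟩ := Coprime.exists_pi_split π (orderOf g) (orderOf_pos g).ne'
  obtain ⟨u, hu1, hu0⟩ := Nat.chineseRemainder (Coprime.coprime_of_pi hm hk) 1 0
  obtain ⟨v, hv0, hv1⟩ := Nat.chineseRemainder (Coprime.coprime_of_pi hm hk) 0 1
  refine ⟨g ^ u, g ^ v, Subgroup.npow_mem_zpowers g u, Subgroup.npow_mem_zpowers g v, ?_,
    (Commute.refl g).pow_pow u v, fun t ht hd => hm t ht (hd.trans (orderOf_dvd_of_pow_eq_one ?_)),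
    fun t ht hd htπ => hk t ht htπ (hd.trans (orderOf_dvd_of_pow_eq_one ?_))⟩
  · rw [← pow_add]
    conv_lhs => rw [← pow_one g]
    exact pow_eq_pow_iff_modEq.mpr (hmk ▸ (Nat.modEq_and_modEq_iff_modEq_mul (Coprime.coprime_of_pi hm hk)).mp
      ⟨(by simpa using (hu1.add hv0).symm), (by simpa using (hu0.add hv1).symm)⟩)
  · rw [← pow_mul]
    exact orderOf_dvd_iff_pow_eq_one.mp (hmk ▸ mul_comm u m ▸ Nat.mul_dvd_mul_left m (Nat.modEq_zero_iff_dvd.mp hu0))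
  · rw [← pow_mul]
    exact orderOf_dvd_iff_pow_eq_one.mp (hmk ▸ Nat.mul_dvd_mul_right (Nat.modEq_zero_iff_dvd.mp hv0) k)

theorem orderOf_mul_parts {π : Set ℕ} {a b : G} (hc : Commute a b)
    (ha : ∀ t : ℕ, t.Prime → t ∣ orderOf a → t ∈ π) (hb : ∀ t : ℕ, t.Prime → t ∣ orderOf b → t ∉ π) :
    orderOf (a * b) = orderOf a * orderOf b :=
  hc.orderOf_mul_eq_mul_orderOf_of_coprime (Coprime.coprime_of_pi ha fun t ht htπ hd => hb t ht hd htπ)

theorem exists_conj_core (hG : Cfsg.IsMinSimpleOddOrder G) (hM : IsCoatom M) {x : G} (hx1 : x ≠ 1)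
    (hx : ∀ t : ℕ, t.Prime → t ∣ orderOf x → t ∈ Cfsg.sigma M) :
    ∃ g : G, x ∈ Cfsg.sigmaCore (cj g M) := by
  obtain ⟨g, hg⟩ := Cfsg.Agent.S1425.result hG M hM (Subgroup.zpowers x) (Subgroup.zpowers_ne_bot.mpr hx1)
    fun t ht hd => hx t ht (Nat.card_zpowers x ▸ hd)
  refine ⟨g⁻¹, ?_⟩
  rw [SupportCount.sigmaCore_cj hG hM g⁻¹]
  exact ⟨g * x * g⁻¹, hg ⟨x, Subgroup.mem_zpowers x, rfl⟩, by simp [mul_assoc]⟩

/-- The case of `x' ∈ C_M(x)`. -/
theorem of_mem (hG : Cfsg.IsMinSimpleOddOrder G) (hM : IsCoatom M) {x x' : G} (hx : x ∈ Cfsg.sigmaCore M) (hx1 : x ≠ 1)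
    (hx' : x' ∈ M ⊓ Subgroup.centralizer ({x} : Set G)) (hσ : ∀ t : ℕ, t.Prime → t ∣ orderOf x' → t ∉ Cfsg.sigma M) :
    InTilde (x * x') ∨ KappaType (x * x') := by
  by_cases hx'1 : x' = 1
  · subst hx'1
    exact Or.inl ⟨M, hM, mem_tilde hx hx1 (one_mem _)⟩
  rcases SigmaDichotomy.main hG hM hx hx1 hx' hx'1 hσ with ⟨hκ, -⟩ | ⟨-, ⟨L₀, hL₀, hL₀σ⟩, hCM, huniq⟩
  · exact Or.inr ⟨M, x, x', hM, hx, hx1, hx', hx'1, hκ, rfl⟩
  obtain ⟨g, hg⟩ := exists_conj_core hG hL₀ hx'1 hL₀σ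
  set L := cj g L₀ with hLdef
  have hL : IsCoatom L := SigmaFusion.isCoatom_cj hL₀ g
  have hcomm : Commute x' x := Subgroup.mem_centralizer_singleton_iff.mp hx'.2
  have hCL : ¬ Subgroup.centralizer ({x'} : Set G) ≤ L := fun hle => by
    obtain ⟨t, ht, hd⟩ := Nat.exists_prime_and_dvd (mt orderOf_eq_one_iff.mp hx'1)
    exact hσ t ht hd (huniq L hL hle ▸ sigma_number hg t ht hd)
  obtain ⟨N, hN⟩ := SigmaCentralizer.exists_over hG hL hg hx'1 hCL
  have hNM : M = N := hN.unique M hM hCM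
  refine Or.inl ⟨L, hL, ?_⟩
  rw [← hcomm.eq]
  refine mem_tilde hg hx'1 ?_
  rw [hN.supportR_eq hG hCL, ← hNM]
  exact ⟨hx, Subgroup.mem_centralizer_singleton_iff.mpr hcomm.symm.eq⟩

/-- BG 14.6: the covering. -/
theorem cover (hG : Cfsg.IsMinSimpleOddOrder G) {g : G} (hg : g ≠ 1) : InTilde g ∨ KappaType g := by
  obtain ⟨p, hp, hpd⟩ := Nat.exists_prime_and_dvd (mt orderOf_eq_one_iff.mp hg)
  haveI := Fact.mk hp
  obtain ⟨S⟩ : Nonempty (Sylow p G) := inferInstance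
  have hpG : p ∣ Nat.card G := hpd.trans (orderOf_dvd_natCard g)
  obtain ⟨M₀, hM₀, hNS⟩ := Uniqueness.exists_coatom_normalizer (p := p) hG.2
    (fun e => S.dvd_card_of_dvd_card hpG |> fun hd => hp.ne_one (Nat.dvd_one.mp (by rwa [e, Subgroup.card_bot] at hd)))
    S.isPGroup'
  have hpσ : p ∈ Cfsg.sigma M₀ := SigmaTools.mem_sigma_of_sylow hpG hNS
  obtain ⟨x, x', hxg, hx'g, hgx, hc, hxπ, hx'π⟩ := exists_parts (Cfsg.sigma M₀) g
  have hx1 : x ≠ 1 := fun e => hx'π p hp (by rwa [hgx, e, one_mul] at hpd) hpσ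
  obtain ⟨c, hxM⟩ := exists_conj_core hG hM₀ hx1 hxπ
  set M := cj c M₀ with hMdef
  have hM : IsCoatom M := SigmaFusion.isCoatom_cj hM₀ c
  have hx'σ : ∀ t : ℕ, t.Prime → t ∣ orderOf x' → t ∉ Cfsg.sigma M := fun t ht hd hs =>
    hx'π t ht hd ((sigma_cj_iff ht M₀ c).mp hs)
  subst hgx
  have hx'C : x' ∈ Subgroup.centralizer ({x} : Set G) := Subgroup.mem_centralizer_singleton_iff.mpr hc.symm.eq
  by_cases hCM : Subgroup.centralizer ({x} : Set G) ≤ M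
  · exact of_mem hG hM hxM hx1 ⟨hCM hx'C, hx'C⟩ hx'σ
  obtain ⟨N, hN⟩ := SigmaCentralizer.exists_over hG hM hxM hx1 hCM
  have hx'N : x' ∈ N := hN.le hx'C
  have hxN : x ∈ N := hN.mem.2
  obtain ⟨w, v, hw, hv, hwv, hwvc, hwπ, hvπ⟩ := exists_parts (Cfsg.sigma N) x'
  have hxw : Commute x w := by
    obtain ⟨i, rfl⟩ := Subgroup.mem_zpowers_iff.mp hw
    exact hc.zpow_right i
  have hxv : Commute x v := by
    obtain ⟨i, rfl⟩ := Subgroup.mem_zpowers_iff.mp hv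
    exact hc.zpow_right i
  have hxσN : ∀ t : ℕ, t.Prime → t ∣ orderOf x → t ∉ Cfsg.sigma N := fun t ht hd => (hN.tau2 t ht hd).2.1
  by_cases hw1 : w = 1
  · -- `⟨g⟩` lies in a complement of `N_σ`
    rw [hw1, one_mul] at hwv
    subst hwv
    have hgN : x * x' ∈ N := mul_mem hxN hx'N
    obtain ⟨n, hn, hnle⟩ := ComplementHall.exists_conj_le hG hN.coatom hN.compl (Subgroup.zpowers_le.mpr hgN)
      fun t ht hd hs => by
        rw [Nat.card_zpowers] at hd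
        rcases ht.dvd_mul.mp (hd.trans (hc.orderOf_mul_dvd_lcm.trans (Nat.lcm_dvd_mul _ _))) with h1 | h1
        · exact hxσN t ht h1 hs
        · exact hvπ t ht h1 hs
    obtain ⟨a, ha, b, hb, rfl⟩ := hN.compl.2.2.2 n hn
    have hconj : ∀ u ∈ Subgroup.zpowers (x * x'), b * u * b⁻¹ ∈ M ⊓ N := fun u hu => by
      have h1 : a * b * u * (a * b)⁻¹ ∈ M ⊓ N := hnle ⟨u, hu, rfl⟩
      have h2 := mul_mem (mul_mem (inv_mem ha) h1) ha
      rwa [show a⁻¹ * (a * b * u * (a * b)⁻¹) * a = b * u * b⁻¹ by group] at h2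
    have hbx : Commute b x := by
      have h2 : ⁅b, x⁆ ∈ Cfsg.sigmaCore N ⊓ M := by
        refine ⟨?_, ?_⟩
        · rw [show ⁅b, x⁆ = b * (x * b⁻¹ * x⁻¹) by simp [commutatorElement_def, mul_assoc]]
          exact (Cfsg.sigmaCore N).mul_mem hb ((Subgroup.mem_normalizer_iff.mp
            (SigmaTools.le_normalizer_sigmaCore N hxN) _).mp ((Cfsg.sigmaCore N).inv_mem hb))
        · rw [commutatorElement_def]
          exact M.mul_mem (hconj x hxg).1 (M.inv_mem hN.mem.1)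
      rw [hN.bot, Subgroup.mem_bot, commutatorElement_eq_one_iff_commute] at h2
      exact h2
    set M' := cj b⁻¹ M with hM'
    have hxM' : x ∈ Cfsg.sigmaCore M' := by
      rw [hM', SupportCount.sigmaCore_cj hG hM b⁻¹]
      exact ⟨x, hxM, by simp [mul_assoc, hbx.inv_left.eq]⟩
    have hx'M' : x' ∈ M' := SigmaTools.mem_cj.mpr (by rw [inv_inv]; exact (hconj x' hx'g).1)
    exact of_mem hG (SigmaFusion.isCoatom_cj hM b⁻¹) hxM' hx1 ⟨hx'M', hx'C⟩ fun t ht hd hs =>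
      hx'σ t ht hd ((sigma_cj_iff ht M b⁻¹).mp hs)
  -- `w ≠ 1` lies in `N_σ`
  have hwN : w ∈ N := Subgroup.zpowers_le.mpr hx'N hw
  have hvN : v ∈ N := Subgroup.zpowers_le.mpr hx'N hv
  have hwσ : w ∈ Cfsg.sigmaCore N := Subgroup.zpowers_le.mp (SigmaTools.le_sigmaCore hG hN.coatom
    (Subgroup.zpowers_le.mpr hwN) fun t ht hd => hwπ t ht (Nat.card_zpowers w ▸ hd))
  have hxvc : x * v ∈ N ⊓ Subgroup.centralizer ({w} : Set G) :=
    ⟨mul_mem hxN hvN, Subgroup.mem_centralizer_singleton_iff.mpr (hxw.mul_left hwvc.symm).eq⟩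
  have hvσ : ∀ t : ℕ, t.Prime → t ∣ orderOf v → t ∉ Cfsg.sigma M := fun t ht hd =>
    hx'σ t ht (hd.trans (Nat.card_zpowers x' ▸ Subgroup.orderOf_dvd_natCard _ hv))
  have hord := orderOf_mul_parts hxv (sigma_number hxM) hvσ
  have hxv1 : x * v ≠ 1 := fun e => hx1 (orderOf_eq_one_iff.mp (Nat.eq_one_of_mul_eq_one_right (by
    rw [← hord, e, orderOf_one])))
  rcases SigmaDichotomy.main hG hN.coatom hwσ hw1 hxvc hxv1 (fun t ht hd hs => by
    rcases ht.dvd_mul.mp (hord ▸ hd) with h1 | h1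
    · exact hxσN t ht h1 hs
    · exact hvπ t ht h1 hs) with ⟨hκ, -⟩ | ⟨-, ⟨L, hL, hLσ⟩, -, -⟩
  · obtain ⟨t, ht, hd⟩ := Nat.exists_prime_and_dvd (mt orderOf_eq_one_iff.mp hx1)
    haveI := Fact.mk ht
    exact absurd (KappaHall.kappa_rank_one (hκ t ht (hord ▸ hd.trans (dvd_mul_right _ _)))) (hN.tau2 t ht hd).2.2.2
  · have hv1 : v = 1 := by
      by_contra hv1
      obtain ⟨s, hs, hsd⟩ := Nat.exists_prime_and_dvd (mt orderOf_eq_one_iff.mp hv1)
      obtain ⟨t, ht, hd⟩ := Nat.exists_prime_and_dvd (mt orderOf_eq_one_iff.mp hx1)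
      haveI := Fact.mk ht
      obtain ⟨c', hc'⟩ := SigmaDisjoint.main hG hM hL (sigma_number hxM t ht hd)
        (hLσ t ht (hord ▸ hd.trans (dvd_mul_right _ _)))
      exact hvσ s hs hsd ((sigma_cj_iff hs M c').mp (hc' ▸ hLσ s hs (hord ▸ hsd.trans (dvd_mul_left _ _))))
    refine Or.inl ⟨M, hM, mem_tilde hxM hx1 ?_⟩
    rw [hwv, hv1, mul_one, hN.supportR_eq hG hCM]
    exact ⟨hwσ, Subgroup.mem_centralizer_singleton_iff.mpr hxw.symm.eq⟩

/-- BG 14.6: the exclusion. -/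
theorem exclusive (hG : Cfsg.IsMinSimpleOddOrder G) {g : G} (hκ : KappaType g) : ¬ InTilde g := by
  obtain ⟨M, x, x', hM, hx, hx1, hx', hx'1, hκ', rfl⟩ := hκ
  rintro ⟨L₀, hL₀, y₀, ⟨hy₀, hy₀1⟩, r₀, hr₀, h, e⟩
  have hc : Commute x x' := (Subgroup.mem_centralizer_singleton_iff.mp hx'.2).symm
  have hx'σ : ∀ t : ℕ, t.Prime → t ∣ orderOf x' → t ∉ Cfsg.sigma M := fun t ht hd => (hκ' t ht hd).2.2.1
  have hCM : Subgroup.centralizer ({x} : Set G) ≤ M := by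
    rcases SigmaDichotomy.main hG hM hx hx1 hx' hx'1 hx'σ with ⟨-, hC⟩ | ⟨hτ, -⟩
    · exact hC
    · obtain ⟨t, ht, hd⟩ := Nat.exists_prime_and_dvd (mt orderOf_eq_one_iff.mp hx'1)
      haveI := Fact.mk ht
      exact absurd (KappaHall.kappa_rank_one (hκ' t ht hd)) (hτ t ht hd).2.2.2
  set L := cj h L₀ with hLdef
  set y := h * y₀ * h⁻¹ with hydef
  set r := h * r₀ * h⁻¹ with hrdef
  have hy1 : y ≠ 1 := fun e' => hy₀1 (Set.mem_singleton_iff.mpr (conj_eq_one_iff.mp e'))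
  have hy : y ∈ Cfsg.sigmaCore L := by
    rw [hLdef, SupportCount.sigmaCore_cj hG hL₀ h]
    exact ⟨y₀, hy₀, rfl⟩
  have hL : IsCoatom L := SigmaFusion.isCoatom_cj hL₀ h
  have hr : r ∈ Cfsg.supportR L y :=
    SupportCount.support_cj hG hL₀ hy₀ (fun e' => hy₀1 (Set.mem_singleton_iff.mpr e')) h hr₀
  have he : x * x' = y * r := by rw [e, hydef, hrdef]; group
  have hyr := SupportCosets.support_commute hG hL hy hy1 hr
  have hordx := orderOf_mul_parts hc (sigma_number hx) hx'σ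
  have hordy := orderOf_mul_parts hyr (sigma_number hy) (SupportCosets.support_number hG hL hy hy1 hr)
  obtain ⟨t, ht, htd⟩ := Nat.exists_prime_and_dvd (mt orderOf_eq_one_iff.mp hx1)
  haveI := Fact.mk ht
  by_cases hconj : ∃ a : G, L = cj a M
  · obtain ⟨a, ha⟩ := hconj
    obtain ⟨hxy, hxr⟩ := parts_eq (π := Cfsg.sigma M) hc hyr he (sigma_number hx) hx'σ
      (fun t ht hd => (sigma_cj_iff ht M a).mp (ha ▸ sigma_number hy t ht hd))
      fun t ht hd hs => SupportCosets.support_number hG hL hy hy1 hr t ht hd (ha.symm ▸ (sigma_cj_iff ht M a).mpr hs)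
    have hxa : x ∈ cj a M := ha ▸ hxy ▸ SigmaTools.sigmaCore_le L hy
    obtain ⟨b, hb, hbM⟩ := SigmaCentralizer.exists_centralizer_conj hG hM hx hx1 hxa
    have hLM : L = M := by rw [ha, ← hbM, SigmaFusion.cj_eq_self (Subgroup.le_normalizer (hCM hb))]
    rw [hLM, ← hxy, SigmaCentralizer.supportR_eq_bot hCM, Subgroup.mem_bot] at hr
    exact hx'1 (hxr.trans hr)
  push Not at hconj
  rcases SupportCosets.mem_support hG hL hy hy1 hr with hr1 | ⟨N, hN, hrN⟩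
  · refine SupportCosets.disjoint hG hM hL hconj ht (sigma_number hx t ht htd) (sigma_number hy t ht ?_)
    rw [hr1, mul_one] at he
    rw [← he, hordx]
    exact htd.trans (dvd_mul_right _ _)
  have htr : t ∣ orderOf r := (ht.dvd_mul.mp (hordy ▸ he ▸ hordx.symm ▸ htd.trans (dvd_mul_right _ _))).resolve_left
    fun h1 => SupportCosets.disjoint hG hM hL hconj ht (sigma_number hx t ht htd) (sigma_number hy t ht h1)
  obtain ⟨a, ha⟩ := SigmaDisjoint.main hG hM hN.coatom (sigma_number hx t ht htd) (sigma_number hrN.1 t ht htr)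
  obtain ⟨s, hs, hsd⟩ := Nat.exists_prime_and_dvd (mt orderOf_eq_one_iff.mp hy1)
  haveI := Fact.mk hs
  have hsx : s ∣ orderOf x' := (hs.dvd_mul.mp (hordx ▸ he.symm ▸ hordy.symm ▸ hsd.trans (dvd_mul_right _ _))).resolve_left
    fun h1 => SupportCosets.disjoint hG hM hL hconj hs (sigma_number hx s hs h1) (sigma_number hy s hs hsd)
  refine (hN.tau2 s hs hsd).2.2.2 ?_
  rw [ha]
  exact NarrowSylow.pRankLE_congr (Subgroup.equivMapOfInjective M _ (MulAut.conj a).injective)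
    (KappaHall.kappa_rank_one (hκ' s hs hsx))

end CfsgLib.OddOrder.SigmaCover
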