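import Cfsg.Agent.Lib.OddOrder.SupportCosets
import Mathlib

set_option autoImplicit false
set_option linter.style.haveILetI false
set_option linter.unusedSectionVars false

/-!
The number of elements in `M̃` (BG 14.5).
-/

namespace CfsgLib.OddOrder.SupportCount

open scoped commutatorElement
open SigmaFusion (cj)
open SupportCosets (parts_eq sigma_number support_number sigma_cj_iff)

variable {G : Type*} [Group G] [Finite G] {M : Subgroup G} {x : G}

theorem card_cj (g : G) (H : Subgroup G) : Nat.card ↥(cj g H) = Nat.card H :=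
  Subgroup.card_map_of_injective (MulAut.conj g).injective

theorem cj_mono {H H' : Subgroup G} (g : G) (h : H ≤ H') : cj g H ≤ cj g H' := Subgroup.map_mono h

theorem cj_sigmaCore_le (hG : Cfsg.IsMinSimpleOddOrder G) (hM : IsCoatom M) (g : G) :
    cj g (Cfsg.sigmaCore M) ≤ Cfsg.sigmaCore (cj g M) := by
  refine SigmaTools.le_sigmaCore hG (SigmaFusion.isCoatom_cj hM g) (cj_mono g (SigmaTools.sigmaCore_le M))
    fun t ht hd => ?_
  haveI := Fact.mk ht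
  rw [card_cj] at hd
  exact SigmaTools.sigma_cj (SigmaTools.mem_sigma_of_card hd) g

theorem sigmaCore_cj (hG : Cfsg.IsMinSimpleOddOrder G) (hM : IsCoatom M) (g : G) :
    Cfsg.sigmaCore (cj g M) = cj g (Cfsg.sigmaCore M) := by
  refine le_antisymm (fun z hz => ?_) (cj_sigmaCore_le hG hM g)
  have h1 := cj_sigmaCore_le hG (SigmaFusion.isCoatom_cj hM g) g⁻¹ (show g⁻¹ * z * g ∈ _ from
    SigmaTools.mem_cj.mpr (by rw [inv_inv]; simpa [mul_assoc] using hz))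
  rw [SigmaFusion.cj_cj, inv_mul_cancel, SigmaFusion.cj_one] at h1
  exact SigmaTools.mem_cj.mpr h1

/-- `R(x)` complements `C_M(x)` in `C(x)`. -/
theorem support_compl (hG : Cfsg.IsMinSimpleOddOrder G) (hM : IsCoatom M) (hx : x ∈ Cfsg.sigmaCore M) (hx1 : x ≠ 1) :
    Cfsg.IsComplIn (M ⊓ Subgroup.centralizer ({x} : Set G)) (Cfsg.supportR M x) (Subgroup.centralizer ({x} : Set G)) ∧
      Subgroup.centralizer ({x} : Set G) ≤ Subgroup.normalizer ((Cfsg.supportR M x : Subgroup G) : Set G) ∧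
      (Nat.card ↥(M ⊓ Subgroup.centralizer ({x} : Set G))).Coprime (Nat.card (Cfsg.supportR M x)) := by
  by_cases hxM : Subgroup.centralizer ({x} : Set G) ≤ M
  · rw [SigmaCentralizer.supportR_eq_bot hxM, Subgroup.card_bot, Subgroup.normalizer_eq_top (H := (⊥ : Subgroup G))]
    exact ⟨⟨inf_le_right, bot_le, inf_bot_eq _, fun m hm => ⟨m, ⟨hxM hm, hm⟩, 1, one_mem _, (mul_one m).symm⟩⟩,
      le_top, Nat.coprime_one_right _⟩
  obtain ⟨N, h⟩ := SigmaCentralizer.exists_over hG hM hx hx1 hxM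
  rw [h.supportR_eq hG hxM]
  refine ⟨h.compl_centralizer, h.le_normalizer, Nat.coprime_of_dvd fun t ht h1 h2 => ?_⟩
  haveI := Fact.mk ht
  exact SigmaComplement.not_dvd_card hG h.coatom h.compl
    (SigmaTools.mem_sigma_of_card (h2.trans (Subgroup.card_dvd_of_le inf_le_left)))
    (h1.trans (Subgroup.card_dvd_of_le (le_inf inf_le_left (inf_le_right.trans h.le))))

theorem mem_support_iff (hG : Cfsg.IsMinSimpleOddOrder G) (hM : IsCoatom M) (hx : x ∈ Cfsg.sigmaCore M) (hx1 : x ≠ 1)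
    {z : G} : z ∈ Cfsg.supportR M x ↔ z ∈ Subgroup.centralizer ({x} : Set G) ∧
      (orderOf z).Coprime (Nat.card ↥(M ⊓ Subgroup.centralizer ({x} : Set G))) := by
  obtain ⟨hc, hn, hcop⟩ := support_compl hG hM hx hx1
  refine ⟨fun hz => ⟨hc.2.1 hz, (hcop.coprime_dvd_right (Subgroup.orderOf_dvd_natCard _ hz)).symm⟩, fun hz => ?_⟩
  set C := Subgroup.centralizer ({x} : Set G) with hC
  haveI : ((Cfsg.supportR M x).subgroupOf C).Normal := (Subgroup.normal_subgroupOf_iff_le_normalizer hc.2.1).mpr hn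
  have hle := SigmaCore.le_of_coprime_index (N := (Cfsg.supportR M x).subgroupOf C)
    (K := Subgroup.zpowers (⟨z, hz.1⟩ : C)) (by
      rw [Nat.card_zpowers, Subgroup.orderOf_mk, ← Subgroup.relIndex, Basic.IsComplIn.relIndex_right hc]
      exact hz.2)
  exact hle (Subgroup.mem_zpowers _)

theorem eq_of_cj_eq (hG : Cfsg.IsMinSimpleOddOrder G) (hM : IsCoatom M) {a b : G} (h : cj a M = cj b M) :
    a⁻¹ * b ∈ M := by
  have h1 : cj (a⁻¹ * b) M = M := by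
    rw [← SigmaFusion.cj_cj, ← h, SigmaFusion.cj_cj, inv_mul_cancel, SigmaFusion.cj_one]
  have h2 : a⁻¹ * b ∈ Subgroup.normalizer (M : Set G) := Subgroup.mem_normalizer_iff_map_conj_eq.mpr h1
  rwa [SigmaFusion.normalizer_eq_self hG.2 hM (SigmaCore.coatom_ne_bot hG hM)] at h2

theorem support_inj (hG : Cfsg.IsMinSimpleOddOrder G) (hM : IsCoatom M) (hx : x ∈ Cfsg.sigmaCore M) (hx1 : x ≠ 1)
    {r r' : G} (hr : r ∈ Cfsg.supportR M x) (hr' : r' ∈ Cfsg.supportR M x) (h : r⁻¹ * r' ∈ M) : r = r' := by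
  obtain ⟨hc, -, -⟩ := support_compl hG hM hx hx1
  have hmem : r⁻¹ * r' ∈ (M ⊓ Subgroup.centralizer ({x} : Set G)) ⊓ Cfsg.supportR M x :=
    ⟨⟨h, hc.2.1 (mul_mem (inv_mem hr) hr')⟩, (Cfsg.supportR M x).mul_mem ((Cfsg.supportR M x).inv_mem hr) hr'⟩
  rw [hc.2.2.1, Subgroup.mem_bot, inv_mul_eq_one] at hmem
  exact hmem

theorem exists_support (hG : Cfsg.IsMinSimpleOddOrder G) (hM : IsCoatom M) (hx : x ∈ Cfsg.sigmaCore M) (hx1 : x ≠ 1)
    {c : G} (hc : c⁻¹ * x * c ∈ M) : ∃ r ∈ Cfsg.supportR M x, r⁻¹ * c ∈ M := by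
  obtain ⟨b, hb, e⟩ := SigmaCentralizer.exists_centralizer_conj hG hM hx hx1 (SigmaTools.mem_cj.mpr hc)
  obtain ⟨a, ha, r, hr, hab⟩ := (support_compl hG hM hx hx1).1.2.2.2 b⁻¹ (inv_mem hb)
  refine ⟨r⁻¹, inv_mem hr, ?_⟩
  have h1 := eq_of_cj_eq hG hM e
  rw [hab] at h1
  rw [inv_inv, show r * c = a⁻¹ * (a * r * c) by group]
  exact mul_mem (inv_mem ha.1) h1

/-- `R` is equivariant under conjugation. -/
theorem support_cj (hG : Cfsg.IsMinSimpleOddOrder G) (hM : IsCoatom M) (hx : x ∈ Cfsg.sigmaCore M) (hx1 : x ≠ 1)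
    (g : G) {z : G} (hz : z ∈ Cfsg.supportR M x) :
    g * z * g⁻¹ ∈ Cfsg.supportR (cj g M) (g * x * g⁻¹) := by
  have hgx : g * x * g⁻¹ ∈ Cfsg.sigmaCore (cj g M) := by
    rw [sigmaCore_cj hG hM g]
    exact ⟨x, hx, by simp⟩
  rw [mem_support_iff hG (SigmaFusion.isCoatom_cj hM g) hgx fun e => hx1 (conj_eq_one_iff.mp e)]
  obtain ⟨h1, h2⟩ := (mem_support_iff hG hM hx hx1).mp hz
  have hC : cj g (M ⊓ Subgroup.centralizer ({x} : Set G)) =
      cj g M ⊓ Subgroup.centralizer ({g * x * g⁻¹} : Set G) := by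
    ext y
    simp only [SigmaTools.mem_cj, Subgroup.mem_inf, Subgroup.mem_centralizer_singleton_iff]
    refine and_congr_right fun _ => ⟨fun h => ?_, fun h => ?_⟩
    · calc y * (g * x * g⁻¹) = g * (g⁻¹ * y * g * x) * g⁻¹ := by group
        _ = g * (x * (g⁻¹ * y * g)) * g⁻¹ := by rw [h]
        _ = _ := by group
    · calc g⁻¹ * y * g * x = g⁻¹ * (y * (g * x * g⁻¹)) * g := by group
        _ = g⁻¹ * (g * x * g⁻¹ * y) * g := by rw [h]
        _ = _ := by group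
  refine ⟨Subgroup.mem_centralizer_singleton_iff.mpr ?_, ?_⟩
  · have h3 := Subgroup.mem_centralizer_singleton_iff.mp h1
    calc g * z * g⁻¹ * (g * x * g⁻¹) = g * (z * x) * g⁻¹ := by group
      _ = g * (x * z) * g⁻¹ := by rw [h3]
      _ = _ := by group
  · rw [← hC, card_cj, show orderOf (g * z * g⁻¹) = orderOf z from MulEquiv.orderOf_eq (MulAut.conj g) z]
    exact h2

theorem transport (hG : Cfsg.IsMinSimpleOddOrder G) (hM : IsCoatom M) (hx : x ∈ Cfsg.sigmaCore M) (hx1 : x ≠ 1)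
    {c r : G} (hc : c⁻¹ * x * c ∈ M) (hr : r ∈ Cfsg.supportR M x) :
    c⁻¹ * r * c ∈ Cfsg.supportR M (c⁻¹ * x * c) := by
  obtain ⟨b, hb, hbc⟩ := exists_support hG hM hx hx1 hc
  obtain ⟨hcompl, hn, -⟩ := support_compl hG hM hx hx1
  have hbC := hcompl.2.1 hb
  set m := b⁻¹ * c with hm
  have hr' : b⁻¹ * r * b ∈ Cfsg.supportR M x := by
    simpa using (Subgroup.mem_normalizer_iff.mp (hn (inv_mem hbC)) r).mp hr
  have h := support_cj hG hM hx hx1 m⁻¹ hr'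
  rw [SigmaFusion.cj_eq_self (Subgroup.le_normalizer (inv_mem hbc))] at h
  have e1 : m⁻¹ * (b⁻¹ * r * b) * m⁻¹⁻¹ = c⁻¹ * r * c := by rw [hm]; group
  have e2 : m⁻¹ * x * m⁻¹⁻¹ = c⁻¹ * x * c := by
    have hbx : b⁻¹ * x * b = x := by
      rw [mul_assoc, ← Subgroup.mem_centralizer_singleton_iff.mp hbC, inv_mul_cancel_left]
    calc m⁻¹ * x * m⁻¹⁻¹ = m⁻¹ * (b⁻¹ * x * b) * m⁻¹⁻¹ := by rw [hbx]
      _ = (b * m)⁻¹ * x * (b * m) := by group
      _ = _ := by rw [hm, mul_inv_cancel_left]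
  rwa [e1, e2] at h

/-- `M̃ ∩ Ñ = ∅` for non-conjugate `M`, `N`. -/
theorem tilde_disjoint (hG : Cfsg.IsMinSimpleOddOrder G) (hM : IsCoatom M) {N : Subgroup G} (hN : IsCoatom N)
    (hnc : ∀ g : G, N ≠ cj g M) :
    Cfsg.tildeOf M ((Cfsg.sigmaCore M : Set G) \ {1}) ∩ Cfsg.tildeOf N ((Cfsg.sigmaCore N : Set G) \ {1}) = ∅ := by
  refine Set.eq_empty_iff_forall_notMem.mpr ?_
  rintro z ⟨⟨a, ⟨ha, ha1⟩, r, hr, y, rfl⟩, b, ⟨hb, hb1⟩, s, hs, y', e⟩
  set c := y⁻¹ * y' with hc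
  have hb' : c * b * c⁻¹ ∈ Cfsg.sigmaCore (cj c N) := by
    rw [sigmaCore_cj hG hN c]
    exact ⟨b, hb, by simp⟩
  have e' : a * r = c * b * c⁻¹ * (c * s * c⁻¹) := by
    calc a * r = y⁻¹ * (y * (a * r) * y⁻¹) * y := by group
      _ = y⁻¹ * (y' * (b * s) * y'⁻¹) * y := by rw [e]
      _ = _ := by rw [hc]; group
  obtain ⟨g, hg⟩ := (SupportCosets.conj_or_cross hG hM (SigmaFusion.isCoatom_cj hN c) ha ha1 hb'
    (fun h => hb1 (conj_eq_one_iff.mp h)) hr (support_cj hG hN hb hb1 c hs) e').1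
  refine hnc (c⁻¹ * g) ?_
  rw [← SigmaFusion.cj_cj, ← hg, SigmaFusion.cj_cj, inv_mul_cancel, SigmaFusion.cj_one]

/-- BG 14.5: `|M̃| = (|M_σ| - 1) |G : M|`. -/
theorem count (hG : Cfsg.IsMinSimpleOddOrder G) (hM : IsCoatom M) :
    Set.ncard (Cfsg.tildeOf M ((Cfsg.sigmaCore M : Set G) \ {1})) = (Nat.card (Cfsg.sigmaCore M) - 1) * M.index := by
  classical
  set Mσ := Cfsg.sigmaCore M with hMσ
  let X := {x' : G // ∃ y : G, y⁻¹ * x' * y ∈ Mσ ∧ x' ≠ 1}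
  let y : X → G := fun x' => Classical.choose x'.2
  let x₀ : X → G := fun x' => (y x')⁻¹ * x'.1 * y x'
  have hy : ∀ x' : X, x₀ x' ∈ Mσ := fun x' => (Classical.choose_spec x'.2).1
  have hy1 : ∀ x' : X, x₀ x' ≠ 1 := fun x' e => (Classical.choose_spec x'.2).2 (by
    rw [show x'.1 = y x' * x₀ x' * (y x')⁻¹ by simp only [x₀]; group, e, mul_one, mul_inv_cancel])
  let D := Σ x' : X, ↥(Cfsg.supportR M (x₀ x'))
  let W := G × {x : G // x ∈ (Mσ : Set G) \ {1}}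
  have hσM := SigmaTools.sigmaCore_le M
  -- the first bijection
  have hF : Nat.card (D × M) = Nat.card W := by
    refine Nat.card_congr (Equiv.ofBijective (fun d => (y d.1.1 * d.1.2.1 * d.2.1,
      ⟨(d.2.1)⁻¹ * x₀ d.1.1 * d.2.1, ?_, fun e => hy1 d.1.1 ?_⟩)) ⟨?_, ?_⟩)
    · have := (Subgroup.mem_normalizer_iff.mp (SigmaTools.le_normalizer_sigmaCore M (inv_mem d.2.2)) _).mp (hy d.1.1)
      rwa [inv_inv] at this
    · rw [show x₀ d.1.1 = d.2.1 * ((d.2.1)⁻¹ * x₀ d.1.1 * d.2.1) * (d.2.1)⁻¹ by group, Set.mem_singleton_iff.mp e]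
      group
    · rintro ⟨⟨x1, r1⟩, m1⟩ ⟨⟨x2, r2⟩, m2⟩ e
      obtain ⟨eg, ex⟩ := Prod.ext_iff.mp e
      have ex' : m1.1⁻¹ * x₀ x1 * m1.1 = m2.1⁻¹ * x₀ x2 * m2.1 := congrArg Subtype.val ex
      have key : ∀ (x : X) (r : ↥(Cfsg.supportR M (x₀ x))) (m : M),
          x.1 = (y x * r.1 * m.1) * (m.1⁻¹ * x₀ x * m.1) * (y x * r.1 * m.1)⁻¹ := fun x r m => by
        have hrx := (SupportCosets.support_commute hG hM (hy x) (hy1 x) r.2).eq
        calc x.1 = y x * x₀ x * (y x)⁻¹ := by simp only [x₀]; group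
          _ = y x * (x₀ x * r.1) * r.1⁻¹ * (y x)⁻¹ := by group
          _ = y x * (r.1 * x₀ x) * r.1⁻¹ * (y x)⁻¹ := by rw [hrx]
          _ = _ := by group
      have hxx : x1 = x2 := Subtype.ext (by
        refine (key x1 r1 m1).trans (Eq.trans ?_ (key x2 r2 m2).symm)
        rw [ex', show y x1 * r1.1 * m1.1 = y x2 * r2.1 * m2.1 from eg])
      subst hxx
      have h1 : r1.1⁻¹ * r2.1 = m1.1 * m2.1⁻¹ := by
        have h2 : r1.1 * m1.1 = r2.1 * m2.1 := by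
          have := eg
          simp only [mul_assoc] at this
          exact mul_left_cancel this
        calc r1.1⁻¹ * r2.1 = r1.1⁻¹ * (r2.1 * m2.1) * m2.1⁻¹ := by group
          _ = r1.1⁻¹ * (r1.1 * m1.1) * m2.1⁻¹ := by rw [h2]
          _ = _ := by group
      have hr : r1.1 = r2.1 := support_inj hG hM (hy x1) (hy1 x1) r1.2 r2.2 (h1 ▸ mul_mem m1.2 (inv_mem m2.2))
      have hr' : r1 = r2 := Subtype.ext hr
      subst hr'
      have hm : m1 = m2 := Subtype.ext (mul_left_cancel eg)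
      subst hm
      rfl
    · rintro ⟨g, x, hx, hx1⟩
      let x' : X := ⟨g * x * g⁻¹, g, by simpa [mul_assoc] using hx,
        fun e => hx1 (Set.mem_singleton_iff.mpr (conj_eq_one_iff.mp e))⟩
      have e0 : ((y x')⁻¹ * g)⁻¹ * x₀ x' * ((y x')⁻¹ * g) = x := by simp only [x₀, x']; group
      obtain ⟨r, hr, hm⟩ := exists_support hG hM (hy x') (hy1 x') (c := (y x')⁻¹ * g) (e0.symm ▸ hσM hx)
      have hrx := (SupportCosets.support_commute hG hM (hy x') (hy1 x') hr).eq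
      refine ⟨(⟨x', ⟨r, hr⟩⟩, ⟨_, hm⟩), Prod.ext ?_ (Subtype.ext ?_)⟩
      · show y x' * r * (r⁻¹ * ((y x')⁻¹ * g)) = g
        group
      · show (r⁻¹ * ((y x')⁻¹ * g))⁻¹ * x₀ x' * (r⁻¹ * ((y x')⁻¹ * g)) = x
        calc _ = ((y x')⁻¹ * g)⁻¹ * (r * x₀ x' * r⁻¹) * ((y x')⁻¹ * g) := by group
          _ = ((y x')⁻¹ * g)⁻¹ * x₀ x' * ((y x')⁻¹ * g) := by rw [← hrx, mul_inv_cancel_right]
          _ = x := e0
  -- the second bijection
  have hH : Nat.card D = Set.ncard (Cfsg.tildeOf M ((Mσ : Set G) \ {1})) := by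
    rw [← Nat.card_coe_set_eq]
    refine Nat.card_congr (Equiv.ofBijective (fun d => ⟨y d.1 * (x₀ d.1 * d.2.1) * (y d.1)⁻¹,
      x₀ d.1, ⟨hy d.1, hy1 d.1⟩, d.2.1, d.2.2, y d.1, rfl⟩) ⟨?_, ?_⟩)
    · rintro ⟨x1, r1⟩ ⟨x2, r2⟩ e
      have e' : y x1 * (x₀ x1 * r1.1) * (y x1)⁻¹ = y x2 * (x₀ x2 * r2.1) * (y x2)⁻¹ := congrArg Subtype.val e
      have hco : ∀ a : G, ∀ b : G, orderOf (a * b * a⁻¹) = orderOf b := fun a b =>
        MulEquiv.orderOf_eq (MulAut.conj a) b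
      have hcomm : ∀ (x : X) (r : ↥(Cfsg.supportR M (x₀ x))),
          Commute (y x * x₀ x * (y x)⁻¹) (y x * r.1 * (y x)⁻¹) := fun x r =>
        (SupportCosets.support_commute hG hM (hy x) (hy1 x) r.2).map (MulAut.conj (y x)).toMonoidHom
      obtain ⟨hx, hr⟩ := parts_eq (π := Cfsg.sigma M) (hcomm x1 r1) (hcomm x2 r2)
        (by rw [show ∀ a b c : G, a * b * a⁻¹ * (a * c * a⁻¹) = a * (b * c) * a⁻¹ from fun a b c => by group,
          show ∀ a b c : G, a * b * a⁻¹ * (a * c * a⁻¹) = a * (b * c) * a⁻¹ from fun a b c => by group]; exact e')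
        (fun t ht hd => sigma_number (hy x1) t ht (hco _ _ ▸ hd))
        (fun t ht hd => support_number hG hM (hy x1) (hy1 x1) r1.2 t ht (hco _ _ ▸ hd))
        (fun t ht hd => sigma_number (hy x2) t ht (hco _ _ ▸ hd))
        (fun t ht hd => support_number hG hM (hy x2) (hy1 x2) r2.2 t ht (hco _ _ ▸ hd))
      have hxx : x1 = x2 := Subtype.ext (by simpa [x₀, mul_assoc] using hx)
      subst hxx
      have hr' : r1 = r2 := Subtype.ext (mul_left_cancel (mul_right_cancel hr))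
      subst hr'
      rfl
    · rintro ⟨z, a, ⟨ha, ha1⟩, r, hr, g, rfl⟩
      let x' : X := ⟨g * a * g⁻¹, g, by simpa [mul_assoc] using ha,
        fun e => ha1 (Set.mem_singleton_iff.mpr (conj_eq_one_iff.mp e))⟩
      have e0 : (g⁻¹ * y x')⁻¹ * a * (g⁻¹ * y x') = x₀ x' := by simp only [x₀, x']; group
      have hr' := transport hG hM ha (fun e => ha1 (Set.mem_singleton_iff.mpr e)) (c := g⁻¹ * y x')
        (e0.symm ▸ hσM (hy x')) hr
      rw [e0] at hr'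
      refine ⟨⟨x', ⟨_, hr'⟩⟩, Subtype.ext ?_⟩
      show y x' * (x₀ x' * ((g⁻¹ * y x')⁻¹ * r * (g⁻¹ * y x'))) * (y x')⁻¹ = g * (a * r) * g⁻¹
      rw [← e0]
      group
  have hW : Nat.card W = Nat.card G * (Nat.card Mσ - 1) := by
    rw [show Nat.card W = Nat.card G * Nat.card {x : G // x ∈ (Mσ : Set G) \ {1}} from Nat.card_prod _ _]
    congr 1
    rw [show Nat.card {x : G // x ∈ (Mσ : Set G) \ {1}} = Set.ncard ((Mσ : Set G) \ {1}) from Nat.card_coe_set_eq _,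
      Set.ncard_diff_singleton_of_mem (one_mem Mσ), ← Nat.card_coe_set_eq]
    rfl
  rw [Nat.card_prod, hH, hW, ← M.card_mul_index] at hF
  refine Nat.eq_of_mul_eq_mul_left (Nat.card_pos (α := M)) ?_
  rw [mul_comm, hF]
  ring

end CfsgLib.OddOrder.SupportCount
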