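import Cfsg.Agent.Lib.OddOrder.TauTwoNonabelian
import Cfsg.Agent.Lib.OddOrder.RankTwo
import Cfsg.Agent.S1417
import Mathlib

set_option autoImplicit false
set_option linter.style.haveILetI false
set_option linter.unusedSectionVars false

/-!
`τ₂(M)`-elements centralise the planes of a complement.
-/

namespace CfsgLib.OddOrder.TauTwoAbelian

open scoped commutatorElement
open A2Transitive (MaxPlane)
open SigmaFusion (cj)
open Exceptional (Exc)

variable {G : Type*} [Group G] [Finite G] {M E : Subgroup G}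

/-- A complement contains planes for the primes of `τ₂(M)`. -/
theorem exists_plane {r : ℕ} [hr : Fact r.Prime] (hE : Cfsg.IsComplIn E (Cfsg.sigmaCore M) M)
    (hτ : r ∈ Cfsg.tau2 M) :
    ∃ B : Subgroup G, B ≤ E ∧ Cfsg.IsElementaryAbelian r B ∧ Nat.card B = r ^ 2 := by
  obtain ⟨T⟩ : Nonempty (Sylow r E) := inferInstance
  have hTM : (T : Subgroup E).map E.subtype ≤ M := (Subgroup.map_subtype_le _).trans hE.1
  have hTc : Nat.card ↥((T : Subgroup E).map E.subtype) = r ^ (Nat.card M).factorization r := by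
    rw [Coprime.card_map_subtype, T.card_eq_multiplicity]
    congr 1
    rw [← Subgroup.card_mul_index (Cfsg.piCore (Cfsg.sigma M) M), Nat.factorization_mul Nat.card_pos.ne'
      Subgroup.index_ne_zero_of_finite, Finsupp.add_apply, ← SigmaComplement.card_E hE,
      Nat.factorization_eq_zero_of_not_dvd fun hd => hτ.2.1 (SigmaBasics.mem_of_dvd_piCore hr.out hd), zero_add]
  obtain ⟨S₀, hS₀⟩ := Coprime.exists_sylow_map_eq hTM hTc
  have hr1 : ¬ Cfsg.PRankLE r 1 (S₀ : Subgroup M) := fun h => hτ.2.2.2 (SigmaFusion.pRankLE_of_sylow S₀ h)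
  obtain ⟨D, hD, hDe, hD2⟩ := UniqueTools.exists_isEA_of_not_rankLE hr1
  set B := D.map M.subtype with hB
  have hBe : Cfsg.IsElementaryAbelian r B := Fusion.Thompson.isEA_map _ hDe
  have hBE : B ≤ E := ((Subgroup.map_mono hD).trans hS₀.le).trans (Subgroup.map_subtype_le _)
  refine ⟨B, hBE, hBe, le_antisymm (RankTwo.card_le_sq hτ.2.2.1 hBe (hBE.trans hE.1)) ?_⟩
  rwa [hB, Subgroup.card_map_of_injective M.subtype_injective]

variable {p : ℕ} [hp : Fact p.Prime] {A : Subgroup G}

/-- The elements of `N(A)'` of order prime to `p` centralise `A`. -/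
theorem derived_le_centralizer (hG : Cfsg.IsMinSimpleOddOrder G) (hA : MaxPlane p A) {x : G}
    (hx : x ∈ ⁅Subgroup.normalizer (A : Set G), Subgroup.normalizer (A : Set G)⁆) (hxp : (orderOf x).Coprime p) :
    x ∈ Subgroup.centralizer (A : Set G) := by
  set N := Subgroup.normalizer (A : Set G) with hN
  haveI : Group.IsSolvable N := hG.2.2.2 N (A2Transitive.max_ne_top hG hp.out hA.isPGroup hA.ne_bot)
  haveI := hA.ea.1
  letI : CommGroup A := { mul_comm := fun a b => hA.ea.1.1.comm a b }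
  obtain ⟨y, hy, rfl⟩ := (Subgroup.map_subtype_commutator N).ge hx
  obtain ⟨k, hk⟩ := RankTwo.exists_pow_trivial (Uniqueness.odd_of_le hG.1 N)
    (Q := A) (fun a => Subtype.ext (by simpa using hA.ea.2 a a.2)) (Or.inr hA.card) A.normalizerMonoidHom hy
  have hy1 : A.normalizerMonoidHom y = 1 := by
    refine orderOf_eq_one_iff.mp (Nat.eq_one_of_dvd_coprimes (Nat.Coprime.pow_right k ?_)
      (orderOf_map_dvd A.normalizerMonoidHom y) (orderOf_dvd_of_pow_eq_one (by rw [← map_pow, hk])))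
    rwa [← Subgroup.orderOf_coe]
  refine Subgroup.mem_centralizer_iff.mpr fun a ha => ?_
  have h0 : ((A.normalizerMonoidHom y ⟨a, ha⟩ : A) : G) = a := by rw [hy1]; rfl
  have h1 : (y : G) * a * (y : G)⁻¹ = a := h0
  calc a * (y : G) = ((y : G) * a * (y : G)⁻¹) * y := by rw [h1]
    _ = (y : G) * a := by group

theorem abelian_of_two {q : ℕ} (hG : Cfsg.IsMinSimpleOddOrder G) (hE : Cfsg.IsComplIn E (Cfsg.sigmaCore M) M)
    {A₀ : Subgroup G} (h : Exc p M A A₀) (hAE : A ≤ E) (hqτ : q ∈ Cfsg.tau2 M) (hne : q ≠ p) {S : Sylow p G}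
    (hAS : A ≤ (S : Subgroup G)) : IsMulCommutative (S : Subgroup G) := by
  by_contra hna
  have := TauTwoNonabelian.tau2_eq hG h hAS hna hE hAE
  exact hne (this.le hqτ)

theorem normalizer_le_of_two {q : ℕ} [hq : Fact q.Prime] (hG : Cfsg.IsMinSimpleOddOrder G)
    (hE : Cfsg.IsComplIn E (Cfsg.sigmaCore M) M)
    {A₀ B B₀ : Subgroup G} (h : Exc p M A A₀) (hAE : A ≤ E) (h' : Exc q M B B₀) (hBE : B ≤ E) (hne : q ≠ p) :
    Subgroup.normalizer (A : Set G) ≤ Subgroup.normalizer (B : Set G) := by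
  have hEA := TauTwoStructure.normal_in_complement hG h hE hAE
  have hEB := TauTwoStructure.normal_in_complement hG h' hE hBE
  have hB' := h'.maxPlane hG
  have hBA : B ≤ Subgroup.centralizer (A : Set G) := by
    refine Subgroup.commutator_eq_bot_iff_le_centralizer.mp (le_bot_iff.mp ?_)
    rw [← (Subgroup.disjoint_of_coprime_natCard (G := G) (H := B) (K := A) (by
      rw [h'.card, h.card]; exact ((Nat.coprime_primes hq.out hp.out).mpr hne).pow 2 2)).eq_bot]
    exact le_inf (Subgroup.le_normalizer_iff_commutator_le_left.1 (hAE.trans hEB))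
      (Subgroup.le_normalizer_iff_commutator_le_right.1 (hBE.trans hEA))
  have hCE : Subgroup.centralizer (A : Set G) ≤ E := (le_inf h.centralizer_le
    (Subgroup.centralizer_le_normalizer _)).trans (TauTwoStructure.inf_normalizer_eq hG h hE hAE).le
  intro g hg
  refine NormalizerFusion.mem_normalizer_of_conj fun b hb => ?_
  have hc : g * b * g⁻¹ ∈ Subgroup.centralizer (A : Set G) :=
    (Subgroup.mem_normalizer_iff.mp (WLine.normalizer_le_normalizer_centralizer A hg) b).mp (hBA hb)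
  have hbq : (g * b * g⁻¹) ^ q = 1 := by rw [conj_pow, h'.ea.2 b hb]; group
  exact hB'.mem_of_commute hbq (TauTwoStructure.pGroup_le_centralizer hG h'
    (IsPGroup.of_card_dvd_pow (n := 1) (by rw [Nat.card_zpowers, pow_one]; exact orderOf_dvd_of_pow_eq_one hbq))
    (Subgroup.zpowers_le.mpr (hE.1 (hCE hc))) (Subgroup.zpowers_le.mpr (hEB (hCE hc))) (Subgroup.mem_zpowers _))

/-- The `τ₂(M)`-subgroups of prime power order of `E` centralise `A`. -/
theorem centralizes {q : ℕ} [hq : Fact q.Prime] (hG : Cfsg.IsMinSimpleOddOrder G)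
    (hE : Cfsg.IsComplIn E (Cfsg.sigmaCore M) M) {A₀ : Subgroup G} (h : Exc p M A A₀) (hAE : A ≤ E)
    (hqτ : q ∈ Cfsg.tau2 M) {R : Subgroup G} (hR : IsPGroup q R) (hRE : R ≤ E) :
    R ≤ Subgroup.centralizer (A : Set G) := by
  have hM := h.coatom
  have hEA := TauTwoStructure.normal_in_complement hG h hE hAE
  by_cases hne : q = p
  · subst hne
    exact TauTwoStructure.pGroup_le_centralizer hG h hR (hRE.trans hE.1) (hRE.trans hEA)
  obtain ⟨B, hBE, hBe, hBc⟩ := exists_plane hE hqτ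
  obtain ⟨B₀, h'⟩ := TauTwoStructure.exists_exc hG hM hqτ.2.1 (hBE.trans hE.1) hBe hBc
  have hB' := h'.maxPlane hG
  obtain ⟨T, hBT⟩ := hB'.isPGroup.exists_le_sylow
  have hTab := abelian_of_two hG hE h' hBE ⟨hp.out, h.not_sigma, h.rank_two hG,
    UniqueTools.not_pRankLE_of_isEA h.ea h.card.ge h.le⟩ (Ne.symm hne) hBT
  have hNT := (PlaneSylow.abelian_case hG hB' hBT hTab).2.1.trans
    (normalizer_le_of_two hG hE h' hBE h hAE (Ne.symm hne))
  have hTC : (T : Subgroup G) ≤ Subgroup.centralizer (A : Set G) := fun t ht => by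
    refine derived_le_centralizer hG (h.maxPlane hG)
      (Subgroup.commutator_mono hNT hNT (NormalizerFusion.sylow_le_derived hG T ht)) ?_
    obtain ⟨k, hk⟩ := IsPGroup.iff_orderOf.mp T.isPGroup' ⟨t, ht⟩
    rw [Subgroup.orderOf_mk] at hk
    rw [hk]
    exact ((Nat.coprime_primes hq.out hp.out).mpr hne).pow_left k
  have hTE : (T : Subgroup G) ≤ E := hTC.trans ((le_inf h.centralizer_le
    (Subgroup.centralizer_le_normalizer _)).trans (TauTwoStructure.inf_normalizer_eq hG h hE hAE).le)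
  haveI : ((Subgroup.centralizer (A : Set G)).subgroupOf E).Normal := by
    refine ⟨fun x hx g => ?_⟩
    rw [Subgroup.mem_subgroupOf] at hx ⊢
    exact (Subgroup.mem_normalizer_iff.mp (WLine.normalizer_le_normalizer_centralizer A (hEA g.2)) (x : G)).mp hx
  obtain ⟨k, hk⟩ := hR.exists_card_eq
  have hidx : ¬ q ∣ ((Subgroup.centralizer (A : Set G)).subgroupOf E).index := fun hd =>
    (T.subtype hTE).not_dvd_index (hd.trans (Subgroup.index_dvd_of_le (by
      rw [Sylow.coe_subtype]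
      exact fun x hx => hTC hx)))
  intro x hx
  exact SigmaCore.le_of_coprime_index (K := R.subgroupOf E) (by
    rw [Nat.card_congr (Subgroup.subgroupOfEquivOfLe hRE).toEquiv, hk]
    exact (hq.out.coprime_iff_not_dvd.mpr hidx).pow_left k) (x := ⟨x, hRE hx⟩) hx

/-- `τ₂(M)`-elements of `E` centralise `A`. -/
theorem mem_centralizer (hG : Cfsg.IsMinSimpleOddOrder G)
    (hE : Cfsg.IsComplIn E (Cfsg.sigmaCore M) M) {A₀ : Subgroup G} (h : Exc p M A A₀) (hAE : A ≤ E)
    {y : G} (hyE : y ∈ E) (hy : ∀ q : ℕ, q.Prime → q ∣ orderOf y → q ∈ Cfsg.tau2 M) :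
    y ∈ Subgroup.centralizer (A : Set G) := by
  set Y := Subgroup.zpowers y with hY
  have htop : (Subgroup.centralizer (A : Set G)).subgroupOf Y = ⊤ := by
    refine Solvable.Cores.eq_top_of_sylow_le _ fun q hq => ?_
    haveI := Fact.mk hq
    obtain ⟨T⟩ : Nonempty (Sylow q Y) := inferInstance
    refine ⟨T, fun z hz => ?_⟩
    rcases T.isPGroup'.card_eq_or_dvd with h1 | h1
    · rw [Subgroup.eq_bot_of_card_eq _ h1, Subgroup.mem_bot] at hz
      rw [hz]; exact one_mem _
    have hqy : q ∣ orderOf y := by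
      rw [← Nat.card_zpowers]
      exact h1.trans (Subgroup.card_subgroup_dvd_card _)
    exact centralizes hG hE h hAE (hy q hq hqy) (T.isPGroup'.map Y.subtype)
      ((Subgroup.map_subtype_le _).trans (Subgroup.zpowers_le.mpr hyE)) ⟨z, hz, rfl⟩
  exact (htop.ge (Subgroup.mem_top (⟨y, Subgroup.mem_zpowers y⟩ : Y)) :)

omit hp in
/-- Subgroups of prime power order for primes outside `σ(M)` are abelian. -/
theorem pGroup_abelian {q : ℕ} [hq : Fact q.Prime] (hG : Cfsg.IsMinSimpleOddOrder G) (hM : IsCoatom M)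
    (hqs : q ∉ Cfsg.sigma M) {R : Subgroup G} (hR : IsPGroup q R) (hRM : R ≤ M) : IsMulCommutative R := by
  have hr2 : Cfsg.PRankLE q 2 M := by
    by_contra hr2
    exact hqs (SigmaBasics.mem_sigma_of_alpha hG hM ⟨hq.out, hr2⟩)
  by_cases hr1 : Cfsg.PRankLE q 1 M
  · haveI := SigmaComplement.isCyclic_of_rank_one hG.1 hRM hR hr1
    infer_instance
  obtain ⟨B, hBM, hBe, hB2⟩ := UniqueTools.exists_isEA_of_not_rankLE hr1
  obtain ⟨S, hS⟩ := (hR.of_equiv (Subgroup.subgroupOfEquivOfLe hRM).symm).exists_le_sylow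
  obtain ⟨hab, -⟩ := (Cfsg.Agent.S1417.result hG M hM q ⟨hq.out, hqs, hr2, hr1⟩ B
    ⟨hBM, hBe, le_antisymm (RankTwo.card_le_sq hr2 hBe hBM) hB2⟩).2.1 S
  refine ⟨⟨fun a b => Subtype.ext ?_⟩⟩
  exact congrArg (Subgroup.subtype M) (PlaneSylow.comm_of hab (a := (⟨a, hRM a.2⟩ : M)) (b := ⟨b, hRM b.2⟩)
    (hS (Subgroup.mem_subgroupOf.mpr a.2)) (hS (Subgroup.mem_subgroupOf.mpr b.2))).eq

omit hp in
/-- Nilpotent `σ(M)'`-subgroups are abelian. -/
theorem nilpotent_abelian (hG : Cfsg.IsMinSimpleOddOrder G) (hM : IsCoatom M) {N : Subgroup G}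
    [hn : Group.IsNilpotent N] (hNM : N ≤ M) (hN : ∀ t : ℕ, t.Prime → t ∣ Nat.card N → t ∉ Cfsg.sigma M) :
    IsMulCommutative N := by
  have htop : Subgroup.center N = ⊤ := by
    refine Solvable.Cores.eq_top_of_sylow_le _ fun q hq => ?_
    haveI := Fact.mk hq
    obtain ⟨T⟩ : Nonempty (Sylow q N) := inferInstance
    refine ⟨T, fun z hz => ?_⟩
    rcases T.isPGroup'.card_eq_or_dvd with h1 | h1
    · rw [Subgroup.eq_bot_of_card_eq _ h1, Subgroup.mem_bot] at hz
      rw [hz]; exact one_mem _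
    have hTab := pGroup_abelian hG hM (hN q hq (h1.trans (Subgroup.card_subgroup_dvd_card _)))
      (T.isPGroup'.map N.subtype) ((Subgroup.map_subtype_le _).trans hNM)
    have hC : Subgroup.centralizer ({z} : Set N) = ⊤ := by
      refine Solvable.Cores.eq_top_of_sylow_le _ fun r hr => ?_
      haveI := Fact.mk hr
      by_cases hrq : r = q
      · subst hrq
        refine ⟨T, fun w hw => Subgroup.mem_centralizer_singleton_iff.mpr (N.subtype_injective ?_)⟩
        exact (PlaneSylow.comm_of hTab ⟨w, hw, rfl⟩ ⟨z, hz, rfl⟩).eq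
      · obtain ⟨U⟩ : Nonempty (Sylow r N) := inferInstance
        refine ⟨U, fun w hw => Subgroup.mem_centralizer_singleton_iff.mpr ?_⟩
        refine (Basic.commute_of_coprime_orderOf ?_).eq
        obtain ⟨i, hi⟩ := IsPGroup.iff_orderOf.mp U.isPGroup' ⟨w, hw⟩
        obtain ⟨j, hj⟩ := IsPGroup.iff_orderOf.mp T.isPGroup' ⟨z, hz⟩
        rw [Subgroup.orderOf_mk] at hi hj
        rw [hi, hj]
        exact ((Nat.coprime_primes hr hq).mpr hrq).pow _ _
    exact Subgroup.mem_center_iff.mpr fun g =>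
      Subgroup.mem_centralizer_singleton_iff.mp (hC.ge (Subgroup.mem_top g))
  exact ⟨⟨fun a b => (Subgroup.mem_center_iff.mp (htop.ge (Subgroup.mem_top a)) b).symm⟩⟩

end CfsgLib.OddOrder.TauTwoAbelian
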