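import Cfsg.Agent.Lib.OddOrder.StarFrobenius
import Cfsg.Agent.Lib.OddOrder.SupportCount
import Cfsg.Agent.S1420
import Mathlib

set_option autoImplicit false
set_option linter.style.haveILetI false
set_option linter.unusedSectionVars false

/-!
The primes of `σ(N) ∩ π(M)` for the maximal subgroup `N` over `C(x)`, `x ∈ M_σ`.
-/

namespace CfsgLib.OddOrder.SigmaNeighbour

open scoped commutatorElement
open SigmaFusion (cj)
open RankOneTools (isPGroup_of_card line_of_orderOf)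
open SigmaCentralizer (Over)
open A2Transitive (MaxPlane)

variable {G : Type*} [Group G] [Finite G] {M N : Subgroup G} {x : G}

theorem kappa_cj (hG : Cfsg.IsMinSimpleOddOrder G) (hM : IsCoatom M) {t : ℕ} (h : t ∈ Cfsg.kappa M) (g : G) :
    t ∈ Cfsg.kappa (cj g M) := by
  haveI := Fact.mk h.1
  obtain ⟨f, hf⟩ := exists_prime_orderOf_dvd_card' (G := M) t h.2.1
  have hfo : orderOf (f : G) = t := by rw [Subgroup.orderOf_coe, hf]
  obtain ⟨y, hy, hy1⟩ := (Subgroup.bot_or_exists_ne_one _).resolve_left (KappaHall.kappa_fix h f.2 hfo)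
  refine KappaHall.mem_kappa hG (SigmaTools.not_sigma_cj h.2.2.1 g)
    (NarrowSylow.pRankLE_congr (Subgroup.equivMapOfInjective M (MulAut.conj g).toMonoidHom (MulAut.conj g).injective)
      (KappaHall.kappa_rank_one h)) (f := g * f * g⁻¹) ⟨f, f.2, rfl⟩
    (by rw [← MulAut.conj_apply, MulEquiv.orderOf_eq, hfo]) fun e => hy1 ?_
  have hmem : g * y * g⁻¹ ∈ Cfsg.sigmaCore (cj g M) ⊓ Subgroup.centralizer ({g * f * g⁻¹} : Set G) := by
    refine ⟨?_, Subgroup.mem_centralizer_singleton_iff.mpr ?_⟩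
    · rw [SupportCount.sigmaCore_cj hG hM g]
      exact ⟨y, hy.1, rfl⟩
    · exact ((show Commute y (f : G) from Subgroup.mem_centralizer_singleton_iff.mp hy.2).map
        (MulAut.conj g).toMonoidHom).eq
  exact conj_eq_one_iff.mp (Subgroup.mem_bot.mp (e.le hmem))

theorem not_beta_of_plane {p : ℕ} [Fact p.Prime] {B : Subgroup G} (hB : MaxPlane p B) : p ∉ Cfsg.beta M := fun h => by
  obtain ⟨P, hP⟩ := hB.isPGroup.exists_le_sylow
  obtain ⟨B', -, hB'e, hlt⟩ := h.2.2.2 P B hP hB.ea hB.card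
  exact hlt.ne (hB.max B' hB'e hlt.le).symm

/-- Outside `β(M)`, with `M_σ` nilpotent, larger primes centralise the `p`-subgroups of `M_σ`. -/
theorem centralizes_of_lt (hG : Cfsg.IsMinSimpleOddOrder G) (hM : IsCoatom M) {p t : ℕ} [Fact p.Prime]
    [Fact t.Prime] (hb : p ∉ Cfsg.beta M) (hn : Group.IsNilpotent (Cfsg.sigmaCore M)) {F X : Subgroup G}
    (hF : IsPGroup p F) (hFM : F ≤ Cfsg.sigmaCore M) (hX : IsPGroup t X) (hXM : X ≤ M) (hlt : p < t) :
    X ≤ Subgroup.centralizer (F : Set G) := by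
  by_cases hF1 : F = ⊥
  · intro a _
    rw [Subgroup.mem_centralizer_iff]
    intro f hf
    rw [hF1, SetLike.mem_coe, Subgroup.mem_bot] at hf
    rw [hf, one_mul, mul_one]
  have hpM : p ∣ Nat.card M := (hF.card_eq_or_dvd.resolve_left (mt Subgroup.card_eq_one.mp hF1)).trans
    (Subgroup.card_dvd_of_le (hFM.trans (SigmaTools.sigmaCore_le M)))
  have h3 := (NarrowMaximal.main hG hM hpM hb).2.2
  have hXO : X.subgroupOf M ≤ Cfsg.pPrimeCore p M := by
    refine SigmaCore.le_of_coprime_index (Nat.coprime_of_dvd fun s hs h1 h2 => ?_)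
    rw [Nat.card_congr (Subgroup.subgroupOfEquivOfLe hXM).toEquiv] at h1
    rw [PrimeAction.pGroup_dvd hX hs h1] at h2
    exact absurd (h3 t Fact.out h2) (not_le.mpr hlt)
  haveI : Group.IsNilpotent ((Cfsg.piCore (Cfsg.sigma M) M).map M.subtype) := hn
  haveI : Group.IsNilpotent (Cfsg.piCore (Cfsg.sigma M) M) :=
    Group.nilpotent_of_mulEquiv
      (Subgroup.equivMapOfInjective (Cfsg.piCore (Cfsg.sigma M) M) M.subtype M.subtype_injective).symm
  intro a ha
  rw [Subgroup.mem_centralizer_iff]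
  intro f hf
  obtain ⟨f', hf', rfl⟩ := hFM hf
  have hfp : f' ∈ Cfsg.pCore p M := by
    refine RankTwoGlobal.mem_pCore_of_mem hf' ?_
    obtain ⟨k, hk⟩ := hF ⟨_, hf⟩
    obtain ⟨j, -, hj⟩ := (Nat.dvd_prime_pow Fact.out).mp (orderOf_dvd_of_pow_eq_one
      (show (f' : M) ^ p ^ k = 1 from Subtype.ext (by simpa using congrArg Subtype.val hk)))
    exact ⟨j, hj⟩
  have hdisj : Disjoint (Cfsg.pCore p M) (Cfsg.pPrimeCore p M) := by
    rw [disjoint_iff]
    obtain ⟨k, hk⟩ := (Solvable.Cores.isPGroup_pCore (G := M) p).exists_card_eq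
    refine (Subgroup.disjoint_of_coprime_natCard ?_).eq_bot
    rw [hk]
    exact (Solvable.Cores.coprime_card_pPrimeCore (G := M) p).symm.pow_left k
  exact congrArg Subtype.val (Subgroup.commute_of_normal_of_disjoint _ _ inferInstance inferInstance hdisj f'
    ⟨a, hXM ha⟩ hfp (hXO ha)).eq

/-- A prime of `σ(N)` dividing `|M|` lies in `β(N)`. -/
theorem mem_beta (hG : Cfsg.IsMinSimpleOddOrder G) (hM : IsCoatom M) (hn : Group.IsNilpotent (Cfsg.sigmaCore M))
    (hx : x ∈ Cfsg.sigmaCore M) (hx1 : x ≠ 1) (hov : Over M N x) {q : ℕ} (hq : q ∈ Cfsg.sigma N)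
    (hqM : q ∣ Nat.card M) : q ∈ Cfsg.beta N := by
  by_contra hb
  haveI := Fact.mk hq.1
  obtain ⟨r, hr, hrd⟩ := Nat.exists_prime_and_dvd (mt orderOf_eq_one_iff.mp hx1)
  haveI := Fact.mk hr
  have hτ := hov.tau2 r hr hrd
  have hrM : r ∈ Cfsg.sigma M := SupportCosets.sigma_number hx r hr hrd
  obtain ⟨A, hAI, hAe, hAc⟩ := TauTwoAbelian.exists_plane hov.compl hτ
  obtain ⟨A₀, hexc⟩ := TauTwoStructure.exists_exc hG hov.coatom hτ.2.1 (hAI.trans inf_le_right) hAe hAc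
  have hmax := hexc.maxPlane hG
  have hAσ := SigmaTools.pGroup_le_sigmaCore hG hM hrM (hAI.trans inf_le_left) hmax.isPGroup
  rcases lt_trichotomy q r with h | h | h
  · obtain ⟨f, hf⟩ := exists_prime_orderOf_dvd_card' (G := Cfsg.sigmaCore N) q
      (KappaHall.dvd_card_of_hall (SigmaCore.hall hG hov.coatom).1 hq.1 hq hq.2.1)
    have hfo : orderOf (f : G) = q := by rw [Subgroup.orderOf_coe, hf]
    have hAf := centralizes_of_lt hG hov.coatom hb hov.nilpotent (isPGroup_of_card (line_of_orderOf hfo))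
      (Subgroup.zpowers_le.mpr f.2) hmax.isPGroup (hAI.trans inf_le_right) h
    have h1 : (f : G) ∈ Cfsg.sigmaCore N ⊓ Subgroup.centralizer (A : Set G) :=
      ⟨f.2, Subgroup.le_centralizer_iff.mp hAf (Subgroup.mem_zpowers _)⟩
    rw [StarNormalizer.plane_bot hG hov.coatom hτ (hAI.trans inf_le_right) hAe hAc, Subgroup.mem_bot] at h1
    rw [h1, orderOf_one] at hfo
    exact hq.1.ne_one hfo.symm
  · exact hτ.2.1 (h ▸ hq)
  · obtain ⟨e, he⟩ := exists_prime_orderOf_dvd_card' (G := M) q hqM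
    have heo : orderOf (e : G) = q := by rw [Subgroup.orderOf_coe, he]
    have heA := centralizes_of_lt hG hM (not_beta_of_plane hmax) hn hmax.isPGroup hAσ
      (isPGroup_of_card (line_of_orderOf heo)) (Subgroup.zpowers_le.mpr e.2) h
    exact SigmaCentralizer.not_mem_sigma hG hov.coatom hov.compl
      (z := (e : G)) ⟨e.2, hexc.centralizer_le (heA (Subgroup.mem_zpowers _))⟩ hq.1 (heo ▸ dvd_rfl) hq

/-- BG 14.4: `τ₂(M)` is empty. -/
theorem tau2_empty (hG : Cfsg.IsMinSimpleOddOrder G) (hM : IsCoatom M) (hκ : Cfsg.kappa M = ∅)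
    (hκN : Cfsg.kappa N = ∅) (hx : x ∈ Cfsg.sigmaCore M) (hx1 : x ≠ 1) (hov : Over M N x) {q : ℕ}
    (hq : q ∈ Cfsg.sigma N) (hqM : q ∣ Nat.card M) : Cfsg.tau2 M = ∅ := by
  by_contra hne
  obtain ⟨p, hp⟩ := Set.nonempty_iff_ne_empty.mpr hne
  haveI := Fact.mk hp.1
  haveI := Fact.mk hq.1
  obtain ⟨E, hEh⟩ := Coprime.exists_hall {t | t ∉ Cfsg.sigma M} (hG.2.2.2 M hM.1)
  have hE := SylowCentral.isComplIn_of_hall hG hM hEh
  obtain ⟨B, hBE, hBe, hBc⟩ := TauTwoAbelian.exists_plane hE hp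
  have hn := (Cfsg.Agent.S1417.result hG M hM p hp B ⟨hBE.trans hE.1, hBe, hBc⟩).1
  obtain ⟨⟨hEB, -⟩, -⟩ := Cfsg.Agent.S1418.result hG M hM E hE p hp B ⟨hBE, hBe, hBc⟩
  obtain ⟨B₀, hexc⟩ := TauTwoStructure.exists_exc hG hM hp.2.1 (hBE.trans hE.1) hBe hBc
  have hmax := hexc.maxPlane hG
  have hpN : p ∉ Cfsg.sigma N := fun h => not_beta_of_plane hmax
    (mem_beta hG hM hn hx hx1 hov h (((dvd_pow_self p two_ne_zero).trans hBc.symm.dvd).trans
      (Subgroup.card_dvd_of_le (hBE.trans hE.1))))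
  have hqb := mem_beta hG hM hn hx hx1 hov hq hqM
  have hqs : q ∉ Cfsg.sigma M := fun h =>
    SupportCosets.disjoint hG hM hov.coatom hov.nonconj hq.1 h hq
  have hq1 : Cfsg.PRankLE q 1 M := by
    by_contra hr
    obtain ⟨C, hCE, hCe, hCc⟩ := TauTwoAbelian.exists_plane hE (StarNormalizer.tau2_of hG hM hqs hr)
    obtain ⟨C₀, hC⟩ := TauTwoStructure.exists_exc hG hM hqs (hCE.trans hE.1) hCe hCc
    exact not_beta_of_plane (hC.maxPlane hG) hqb
  obtain ⟨e', he'⟩ := exists_prime_orderOf_dvd_card' (G := E) q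
    (KappaHall.dvd_card_of_hall hEh hq.1 hqs hqM)
  set e := (e' : G) with hedef
  have heo : orderOf e = q := by rw [hedef, Subgroup.orderOf_coe, he']
  have heM : e ∈ M := hE.1 e'.2
  have heB : e ∈ Subgroup.normalizer (B : Set G) := hEB e'.2
  haveI := hBe.1
  have hBp : IsPGroup p B := hmax.isPGroup
  obtain ⟨b, hb, hb1⟩ : ∃ b ∈ B ⊓ Subgroup.centralizer ({e} : Set G), b ≠ 1 := by
    refine (Subgroup.bot_or_exists_ne_one _).resolve_left fun hfix => ?_
    have hB' := StarNormalizer.fpf_centralizes hG hM hp.2.1 hBp (hBE.trans hE.1) heM (heo ▸ hq.1) (heo ▸ hqs)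
      (by
        by_contra hne'
        exact Set.eq_empty_iff_forall_notMem.mp hκ q (KappaHall.mem_kappa hG hqs hq1 heM heo hne'))
      heB hfix
    refine SigmaCore.sigmaCore_ne_bot hG hM (le_bot_iff.mp ?_)
    exact (le_inf le_rfl (Subgroup.le_centralizer_iff.mp hB')).trans
      (StarNormalizer.plane_bot hG hM hp (hBE.trans hE.1) hBe hBc).le
  -- the conjugate of `N` containing `e` in its core
  obtain ⟨P, hPN, -⟩ := SigmaFusion.exists_sylow_sigma hq
  obtain ⟨S, hS⟩ := (isPGroup_of_card (line_of_orderOf heo)).exists_le_sylow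
  obtain ⟨g, hg⟩ := MulAction.exists_smul_eq G P S
  set Y := cj g N with hYdef
  have hY : IsCoatom Y := SigmaFusion.isCoatom_cj hov.coatom g
  have hqY : q ∈ Cfsg.sigma Y := SigmaTools.sigma_cj hq g
  have heY : e ∈ Y := by
    have h1 := hS (Subgroup.mem_zpowers e)
    rw [← hg, Sylow.coe_subgroup_smul] at h1
    exact Subgroup.map_mono hPN h1
  have heYσ : e ∈ Cfsg.sigmaCore Y := SigmaTools.pGroup_le_sigmaCore hG hY hqY (Subgroup.zpowers_le.mpr heY)
    (isPGroup_of_card (line_of_orderOf heo)) (Subgroup.mem_zpowers e)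
  have hCe := SigmaTools.centralizer_le_of_ideal hG hY hqY hqb.2 heY heo
  have hbp : b ^ p = 1 := hBe.2 b hb.1
  have hbprime : ∀ t : ℕ, t.Prime → t ∣ orderOf b → t = p := fun t ht hd =>
    (Nat.prime_dvd_prime_iff_eq ht hp.1).mp (hd.trans (orderOf_dvd_of_pow_eq_one hbp))
  have hpY : p ∉ Cfsg.sigma Y := SigmaTools.not_sigma_cj hpN g
  have he1 : e ≠ 1 := fun h => hq.1.ne_one (by rw [← heo, h, orderOf_one])
  rcases SigmaDichotomy.main hG hY heYσ he1 (x' := b) ⟨hCe hb.2, hb.2⟩ hb1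
      (fun t ht hd => hbprime t ht hd ▸ hpY) with ⟨hk, -⟩ | ⟨hτY, -, hCb, -⟩
  · obtain ⟨t, ht, htd⟩ := Nat.exists_prime_and_dvd (mt orderOf_eq_one_iff.mp hb1)
    have h1 := kappa_cj hG hY (hk t ht htd) g⁻¹
    rw [hYdef, SigmaFusion.cj_cj, inv_mul_cancel, SigmaFusion.cj_one] at h1
    exact Set.eq_empty_iff_forall_notMem.mp hκN t h1
  · have hpτ : p ∈ Cfsg.tau2 Y := by
      obtain ⟨t, ht, htd⟩ := Nat.exists_prime_and_dvd (mt orderOf_eq_one_iff.mp hb1)
      exact hbprime t ht htd ▸ hτY t ht htd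
    have hBY : B ≤ Y := fun z hz => hCb
      (Subgroup.mem_centralizer_singleton_iff.mpr (PlaneSylow.comm_of hBe.1 hz hb.1).eq)
    refine he1 (Subgroup.mem_bot.mp
      ((StarNormalizer.plane_bot hG hY hpτ hBY hBe hBc).le ⟨heYσ, Subgroup.mem_centralizer_iff.mpr fun z hz => ?_⟩))
    have hmem : ⁅z, e⁆ ∈ B ⊓ Cfsg.sigmaCore Y := by
      refine ⟨?_, ?_⟩
      · rw [commutatorElement_def, show z * e * z⁻¹ * e⁻¹ = z * (e * z⁻¹ * e⁻¹) by group]
        exact B.mul_mem hz ((Subgroup.mem_normalizer_iff.mp heB _).mp (B.inv_mem hz))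
      · rw [commutatorElement_def]
        exact (Cfsg.sigmaCore Y).mul_mem ((Subgroup.mem_normalizer_iff.mp
          (SigmaTools.le_normalizer_sigmaCore Y (hBY hz)) _).mp heYσ) ((Cfsg.sigmaCore Y).inv_mem heYσ)
    rw [Fusion.Basic.inf_eq_bot_of_coprime hBp (SigmaTools.coprime_sigmaCore hpY), Subgroup.mem_bot,
      commutatorElement_eq_one_iff_mul_comm] at hmem
    exact hmem

/-- BG 14.4: `κ(M)` is empty. -/
theorem kappa_empty (hG : Cfsg.IsMinSimpleOddOrder G) (hM : IsCoatom M) (hκN : Cfsg.kappa N = ∅)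
    (hx : x ∈ Cfsg.sigmaCore M) (hx1 : x ≠ 1) (hov : Over M N x) {q : ℕ}
    (hq : q ∈ Cfsg.sigma N) (hqM : q ∣ Nat.card M) : Cfsg.kappa M = ∅ := by
  by_contra hne
  haveI := Fact.mk hq.1
  obtain ⟨t, ht⟩ := Set.nonempty_iff_ne_empty.mpr hne
  obtain ⟨K, hK⟩ := Coprime.exists_hall (Cfsg.kappa M) (hG.2.2.2 M hM.1)
  have hK1 : K ≠ ⊥ := fun e => by
    have := KappaHall.dvd_card_of_hall hK ht.1 ht ht.2.1
    rw [e, Subgroup.card_bot] at this
    exact ht.1.ne_one (Nat.dvd_one.mp this)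
  obtain ⟨L, hp, -⟩ := StarPair.exists_pair hG (M := M) (K := K) ⟨hM, hK1, hK⟩
  obtain ⟨U, hd⟩ := StarDerived.exists_decomp' hG hp
  have hs := SigmaDecomp.str hG hM hd hK1
  by_cases hU : U = ⊥
  · have hqs : q ∉ Cfsg.sigma M := fun h => SupportCosets.disjoint hG hM hov.coatom hov.nonconj hq.1 h hq
    have hqE : q ∣ Nat.card ↥(U ⊔ K) := by
      have h1 := KappaHall.dvd_card_of_hall (ComplementHall.isHall hG hM hs.compl) hq.1 hqs hqM
      exact h1
    rw [hU, bot_sup_eq] at hqE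
    obtain ⟨k, hk⟩ := exists_prime_orderOf_dvd_card' (G := K) q hqE
    have hqL : q ∈ Cfsg.sigma L :=
      SupportCosets.sigma_number (hp.eq.ge k.2).1 q hq.1 (by rw [Subgroup.orderOf_coe, hk])
    obtain ⟨g, hg⟩ := SigmaDisjoint.main hG hov.coatom hp.right.coatom hq hqL
    obtain ⟨f, hf, hfp⟩ := KappaHall.exists_prime_elem hp.right.ne
    have h1 := kappa_cj hG hp.right.coatom (hp.right.hall.2.1 _ hfp (Subgroup.orderOf_dvd_natCard _ hf)) g⁻¹
    rw [hg, SigmaFusion.cj_cj, inv_mul_cancel, SigmaFusion.cj_one] at h1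
    exact Set.eq_empty_iff_forall_notMem.mp hκN _ h1
  · obtain ⟨r, hr, hrd⟩ := Nat.exists_prime_and_dvd (mt orderOf_eq_one_iff.mp hx1)
    haveI := Fact.mk hr
    have hτ := hov.tau2 r hr hrd
    obtain ⟨A, hAI, hAe, hAc⟩ := TauTwoAbelian.exists_plane hov.compl hτ
    obtain ⟨A₀, hexc⟩ := TauTwoStructure.exists_exc hG hov.coatom hτ.2.1 (hAI.trans inf_le_right) hAe hAc
    exact StarNormalizer.no_plane hG hM hs hK1 hU (hexc.maxPlane hG) (hAI.trans inf_le_left)
      (SupportCosets.sigma_number hx r hr hrd)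

/-- BG 14.4: `G`-conjugate neighbours are `M`-conjugate. -/
theorem conjugate (hG : Cfsg.IsMinSimpleOddOrder G) (hM : IsCoatom M) (hov : Over M N x) {y : G} {N' : Subgroup G}
    (hy : y ∈ Cfsg.sigmaCore M) (hy1 : y ≠ 1) (hov' : Over M N' y) {g : G} (hg : cj g N' = N) :
    ∃ m ∈ M, cj m N' = N := by
  obtain ⟨r, hr, hrd⟩ := Nat.exists_prime_and_dvd (mt orderOf_eq_one_iff.mp hy1)
  haveI := Fact.mk hr
  have hτ := hov'.tau2 r hr hrd
  have hrM := SupportCosets.sigma_number hy r hr hrd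
  obtain ⟨A, hAI, hAe, hAc⟩ := TauTwoAbelian.exists_plane hov'.compl hτ
  obtain ⟨A₀, hexc⟩ := TauTwoStructure.exists_exc hG hov'.coatom hτ.2.1 (hAI.trans inf_le_right) hAe hAc
  obtain ⟨n, hn, hle⟩ := ComplementHall.exists_conj_le hG hov.coatom hov.compl
    (X := cj g (M ⊓ N')) (hg ▸ Subgroup.map_mono inf_le_right) fun t ht hd => by
      rw [SupportCount.card_cj] at hd
      rw [← hg, SupportCosets.sigma_cj_iff ht]
      haveI := Fact.mk ht
      exact fun h => SigmaComplement.not_dvd_card hG hov'.coatom hov'.compl h hd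
  rw [SigmaFusion.cj_cj] at hle
  obtain ⟨m, hm, c, hc, e⟩ := (SigmaFusion.main hG hM hrM (hexc.maxPlane hG).isPGroup (hexc.maxPlane hG).ne_bot
    (hAI.trans inf_le_left)).1 (n * g) (((Subgroup.map_mono hAI).trans hle).trans inf_le_left)
  refine ⟨m, hm, ?_⟩
  have h1 : cj (n * g) N' = N := by
    rw [← SigmaFusion.cj_cj, hg, SigmaFusion.cj_eq_self (Subgroup.le_normalizer hn)]
  rwa [e, ← SigmaFusion.cj_cj, SigmaFusion.cj_eq_self (Subgroup.le_normalizer (hexc.centralizer_le hc))] at h1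

/-- BG 14.4 for `κ(N)` nonempty. -/
theorem tau2_empty_of_kappa (hG : Cfsg.IsMinSimpleOddOrder G) (hM : IsCoatom M) (hx : x ∈ Cfsg.sigmaCore M)
    (hx1 : x ≠ 1) (hov : Over M N x) (hkN : (Cfsg.kappa N).Nonempty) : Cfsg.tau2 M = ∅ := by
  have hN := hov.coatom
  have hxN := hov.le
  obtain ⟨K, hKh⟩ := Coprime.exists_hall (Cfsg.kappa N) (G := M ⊓ N)
    (hG.2.2.2 _ fun e => hN.1 (top_le_iff.mp (e ▸ inf_le_right)))
  have hK : Cfsg.IsPiHallOf (Cfsg.kappa N) K N := by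
    refine ⟨hKh.1.trans inf_le_right, hKh.2.1, fun t ht htκ hd => ?_⟩
    rw [← Subgroup.relIndex_mul_relIndex K (M ⊓ N) N hKh.1 inf_le_right,
      Basic.IsComplIn.relIndex_left hov.compl] at hd
    rcases ht.dvd_mul.mp hd with h | h
    · exact hKh.2.2 t ht htκ h
    · haveI := Fact.mk ht
      exact htκ.2.2.1 (SigmaTools.mem_sigma_of_card h)
  have hK1 : K ≠ ⊥ := fun e => by
    obtain ⟨t, ht⟩ := hkN
    have := KappaHall.dvd_card_of_hall hK ht.1 ht ht.2.1
    rw [e, Subgroup.card_bot] at this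
    exact ht.1.ne_one (Nat.dvd_one.mp this)
  obtain ⟨U, hs₀⟩ := KappaHall.exists_str hG hN hov.compl hK hK1 hKh.1
  have hUE : U ⊔ K = M ⊓ N := hs₀.sup
  rw [← hUE] at hs₀
  obtain ⟨r, hr, hrd⟩ := Nat.exists_prime_and_dvd (mt orderOf_eq_one_iff.mp hx1)
  haveI := Fact.mk hr
  have hxτ := hov.tau2
  have hrest : ∀ t : ℕ, t.Prime → t ∣ orderOf x → t ∈ KappaHall.rest N := fun t ht hd => by
    haveI := Fact.mk ht
    exact ⟨ht, fun hk => (hxτ t ht hd).2.2.2 (KappaHall.kappa_rank_one hk), (hxτ t ht hd).2.1⟩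
  have hxU : x ∈ U := by
    haveI : (U.subgroupOf (U ⊔ K)).Normal := Subgroup.normal_subgroupOf_of_le_normalizer hs₀.normal
    have hxE : Subgroup.zpowers x ≤ U ⊔ K := Subgroup.zpowers_le.mpr (hUE.symm.le hov.mem)
    have h1 : (Subgroup.zpowers x).subgroupOf (U ⊔ K) ≤ U.subgroupOf (U ⊔ K) := by
      refine SigmaCore.le_of_coprime_index (Coprime.coprime_of_pi (π := KappaHall.rest N) ?_ ?_)
      · intro t ht hd
        rw [Nat.card_congr (Subgroup.subgroupOfEquivOfLe hxE).toEquiv, Nat.card_zpowers] at hd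
        exact hrest t ht hd
      · intro t ht htr hd
        exact KappaHall.not_dvd_relIndex hs₀.hall hs₀.Ule hs₀.compl.1 ht htr hd
    exact h1 (show (⟨x, hxE (Subgroup.mem_zpowers x)⟩ : ↥(U ⊔ K)) ∈ _ from Subgroup.mem_zpowers x)
  have hU1 : U ≠ ⊥ := fun e => hx1 (Subgroup.mem_bot.mp (e ▸ hxU))
  have hrU : r ∣ Nat.card U := hrd.trans (Subgroup.orderOf_dvd_natCard U hxU)
  obtain ⟨R⟩ : Nonempty (Sylow r U) := inferInstance
  have hNR : Subgroup.normalizer (((R : Subgroup U).map U.subtype : Subgroup G) : Set G) ≤ M := by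
    set R₁ := (R : Subgroup U).map U.subtype with hR₁
    have hR₁M : R₁ ≤ M := (Subgroup.map_subtype_le _).trans (le_sup_left.trans (hUE.le.trans inf_le_left))
    obtain ⟨E₀, hE₀⟩ := Coprime.exists_hall {t | t ∉ Cfsg.sigma M} (hG.2.2.2 M hM.1)
    refine (Cfsg.Agent.S1420.result hG M hM E₀ (SylowCentral.isComplIn_of_hall hG hM hE₀)).2.2.1 r R₁
      (SupportCosets.sigma_number hx r hr hrd) (R.isPGroup'.map _) hR₁M fun hc => (hxτ r hr hrd).2.2.2 ?_
    have hR₁N : R₁ ≤ N := (Subgroup.map_subtype_le _).trans hs₀.hall.1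
    have hRc : Nat.card R₁ = r ^ (Nat.card N).factorization r := by
      rw [hR₁, Coprime.card_map_subtype, R.card_eq_multiplicity,
        ← Coprime.card_mul_relIndex_eq hs₀.hall.1, Nat.factorization_mul Nat.card_pos.ne' (Nat.pos_of_mul_pos_left
          (Coprime.card_mul_relIndex_eq hs₀.hall.1 ▸ Nat.card_pos)).ne', Finsupp.add_apply,
        Nat.factorization_eq_zero_of_not_dvd (hs₀.hall.2.2 r hr (hrest r hr hrd)), add_zero]
    obtain ⟨S, hS⟩ := Coprime.exists_sylow_map_eq hR₁N hRc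
    refine KappaHall.rank_one_of_cyclic fun P => ?_
    haveI : IsCyclic (S : Subgroup N) :=
      (Subgroup.equivMapOfInjective (S : Subgroup N) N.subtype N.subtype_injective).isCyclic.mpr (hS.symm ▸ hc)
    exact (S.equiv P).isCyclic.mp inferInstance
  obtain ⟨L, hp, -⟩ := StarPair.exists_pair hG (M := N) (K := K) ⟨hN, hK1, hK⟩
  have hn := StarNormalizer.nbr_of_sylow hG hp hs₀ hU1 hrU R hM hNR
  have hCU : Subgroup.centralizer (U : Set G) ≤ N :=
    (Subgroup.centralizer_le (Set.singleton_subset_iff.mpr hxU)).trans hxN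
  exact StarFrobenius.no_tau2 hG hn hCU

end CfsgLib.OddOrder.SigmaNeighbour
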