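import Cfsg.Agent.Lib.OddOrder.TauTwoAbelian
import Cfsg.Agent.Lib.OddOrder.OmegaLemma
import Mathlib

set_option autoImplicit false
set_option linter.style.haveILetI false
set_option linter.unusedSectionVars false

/-!
An abelian Sylow subgroup over an exceptional plane `A` is central in `C(A)`.
-/

namespace CfsgLib.OddOrder.SylowCentral

open scoped commutatorElement
open A2Transitive (MaxPlane)
open SigmaFusion (cj)
open Exceptional (Exc)

variable {G : Type*} [Group G] [Finite G] {p : ℕ} [hp : Fact p.Prime] {M A A₀ : Subgroup G} {S : Sylow p G}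

theorem sylow_le_centralizer (hAS : A ≤ (S : Subgroup G)) (hab : IsMulCommutative (S : Subgroup G)) :
    (S : Subgroup G) ≤ Subgroup.centralizer (A : Set G) := fun _ hs =>
  Subgroup.mem_centralizer_iff.mpr fun _ ha => (PlaneSylow.comm_of hab (hAS ha) hs).eq

/-- In `C(A)` the normalizer of `S` centralises `S`. -/
theorem normalizer_inf_le (hG : Cfsg.IsMinSimpleOddOrder G) (hA : MaxPlane p A) (hAS : A ≤ (S : Subgroup G))
    (hab : IsMulCommutative (S : Subgroup G)) :
    Subgroup.centralizer (A : Set G) ⊓ Subgroup.normalizer ((S : Subgroup G) : Set G) ≤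
      Subgroup.centralizer ((S : Subgroup G) : Set G) := by
  set X := Subgroup.centralizer (A : Set G) ⊓ Subgroup.normalizer ((S : Subgroup G) : Set G) with hX
  have htop : (Subgroup.centralizer ((S : Subgroup G) : Set G)).subgroupOf X = ⊤ := by
    refine Solvable.Cores.eq_top_of_sylow_le _ fun r hr => ?_
    haveI := Fact.mk hr
    obtain ⟨T⟩ : Nonempty (Sylow r X) := inferInstance
    refine ⟨T, fun z hz => ?_⟩
    set R := (T : Subgroup X).map X.subtype with hR
    have hRX : R ≤ X := Subgroup.map_subtype_le _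
    have hRr : IsPGroup r R := T.isPGroup'.map _
    suffices hRC : R ≤ Subgroup.centralizer ((S : Subgroup G) : Set G) from hRC ⟨z, hz, rfl⟩
    by_cases hrp : r = p
    · subst hrp
      have hle : R ≤ (S : Subgroup G) := by
        have h1 := S.is_maximal' (hRr.to_sup_of_normal_right' S.isPGroup' (hRX.trans inf_le_right)) le_sup_right
        exact h1 ▸ le_sup_left
      exact fun s hs => Subgroup.mem_centralizer_iff.mpr fun t ht => (PlaneSylow.comm_of hab ht (hle hs)).eq
    · refine OmegaLemma.le_centralizer_of_fix_orderP (hA.ne_two hG) S.isPGroup' (hRX.trans inf_le_right)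
        (A2Transitive.coprime_of_qGroup hrp hr hRr) fun s hs hsp a ha => ?_
      have hsA := (PlaneSylow.abelian_case hG hA hAS hab).1 s hs hsp
      exact Subgroup.mem_centralizer_singleton_iff.mpr (Subgroup.mem_centralizer_iff.mp (hRX ha).1 s hsA).symm
  intro x hx
  exact (htop.ge (Subgroup.mem_top (⟨x, hx⟩ : X)) :)

theorem sup_core_eq (hG : Cfsg.IsMinSimpleOddOrder G) (hA : MaxPlane p A) (hAS : A ≤ (S : Subgroup G))
    (hab : IsMulCommutative (S : Subgroup G)) :
    Subgroup.centralizer (A : Set G) ≤ A2Transitive.K p A ⊔ (S : Subgroup G) := by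
  set C := Subgroup.centralizer (A : Set G) with hC
  have hSC : (S : Subgroup G) ≤ C := sylow_le_centralizer hAS hab
  set T := S.subtype hSC with hT
  have hN : Subgroup.normalizer ((T : Subgroup C) : Set C) ≤ Subgroup.centralizer ((T : Subgroup C) : Set C) := by
    intro g hg
    have hgS : (g : G) ∈ Subgroup.normalizer ((S : Subgroup G) : Set G) :=
      NormalizerFusion.mem_normalizer_of_conj fun s hs => by
        have := (Subgroup.mem_normalizer_iff.mp hg ⟨s, hSC hs⟩).mp (by rw [hT, Sylow.coe_subtype]; exact hs)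
        rw [hT, Sylow.coe_subtype] at this
        exact this
    have hgc := normalizer_inf_le hG hA hAS hab ⟨g.2, hgS⟩
    refine Subgroup.mem_centralizer_iff.mpr fun s hs => Subtype.ext ?_
    rw [hT, Sylow.coe_subtype] at hs
    exact Subgroup.mem_centralizer_iff.mp hgc (s : G) hs
  set N := (MonoidHom.transferSylow T hN).ker with hNd
  have hcompl : N.IsComplement' (T : Subgroup C) := MonoidHom.ker_transferSylow_isComplement' T hN
  have hNK : N ≤ Cfsg.pPrimeCore p C := by
    refine Solvable.Cores.le_pPrimeCore ?_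
    rw [← hcompl.index_eq_card]
    exact (hp.out.coprime_iff_not_dvd.mpr T.not_dvd_index).symm
  intro c hc
  obtain ⟨⟨n, s⟩, hns, -⟩ := hcompl.existsUnique ⟨c, hc⟩
  have hs : ((s : C) : G) ∈ (S : Subgroup G) := by
    have := s.2
    simp only [hT, Sylow.coe_subtype] at this
    exact this
  rw [show c = ((n : C) : G) * ((s : C) : G) from (congrArg Subtype.val hns).symm]
  exact Subgroup.mul_mem_sup ⟨(n : C), hNK n.2, rfl⟩ hs

/-- `S` is central in `C(A)`. -/
theorem centralizer_le (hG : Cfsg.IsMinSimpleOddOrder G) (h : Exc p M A A₀) (hAS : A ≤ (S : Subgroup G))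
    (hab : IsMulCommutative (S : Subgroup G)) :
    Subgroup.centralizer (A : Set G) ≤ Subgroup.centralizer ((S : Subgroup G) : Set G) := by
  have hA := h.maxPlane hG
  have hM := h.coatom
  set C := Subgroup.centralizer (A : Set G) with hC
  set K := A2Transitive.K p A with hK
  have hKC : K ≤ C := A2Transitive.K_le p A
  have hSC : (S : Subgroup G) ≤ C := sylow_le_centralizer hAS hab
  set N := Subgroup.normalizer (A : Set G) with hN
  have hCN : C ≤ N := Subgroup.centralizer_le_normalizer _
  have hNK : N ≤ Subgroup.normalizer (K : Set G) := A2Transitive.normalizer_le_normalizer_K p A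
  have hSN' : (S : Subgroup G) ≤ ⁅N, N⁆ := (NormalizerFusion.sylow_le_derived hG S).trans
    (Subgroup.commutator_mono (PlaneSylow.abelian_case hG hA hAS hab).2.1 (PlaneSylow.abelian_case hG hA hAS hab).2.1)
  have hKp : (Nat.card K).Coprime p := A2Transitive.K_coprime p A
  have htop : (Subgroup.centralizer ((S : Subgroup G) : Set G)).subgroupOf K = ⊤ := by
    refine Solvable.Cores.eq_top_of_sylow_le _ fun r hr => ?_
    haveI := Fact.mk hr
    obtain ⟨T, hT⟩ := Coprime.exists_invariant_sylow ((hSC.trans hCN).trans hNK) (by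
      obtain ⟨k, hk⟩ := S.isPGroup'.exists_card_eq
      rw [hk]; exact hKp.symm.pow_left k) (Or.inl (by
        haveI := S.isPGroup'.isNilpotent
        infer_instance)) r
    refine ⟨T, fun z hz => ?_⟩
    rcases T.isPGroup'.card_eq_or_dvd with h1 | h1
    · rw [Subgroup.eq_bot_of_card_eq _ h1, Subgroup.mem_bot] at hz
      rw [hz]; exact one_mem _
    set R := (T : Subgroup K).map K.subtype with hR
    have hRr : IsPGroup r R := T.isPGroup'.map _
    have hRK : R ≤ K := Subgroup.map_subtype_le _
    have hRM : R ≤ M := (hRK.trans hKC).trans h.centralizer_le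
    have hR1 : R ≠ ⊥ := fun e => hr.ne_one (Nat.dvd_one.mp (by
      rwa [(Subgroup.map_eq_bot_iff_of_injective _ K.subtype_injective).mp e, Subgroup.card_bot] at h1))
    have hrs : r ∉ Cfsg.sigma M := fun hrs => hR1 (le_bot_iff.mp
      ((le_inf (SigmaTools.pGroup_le_sigmaCore hG hM hrs hRM hRr) (hRK.trans hKC)).trans
        (h.centralizer_sigma hG).le))
    have hr2 : Cfsg.PRankLE r 2 R := by
      by_contra hr2
      obtain ⟨B, hB, hBe, hB3⟩ := UniqueTools.exists_isEA_of_not_rankLE hr2
      exact UniqueTools.not_pRankLE_of_isEA hBe hB3 (hB.trans hRM) (by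
        by_contra hr3
        exact hrs (SigmaBasics.mem_sigma_of_alpha hG hM ⟨hr, hr3⟩))
    set Nd := N ⊓ Subgroup.normalizer (R : Set G) with hNd
    have hdec : ∀ m ∈ N, ∃ k ∈ K, ∃ n ∈ Nd, m = k * n := by
      intro m hm
      have hKm : cj m K = K := SigmaFusion.cj_eq_self (hNK hm)
      have hle : cj m R ≤ K := (Subgroup.map_mono hRK).trans hKm.le
      have hcard : Nat.card ↥(cj m R) = r ^ (Nat.card K).factorization r := by
        rw [Subgroup.card_map_of_injective (MulAut.conj m).injective, hR, Coprime.card_map_subtype,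
          T.card_eq_multiplicity]
      obtain ⟨T', hT'⟩ := Coprime.exists_sylow_map_eq hle hcard
      obtain ⟨k, hk⟩ := MulAction.exists_smul_eq K T T'
      have he : cj (k : G) R = cj m R := by
        rw [← hT', ← hk, Coprime.map_smul_sylow]
      refine ⟨k, k.2, (k : G)⁻¹ * m, ⟨mul_mem (Subgroup.inv_mem _ (hCN (hKC k.2))) hm, ?_⟩, by group⟩
      refine Subgroup.mem_normalizer_iff_map_conj_eq.mpr ?_
      show cj ((k : G)⁻¹ * m) R = R
      rw [← SigmaFusion.cj_cj, ← he, SigmaFusion.cj_cj, inv_mul_cancel, SigmaFusion.cj_one]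
    set H := Subgroup.normalizer (R : Set G) with hH
    haveI : Group.IsSolvable H := hG.2.2.2 H (A2Transitive.max_ne_top hG hr hRr hR1)
    have hr2' : r ≠ 2 := fun e => Nat.not_even_iff_odd.mpr hG.1 (even_iff_two_dvd.mpr
      (e ▸ (hRr.card_eq_or_dvd.resolve_left fun e1 => hR1 (Subgroup.eq_bot_of_card_eq _ e1)).trans
        R.card_subgroup_dvd_card))
    haveI : (R.subgroupOf H).Normal := Subgroup.normal_in_normalizer
    have hcore := (RankTwo.coreAct (Uniqueness.odd_of_le hG.1 H) hr2' (R.subgroupOf H)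
      (hRr.of_equiv (Subgroup.subgroupOfEquivOfLe Subgroup.le_normalizer).symm)
      (NarrowSylow.pRankLE_congr (Subgroup.subgroupOfEquivOfLe Subgroup.le_normalizer).symm hr2)).1
    have hSR : (S : Subgroup G) ≤ Subgroup.centralizer (R : Set G) := by
      intro x hx
      obtain ⟨i, hi⟩ := IsPGroup.iff_orderOf.mp S.isPGroup' ⟨x, hx⟩
      rw [Subgroup.orderOf_mk] at hi
      have hx' : x ∈ ⁅H, H⁆ := Subgroup.commutator_mono inf_le_right inf_le_right
        (Transitivity.mem_commutator_of_coprime (Nd := Nd) (hKC.trans hCN) inf_le_left hNK hdec (hSN' hx)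
          ⟨hCN (hSC hx), hT hx⟩ (hi ▸ (hKp.symm.pow_left i)))
      obtain ⟨y, hy, hyx⟩ := (Subgroup.map_subtype_commutator H).ge hx'
      have hne : r ≠ p := fun e => hr.ne_one (Nat.eq_one_of_dvd_coprimes hKp
        (h1.trans (Subgroup.card_subgroup_dvd_card _)) (e ▸ dvd_rfl))
      have hc := hcore y hy (by
        rw [← Subgroup.orderOf_coe, show (y : G) = x from hyx, hi]
        exact ((Nat.coprime_primes hp.out hr).mpr hne.symm).pow_left i)
      refine Subgroup.mem_centralizer_iff.mpr fun t ht => ?_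
      have := congrArg Subtype.val (Subgroup.mem_centralizer_iff.mp hc ⟨t, Subgroup.le_normalizer ht⟩ ht)
      rw [← hyx]
      exact this
    exact Subgroup.le_centralizer_iff.mp hSR ⟨z, hz, rfl⟩
  refine (sup_core_eq hG hA hAS hab).trans (sup_le (fun x hx => ?_) fun x hx =>
    Subgroup.mem_centralizer_iff.mpr fun t ht => (PlaneSylow.comm_of hab ht hx).eq)
  exact (htop.ge (Subgroup.mem_top (⟨x, hx⟩ : K)) :)

/-- `p`-elements of `M` centralising `A` lie in `S`. -/
theorem mem_sylow (hG : Cfsg.IsMinSimpleOddOrder G) (h : Exc p M A A₀) (hAS : A ≤ (S : Subgroup G))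
    (hab : IsMulCommutative (S : Subgroup G)) {R : Subgroup G} (hR : IsPGroup p R)
    (hRC : R ≤ Subgroup.centralizer (A : Set G)) : R ≤ (S : Subgroup G) := by
  have h1 := S.is_maximal' (hR.to_sup_of_normal_right' S.isPGroup'
    ((hRC.trans (centralizer_le hG h hAS hab)).trans (Subgroup.centralizer_le_normalizer _))) le_sup_right
  exact h1 ▸ le_sup_left

/-- `N(A)` normalises `S`. -/
theorem normalizer_le (hG : Cfsg.IsMinSimpleOddOrder G) (h : Exc p M A A₀) (hAS : A ≤ (S : Subgroup G))
    (hab : IsMulCommutative (S : Subgroup G)) :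
    Subgroup.normalizer (A : Set G) ≤ Subgroup.normalizer ((S : Subgroup G) : Set G) := fun g hg => by
  refine NormalizerFusion.mem_normalizer_of_conj fun s hs => ?_
  refine mem_sylow hG h hAS hab (S.isPGroup'.map (MulAut.conj g).toMonoidHom) ?_ ⟨s, hs, rfl⟩
  exact (Subgroup.map_mono (sylow_le_centralizer hAS hab)).trans
    (Subgroup.mem_normalizer_iff_map_conj_eq.mp (WLine.normalizer_le_normalizer_centralizer A hg)).le

/-- A Hall `σ(M)'`-subgroup is a complement to `M_σ`. -/
theorem isComplIn_of_hall (hG : Cfsg.IsMinSimpleOddOrder G) (hM : IsCoatom M) {F : Subgroup G}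
    (hF : Cfsg.IsPiHallOf {q | q ∉ Cfsg.sigma M} F M) : Cfsg.IsComplIn F (Cfsg.sigmaCore M) M := by
  have hbot : F ⊓ Cfsg.sigmaCore M = ⊥ := by
    refine (Subgroup.disjoint_of_coprime_natCard (Nat.coprime_of_dvd fun t ht h1 h2 => ?_)).eq_bot
    haveI := Fact.mk ht
    exact hF.2.1 t ht h1 (SigmaTools.mem_sigma_of_card h2)
  have hFN : F ≤ Subgroup.normalizer (Cfsg.sigmaCore M : Set G) := hF.1.trans (SigmaTools.le_normalizer_sigmaCore M)
  have hsup : Cfsg.sigmaCore M ⊔ F = M := by
    refine Subgroup.eq_of_le_of_card_ge (sup_le (SigmaTools.sigmaCore_le M) hF.1) ?_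
    rw [Coprime.card_sup_of_le_normalizer hFN (disjoint_iff.mpr (by rwa [inf_comm] at hbot)),
      ← Coprime.card_mul_relIndex_eq hF.1, mul_comm]
    refine Nat.mul_le_mul_right _ (Nat.le_of_dvd Nat.card_pos ?_)
    refine Nat.Coprime.dvd_of_dvd_mul_right (n := (Cfsg.sigmaCore M).relIndex M) ?_ ?_
    · refine Nat.coprime_of_dvd fun t ht h1 h2 => ?_
      exact hF.2.2 t ht (fun hts => (SigmaCore.hall hG hM).1.2.2 t ht hts h2) h1
    · rw [Coprime.card_mul_relIndex_eq (SigmaTools.sigmaCore_le M), ← Coprime.card_mul_relIndex_eq hF.1]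
      exact dvd_mul_left _ _
  refine ⟨hF.1, SigmaTools.sigmaCore_le M, hbot, fun m hm => ?_⟩
  rw [← hsup, sup_comm] at hm
  obtain ⟨a, ha, b, hb, e⟩ := (Coprime.mem_sup_of_le_normalizer (N := Cfsg.sigmaCore M) hFN).mp (by rwa [sup_comm] at hm)
  exact ⟨b, hb, b⁻¹ * a * b, by
    simpa using (Subgroup.mem_normalizer_iff.mp (inv_mem (hFN hb)) a).mp ha, by rw [← e]; group⟩

end CfsgLib.OddOrder.SylowCentral
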