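import Cfsg.Agent.Lib.OddOrder.SigmaUnique
import Cfsg.Agent.Lib.OddOrder.SylowCentral
import Cfsg.Agent.Lib.Coprime.Abelian
import Mathlib

set_option autoImplicit false
set_option linter.style.haveILetI false
set_option linter.unusedSectionVars false

/-!
`[M_σ, E] = M_σ` and intersections of `M_σ` with conjugates of `M`.
-/

namespace CfsgLib.OddOrder.SigmaCommutator

open scoped commutatorElement
open SigmaFusion (cj)

variable {H : Type*} [Group H] [Finite H] {K E : Subgroup H}

theorem commutator_normal (htop : K ⊔ E = ⊤) : (⁅K, E⁆).Normal := by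
  rw [← Subgroup.normalizer_eq_top_iff, eq_top_iff, ← htop]
  exact sup_le (Subgroup.normalizer_commutator_ge_left K E) (Subgroup.normalizer_commutator_ge_right K E)

/-- If `K` lies in `H'` and has trivial intersection with `E`, where `H = K E`, then `[K, E] = K`. -/
theorem commutator_eq [K.Normal] [Group.IsSolvable H] (htop : K ⊔ E = ⊤) (hbot : K ⊓ E = ⊥)
    (hK : K ≤ _root_.commutator H) : ⁅K, E⁆ = K := by
  haveI := commutator_normal htop
  set C := ⁅K, E⁆ with hC
  have hCK : C ≤ K := Subgroup.le_normalizer_iff_commutator_le_left.1 (by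
    rw [Subgroup.normalizer_eq_top (H := K)]; exact le_top)
  set f := QuotientGroup.mk' C with hf
  have hKE : ∀ k ∈ K, ∀ e ∈ E, Commute (f k) (f e) := fun k hk e he => by
    rw [commute_iff_eq, ← commutatorElement_eq_one_iff_mul_comm, ← map_commutatorElement]
    exact (QuotientGroup.eq_one_iff _).mpr (Subgroup.commutator_mem_commutator hk he)
  -- the derived group of the quotient
  have hder : _root_.commutator H ≤ (C ⊔ ⁅K, K⁆) ⊔ ⁅E, E⁆ := by
    set W := (C ⊔ ⁅K, K⁆) ⊔ ⁅E, E⁆ with hW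
    have hWn : W.Normal := by
      rw [← Subgroup.normalizer_eq_top_iff, eq_top_iff, ← htop]
      have hKW : ∀ k ∈ K, ∀ w ∈ W, k * w * k⁻¹ ∈ W := by
        intro k hk w hw
        obtain ⟨t, ht, e, he, rfl⟩ := Subgroup.mem_sup_of_normal_left.mp hw
        have h1 : k * (t * e) * k⁻¹ = (k * t * k⁻¹) * ⁅k, e⁆ * e := by rw [commutatorElement_def]; group
        rw [h1]
        refine mul_mem (Subgroup.mem_sup_left (mul_mem (Subgroup.Normal.conj_mem inferInstance t ht k)
          (Subgroup.mem_sup_left (Subgroup.commutator_mem_commutator hk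
            (SigmaComplement.derived_le_self E he))))) (Subgroup.mem_sup_right he)
      refine sup_le (fun k hk => Subgroup.mem_normalizer_iff.mpr fun w => ⟨hKW k hk w, fun h => ?_⟩) ?_
      · have h2 := hKW k⁻¹ (inv_mem hk) _ h
        simpa [mul_assoc] using h2
      · intro e he
        refine Subgroup.mem_normalizer_iff_map_conj_eq.mpr ?_
        have h1 : (C ⊔ ⁅K, K⁆).map (MulAut.conj e).toMonoidHom = C ⊔ ⁅K, K⁆ :=
          Subgroup.mem_normalizer_iff_map_conj_eq.mp (by rw [Subgroup.normalizer_eq_top (H := C ⊔ ⁅K, K⁆)]; trivial)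
        have h3 : E.map (MulAut.conj e).toMonoidHom = E :=
          Subgroup.mem_normalizer_iff_map_conj_eq.mp (Subgroup.le_normalizer he)
        have h2 : (⁅E, E⁆).map (MulAut.conj e).toMonoidHom = ⁅E, E⁆ := by
          rw [Subgroup.map_commutator, h3]
        show (W).map (MulAut.conj e).toMonoidHom = W
        rw [hW, Subgroup.map_sup, h1, h2]
    refine Subgroup.Normal.quotient_commutative_iff_commutator_le.mp ?_
    set g := QuotientGroup.mk' W with hg
    have hgen : ∀ x ∈ K ⊔ E, ∀ y ∈ K ⊔ E, Commute (g x) (g y) := by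
      have key : ∀ {A B : Subgroup H}, ⁅A, B⁆ ≤ W → ∀ a ∈ A, ∀ b ∈ B, Commute (g a) (g b) := fun {A B} h a ha b hb => by
        rw [commute_iff_eq, ← commutatorElement_eq_one_iff_mul_comm, ← map_commutatorElement]
        exact (QuotientGroup.eq_one_iff _).mpr (h (Subgroup.commutator_mem_commutator ha hb))
      have k1 : ⁅K, K⁆ ≤ W := le_sup_right.trans le_sup_left
      have k2 : ⁅K, E⁆ ≤ W := le_trans (le_sup_left (a := C) (b := ⁅K, K⁆)) le_sup_left
      have k3 : ⁅E, K⁆ ≤ W := by rw [Subgroup.commutator_comm]; exact k2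
      have k4 : ⁅E, E⁆ ≤ W := le_sup_right
      have hc : ∀ a, (a ∈ K ∨ a ∈ E) → (K ⊔ E) ≤ (Subgroup.centralizer ({g a} : Set (H ⧸ W))).comap g := by
        intro a ha
        refine sup_le (fun b hb => Subgroup.mem_centralizer_singleton_iff.mpr ?_)
          (fun b hb => Subgroup.mem_centralizer_singleton_iff.mpr ?_) <;> rcases ha with ha | ha
        · exact (key k1 b hb a ha).eq
        · exact (key k2 b hb a ha).eq
        · exact (key k3 b hb a ha).eq
        · exact (key k4 b hb a ha).eq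
      intro x hx y hy
      have : K ⊔ E ≤ (Subgroup.centralizer ({g y} : Set (H ⧸ W))).comap g :=
        sup_le (fun a ha => Subgroup.mem_centralizer_singleton_iff.mpr
            (Subgroup.mem_centralizer_singleton_iff.mp (hc a (Or.inl ha) hy)).symm)
          (fun a ha => Subgroup.mem_centralizer_singleton_iff.mpr
            (Subgroup.mem_centralizer_singleton_iff.mp (hc a (Or.inr ha) hy)).symm)
      exact Subgroup.mem_centralizer_singleton_iff.mp (this hx)
    refine ⟨⟨fun x y => ?_⟩⟩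
    obtain ⟨a, rfl⟩ := QuotientGroup.mk'_surjective W x
    obtain ⟨b, rfl⟩ := QuotientGroup.mk'_surjective W y
    exact (hgen a (htop ▸ Subgroup.mem_top a) b (htop ▸ Subgroup.mem_top b)).eq
  have hKle : K ≤ C ⊔ ⁅K, K⁆ := fun k hk => by
    obtain ⟨t, ht, e, he, hte⟩ := Subgroup.mem_sup_of_normal_left.mp (hder (hK hk))
    have htK : t ∈ K := sup_le hCK (SigmaComplement.derived_le_self K) ht
    have heK : e ∈ K ⊓ E := by
      refine ⟨?_, SigmaComplement.derived_le_self E he⟩
      have : e = t⁻¹ * k := by rw [← hte, inv_mul_cancel_left]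
      exact this ▸ Subgroup.mul_mem _ (Subgroup.inv_mem _ htK) hk
    rw [hbot, Subgroup.mem_bot] at heK
    rwa [← hte, heK, mul_one]
  by_contra hne
  have hlt : K.map f ≠ ⊥ := fun h => hne (le_antisymm hCK (by
    rwa [Subgroup.map_eq_bot_iff, QuotientGroup.ker_mk'] at h))
  refine (Group.IsSolvable.commutator_lt_of_ne_bot hlt).ne (le_antisymm (SigmaComplement.derived_le_self _) ?_)
  refine (Subgroup.map_mono hKle).trans ?_
  rw [Subgroup.map_sup, QuotientGroup.map_mk'_self, bot_sup_eq, Subgroup.map_commutator]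

/-- Fixed points of `E` in `K` lie in `K'`. -/
theorem inf_centralizer_le [K.Normal] [Group.IsSolvable H] (hKE : ⁅K, E⁆ = K)
    (hcop : (Nat.card E).Coprime (Nat.card K)) : K ⊓ Subgroup.centralizer (E : Set H) ≤ ⁅K, K⁆ := by
  set C := ⁅K, K⁆ with hC
  set f := QuotientGroup.mk' C with hf
  haveI : IsMulCommutative (K.map f) := by
    refine Subgroup.commutator_self_eq_bot_iff.mp ?_
    rw [← Subgroup.map_commutator]; exact QuotientGroup.map_mk'_self C
  have hN : E.map f ≤ Subgroup.normalizer (K.map f : Set (H ⧸ C)) := by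
    refine (Subgroup.map_mono ?_).trans (Subgroup.le_normalizer_map f)
    rw [Subgroup.normalizer_eq_top (H := K)]; exact le_top
  have h := Coprime.centralizer_inf_commutator_eq_bot hN
    ((hcop.coprime_dvd_left (Subgroup.card_map_dvd E f)).coprime_dvd_right (Subgroup.card_map_dvd K f))
  rw [← Subgroup.map_commutator, hKE] at h
  intro x hx
  have hmem : f x ∈ K.map f ⊓ Subgroup.centralizer (E.map f : Set (H ⧸ C)) ⊓ K.map f := by
    refine ⟨⟨Subgroup.mem_map_of_mem _ hx.1, Subgroup.mem_centralizer_iff.mpr ?_⟩, Subgroup.mem_map_of_mem _ hx.1⟩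
    rintro _ ⟨e, he, rfl⟩
    rw [← map_mul, ← map_mul, Subgroup.mem_centralizer_iff.mp hx.2 e he]
  rw [h, Subgroup.mem_bot] at hmem
  exact (QuotientGroup.eq_one_iff x).mp hmem

variable {G : Type*} [Group G] [Finite G] {M : Subgroup G}

/-- `[M_σ, E] = M_σ` and `C_{M_σ}(E) ≤ M_σ'`. -/
theorem main (hG : Cfsg.IsMinSimpleOddOrder G) (hM : IsCoatom M) {E : Subgroup G}
    (hE : Cfsg.IsComplIn E (Cfsg.sigmaCore M) M) :
    ⁅Cfsg.sigmaCore M, E⁆ = Cfsg.sigmaCore M ∧
      Cfsg.sigmaCore M ⊓ Subgroup.centralizer (E : Set G) ≤ ⁅Cfsg.sigmaCore M, Cfsg.sigmaCore M⁆ := by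
  haveI : Group.IsSolvable M := hG.2.2.2 M hM.1
  set K := Cfsg.piCore (Cfsg.sigma M) M with hK
  haveI : K.Normal := by
    have h := (Subgroup.normal_subgroupOf_iff_le_normalizer (SigmaTools.sigmaCore_le M)).mpr (SigmaTools.le_normalizer_sigmaCore M)
    rwa [Cfsg.sigmaCore, Subgroup.subgroupOf, Subgroup.comap_map_eq_self_of_injective M.subtype_injective] at h
  set E₀ := E.subgroupOf M with hE₀
  have hKm : K.map M.subtype = Cfsg.sigmaCore M := rfl
  have hEm : E₀.map M.subtype = E := Subgroup.map_subgroupOf_eq_of_le hE.1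
  have htop : K ⊔ E₀ = ⊤ := by
    refine eq_top_iff.mpr fun m _ => ?_
    obtain ⟨a, ha, b, ⟨b', hb', rfl⟩, he⟩ := hE.2.2.2 m m.2
    have : m = ⟨a, hE.1 ha⟩ * b' := M.subtype_injective he
    rw [this]
    exact mul_mem (Subgroup.mem_sup_right (Subgroup.mem_subgroupOf.mpr ha)) (Subgroup.mem_sup_left hb')
  have hbot : K ⊓ E₀ = ⊥ := by
    refine le_bot_iff.mp fun x hx => ?_
    have : (x : G) ∈ E ⊓ Cfsg.sigmaCore M := ⟨hx.2, ⟨x, hx.1, rfl⟩⟩
    rw [hE.2.2.1, Subgroup.mem_bot] at this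
    exact Subgroup.mem_bot.mpr (Subtype.ext this)
  have hKd : K ≤ _root_.commutator M := fun x hx => by
    obtain ⟨y, hy, e⟩ := (Subgroup.map_subtype_commutator M).ge (SigmaCore.le_derived hG hM ⟨x, hx, rfl⟩)
    exact M.subtype_injective e ▸ hy
  have h1 := commutator_eq htop hbot hKd
  have hcop : (Nat.card E₀).Coprime (Nat.card K) := by
    rw [← SigmaCore.card_eq M, Nat.card_congr (Subgroup.subgroupOfEquivOfLe hE.1).toEquiv]
    refine Nat.coprime_of_dvd fun t ht h1 h2 => ?_
    haveI := Fact.mk ht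
    exact SigmaComplement.not_dvd_card hG hM hE (SigmaTools.mem_sigma_of_card h2) h1
  refine ⟨?_, fun x hx => ?_⟩
  · have := congrArg (Subgroup.map M.subtype) h1
    rwa [Subgroup.map_commutator, hEm, hKm] at this
  · obtain ⟨y, hy, rfl⟩ := hKm.ge hx.1
    have := inf_centralizer_le h1 hcop (x := y) ⟨hy, Subgroup.mem_centralizer_iff.mpr fun e he =>
      M.subtype_injective (by
        rw [map_mul, map_mul]
        exact Subgroup.mem_centralizer_iff.mp hx.2 _ (hEm.le (Subgroup.mem_map_of_mem _ he)))⟩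
    rw [← hKm, ← Subgroup.map_commutator]
    exact Subgroup.mem_map_of_mem _ this

/-- `M_σ ∩ Mᵍ` for `g ∉ M`. -/
theorem inf_cj (hG : Cfsg.IsMinSimpleOddOrder G) (hM : IsCoatom M) {g : G} (hg : g ∉ M) :
    IsCyclic ↥(Cfsg.sigmaCore M ⊓ cj g M) ∧
      (∀ p : ℕ, p.Prime → p ∣ Nat.card ↥(Cfsg.sigmaCore M ⊓ cj g M) → p ∉ Cfsg.beta M) ∧
      Cfsg.sigmaCore M ⊓ cj g M ⊓ ⁅Cfsg.sigmaCore M, Cfsg.sigmaCore M⁆ = ⊥ := by
  set K := Cfsg.sigmaCore M ⊓ cj g M with hK
  have hKM : K ≤ M := inf_le_left.trans (SigmaTools.sigmaCore_le M)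
  -- a subgroup of prime order with centraliser in `M` cannot lie in `K`
  have key : ∀ {p : ℕ} [Fact p.Prime] {X : Subgroup G}, X ≤ K → Nat.card X = p →
      ¬ (p ∈ Cfsg.beta M ∨ X ≤ ⁅Cfsg.sigmaCore M, Cfsg.sigmaCore M⁆) := by
    intro p _ X hXK hX h
    have hps : p ∈ Cfsg.sigma M := SigmaTools.mem_sigma_of_card
      (hX ▸ Subgroup.card_dvd_of_le (hXK.trans inf_le_left))
    obtain ⟨P⟩ : Nonempty (Sylow p ↥(Cfsg.sigmaCore M)) := inferInstance
    have hC := (SigmaUnique.main hG hM hps (hXK.trans hKM) hX P h).1.1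
    obtain ⟨y, hy⟩ : ∃ y : X, orderOf y = p := exists_prime_orderOf_dvd_card' p (hX ▸ dvd_rfl)
    have hy' : orderOf (y : G) = p := by rw [Subgroup.orderOf_coe, hy]
    refine hg (SigmaTools.mem_of_mem_cj hG hM hps hy' ?_ (hKM (hXK y.2)) (hXK y.2).2)
    refine le_trans ?_ hC
    rw [← SigmaTools.centralizer_zpowers, Subgroup.eq_of_le_of_card_ge (Subgroup.zpowers_le.mpr y.2)
      (by rw [Nat.card_zpowers, hy', hX])]
  have hline : ∀ {p : ℕ}, p.Prime → ∀ {Y : Subgroup G}, p ∣ Nat.card Y → ∃ X : Subgroup G, X ≤ Y ∧ Nat.card X = p := by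
    intro p hp Y hd
    haveI := Fact.mk hp
    obtain ⟨y, hy⟩ := exists_prime_orderOf_dvd_card' p hd
    exact ⟨Subgroup.zpowers (y : G), Subgroup.zpowers_le.mpr y.2, by rw [Nat.card_zpowers, Subgroup.orderOf_coe, hy]⟩
  have h3 : K ⊓ ⁅Cfsg.sigmaCore M, Cfsg.sigmaCore M⁆ = ⊥ := by
    by_contra hne
    obtain ⟨p, hp, hd⟩ := Nat.exists_prime_and_dvd (fun h => hne (Subgroup.eq_bot_of_card_eq _ h))
    haveI := Fact.mk hp
    obtain ⟨X, hXY, hX⟩ := hline hp hd
    exact key (hXY.trans inf_le_left) hX (Or.inr (hXY.trans inf_le_right))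
  refine ⟨?_, fun p hp hd hb => ?_, h3⟩
  swap
  · haveI := Fact.mk hp
    obtain ⟨X, hXY, hX⟩ := hline hp hd
    exact key hXY hX (Or.inl hb)
  haveI hKc : IsMulCommutative K := by
    refine Subgroup.commutator_self_eq_bot_iff.mp (le_bot_iff.mp ?_)
    rw [← h3]
    exact le_inf (SigmaComplement.derived_le_self K) (Subgroup.commutator_mono inf_le_left inf_le_left)
  haveI : IsZGroup K := by
    refine ⟨fun p hp P => ?_⟩
    haveI := Fact.mk hp
    by_contra hnc
    set Q := (P : Subgroup K).map K.subtype with hQ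
    have hQnc : ¬ IsCyclic Q := fun h => hnc (isCyclic_of_surjective
      ((P : Subgroup K).equivMapOfInjective K.subtype K.subtype_injective).symm (MulEquiv.surjective _))
    have hQK : Q ≤ K := Subgroup.map_subtype_le _
    have hd : p ∣ Nat.card Q := (P.isPGroup'.map _).card_eq_or_dvd.resolve_left fun h =>
      hQnc (@isCyclic_of_subsingleton _ _ (Nat.card_eq_one_iff_unique.mp h).1)
    have hps : p ∈ Cfsg.sigma M :=
      SigmaTools.mem_sigma_of_card (hd.trans (Subgroup.card_dvd_of_le (hQK.trans inf_le_left)))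
    have hp2 : p ≠ 2 := fun e => Nat.not_even_iff_odd.mpr hG.1 (even_iff_two_dvd.mpr (e ▸ SigmaTools.sigma_dvd hps))
    have he := NonabelianUnique.eq_of_conj hG hM hp2 hps (P.isPGroup'.map _) hQnc (hQK.trans hKM) (hQK.trans inf_le_right)
    have hMN : Subgroup.normalizer (M : Set G) = M :=
      SigmaFusion.normalizer_eq_self hG.2 hM (SigmaCore.coatom_ne_bot hG hM)
    exact hg (hMN.le (Subgroup.mem_normalizer_iff_map_conj_eq.mpr he))
  letI : CommGroup K := { (inferInstance : Group K) with mul_comm := hKc.1.comm }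
  haveI : Group.IsNilpotent K := CommGroup.isNilpotent (G := K)
  infer_instance

end CfsgLib.OddOrder.SigmaCommutator
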