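import Cfsg.Agent.Lib.OddOrder.PrimeActionMain
import Cfsg.Agent.Lib.OddOrder.SigmaConjugate
import Cfsg.Agent.Lib.OddOrder.CommonMover
import Cfsg.Agent.Lib.OddOrder.SigmaCommutator
import Mathlib

set_option autoImplicit false
set_option linter.style.haveILetI false
set_option linter.unusedSectionVars false

/-!
The sets `σ(M)` of non-conjugate maximal subgroups are disjoint.
-/

namespace CfsgLib.OddOrder.SigmaDisjoint

open scoped commutatorElement
open SigmaFusion (cj)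

variable {G : Type*} [Group G] [Finite G] {p q t : ℕ} [hp : Fact p.Prime] [hqf : Fact q.Prime] [htf : Fact t.Prime]
  {M L P : Subgroup G}

/-- If `M_σ` is not nilpotent, the Sylow subgroups of a complement are cyclic. -/
theorem rank_one (hG : Cfsg.IsMinSimpleOddOrder G) (hM : IsCoatom M)
    (hn : ¬ Group.IsNilpotent (Cfsg.sigmaCore M)) (hps : p ∉ Cfsg.sigma M) : Cfsg.PRankLE p 1 M := by
  by_contra hcon
  obtain ⟨A, hAM, hAe, hAc⟩ := UniqueTools.exists_isEA_of_not_rankLE hcon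
  have hr2 : Cfsg.PRankLE p 2 M := by
    by_contra h2
    exact hps (SigmaBasics.mem_sigma_of_alpha hG hM ⟨hp.out, h2⟩)
  obtain ⟨A₀, hexc⟩ := TauTwoStructure.exists_exc hG hM hps hAM hAe (le_antisymm (RankTwo.card_le_sq hr2 hAe hAM) hAc)
  exact hn (hexc.sigma_nilpotent hG)

/-- A complement to `M_σ` normalising a given Sylow subgroup of `M_σ`. -/
theorem exists_compl (hG : Cfsg.IsMinSimpleOddOrder G) (hM : IsCoatom M) (hqM : q ∈ Cfsg.sigma M) (S : Sylow q G)
    (hSM : (S : Subgroup G) ≤ M) {Y : Subgroup G} (hY : Y ≤ M ⊓ Subgroup.normalizer ((S : Subgroup G) : Set G))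
    (hYπ : ∀ s : ℕ, s.Prime → s ∣ Nat.card Y → s ∉ Cfsg.sigma M) :
    ∃ E : Subgroup G, Cfsg.IsComplIn E (Cfsg.sigmaCore M) M ∧
      E ≤ M ⊓ Subgroup.normalizer ((S : Subgroup G) : Set G) ∧ Y ≤ E := by
  set I := M ⊓ Subgroup.normalizer ((S : Subgroup G) : Set G) with hI
  obtain ⟨E, hE, hYE⟩ := Coprime.exists_hall_ge {s | s ∉ Cfsg.sigma M}
    (hG.2.2.2 I fun e => hM.1 (top_le_iff.mp (e ▸ inf_le_left))) hY hYπ
  refine ⟨E, SylowCentral.isComplIn_of_hall hG hM ⟨hE.1.trans inf_le_left, hE.2.1, fun s hs hss hd => ?_⟩, hE.1, hYE⟩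
  rw [← Subgroup.relIndex_mul_relIndex E I M hE.1 inf_le_left] at hd
  refine (hs.dvd_mul.mp hd).elim (hE.2.2 s hs hss) fun hd => ?_
  set K₀ := Cfsg.piCore (Cfsg.sigma M) M with hK₀
  set I₀ := I.subgroupOf M with hI₀
  have hSK := SigmaTools.pGroup_le_sigmaCore hG hM hqM hSM S.isPGroup'
  have htop : I₀ ⊔ K₀ = ⊤ := by
    refine eq_top_iff.mpr fun x _ => ?_
    have hxS : cj (x : G) (S : Subgroup G) ≤ Cfsg.sigmaCore M :=
      (Subgroup.map_mono hSK).trans
        (Subgroup.mem_normalizer_iff_map_conj_eq.mp (SigmaTools.le_normalizer_sigmaCore M x.2)).le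
    obtain ⟨k, hk⟩ := MulAction.exists_smul_eq (Cfsg.sigmaCore M)
      (((x : G) • S).subtype (by rwa [Sylow.coe_subgroup_smul])) (S.subtype hSK)
    have h1 := congrArg (fun T : Sylow q (Cfsg.sigmaCore M) =>
      (T : Subgroup (Cfsg.sigmaCore M)).map (Cfsg.sigmaCore M).subtype) hk
    simp only [Coprime.map_smul_sylow, Sylow.coe_subtype, Subgroup.subgroupOf_map_subtype] at h1
    rw [inf_eq_left.2 (by rwa [Sylow.coe_subgroup_smul]), inf_eq_left.2 hSK, Sylow.coe_subgroup_smul] at h1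
    have h2 : cj ((k : G) * x) (S : Subgroup G) = S := by
      rw [← SigmaFusion.cj_cj]; exact h1
    have hkx : (k : G) * x ∈ I := ⟨mul_mem (SigmaTools.sigmaCore_le M k.2) x.2,
      Subgroup.mem_normalizer_iff_map_conj_eq.mpr h2⟩
    obtain ⟨k', hk', hke⟩ := k.2
    have : x = k'⁻¹ * (⟨(k : G) * x, hkx.1⟩ : M) := M.subtype_injective (by
      simp only [map_mul, map_inv]
      rw [hke]
      simp)
    rw [this]
    exact mul_mem (Subgroup.mem_sup_right (inv_mem hk')) (Subgroup.mem_sup_left (Subgroup.mem_subgroupOf.mpr hkx))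
  have hc := Solvable.Basic.card_sup_mul K₀ I₀
  rw [htop, Subgroup.card_top, ← Subgroup.card_mul_index I₀, mul_assoc] at hc
  have hK : I₀.index ∣ Nat.card K₀ := ⟨_, (Nat.eq_of_mul_eq_mul_left Nat.card_pos hc).symm⟩
  exact hss (SigmaBasics.mem_of_dvd_piCore hs (hd.trans hK))

/-- `M_β ∩ L` centralises a common Sylow subgroup for a common prime in `σ`. -/
theorem inf_le_centralizer (hG : Cfsg.IsMinSimpleOddOrder G) (hM : IsCoatom M) (hL : IsCoatom L)
    (hnc : ∀ g : G, L ≠ cj g M) (hqL : q ∈ Cfsg.sigma L) (S : Sylow q G) (hSM : (S : Subgroup G) ≤ M)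
    (hSL : (S : Subgroup G) ≤ L) :
    Cfsg.piCoreOf (Cfsg.beta M) M ⊓ L ≤ Subgroup.centralizer ((S : Subgroup G) : Set G) := by
  refine Subgroup.commutator_eq_bot_iff_le_centralizer.mp ?_
  set K := Cfsg.piCoreOf (Cfsg.beta M) M with hK
  have h1 : ⁅K ⊓ L, (S : Subgroup G)⁆ ≤ K :=
    (Subgroup.commutator_mono inf_le_left le_rfl).trans
      (Subgroup.le_normalizer_iff_commutator_le_left.1 (hSM.trans (Transitivity.le_normalizer_piCoreOf _ M)))
  have h2 : ⁅K ⊓ L, (S : Subgroup G)⁆ ≤ Cfsg.sigmaCore L :=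
    (Subgroup.commutator_mono inf_le_right (SigmaTools.pGroup_le_sigmaCore hG hL hqL hSL S.isPGroup')).trans
      (Subgroup.le_normalizer_iff_commutator_le_right.1 (SigmaTools.le_normalizer_sigmaCore L))
  refine le_bot_iff.mp ((le_inf h1 h2).trans (le_of_eq ?_))
  refine (Subgroup.disjoint_of_coprime_natCard (Nat.coprime_of_dvd fun s hs h3 h4 => ?_)).eq_bot
  haveI := Fact.mk hs
  have hsb : s ∈ Cfsg.beta M := SigmaBasics.mem_of_dvd_piCore hs (BetaCore.card_eq M _ ▸ h3)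
  obtain ⟨x, hx⟩ := SigmaTools.exists_cj_of_alpha hG hM hL hsb.1 (SigmaTools.mem_sigma_of_card h4)
  exact hnc x hx

/-- A subgroup of an abelian Sylow subgroup of `M_σ` centralised by the prime order elements of a complement
outside `M'` is trivial. -/
theorem fix_eq_bot (hG : Cfsg.IsMinSimpleOddOrder G) (hM : IsCoatom M)
    (hn : ¬ Group.IsNilpotent (Cfsg.sigmaCore M)) (hqM : q ∈ Cfsg.sigma M) (hqb : q ∉ Cfsg.beta M) (S : Sylow q G)
    (hSM : (S : Subgroup G) ≤ M) (hab : IsMulCommutative (S : Subgroup G)) {E J Q : Subgroup G}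
    (hE : Cfsg.IsComplIn E (Cfsg.sigmaCore M) M) (hES : E ≤ Subgroup.normalizer ((S : Subgroup G) : Set G))
    (hJ : Cfsg.IsPiHallOf {s | ¬ s ∣ Nat.card ↥⁅M, M⁆} J E) (hQS : Q ≤ (S : Subgroup G))
    (hJQ : J ≤ Subgroup.normalizer (Q : Set G))
    (hfix : ∀ y ∈ J, (orderOf y).Prime → Q ≤ Subgroup.centralizer ({y} : Set G)) : Q = ⊥ := by
  have hSK := SigmaTools.pGroup_le_sigmaCore hG hM hqM hSM S.isPGroup'
  have hEC : E ≤ Subgroup.centralizer (Q : Set G) := by
    suffices h : E ≤ E ⊓ Subgroup.centralizer (Q : Set G) from h.trans inf_le_right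
    rw [← Subgroup.relIndex_eq_one]
    by_contra hne
    obtain ⟨r, hr, hd⟩ := Nat.exists_prime_and_dvd hne
    haveI := Fact.mk hr
    have hrE : r ∣ Nat.card E := hd.trans (Subgroup.index_dvd_card _)
    have hrs : r ∉ Cfsg.sigma M := (ComplementHall.isHall hG hM hE).2.1 r hr hrE
    have hqr : q ≠ r := fun e => hrs (e ▸ hqM)
    have hr1 := rank_one hG hM hn hrs
    suffices h : ∃ R : Subgroup G, R ≤ E ⊓ Subgroup.centralizer (Q : Set G) ∧ ¬ r ∣ R.relIndex E by
      obtain ⟨R, hR, hRd⟩ := h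
      exact hRd (hd.trans (Subgroup.relIndex_dvd_of_le_left _ hR))
    by_cases hrd : r ∣ Nat.card ↥⁅M, M⁆
    · obtain ⟨y₀, hy₀⟩ := exists_prime_orderOf_dvd_card' (G := ↥⁅M, M⁆) r hrd
      have hy₀M : (y₀ : G) ∈ M := SigmaComplement.derived_le_self M y₀.2
      obtain ⟨m, hm, hmE⟩ := ComplementHall.exists_conj_le hG hM hE (X := Subgroup.zpowers (y₀ : G))
        (Subgroup.zpowers_le.mpr hy₀M) (fun s hs hsd => by
          rw [Nat.card_zpowers, Subgroup.orderOf_coe, hy₀] at hsd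
          exact (Nat.prime_dvd_prime_iff_eq hs hr).mp hsd ▸ hrs)
      set y := m * (y₀ : G) * m⁻¹ with hy
      have hyE : y ∈ E := hmE ⟨y₀, Subgroup.mem_zpowers _, rfl⟩
      have hyd : y ∈ ⁅M, M⁆ :=
        (Subgroup.mem_normalizer_iff.mp (WLine.le_normalizer_derived M hm) _).mp y₀.2
      have hyo : orderOf y = r := by
        rw [show y = MulAut.conj m (y₀ : G) from rfl, MulEquiv.orderOf_eq, Subgroup.orderOf_coe, hy₀]
      have hyp : IsPGroup r (Subgroup.zpowers y) :=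
        IsPGroup.of_card (n := 1) (by rw [Nat.card_zpowers, hyo, pow_one])
      obtain ⟨T, hT⟩ := (hyp.of_equiv (Subgroup.subgroupOfEquivOfLe (Subgroup.zpowers_le.mpr hyE)).symm).exists_le_sylow
      set R := (T : Subgroup E).map E.subtype with hR
      have hRE : R ≤ E := Subgroup.map_subtype_le _
      have hyR : y ∈ R := ⟨⟨y, hyE⟩, hT (Subgroup.mem_subgroupOf.mpr (Subgroup.mem_zpowers y)), rfl⟩
      have hSy : (S : Subgroup G) ≤ Subgroup.centralizer ({y} : Set G) := by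
        rw [← SigmaTools.centralizer_zpowers, Subgroup.le_centralizer_iff]
        exact CyclicFix.centralizes_of_not_beta hG hM hqr hqb S.isPGroup' hyp
          (hSK.trans (SigmaCore.le_derived hG hM)) (Subgroup.zpowers_le.mpr hyd)
          (Subgroup.zpowers_le.mpr (hES hyE))
      have hSR := CyclicFix.centralizes hG hM hrs hr1 hqM S.isPGroup' hSM (T.isPGroup'.map E.subtype)
        (hRE.trans hE.1) (hRE.trans hES) hyR hyo hSy
      refine ⟨R, le_inf hRE (Subgroup.le_centralizer_iff.mp (hQS.trans hSR)), ?_⟩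
      rw [hR, Subgroup.relIndex, Subgroup.subgroupOf, Subgroup.comap_map_eq_self_of_injective E.subtype_injective]
      exact T.not_dvd_index
    · obtain ⟨T⟩ : Nonempty (Sylow r J) := inferInstance
      set R := (T : Subgroup J).map J.subtype with hR
      have hRJ : R ≤ J := Subgroup.map_subtype_le _
      have hRd : ¬ r ∣ R.relIndex E := fun h => by
        rw [← Subgroup.relIndex_mul_relIndex R J E hRJ hJ.1, hR, Subgroup.relIndex, Subgroup.subgroupOf,
          Subgroup.comap_map_eq_self_of_injective J.subtype_injective] at h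
        exact (hr.dvd_mul.mp h).elim T.not_dvd_index (hJ.2.2 r hr hrd)
      have hRc : r ∣ Nat.card R := by
        rcases (T.isPGroup'.map J.subtype).card_eq_or_dvd with h | h
        · exfalso
          refine hRd ?_
          have hh := Coprime.card_mul_relIndex_eq (hRJ.trans hJ.1)
          rw [h, one_mul] at hh
          exact hh ▸ hrE
        · exact h
      obtain ⟨y, hy⟩ := exists_prime_orderOf_dvd_card' (G := R) r hRc
      have hyo : orderOf (y : G) = r := by rw [Subgroup.orderOf_coe, hy]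
      exact ⟨R, le_inf (hRJ.trans hJ.1) (Subgroup.le_centralizer_iff.mp
        (CyclicFix.centralizes hG hM hrs hr1 hqM (S.isPGroup'.to_le hQS) (hQS.trans hSM) (T.isPGroup'.map J.subtype)
          ((hRJ.trans hJ.1).trans hE.1) (hRJ.trans hJQ) y.2 hyo (hfix y (hRJ y.2) (hyo ▸ hr)))), hRd⟩
  have h1 : Q ≤ ⁅Cfsg.sigmaCore M, Cfsg.sigmaCore M⁆ :=
    (le_inf (hQS.trans hSK) (Subgroup.le_centralizer_iff.mp hEC)).trans (SigmaCommutator.main hG hM hE).2
  refine le_bot_iff.mp fun x hx => ?_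
  have hnpc := NarrowMaximal.npc_of_le_derived hG hM hqM.2.1 hqb (SigmaCore.le_derived hG hM)
  have hxK : x ∈ Cfsg.sigmaCore M := hQS.trans hSK hx
  obtain ⟨z, hz, e⟩ := (Subgroup.map_subtype_commutator (Cfsg.sigmaCore M)).ge (h1 hx)
  have hzx : z = ⟨x, hxK⟩ := (Cfsg.sigmaCore M).subtype_injective e
  have h2 := SigmaUnique.inf_derived_le hnpc (S.subtype hSK) (x := ⟨x, hxK⟩)
    ⟨show (⟨x, hxK⟩ : Cfsg.sigmaCore M) ∈ (S : Subgroup G).subgroupOf (Cfsg.sigmaCore M) from hQS hx, hzx ▸ hz⟩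
  have h3 : ⁅((S.subtype hSK : Sylow q (Cfsg.sigmaCore M)) : Subgroup (Cfsg.sigmaCore M)),
      ((S.subtype hSK : Sylow q (Cfsg.sigmaCore M)) : Subgroup (Cfsg.sigmaCore M))⁆ = ⊥ := by
    refine Subgroup.commutator_eq_bot_iff_le_centralizer.mpr fun a ha => Subgroup.mem_centralizer_iff.mpr fun b hb => ?_
    exact Subtype.ext (PlaneSylow.comm_of hab hb ha).eq
  rw [h3, Subgroup.mem_bot] at h2
  exact Subgroup.mem_bot.mpr (congrArg Subtype.val h2)

/-- One side of the configuration reached from a common prime. -/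
theorem side (hG : Cfsg.IsMinSimpleOddOrder G) (hM : IsCoatom M) (hL : IsCoatom L) (hnc : ∀ g : G, L ≠ cj g M)
    (hqM : q ∈ Cfsg.sigma M) (hqL : q ∈ Cfsg.sigma L) (S : Sylow q G) (hSM : (S : Subgroup G) ≤ M)
    (hSL : (S : Subgroup G) ≤ L) (hP : Nat.card P = p) (hPM : P ≤ M) (hpM : p ∉ Cfsg.sigma M)
    (hPS : P ≤ Subgroup.normalizer ((S : Subgroup G) : Set G))
    (hfpf : (S : Subgroup G) ⊓ Subgroup.centralizer (P : Set G) = ⊥) :
    CommonMover.Side p M L P (S : Subgroup G) := by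
  have hn : ¬ Group.IsNilpotent (Cfsg.sigmaCore M) := fun hn => by
    haveI := hn
    obtain ⟨x, hx⟩ := PlaneMaximal.exists_cj_of_nilpotent hG hM hqM hL hqL
    exact hnc x hx
  have hNL := SigmaTools.normalizer_sylow_le hqL S hSL
  obtain ⟨E, hE, hEI, hPE⟩ := exists_compl hG hM hqM S hSM (le_inf hPM hPS) (fun s hs hd => by
    rw [hP] at hd
    exact (Nat.prime_dvd_prime_iff_eq hs hp.out).mp hd ▸ hpM)
  refine ⟨hM, hL, hnc, hP, hPM, hpM, rank_one hG hM hn hpM, hSM, hPS, hfpf, fun s hs hd => ?_,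
    (Subgroup.centralizer_le_normalizer _).trans hNL, inf_le_centralizer hG hM hL hnc hqL S hSM hSL,
    ⟨E, hE, hEI.trans (inf_le_right.trans hNL), hPE⟩, ?_⟩
  · haveI := Fact.mk hs.1.1
    obtain rfl := PrimeAction.pGroup_dvd S.isPGroup' hs.1.1 hd
    obtain ⟨x, hx⟩ := SigmaTools.exists_cj_of_alpha hG hM hL hs.1 hqL
    exact hnc x hx
  · by_contra hcon
    push Not at hcon
    exact hn (BetaCore.isNilpotent_of_le_derived hG hM (SigmaCore.le_derived hG hM) fun s _ _ => hcon s)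

/-- **`σ(M)` determines `M` up to conjugacy.** -/
theorem main (hG : Cfsg.IsMinSimpleOddOrder G) (hM : IsCoatom M) (hL : IsCoatom L) (hqM : q ∈ Cfsg.sigma M)
    (hqL : q ∈ Cfsg.sigma L) : ∃ g : G, L = cj g M := by
  by_contra hcon
  push Not at hcon
  obtain ⟨S, hSM, hNS⟩ := SigmaFusion.exists_sylow_sigma hqM
  obtain ⟨Q, hQL, -⟩ := SigmaFusion.exists_sylow_sigma hqL
  obtain ⟨g, hg⟩ := MulAction.exists_smul_eq G Q S
  set N := cj g L with hN
  have hNc : IsCoatom N := SigmaFusion.isCoatom_cj hL g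
  have hqN : q ∈ Cfsg.sigma N := SigmaTools.sigma_cj hqL g
  have hSN : (S : Subgroup G) ≤ N := by
    rw [← hg, Sylow.coe_subgroup_smul]
    exact Subgroup.map_mono hQL
  have hnc : ∀ x : G, N ≠ cj x M := fun x e => hcon (g⁻¹ * x)
    (by rw [← SigmaFusion.cj_cj, ← e, hN, SigmaFusion.cj_cj, inv_mul_cancel, SigmaFusion.cj_one])
  have hnM : ¬ Group.IsNilpotent (Cfsg.sigmaCore M) := fun hn => by
    haveI := hn
    obtain ⟨x, hx⟩ := PlaneMaximal.exists_cj_of_nilpotent hG hM hqM hNc hqN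
    exact hnc x hx
  have hqb : q ∉ Cfsg.beta M := fun hb => by
    obtain ⟨x, hx⟩ := SigmaTools.exists_cj_of_alpha hG hM hNc hb.1 hqN
    exact hnc x hx
  have hqb' : q ∉ Cfsg.beta N := fun hb => by
    obtain ⟨x, hx⟩ := SigmaTools.exists_cj_of_alpha hG hNc hM hb.1 hqM
    exact hnc x⁻¹ (by rw [hx, SigmaFusion.cj_cj, inv_mul_cancel, SigmaFusion.cj_one])
  have hab : IsMulCommutative (S : Subgroup G) := by
    by_contra hna
    obtain ⟨V, -, hV⟩ := NonabelianUnique.main hG S.isPGroup' hna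
    exact hnc 1 (by rw [SigmaFusion.cj_one, hV N ⟨hNc, hSN⟩, hV M ⟨hM, hSM⟩])
  obtain ⟨E, hE, hEI, -⟩ := exists_compl hG hM hqM S hSM (Y := ⊥) bot_le (fun s hs hd => by
    rw [Subgroup.card_bot] at hd
    exact absurd (Nat.dvd_one.mp hd) hs.ne_one)
  have hES : E ≤ Subgroup.normalizer ((S : Subgroup G) : Set G) := hEI.trans inf_le_right
  obtain ⟨J, hJ⟩ := Coprime.exists_hall {s | ¬ s ∣ Nat.card ↥⁅M, M⁆}
    (hG.2.2.2 E fun e => hM.1 (top_le_iff.mp (e ▸ hE.1)))
  have hJab : J ≤ Subgroup.centralizer (J : Set G) := by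
    refine Subgroup.commutator_eq_bot_iff_le_centralizer.mp ?_
    refine Subgroup.eq_bot_of_card_eq _ ?_
    by_contra hne
    obtain ⟨r, hr, hd⟩ := Nat.exists_prime_and_dvd hne
    exact hJ.2.1 r hr (hd.trans (Subgroup.card_dvd_of_le (SigmaComplement.derived_le_self J)))
      (hd.trans (Subgroup.card_dvd_of_le (Subgroup.commutator_mono (hJ.1.trans hE.1) (hJ.1.trans hE.1))))
  obtain ⟨y, hyJ, hyp, hyS⟩ : ∃ y ∈ J, (orderOf y).Prime ∧
      ¬ (S : Subgroup G) ≤ Subgroup.centralizer ({y} : Set G) := by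
    by_contra hc
    push Not at hc
    have h := fix_eq_bot hG hM hnM hqM hqb S hSM hab hE hES hJ le_rfl (hJ.1.trans hES) hc
    refine S.not_dvd_index ?_
    rw [h, Subgroup.index_bot]
    exact SigmaTools.sigma_dvd hqM
  set p' := orderOf y with hp'
  haveI := Fact.mk hyp
  set P₀ := Subgroup.zpowers y with hP₀
  have hP₀c : Nat.card P₀ = p' := Nat.card_zpowers y
  have hP₀p : IsPGroup p' P₀ := IsPGroup.of_card (n := 1) (by rw [hP₀c, pow_one])
  have hP₀J : P₀ ≤ J := Subgroup.zpowers_le.mpr hyJ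
  have hP₀E : P₀ ≤ E := hP₀J.trans hJ.1
  have hP₀M : P₀ ≤ M := hP₀E.trans hE.1
  have hP₀S : P₀ ≤ Subgroup.normalizer ((S : Subgroup G) : Set G) := hP₀E.trans hES
  have hpM : p' ∉ Cfsg.sigma M :=
    (ComplementHall.isHall hG hM hE).2.1 p' hyp (hP₀c ▸ Subgroup.card_dvd_of_le hP₀E)
  have hpd : ¬ p' ∣ Nat.card ↥⁅M, M⁆ := hJ.2.1 p' hyp (hP₀c ▸ Subgroup.card_dvd_of_le hP₀J)
  have hτ : p' ∈ Cfsg.tau1 M :=
    ⟨hyp, hpM, hP₀c ▸ Subgroup.card_dvd_of_le hP₀M, hpd, rank_one hG hM hnM hpM⟩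
  have hP₀N : P₀ ≤ N := hP₀S.trans (SigmaTools.normalizer_sylow_le hqN S hSN)
  have hpq : q ≠ p' := fun e => hpM (e ▸ hqM)
  have hpN : p' ∉ Cfsg.sigma N := fun hs => hyS (by
    rw [← SigmaTools.centralizer_zpowers, Subgroup.le_centralizer_iff]
    exact CyclicFix.centralizes_of_not_beta hG hNc hpq hqb' S.isPGroup' hP₀p
      ((SigmaTools.pGroup_le_sigmaCore hG hNc hqN hSN S.isPGroup').trans (SigmaCore.le_derived hG hNc))
      ((SigmaTools.pGroup_le_sigmaCore hG hNc hs hP₀N hP₀p).trans (SigmaCore.le_derived hG hNc)) hP₀S)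
  have hfpf : (S : Subgroup G) ⊓ Subgroup.centralizer (P₀ : Set G) = ⊥ := by
    refine fix_eq_bot hG hM hnM hqM hqb S hSM hab hE hES hJ inf_le_left ?_ fun a ha hao => ?_
    · exact (le_inf (hJ.1.trans hES)
        ((hJab.trans (Subgroup.centralizer_le (SetLike.coe_subset_coe.mpr hP₀J))).trans
          Subgroup.le_normalizer)).trans Subgroup.inf_normalizer_le_normalizer_inf
    · haveI := Fact.mk hao
      rw [← SigmaTools.centralizer_zpowers]
      refine le_trans ?_ (PrimeActionMain.main hG hM hτ (r := orderOf a) ?_ hP₀M hP₀c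
        (Subgroup.zpowers_le.mpr (hE.1 (hJ.1 ha))) (Nat.card_zpowers a)
        ((Subgroup.zpowers_le.mpr ha).trans (hJab.trans (Subgroup.centralizer_le (SetLike.coe_subset_coe.mpr hP₀J)))))
      · exact inf_le_inf_right _ (SigmaTools.pGroup_le_sigmaCore hG hM hqM hSM S.isPGroup')
      · refine (ComplementHall.isHall hG hM hE).2.1 _ hao ?_
        rw [← Nat.card_zpowers]
        exact Subgroup.card_dvd_of_le (Subgroup.zpowers_le.mpr (hJ.1 ha))
  exact CommonMover.Side.contradiction hG (side hG hM hNc hnc hqM hqN S hSM hSN hP₀c hP₀M hpM hP₀S hfpf)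
    (side hG hNc hM (fun g e => hnc g⁻¹ (by rw [e, SigmaFusion.cj_cj, inv_mul_cancel, SigmaFusion.cj_one]))
      hqN hqM S hSN hSM hP₀c hP₀N hpN hP₀S hfpf)

end CfsgLib.OddOrder.SigmaDisjoint
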