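import Cfsg.Agent.Lib.OddOrder.SigmaCentralizer
import Cfsg.Agent.Lib.OddOrder.SigmaDisjoint
import Mathlib

set_option autoImplicit false
set_option linter.style.haveILetI false
set_option linter.unusedSectionVars false

/-!
The cosets `x R(x)` (BG 14.5).
-/

namespace CfsgLib.OddOrder.SupportCosets

open scoped commutatorElement
open SigmaFusion (cj)
open SigmaCentralizer (Over)

variable {G : Type*} [Group G] [Finite G] {M M' : Subgroup G}

/-- Commuting factorisations into `π` and `π'` parts are unique. -/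
theorem parts_eq {π : Set ℕ} {a b c d : G} (hab : Commute a b) (hcd : Commute c d) (h : a * b = c * d)
    (ha : ∀ t : ℕ, t.Prime → t ∣ orderOf a → t ∈ π) (hb : ∀ t : ℕ, t.Prime → t ∣ orderOf b → t ∉ π)
    (hc : ∀ t : ℕ, t.Prime → t ∣ orderOf c → t ∈ π) (hd : ∀ t : ℕ, t.Prime → t ∣ orderOf d → t ∉ π) :
    a = c ∧ b = d := by
  have hcop : (orderOf a * orderOf c).Coprime (orderOf b * orderOf d) :=
    Coprime.coprime_of_pi (π := π)
      (fun t ht htd => (ht.dvd_mul.mp htd).elim (ha t ht) (hc t ht))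
      fun t ht htπ htd => (ht.dvd_mul.mp htd).elim (fun e => hb t ht e htπ) (fun e => hd t ht e htπ)
  obtain ⟨n, h1, h2⟩ := Nat.chineseRemainder hcop 1 0
  have key : ∀ u v : G, Commute u v → orderOf u ∣ orderOf a * orderOf c → orderOf v ∣ orderOf b * orderOf d →
      (u * v) ^ n = u := fun u v huv hu hv => by
    rw [huv.mul_pow, show u ^ n = u ^ 1 from pow_eq_pow_iff_modEq.mpr (h1.of_dvd hu),
      show v ^ n = 1 from orderOf_dvd_iff_pow_eq_one.mp (hv.trans (Nat.modEq_zero_iff_dvd.mp h2)), pow_one, mul_one]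
  have hac : a = c := by
    rw [← key a b hab (dvd_mul_right _ _) (dvd_mul_right _ _), h, key c d hcd (dvd_mul_left _ _) (dvd_mul_left _ _)]
  subst hac
  exact ⟨rfl, mul_left_cancel h⟩

theorem sigma_number {L : Subgroup G} {x : G} (hx : x ∈ Cfsg.sigmaCore L) (t : ℕ) (ht : t.Prime) (hd : t ∣ orderOf x) :
    t ∈ Cfsg.sigma L := by
  haveI := Fact.mk ht
  exact SigmaTools.mem_sigma_of_card (hd.trans (Subgroup.orderOf_dvd_natCard _ hx))

theorem sigma_cj_iff {t : ℕ} (ht : t.Prime) (L : Subgroup G) (g : G) : t ∈ Cfsg.sigma (cj g L) ↔ t ∈ Cfsg.sigma L := by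
  haveI := Fact.mk ht
  exact ⟨fun h => by_contra fun h' => SigmaTools.not_sigma_cj h' g h, fun h => SigmaTools.sigma_cj h g⟩

theorem disjoint (hG : Cfsg.IsMinSimpleOddOrder G) (hM : IsCoatom M) {L : Subgroup G} (hL : IsCoatom L)
    (hnc : ∀ g : G, L ≠ cj g M) {t : ℕ} (ht : t.Prime) (htM : t ∈ Cfsg.sigma M) : t ∉ Cfsg.sigma L := fun htL => by
  haveI := Fact.mk ht
  obtain ⟨g, hg⟩ := SigmaDisjoint.main hG hM hL htM htL
  exact hnc g hg

theorem mem_support {x r : G} (hG : Cfsg.IsMinSimpleOddOrder G) (hM : IsCoatom M) (hx : x ∈ Cfsg.sigmaCore M)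
    (hx1 : x ≠ 1) (hr : r ∈ Cfsg.supportR M x) :
    r = 1 ∨ ∃ N : Subgroup G, Over M N x ∧ r ∈ Cfsg.sigmaCore N ⊓ Subgroup.centralizer ({x} : Set G) := by
  by_cases hxM : Subgroup.centralizer ({x} : Set G) ≤ M
  · rw [SigmaCentralizer.supportR_eq_bot hxM] at hr
    exact Or.inl (Subgroup.mem_bot.mp hr)
  · obtain ⟨N, h⟩ := SigmaCentralizer.exists_over hG hM hx hx1 hxM
    rw [h.supportR_eq hG hxM] at hr
    exact Or.inr ⟨N, h, hr⟩

theorem support_commute {x r : G} (hG : Cfsg.IsMinSimpleOddOrder G) (hM : IsCoatom M) (hx : x ∈ Cfsg.sigmaCore M)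
    (hx1 : x ≠ 1) (hr : r ∈ Cfsg.supportR M x) : Commute x r := by
  rcases mem_support hG hM hx hx1 hr with rfl | ⟨N, -, hr'⟩
  · exact Commute.one_right x
  · exact (Subgroup.mem_centralizer_singleton_iff.mp hr'.2).symm

theorem support_number {x r : G} (hG : Cfsg.IsMinSimpleOddOrder G) (hM : IsCoatom M) (hx : x ∈ Cfsg.sigmaCore M)
    (hx1 : x ≠ 1) (hr : r ∈ Cfsg.supportR M x) (t : ℕ) (ht : t.Prime) (hd : t ∣ orderOf r) : t ∉ Cfsg.sigma M := by
  rcases mem_support hG hM hx hx1 hr with rfl | ⟨N, h, hr'⟩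
  · rw [orderOf_one] at hd
    exact absurd (Nat.dvd_one.mp hd) ht.ne_one
  · exact fun htM => disjoint hG hM h.coatom h.nonconj ht htM (sigma_number hr'.1 t ht hd)

theorem conj_or_cross (hG : Cfsg.IsMinSimpleOddOrder G) (hM : IsCoatom M) (hM' : IsCoatom M') {x y r s : G}
    (hx : x ∈ Cfsg.sigmaCore M) (hx1 : x ≠ 1) (hy : y ∈ Cfsg.sigmaCore M') (hy1 : y ≠ 1)
    (hr : r ∈ Cfsg.supportR M x) (hs : s ∈ Cfsg.supportR M' y) (h : x * r = y * s) :
    (∃ g : G, M' = cj g M) ∧ x = y := by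
  have hxr := support_commute hG hM hx hx1 hr
  have hys := support_commute hG hM' hy hy1 hs
  by_cases hc : ∃ g : G, M' = cj g M
  · obtain ⟨g, rfl⟩ := hc
    exact ⟨⟨g, rfl⟩, (parts_eq (π := Cfsg.sigma M) hxr hys h (sigma_number hx) (support_number hG hM hx hx1 hr)
      (fun t ht hd => (sigma_cj_iff ht M g).mp (sigma_number hy t ht hd))
      fun t ht hd hs' => support_number hG hM' hy hy1 hs t ht hd ((sigma_cj_iff ht M g).mpr hs')).1⟩
  exfalso
  push Not at hc
  -- the cross case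
  have hy' : ∀ t : ℕ, t.Prime → t ∣ orderOf y → t ∉ Cfsg.sigma M := fun t ht hd htM =>
    disjoint hG hM hM' hc ht htM (sigma_number hy t ht hd)
  rcases mem_support hG hM hx hx1 hr with rfl | ⟨N, hN, hrN⟩
  · rw [mul_one] at h
    obtain ⟨t, ht, hd⟩ := Nat.exists_prime_and_dvd (mt orderOf_eq_one_iff.mp hy1)
    refine hy' t ht hd (sigma_number hx t ht (hd.trans ?_))
    have hcop : (orderOf y).Coprime (orderOf s) := Nat.coprime_of_dvd fun k hk h1 h2 =>
      support_number hG hM' hy hy1 hs k hk h2 (sigma_number hy k hk h1)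
    rw [h, hys.orderOf_mul_eq_mul_orderOf_of_coprime hcop]
    exact dvd_mul_right _ _
  rcases mem_support hG hM' hy hy1 hs with rfl | ⟨N', hN', hsN'⟩
  · rw [mul_one] at h
    obtain ⟨t, ht, hd⟩ := Nat.exists_prime_and_dvd (mt orderOf_eq_one_iff.mp hx1)
    refine hy' t ht ?_ (sigma_number hx t ht hd)
    have hcop : (orderOf x).Coprime (orderOf r) := Nat.coprime_of_dvd fun k hk h1 h2 =>
      support_number hG hM hx hx1 hr k hk h2 (sigma_number hx k hk h1)
    rw [← h, hxr.orderOf_mul_eq_mul_orderOf_of_coprime hcop]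
    exact hd.trans (dvd_mul_right _ _)
  have hcopx : (orderOf x).Coprime (orderOf r) := Nat.coprime_of_dvd fun k hk h1 h2 =>
    support_number hG hM hx hx1 hr k hk h2 (sigma_number hx k hk h1)
  have hcopy : (orderOf y).Coprime (orderOf s) := Nat.coprime_of_dvd fun k hk h1 h2 =>
    support_number hG hM' hy hy1 hs k hk h2 (sigma_number hy k hk h1)
  have hord : orderOf x * orderOf r = orderOf y * orderOf s := by
    rw [← hxr.orderOf_mul_eq_mul_orderOf_of_coprime hcopx, h, hys.orderOf_mul_eq_mul_orderOf_of_coprime hcopy]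
  -- `N ~ M'` and `N' ~ M`
  obtain ⟨g₁, hg₁⟩ : ∃ g : G, N = cj g M' := by
    obtain ⟨t, ht, hd⟩ := Nat.exists_prime_and_dvd (mt orderOf_eq_one_iff.mp hy1)
    haveI := Fact.mk ht
    refine SigmaDisjoint.main hG hM' hN.coatom (sigma_number hy t ht hd) ?_
    rcases ht.dvd_mul.mp (hord ▸ hd.trans (dvd_mul_right _ _) : t ∣ orderOf x * orderOf r) with h1 | h1
    · exact absurd (sigma_number hx t ht h1) (hy' t ht hd)
    · exact sigma_number hrN.1 t ht h1
  obtain ⟨g₂, hg₂⟩ : ∃ g : G, N' = cj g M := by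
    obtain ⟨t, ht, hd⟩ := Nat.exists_prime_and_dvd (mt orderOf_eq_one_iff.mp hx1)
    haveI := Fact.mk ht
    refine SigmaDisjoint.main hG hM hN'.coatom (sigma_number hx t ht hd) ?_
    rcases ht.dvd_mul.mp (hord.symm ▸ hd.trans (dvd_mul_right _ _) : t ∣ orderOf y * orderOf s) with h1 | h1
    · exact absurd (sigma_number hx t ht hd) (hy' t ht h1)
    · exact sigma_number hsN'.1 t ht h1
  obtain ⟨hxs, hry⟩ := parts_eq (π := Cfsg.sigma M) hxr hys.symm (h.trans hys.eq) (sigma_number hx)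
    (support_number hG hM hx hx1 hr) (fun t ht hd => by
      have := sigma_number hsN'.1 t ht hd
      rw [hg₂] at this
      exact (sigma_cj_iff ht M g₂).mp this) hy'
  have hxN' : x ∈ cj g₂ M := hg₂ ▸ hxs ▸ SigmaTools.sigmaCore_le N' hsN'.1
  obtain ⟨b, hb, hbM⟩ := SigmaCentralizer.exists_centralizer_conj hG hM hx hx1 hxN'
  have hrM : r ∈ cj b M := by
    rw [hbM, ← hg₂, hry]
    exact hN'.mem.2
  rw [SigmaTools.mem_cj] at hrM
  have hbN : b ∈ N := hN.le hb
  have hr2 : b⁻¹ * r * b ∈ Cfsg.sigmaCore N ⊓ M := by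
    refine ⟨?_, hrM⟩
    have := (Subgroup.mem_normalizer_iff.mp (SigmaTools.le_normalizer_sigmaCore N (inv_mem hbN)) r).mp hrN.1
    rwa [inv_inv] at this
  rw [hN.bot, Subgroup.mem_bot] at hr2
  refine hy1 ?_
  rw [← hry, show r = b * (b⁻¹ * r * b) * b⁻¹ by group, hr2, mul_one, mul_inv_cancel]

/-- BG 14.5: distinct elements have disjoint cosets. -/
theorem disjoint_cosets (hG : Cfsg.IsMinSimpleOddOrder G) (hM : IsCoatom M) (hM' : IsCoatom M') {x y r s : G}
    (hx : x ∈ Cfsg.sigmaCore M) (hx1 : x ≠ 1) (hy : y ∈ Cfsg.sigmaCore M') (hy1 : y ≠ 1)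
    (hr : r ∈ Cfsg.supportR M x) (hs : s ∈ Cfsg.supportR M' y) (h : x * r = y * s) : x = y :=
  (conj_or_cross hG hM hM' hx hx1 hy hy1 hr hs h).2

end CfsgLib.OddOrder.SupportCosets
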