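import Cfsg.Agent.Lib.OddOrder.TypeP

/-!
Bender–Glauberman §16: subgroups of Frobenius type.
-/

set_option autoImplicit false

namespace CfsgLib.OddOrder.TypeF

open SigmaFusion (cj)
open StarPartner (Dstar Pk)

variable {G : Type*} [Group G] [Finite G] {M K U L : Subgroup G}

/-- The exponent of a finite group has the primes of its order. -/
theorem dvd_exponent {X : Type*} [Group X] [Finite X] {t : ℕ} (ht : t.Prime) (hd : t ∣ Nat.card X) :
    t ∣ Monoid.exponent X := by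
  haveI := Fact.mk ht
  obtain ⟨x, hx⟩ := exists_prime_orderOf_dvd_card' t hd
  exact hx ▸ Monoid.order_dvd_exponent x

/-- An element of order `t` of `U` without fixed points on `M_σ`. -/
theorem exists_free (hG : Cfsg.IsMinSimpleOddOrder G) (hM : IsCoatom M) (h : Cfsg.IsSigmaDecomposition M K U)
    {t : ℕ} (ht : t.Prime) (hd : t ∣ Nat.card U) :
    ∃ u ∈ U, orderOf u = t ∧ Cfsg.sigmaCore M ⊓ Subgroup.centralizer ({u} : Set G) = ⊥ := by
  haveI := Fact.mk ht
  obtain ⟨U₀, hle, hexp, hfree⟩ := Cfsg.Agent.S1360.result hG M hM K U h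
  obtain ⟨u, hu⟩ := exists_prime_orderOf_dvd_card' (G := U₀) t
    ((hexp ▸ dvd_exponent ht hd).trans (Group.exponent_dvd_nat_card))
  refine ⟨u, hle u.2, by rw [Subgroup.orderOf_coe, hu], le_bot_iff.mp fun z hz => Subgroup.mem_bot.mpr ?_⟩
  by_contra hz1
  have := hfree u u.2 ⟨SigmaDecomp.U_le h (hle u.2), z, hz.1, hz1, (Subgroup.mem_centralizer_singleton_iff.mp hz.2).symm⟩
  rw [← Subgroup.orderOf_coe, this, orderOf_one] at hu
  exact ht.ne_one hu.symm

/-- `M_σ` is the nilpotent normal Hall radical of `L` when `U` complements it in `L`. -/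
theorem fittingHallOf_eq (hG : Cfsg.IsMinSimpleOddOrder G) (hM : IsCoatom M) (h : Cfsg.IsSigmaDecomposition M K U)
    (hn : Group.IsNilpotent (Cfsg.sigmaCore M)) (hLM : L ≤ M) (hc : Cfsg.IsComplIn (Cfsg.sigmaCore M) U L) :
    Cfsg.fittingHallOf L = Cfsg.sigmaCore M := by
  set H := Cfsg.sigmaCore M with hH
  have hHn : L ≤ Subgroup.normalizer (H : Set G) := hLM.trans (SigmaTools.le_normalizer_sigmaCore M)
  have hcop : (Nat.card H).Coprime (H.relIndex L) := by
    rw [Basic.IsComplIn.relIndex_left hc]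
    exact Nat.coprime_of_dvd fun t ht h1 h2 => haveI := Fact.mk ht
      (SigmaDecomp.U_primes hG hM h t ht h2).2.2 (SigmaTools.mem_sigma_of_card h1)
  have hge := Basic.le_fittingHallOf hc.1 hHn hn hcop
  refine le_antisymm ?_ hge
  set F := Cfsg.fittingHallOf L with hF
  haveI : Group.IsNilpotent F := Basic.fittingHallOf_isNilpotent
  have hFL : F ≤ L := Basic.fittingHallOf_le
  haveI : (H.subgroupOf L).Normal := (Subgroup.normal_subgroupOf_iff_le_normalizer hc.1).mpr hHn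
  haveI : (F.subgroupOf L).Normal :=
    (Subgroup.normal_subgroupOf_iff_le_normalizer hFL).mpr Basic.le_normalizer_fittingHallOf
  suffices hπ : ∀ t : ℕ, t.Prime → t ∣ Nat.card F → t ∈ Cfsg.sigma M by
    exact (SigmaTools.le_sigmaCore hG hM (hFL.trans hLM) hπ)
  intro t ht htF
  by_contra hts
  haveI := Fact.mk ht
  have htU : t ∣ Nat.card U := by
    have h1 := htF.trans (Subgroup.card_dvd_of_le hFL)
    rw [← Coprime.card_mul_relIndex_eq hc.1, Basic.IsComplIn.relIndex_left hc] at h1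
    exact (ht.dvd_mul.mp h1).resolve_left fun h2 => hts (SigmaTools.mem_sigma_of_card h2)
  obtain ⟨u, hu, huo, hfix⟩ := exists_free hG hM h ht htU
  have huL : u ∈ L := hc.2.1 hu
  have huF : u ∈ F := by
    have h1 := SigmaCore.le_of_coprime_index (N := F.subgroupOf L) (K := Subgroup.zpowers (⟨u, huL⟩ : L)) (by
      rw [Nat.card_zpowers, Subgroup.orderOf_mk, huo, ht.coprime_iff_not_dvd]
      exact fun hd => Nat.not_coprime_of_dvd_of_dvd ht.one_lt htF hd Basic.fittingHallOf_coprime)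
    exact h1 (Subgroup.mem_zpowers _)
  refine SigmaCore.sigmaCore_ne_bot hG hM (le_bot_iff.mp (hfix ▸ le_inf le_rfl fun z hz => ?_))
  refine Subgroup.mem_centralizer_singleton_iff.mpr (Basic.commute_of_mem_nilpotent (hge hz) huF ?_).eq
  rw [huo, Nat.coprime_comm, ht.coprime_iff_not_dvd]
  exact fun hd => hts (SigmaTools.mem_sigma_of_card (hd.trans (Subgroup.orderOf_dvd_natCard _ hz)))

/-- `M_σ U` is of Frobenius type. -/
theorem typeF (hG : Cfsg.IsMinSimpleOddOrder G) (hM : IsCoatom M) (h : Cfsg.IsSigmaDecomposition M K U)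
    (hn : Group.IsNilpotent (Cfsg.sigmaCore M)) (hU : U ≠ ⊥) (hLM : L ≤ M)
    (hc : Cfsg.IsComplIn (Cfsg.sigmaCore M) U L) : Cfsg.IsOfTypeF L := by
  have hfh : Cfsg.fittingHall L = (Cfsg.sigmaCore M).subgroupOf L := by
    rw [← fittingHallOf_eq hG hM h hn hLM hc, Basic.subgroupOf_fittingHallOf]
  set H := Cfsg.sigmaCore M with hH
  obtain ⟨U₀, hle, hexp, hfree⟩ := Cfsg.Agent.S1360.result hG M hM K U h
  have hab := Cfsg.Agent.S1359.result hG M hM K U h
  set U₁ := Subgroup.closure ((U : Set G) ∩ Cfsg.sigmaHat M) with hU₁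
  have hU₁U : U₁ ≤ U := (Subgroup.closure_le _).mpr Set.inter_subset_left
  have hUL : U ≤ L := hc.2.1
  refine ⟨hG.2.2.2 L fun e => hM.1 (top_le_iff.mp (e ▸ hLM)), hG.1.of_dvd_nat L.card_subgroup_dvd_card, ?_, ?_,
    U.subgroupOf L, ?_, ?_, ⟨U₁.subgroupOf L, fun x hx => hU₁U hx, ?_, ?_, fun x hx hx1 u hu => ?_⟩,
    U₀.subgroupOf L, fun x hx => hle hx, ?_, fun u hu hu1 x hx hux => ?_⟩
  · rw [hfh, Ne, Subgroup.subgroupOf_eq_bot, disjoint_iff, inf_eq_left.mpr hc.1]
    exact SigmaCore.sigmaCore_ne_bot hG hM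
  · rw [hfh, Ne, Subgroup.subgroupOf_eq_top]
    exact fun e => hU (le_bot_iff.mp (hc.2.2.1 ▸ le_inf (hUL.trans e) le_rfl))
  · rw [Ne, Subgroup.subgroupOf_eq_bot, disjoint_iff, inf_eq_left.mpr hUL]
    exact hU
  · rw [hfh]; exact Basic.IsComplIn.isComplement' hc
  · intro a ha
    refine NormalizerFusion.mem_normalizer_of_conj fun b hb => ?_
    have hconj : ∀ g ∈ U, U₁ ≤ U₁.comap (MulAut.conj g).toMonoidHom := fun g hg => by
      rw [hU₁, Subgroup.closure_le]
      rintro c ⟨hc1, hcM, y, hy, hy1, hcy⟩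
      refine Subgroup.subset_closure ⟨U.mul_mem (U.mul_mem hg hc1) (U.inv_mem hg),
        M.mul_mem (M.mul_mem (hLM (hUL hg)) hcM) (M.inv_mem (hLM (hUL hg))), g * y * g⁻¹,
        (Subgroup.mem_normalizer_iff.mp (SigmaTools.le_normalizer_sigmaCore M (hLM (hUL hg))) y).mp hy,
        fun e => hy1 (conj_eq_one_iff.mp e), ?_⟩
      show g * c * g⁻¹ * (g * y * g⁻¹) = g * y * g⁻¹ * (g * c * g⁻¹)
      calc g * c * g⁻¹ * (g * y * g⁻¹) = g * (c * y) * g⁻¹ := by group
        _ = g * (y * c) * g⁻¹ := by rw [hcy]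
        _ = _ := by group
    exact hconj (a : G) ha hb
  · haveI := hab
    refine ⟨⟨fun a b => ?_⟩⟩
    apply Subtype.ext
    apply Subtype.ext
    have hcomm := hab.is_comm.comm (⟨((a : L) : G), a.2⟩ : U₁) ⟨((b : L) : G), b.2⟩
    simpa using congrArg (fun z : U₁ => (z : G)) hcomm
  · rw [hfh] at hx
    obtain ⟨hu1, hu2⟩ := hu
    refine Subgroup.subset_closure ⟨hu1, hLM u.2, (x : G), hx, fun e => hx1 (Subtype.ext e), ?_⟩
    exact congrArg Subtype.val (Subgroup.mem_centralizer_singleton_iff.mp hu2)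
  · rw [Monoid.exponent_eq_of_mulEquiv (Subgroup.subgroupOfEquivOfLe (hle.trans hUL)), hexp,
      Monoid.exponent_eq_of_mulEquiv (Subgroup.subgroupOfEquivOfLe hUL)]
  · rw [hfh] at hx
    by_contra hx1
    exact hu1 (Subtype.ext (hfree (u : G) hu ⟨hLM u.2, (x : G), hx, fun e => hx1 (Subtype.ext e),
      congrArg Subtype.val hux⟩))

/-- A subgroup of Frobenius type has trivial `κ`. -/
theorem kappa_of_typeF (hG : Cfsg.IsMinSimpleOddOrder G) (hM : IsCoatom M) (h : Cfsg.IsSigmaDecomposition M K U)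
    (hF : Cfsg.IsOfTypeF M) : K = ⊥ := by
  by_contra hK
  obtain ⟨-, -, -, -, V, -, hVc, -, V₀, -, hexp, hfree⟩ := hF
  obtain ⟨f, hf, hfp⟩ := KappaHall.exists_prime_elem hK
  haveI := Fact.mk hfp
  set t := orderOf f
  have htK : t ∣ Nat.card K := Subgroup.orderOf_dvd_natCard _ hf
  have hts := SigmaDecomp.kappa_not_sigma (h.hall.2.1 t hfp htK)
  have htV : t ∣ Nat.card V := by
    have h1 : Nat.card (Cfsg.fittingHall M) * Nat.card V = Nat.card M := hVc.card_mul
    have h2 := htK.trans (Subgroup.card_dvd_of_le (SigmaDecomp.K_le h))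
    rw [← h1] at h2
    refine (hfp.dvd_mul.mp h2).resolve_left fun h3 => hts (SigmaTools.mem_sigma_of_card ?_)
    refine h3.trans ?_
    rw [← Subgroup.card_map_of_injective M.subtype_injective (K := Cfsg.fittingHall M)]
    exact Subgroup.card_dvd_of_le (SigmaCentralizer.fittingHallOf_le_sigmaCore hG hM)
  obtain ⟨v, hv⟩ := exists_prime_orderOf_dvd_card' (G := V₀) t
    ((hexp ▸ dvd_exponent hfp htV).trans Group.exponent_dvd_nat_card)
  have hvo : orderOf ((v : M) : G) = t := by rw [Subgroup.orderOf_coe, Subgroup.orderOf_coe, hv]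
  obtain ⟨m, hm, hmK⟩ := StarFacts.conj_K (M := M) (K := K) ⟨hM, hK, h.hall⟩ hG (v : M).2 fun s hs hd => by
    rw [hvo] at hd
    exact (Nat.prime_dvd_prime_iff_eq hs hfp).mp hd ▸ h.hall.2.1 t hfp htK
  obtain ⟨-, hD1, hDH, -⟩ := StarFitting.main hG hM h hK
  obtain ⟨d, hd, hd1⟩ := (Subgroup.bot_or_exists_ne_one _).resolve_left hD1
  have hxH : m⁻¹ * d * m ∈ Cfsg.fittingHallOf M := by
    simpa using (Subgroup.mem_normalizer_iff.mp (Basic.le_normalizer_fittingHallOf (M.inv_mem hm)) d).mp (hDH hd)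
  obtain ⟨x, hx, hxe⟩ := hxH
  have hv1 : (v : M) ≠ 1 := fun e => hfp.ne_one (by
    rw [← Subgroup.orderOf_coe, e, orderOf_one] at hv; exact hv.symm)
  have hxv : (v : M) * x = x * (v : M) := Subtype.ext (by
    show ((v : M) : G) * (x : G) = (x : G) * ((v : M) : G)
    rw [show (x : G) = m⁻¹ * d * m from hxe]
    have hc := Subgroup.mem_centralizer_iff.mp hd.2 _ hmK
    calc ((v : M) : G) * (m⁻¹ * d * m) = m⁻¹ * ((m * (v : M) * m⁻¹) * d) * m := by group
      _ = m⁻¹ * (d * (m * (v : M) * m⁻¹)) * m := by rw [hc]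
      _ = _ := by group)
  exact hd1 (conj_eq_one_iff.mp (show m⁻¹ * d * m⁻¹⁻¹ = 1 by
    rw [inv_inv, ← hxe, hfree v v.2 hv1 x hx hxv, map_one]))

end CfsgLib.OddOrder.TypeF
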