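import Cfsg.Agent.Lib.OddOrder.KappaStar
import Cfsg.Agent.S1418
import Mathlib

set_option autoImplicit false
set_option linter.style.haveILetI false
set_option linter.unusedSectionVars false

/-!
Elements of `σ(M)'`-order centralising an element of `M_σ` (BG 14.3).
-/

namespace CfsgLib.OddOrder.SigmaDichotomy

open SigmaFusion (cj)
open RankOneTools (isPGroup_of_card ne_bot_of_card line_of_orderOf)

variable {G : Type*} [Group G] [Finite G] {p r : ℕ} [hp : Fact p.Prime] [hrf : Fact r.Prime] {M L A : Subgroup G}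

omit hrf in
/-- `p ∈ σ(L)` when `L` contains the normalizer of a plane. -/
theorem mem_sigma_of_plane (hG : Cfsg.IsMinSimpleOddOrder G) (hL : IsCoatom L)
    (hAe : Cfsg.IsElementaryAbelian p A) (hAc : Nat.card A = p ^ 2)
    (hNA : Subgroup.normalizer (A : Set G) ≤ L) : p ∈ Cfsg.sigma L := by
  by_contra hpL
  have hAL : A ≤ L := Subgroup.le_normalizer.trans hNA
  have hτ : p ∈ Cfsg.tau2 L := ⟨hp.out, hpL, (by
    by_contra h2
    exact hpL (SigmaBasics.mem_sigma_of_alpha hG hL ⟨hp.out, h2⟩)),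
    UniqueTools.not_pRankLE_of_isEA hAe (by rw [hAc]) hAL⟩
  obtain ⟨E, hE, hAE⟩ := Coprime.exists_hall_ge {t | t ∉ Cfsg.sigma L} (hG.2.2.2 L hL.1) hAL fun t ht hd => by
    rw [hAc] at hd
    rw [(Nat.prime_dvd_prime_iff_eq ht hp.out).mp (ht.dvd_of_dvd_pow hd)]
    exact hpL
  exact (Cfsg.Agent.S1418.result hG L hL E (SylowCentral.isComplIn_of_hall hG hL hE) p hτ A
    ⟨hAE, hAe, hAc⟩).2.1.2.2 hNA

omit hrf in
/-- The primes of `τ₂(M)` lie in `σ(L)` for a single maximal `L`. -/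
theorem exists_sigma_tau2 (hG : Cfsg.IsMinSimpleOddOrder G) (hM : IsCoatom M) (hτ : p ∈ Cfsg.tau2 M) :
    ∃ L : Subgroup G, IsCoatom L ∧ ∀ t ∈ Cfsg.tau2 M, t ∈ Cfsg.sigma L := by
  obtain ⟨E, hE⟩ := Coprime.exists_hall {t | t ∉ Cfsg.sigma M} (hG.2.2.2 M hM.1)
  have hEc := SylowCentral.isComplIn_of_hall hG hM hE
  obtain ⟨A, hAE, hAe, hAc⟩ := TauTwoAbelian.exists_plane hEc hτ
  obtain ⟨L, hL, hNA⟩ := Uniqueness.exists_coatom_normalizer (p := p) hG.2
    (fun e => by rw [e, Subgroup.card_bot] at hAc; nlinarith [hp.out.two_le]) (Fusion.Thompson.isPGroup_isEA hAe)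
  refine ⟨L, hL, fun t ht => ?_⟩
  by_cases htp : t = p
  · exact htp ▸ mem_sigma_of_plane hG hL hAe hAc hNA
  haveI := Fact.mk ht.1
  obtain ⟨B, hBE, hBe, hBc⟩ := TauTwoAbelian.exists_plane hEc ht
  obtain ⟨A₀, hA⟩ := TauTwoStructure.exists_exc hG hM hτ.2.1 (hAE.trans hEc.1) hAe hAc
  obtain ⟨B₀, hB⟩ := TauTwoStructure.exists_exc hG hM ht.2.1 (hBE.trans hEc.1) hBe hBc
  exact mem_sigma_of_plane hG hL hBe hBc
    ((TauTwoAbelian.normalizer_le_of_two hG hEc hB hBE hA hAE (Ne.symm htp)).trans hNA)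

/-- Primes in `κ(M)` and `τ₂(M)` have no commuting elements. -/
theorem not_mixed (hG : Cfsg.IsMinSimpleOddOrder G) (hM : IsCoatom M) {f u : G} (hpk : p ∈ Cfsg.kappa M)
    (hfM : f ∈ M) (hf : orderOf f = p) (huM : u ∈ M) (hu : orderOf u = r) (hr : r ∈ Cfsg.tau2 M)
    (hc : Commute f u) : False := by
  have hrk : r ∉ Cfsg.kappa M := fun h => hr.2.2.2 (KappaHall.kappa_rank_one h)
  by_cases hd : p ∣ Nat.card ↥⁅M, M⁆
  · set P := Subgroup.zpowers f with hP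
    have hPc : Nat.card P = p := line_of_orderOf hf
    obtain ⟨L, hL, hNP⟩ := Uniqueness.exists_coatom_normalizer (p := p) hG.2 (ne_bot_of_card hPc) (isPGroup_of_card hPc)
    have h : TauThree.T3 p M P L := ⟨hM, hpk.2.2.1, KappaHall.kappa_rank_one hpk, hd, hPc,
      Subgroup.zpowers_le.mpr hfM, by rw [hP, SigmaTools.centralizer_zpowers]; exact KappaHall.kappa_fix hpk hfM hf,
      hL, hNP⟩
    exact hr.2.2.2 (h.rank_one hG hr.2.1)
  · exact KappaHall.free_elem hG hM hpk hd hfM hf huM hu hr.2.1 hrk hc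

omit hp hrf in
/-- **The dichotomy.** -/
theorem main (hG : Cfsg.IsMinSimpleOddOrder G) (hM : IsCoatom M) {x x' : G} (hx : x ∈ Cfsg.sigmaCore M) (hx1 : x ≠ 1)
    (hx' : x' ∈ M ⊓ Subgroup.centralizer ({x} : Set G)) (hx'1 : x' ≠ 1)
    (hσ : ∀ t : ℕ, t.Prime → t ∣ orderOf x' → t ∉ Cfsg.sigma M) :
    ((∀ t : ℕ, t.Prime → t ∣ orderOf x' → t ∈ Cfsg.kappa M) ∧ Subgroup.centralizer ({x} : Set G) ≤ M) ∨
      ((∀ t : ℕ, t.Prime → t ∣ orderOf x' → t ∈ Cfsg.tau2 M) ∧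
        (∃ L : Subgroup G, IsCoatom L ∧ ∀ t : ℕ, t.Prime → t ∣ orderOf x' → t ∈ Cfsg.sigma L) ∧
        (Subgroup.centralizer ({x'} : Set G) ≤ M ∧
          ∀ L : Subgroup G, IsCoatom L → Subgroup.centralizer ({x'} : Set G) ≤ L → L = M)) := by
  have hcx : Commute x' x := Subgroup.mem_centralizer_singleton_iff.mp hx'.2
  have hfix : ∀ j : ℕ, Cfsg.sigmaCore M ⊓ Subgroup.centralizer ({x' ^ j} : Set G) ≠ ⊥ := fun j e =>
    hx1 (Subgroup.mem_bot.mp (e.le ⟨hx, Subgroup.mem_centralizer_singleton_iff.mpr (hcx.pow_left j).symm.eq⟩))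
  have hord : ∀ t : ℕ, t ∣ orderOf x' → orderOf (x' ^ (orderOf x' / t)) = t := fun t ht =>
    orderOf_pow_orderOf_div (orderOf_pos x').ne' ht
  have hkind : ∀ t : ℕ, t.Prime → t ∣ orderOf x' → t ∈ Cfsg.kappa M ∨ t ∈ Cfsg.tau2 M := fun t ht hd => by
    haveI := Fact.mk ht
    by_cases h1 : Cfsg.PRankLE t 1 M
    · exact Or.inl (KappaHall.mem_kappa hG (hσ t ht hd) h1 (pow_mem hx'.1 _) (hord t hd) (hfix _))
    · refine Or.inr ⟨ht, hσ t ht hd, ?_, h1⟩
      by_contra h2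
      exact hσ t ht hd (SigmaBasics.mem_sigma_of_alpha hG hM ⟨ht, h2⟩)
  obtain ⟨p, hp, hpd⟩ := Nat.exists_prime_and_dvd (mt orderOf_eq_one_iff.mp hx'1)
  haveI := Fact.mk hp
  rcases hkind p hp hpd with hk | hτ
  · refine Or.inl ⟨fun t ht hd => (hkind t ht hd).resolve_right fun h2 => ?_, ?_⟩
    · haveI := Fact.mk ht
      exact not_mixed hG hM hk (pow_mem hx'.1 _) (hord p hpd) (pow_mem hx'.1 _) (hord t hd) h2
        ((Commute.refl x').pow_pow _ _)
    set f := x' ^ (orderOf x' / p) with hf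
    have hfo : orderOf f = p := hord p hpd
    obtain ⟨K, hK, hfK⟩ := Coprime.exists_hall_ge (Cfsg.kappa M) (hG.2.2.2 M hM.1)
      (Subgroup.zpowers_le.mpr (pow_mem hx'.1 (orderOf x' / p))) fun t ht hd => by
        rw [Nat.card_zpowers, hord p hpd] at hd
        rw [(Nat.prime_dvd_prime_iff_eq ht hp).mp hd]
        exact hk
    have hfK' : f ∈ K := hfK (Subgroup.mem_zpowers _)
    have hf1 : f ≠ 1 := fun e => hp.ne_one (by rw [← hfo, e, orderOf_one])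
    have hK1 : K ≠ ⊥ := fun e => hf1 (Subgroup.mem_bot.mp (e ▸ hfK'))
    obtain ⟨E, U, h⟩ := KappaHall.exists_str' hG hM hK hK1
    have hxD : x ∈ Cfsg.sigmaCore M ⊓ Subgroup.centralizer (K : Set G) :=
      (h.fix f hfK' hf1).le ⟨hx, Subgroup.mem_centralizer_singleton_iff.mpr (hcx.pow_left _).symm.eq⟩
    obtain ⟨q, hq, hqd⟩ := Nat.exists_prime_and_dvd (mt orderOf_eq_one_iff.mp hx1)
    haveI := Fact.mk hq
    exact (CN.centralizer_singleton_le_pow x _).trans (KappaStar.centralizer_le hG hM h hK1 (pow_mem hxD _)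
      (orderOf_pow_orderOf_div (orderOf_pos x).ne' hqd)).1
  · have hall : ∀ t : ℕ, t.Prime → t ∣ orderOf x' → t ∈ Cfsg.tau2 M := fun t ht hd =>
      (hkind t ht hd).resolve_left fun h2 => by
        haveI := Fact.mk ht
        exact not_mixed hG hM h2 (pow_mem hx'.1 _) (hord t hd) (pow_mem hx'.1 _) (hord p hpd) hτ
          ((Commute.refl x').pow_pow _ _)
    obtain ⟨L, hL, hLt⟩ := exists_sigma_tau2 hG hM hτ
    obtain ⟨E, hE⟩ := Coprime.exists_hall {t | t ∉ Cfsg.sigma M} (hG.2.2.2 M hM.1)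
    exact Or.inr ⟨hall, ⟨L, hL, fun t ht hd => hLt t (hall t ht hd)⟩,
      (Cfsg.Agent.S1420.result hG M hM E (SylowCentral.isComplIn_of_hall hG hM hE)).2.2.2 x' hx'.1 hx'1 hall
        ⟨hx'.1, x, hx, hx1, hcx.eq⟩⟩

end CfsgLib.OddOrder.SigmaDichotomy
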