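import Cfsg.Agent.Lib.OddOrder.InvariantLine
import Cfsg.Agent.Lib.OddOrder.ComplementHall
import Cfsg.Agent.Lib.Solvable.Gaschutz
import Mathlib

set_option autoImplicit false
set_option linter.style.haveILetI false
set_option linter.unusedSectionVars false

/-!
The criterion for a Frobenius-type complement.
-/

namespace CfsgLib.OddOrder.FrobeniusCriterion

open scoped commutatorElement
open A2Transitive (MaxPlane)
open SigmaFusion (cj)
open Exceptional (Exc)

variable {G : Type*} [Group G] [Finite G] {M E : Subgroup G}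

/-- Elements of prime order outside `τ₂(M)` are fixed point free. -/
def Reg (M E : Subgroup G) : Prop :=
  ∀ e ∈ E, e ≠ 1 → (∀ p : ℕ, p.Prime → p ∣ orderOf e → p ∈ Cfsg.tau1 M ∪ Cfsg.tau3 M) →
    Cfsg.sigmaCore M ⊓ Subgroup.centralizer ({e} : Set G) = ⊥

/-- All Sylow subgroups for `τ₂(M)` are abelian. -/
def AllAbelian (M : Subgroup G) : Prop :=
  ∀ p : ℕ, p.Prime → p ∈ Cfsg.tau2 M → ∀ S : Sylow p G, IsMulCommutative (S : Subgroup G)

theorem classify {r : ℕ} [hr : Fact r.Prime] (hG : Cfsg.IsMinSimpleOddOrder G) (hM : IsCoatom M)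
    (hE : Cfsg.IsComplIn E (Cfsg.sigmaCore M) M) (hd : r ∣ Nat.card E) :
    r ∈ Cfsg.tau2 M ∨ (r ∈ Cfsg.tau1 M ∪ Cfsg.tau3 M ∧ Cfsg.PRankLE r 1 M) := by
  have hrs : r ∉ Cfsg.sigma M := fun h => SigmaComplement.not_dvd_card hG hM hE h hd
  have hr2 : Cfsg.PRankLE r 2 M := by
    by_contra h
    exact hrs (SigmaBasics.mem_sigma_of_alpha hG hM ⟨hr.out, h⟩)
  have hdM : r ∣ Nat.card M := hd.trans (Subgroup.card_dvd_of_le hE.1)
  by_cases hr1 : Cfsg.PRankLE r 1 M
  · refine Or.inr ⟨?_, hr1⟩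
    by_cases hd' : r ∣ Nat.card ↥⁅M, M⁆
    · exact Or.inr ⟨hr.out, hrs, hd', hr1⟩
    · exact Or.inl ⟨hr.out, hrs, hdM, hd', hr1⟩
  · exact Or.inl ⟨hr.out, hrs, hr2, hr1⟩

theorem prime_fix (hG : Cfsg.IsMinSimpleOddOrder G) (hM : IsCoatom M) (hE : Cfsg.IsComplIn E (Cfsg.sigmaCore M) M)
    (h : Reg M E) {z : G} (hz : z ∈ E) (hp : (orderOf z).Prime) (hnτ : orderOf z ∉ Cfsg.tau2 M) :
    Cfsg.sigmaCore M ⊓ Subgroup.centralizer ({z} : Set G) = ⊥ := by
  haveI := Fact.mk hp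
  refine h z hz (fun e => hp.ne_one (by rw [e, orderOf_one])) fun r hr hd => ?_
  rw [(Nat.prime_dvd_prime_iff_eq hr hp).mp hd]
  exact ((classify hG hM hE (Subgroup.orderOf_dvd_natCard E hz)).resolve_left hnτ).1

theorem pow_fix {e y : G} (hy : y ∈ Subgroup.zpowers e)
    (hfree : Cfsg.sigmaCore M ⊓ Subgroup.centralizer ({y} : Set G) = ⊥) :
    Cfsg.sigmaCore M ⊓ Subgroup.centralizer ({e} : Set G) = ⊥ := by
  refine le_bot_iff.mp ((inf_le_inf_left _ fun c hc => ?_).trans hfree.le)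
  obtain ⟨i, rfl⟩ := Subgroup.mem_zpowers_iff.mp hy
  exact Subgroup.mem_centralizer_singleton_iff.mpr
    ((show Commute c e from Subgroup.mem_centralizer_singleton_iff.mp hc).zpow_right i).eq

/-- Elements of `E` with fixed points on `M_σ` are `τ₂(M)`-elements. -/
theorem tau2_of_fix (hG : Cfsg.IsMinSimpleOddOrder G) (hM : IsCoatom M) (hE : Cfsg.IsComplIn E (Cfsg.sigmaCore M) M)
    (h : Reg M E) {e : G} (he : e ∈ E) (hfix : Cfsg.sigmaCore M ⊓ Subgroup.centralizer ({e} : Set G) ≠ ⊥)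
    (r : ℕ) (hr : r.Prime) (hd : r ∣ orderOf e) : r ∈ Cfsg.tau2 M := by
  by_contra hn
  have ho : orderOf (e ^ (orderOf e / r)) = r := orderOf_pow_orderOf_div (orderOf_pos e).ne' hd
  exact hfix (pow_fix (Subgroup.npow_mem_zpowers e _)
    (prime_fix hG hM hE h (pow_mem he _) (ho.symm ▸ hr) (ho.symm ▸ hn)))

theorem nonabelian_all {p : ℕ} [hp : Fact p.Prime] {S T : Sylow p G} (hna : ¬ IsMulCommutative (S : Subgroup G)) :
    ¬ IsMulCommutative (T : Subgroup G) := fun hc => hna (by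
  obtain ⟨g, hg⟩ := MulAction.exists_smul_eq G T S
  refine ⟨⟨fun a b => Subtype.ext ?_⟩⟩
  have hST : ∀ x ∈ (S : Subgroup G), g⁻¹ * x * g ∈ (T : Subgroup G) := fun x hx =>
    SigmaTools.mem_cj.mp (by rwa [← hg, Sylow.coe_subgroup_smul] at hx)
  have := PlaneSylow.comm_of hc (hST a a.2) (hST b b.2)
  show (a : G) * b = b * a
  calc (a : G) * b = g * ((g⁻¹ * a * g) * (g⁻¹ * b * g)) * g⁻¹ := by group
    _ = g * ((g⁻¹ * b * g) * (g⁻¹ * a * g)) * g⁻¹ := by rw [this.eq]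
    _ = _ := by group)

/-- In the nonabelian case the elements with fixed points lie in the exceptional line. -/
theorem mem_line {p : ℕ} [hp : Fact p.Prime] {A A₀ : Subgroup G} {S : Sylow p G} (hG : Cfsg.IsMinSimpleOddOrder G)
    (hE : Cfsg.IsComplIn E (Cfsg.sigmaCore M) M) (hreg : Reg M E) (h : Exc p M A A₀) (hAE : A ≤ E)
    (hAS : A ≤ (S : Subgroup G)) (hna : ¬ IsMulCommutative (S : Subgroup G)) {e : G} (he : e ∈ E)
    (hfix : Cfsg.sigmaCore M ⊓ Subgroup.centralizer ({e} : Set G) ≠ ⊥) : e ∈ A₀ := by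
  have hM := h.coatom
  have hA := h.maxPlane hG
  have hτ := TauTwoNonabelian.tau2_eq hG h hAS hna hE hAE
  have hτe := tau2_of_fix hG hM hE hreg he hfix
  have heC := TauTwoAbelian.mem_centralizer hG hE h hAE he hτe
  by_cases he1 : e = 1
  · rw [he1]; exact one_mem _
  have hmem : ∀ y ∈ Subgroup.zpowers e, orderOf y = p → y ∈ A₀ := by
    intro y hy hyo
    have hyC : y ∈ Subgroup.centralizer (A : Set G) := Subgroup.zpowers_le.mpr heC hy
    have hyA := hA.mem_of_commute (hyo ▸ pow_orderOf_eq_one y) hyC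
    by_contra hy₀
    refine hfix (pow_fix hy ?_)
    rw [← SigmaTools.centralizer_zpowers]
    exact TauTwoNonabelian.line_free hG h hAS hna (Subgroup.zpowers_le.mpr hyA) (by rw [Nat.card_zpowers, hyo])
      fun e' => hy₀ (e' ▸ Subgroup.mem_zpowers y)
  have hpd : ∀ r : ℕ, r.Prime → r ∣ orderOf e → r = p := fun r hr hd => hτ.le (hτe r hr hd)
  have hdp : p ∣ orderOf e := by
    obtain ⟨r, hr, hd⟩ := Nat.exists_prime_and_dvd (mt orderOf_eq_one_iff.mp he1)
    exact hpd r hr hd ▸ hd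
  by_cases hd2 : p ^ 2 ∣ orderOf e
  · exfalso
    obtain ⟨c, hc⟩ := hd2
    set w := e ^ c with hw
    have hwo : orderOf w = p ^ 2 := by
      have hc0 : c ≠ 0 := fun h0 => (orderOf_pos e).ne' (by rw [hc, h0, mul_zero])
      rw [hw, orderOf_pow' e hc0, Nat.gcd_eq_right (hc ▸ dvd_mul_left c _), hc,
        Nat.mul_div_cancel _ (Nat.pos_of_ne_zero hc0)]
    have hwp : orderOf (w ^ p) = p := by
      rw [orderOf_pow' w hp.out.ne_zero, hwo, Nat.gcd_eq_right (dvd_pow_self p two_ne_zero), sq,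
        Nat.mul_div_cancel _ hp.out.pos]
    have hy₀ := hmem _ (pow_mem (Subgroup.npow_mem_zpowers e c) p) hwp
    have hwE : w ∈ E := pow_mem he c
    have hwA : Subgroup.zpowers w ≤ Subgroup.normalizer (A : Set G) :=
      Subgroup.zpowers_le.mpr (Subgroup.centralizer_le_normalizer _ (pow_mem heC c))
    obtain ⟨T, hT⟩ := ((IsPGroup.of_card (n := 2) (by rw [Nat.card_zpowers, hwo]) :
      IsPGroup p (Subgroup.zpowers w)).to_sup_of_normal_right' hA.isPGroup hwA).exists_le_sylow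
    have hAT : A ≤ (T : Subgroup G) := le_sup_right.trans hT
    have hwZ := TauTwoNonabelian.pow_mem_zLine hG hA hAT (nonabelian_all hna)
      (hT (Subgroup.mem_sup_left (Subgroup.mem_zpowers w))) (pow_mem heC c) (h.le₀ hy₀)
    have hw1 : w ^ p ≠ 1 := fun e' => hp.out.ne_one (by rw [← hwp, e', orderOf_one])
    refine h.ne_zLine hG T ?_
    rw [← (FPFTools.line_eq_zpowers h.card₀ hy₀ hw1).1,
      (FPFTools.line_eq_zpowers (PlaneSylow.zLine_card hG hA hAT (nonabelian_all hna)) hwZ hw1).1]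
  refine hmem e (Subgroup.mem_zpowers e) ?_
  obtain ⟨c, hc⟩ := hdp
  have hc1 : c = 1 := by
    by_contra hne
    obtain ⟨r, hr, hd⟩ := Nat.exists_prime_and_dvd hne
    have hrp := hpd r hr (hc ▸ hd.trans (dvd_mul_left c p))
    subst hrp
    exact hd2 (by rw [hc, sq]; exact mul_dvd_mul_left r hd)
  rw [hc, hc1, mul_one]

/-- In the abelian case `τ₂(M)`-elements of `E` commute. -/
theorem commute (hG : Cfsg.IsMinSimpleOddOrder G) (hM : IsCoatom M) (hE : Cfsg.IsComplIn E (Cfsg.sigmaCore M) M)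
    (hab : AllAbelian M) {x z : G} (hx : x ∈ E) (hxτ : ∀ r : ℕ, r.Prime → r ∣ orderOf x → r ∈ Cfsg.tau2 M)
    (hz : z ∈ E) (hzτ : ∀ r : ℕ, r.Prime → r ∣ orderOf z → r ∈ Cfsg.tau2 M) : Commute x z := by
  set Z := Subgroup.zpowers z with hZ
  have htop : (Subgroup.centralizer ({x} : Set G)).subgroupOf Z = ⊤ := by
    refine Solvable.Cores.eq_top_of_sylow_le _ fun r hr => ?_
    haveI := Fact.mk hr
    obtain ⟨T⟩ : Nonempty (Sylow r Z) := inferInstance
    refine ⟨T, fun w hw => ?_⟩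
    rcases T.isPGroup'.card_eq_or_dvd with h1 | h1
    · rw [Subgroup.eq_bot_of_card_eq _ h1, Subgroup.mem_bot] at hw
      rw [hw]; exact one_mem _
    have hrτ := hzτ r hr (Nat.card_zpowers z ▸ h1.trans (Subgroup.card_subgroup_dvd_card _))
    obtain ⟨A, hAE, hAe, hA2⟩ := TauTwoAbelian.exists_plane hE hrτ
    obtain ⟨A₀, h⟩ := TauTwoStructure.exists_exc hG hM hrτ.2.1 (hAE.trans hE.1) hAe hA2
    obtain ⟨S, hAS⟩ := (h.maxPlane hG).isPGroup.exists_le_sylow
    have hR : IsPGroup r ↥((T : Subgroup Z).map Z.subtype) := T.isPGroup'.map _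
    have hwS := SylowCentral.mem_sylow hG h hAS (hab r hr hrτ S) hR (TauTwoAbelian.centralizes hG hE h hAE hrτ hR
      ((Subgroup.map_subtype_le _).trans (Subgroup.zpowers_le.mpr hz))) ⟨w, hw, rfl⟩
    exact Subgroup.mem_centralizer_singleton_iff.mpr (Subgroup.mem_centralizer_iff.mp
      (SylowCentral.centralizer_le hG h hAS (hab r hr hrτ S) (TauTwoAbelian.mem_centralizer hG hE h hAE hx hxτ))
      _ hwS)
  exact (Subgroup.mem_centralizer_singleton_iff.mp
    (htop.ge (Subgroup.mem_top (⟨z, Subgroup.mem_zpowers z⟩ : Z)) : z ∈ Subgroup.centralizer ({x} : Set G))).symm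

/-- The `τ₂(M)`-elements of `E`, in the abelian case. -/
def tauPart (hG : Cfsg.IsMinSimpleOddOrder G) (hM : IsCoatom M) (hE : Cfsg.IsComplIn E (Cfsg.sigmaCore M) M)
    (hab : AllAbelian M) : Subgroup G where
  carrier := {e | e ∈ E ∧ ∀ r : ℕ, r.Prime → r ∣ orderOf e → r ∈ Cfsg.tau2 M}
  one_mem' := ⟨one_mem _, fun r hr hd => absurd (Nat.dvd_one.mp (orderOf_one (G := G) ▸ hd)) hr.ne_one⟩
  mul_mem' := fun {a b} ha hb => ⟨mul_mem ha.1 hb.1, fun r hr hd => by
    rcases hr.dvd_mul.mp ((hd.trans ((commute hG hM hE hab ha.1 ha.2 hb.1 hb.2).orderOf_mul_dvd_lcm)).trans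
      (Nat.lcm_dvd_mul _ _)) with h | h
    · exact ha.2 r hr h
    · exact hb.2 r hr h⟩
  inv_mem' := fun {a} ha => ⟨inv_mem ha.1, by rw [orderOf_inv]; exact ha.2⟩

theorem tauPart_facts (hG : Cfsg.IsMinSimpleOddOrder G) (hM : IsCoatom M) (hE : Cfsg.IsComplIn E (Cfsg.sigmaCore M) M)
    (hab : AllAbelian M) :
    tauPart hG hM hE hab ≤ E ∧ E ≤ Subgroup.normalizer (tauPart hG hM hE hab : Set G) ∧
      IsMulCommutative (tauPart hG hM hE hab) := by
  refine ⟨fun x hx => hx.1, fun g hg => NormalizerFusion.mem_normalizer_of_conj fun x hx => ?_,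
    ⟨⟨fun a b => Subtype.ext (commute hG hM hE hab a.2.1 a.2.2 b.2.1 b.2.2).eq⟩⟩⟩
  refine ⟨mul_mem (mul_mem hg hx.1) (inv_mem hg), fun r hr hd => hx.2 r hr ?_⟩
  rwa [← MulAut.conj_apply, MulEquiv.orderOf_eq] at hd

/-- An `H`-invariant cyclic subgroup of maximal order of the Sylow `p`-subgroup, fixed point free on `M_σ`. -/
theorem exists_X {p : ℕ} [hp : Fact p.Prime] (hG : Cfsg.IsMinSimpleOddOrder G) (hM : IsCoatom M)
    (hE : Cfsg.IsComplIn E (Cfsg.sigmaCore M) M) (hreg : Reg M E) (hab : AllAbelian M) (hτ : p ∈ Cfsg.tau2 M)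
    {H : Subgroup G} (hHE : H ≤ E) (hH : ∀ r : ℕ, r.Prime → r ∣ Nat.card H → r ∉ Cfsg.tau2 M) :
    ∃ X : Subgroup G, X ≤ E ∧ IsPGroup p X ∧ H ≤ Subgroup.normalizer (X : Set G) ∧
      (∀ z ∈ E, (∃ k, orderOf z = p ^ k) → ∃ x ∈ X, orderOf z ∣ orderOf x) ∧
      ∀ z ∈ X, orderOf z = p → Cfsg.sigmaCore M ⊓ Subgroup.centralizer ({z} : Set G) = ⊥ := by
  obtain ⟨A, hAE, hAe, hA2⟩ := TauTwoAbelian.exists_plane hE hτ
  obtain ⟨A₀, h⟩ := TauTwoStructure.exists_exc hG hM hτ.2.1 (hAE.trans hE.1) hAe hA2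
  have hA := h.maxPlane hG
  obtain ⟨S, hAS⟩ := hA.isPGroup.exists_le_sylow
  have hSab := hab p hp.out hτ S
  have hSC := SylowCentral.sylow_le_centralizer hAS hSab
  have hCE : Subgroup.centralizer (A : Set G) ≤ E := (le_inf h.centralizer_le
    (Subgroup.centralizer_le_normalizer _)).trans (TauTwoStructure.inf_normalizer_eq hG h hE hAE).le
  have hSE : (S : Subgroup G) ≤ E := hSC.trans hCE
  have hEA := TauTwoStructure.normal_in_complement hG h hE hAE
  have hES := hEA.trans (SylowCentral.normalizer_le hG h hAS hSab)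
  have hHr : ∀ r : ℕ, r.Prime → r ∣ Nat.card H → Cfsg.PRankLE r 1 M ∧ r ≠ p := fun r hr hd => by
    haveI := Fact.mk hr
    exact ⟨((classify hG hM hE (hd.trans (Subgroup.card_dvd_of_le hHE))).resolve_left (hH r hr hd)).2,
      fun e => hH r hr hd (e ▸ hτ)⟩
  have hHfix : ∀ z ∈ H, (orderOf z).Prime → Cfsg.sigmaCore M ⊓ Subgroup.centralizer ({z} : Set G) = ⊥ :=
    fun z hz hzp => prime_fix hG hM hE hreg (hHE hz) hzp (hH _ hzp (Subgroup.orderOf_dvd_natCard H hz))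
  haveI := hSab
  letI : CommGroup (S : Subgroup G) := { mul_comm := fun a b => hSab.1.comm a b }
  have hHS : H ≤ Subgroup.normalizer ((S : Subgroup G) : Set G) := hHE.trans hES
  set ρ : H →* MulAut (S : Subgroup G) := (S : Subgroup G).normalizerMonoidHom.comp (Subgroup.inclusion hHS) with hρ
  have hcop : (Nat.card H).Coprime p :=
    (hp.out.coprime_iff_not_dvd.mpr fun hd => hH p hp.out hd hτ).symm
  have hSp : IsPGroup p (S : Subgroup G) := S.isPGroup'
  haveI : Nontrivial (S : Subgroup G) := (Subgroup.nontrivial_iff_ne_bot _).mpr fun e => hA.ne_bot (le_bot_iff.mp (e ▸ hAS))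
  obtain ⟨y₀, hy₀⟩ := Monoid.exists_orderOf_eq_exponent (Monoid.ExponentExists.of_finite (G := (S : Subgroup G)))
  set n := Monoid.exponent (S : Subgroup G) with hn
  have hy₀1 : y₀ ≠ 1 := fun e => by
    obtain ⟨s, hs⟩ := exists_ne (1 : (S : Subgroup G))
    refine hs ?_
    have h1 := Monoid.pow_exponent_eq_one s
    rwa [← hn, ← hy₀, e, orderOf_one, pow_one] at h1
  obtain ⟨a, ha⟩ := IsPGroup.iff_orderOf.mp hSp y₀
  rw [hy₀] at ha
  have hpn : p ∣ n := ha ▸ dvd_pow_self p fun e => hy₀1 (orderOf_eq_one_iff.mp (by rw [hy₀, ha, e, pow_zero]))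
  have hfA : ∀ s : (S : Subgroup G), ((s ^ (n / p) : (S : Subgroup G)) : G) ∈ A := fun s =>
    (PlaneSylow.abelian_case hG hA hAS hSab).1 _ (s ^ (n / p)).2 (by
      rw [← Subgroup.coe_pow, ← pow_mul, Nat.div_mul_cancel hpn, hn, Monoid.pow_exponent_eq_one, Subgroup.coe_one])
  -- the line and an element of maximal order over it
  obtain ⟨F, hFA, hFc, hHF, hFfree, y, hy, hyF⟩ : ∃ F : Subgroup G, F ≤ A ∧ Nat.card F = p ∧
      H ≤ Subgroup.normalizer (F : Set G) ∧ Cfsg.sigmaCore M ⊓ Subgroup.centralizer (F : Set G) = ⊥ ∧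
      ∃ y : (S : Subgroup G), orderOf y = n ∧ ((y ^ (n / p) : (S : Subgroup G)) : G) ∈ F := by
    set T := ((powMonoidHom (n / p) : (S : Subgroup G) →* (S : Subgroup G)).range).map (S : Subgroup G).subtype with hT
    have hTA : T ≤ A := by
      rintro _ ⟨_, ⟨s, rfl⟩, rfl⟩
      exact hfA s
    by_cases hTe : T = A
    · obtain ⟨F, hFA, hFc, hHF, hFfree⟩ := InvariantLine.exists_free_line hG h hAS hSab (hHE.trans hE.1) (hHE.trans hEA) hHr hHfix
      obtain ⟨f, hf, hf1⟩ := F.bot_or_exists_ne_one.resolve_left fun (e : F = ⊥) => hp.out.ne_one (by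
        rw [← hFc, e, Subgroup.card_bot])
      obtain ⟨_, ⟨s, rfl⟩, hsf⟩ := hTe.ge (hFA hf)
      refine ⟨F, hFA, hFc, hHF, hFfree, s, ?_, ?_⟩
      · refine Nat.dvd_antisymm (Monoid.order_dvd_exponent s) ?_
        obtain ⟨b, hb⟩ := IsPGroup.iff_orderOf.mp hSp s
        rw [hb, ha]
        refine pow_dvd_pow p ?_
        by_contra hlt
        refine hf1 ?_
        rw [← hsf]
        show ((s ^ (n / p) : (S : Subgroup G)) : G) = 1
        rw [orderOf_dvd_iff_pow_eq_one.mp (show orderOf s ∣ n / p by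
          rw [hb, ha, show p ^ a = p * p ^ (a - 1) by
            rw [← pow_succ']; congr 1; omega, Nat.mul_div_cancel_left _ hp.out.pos]
          exact pow_dvd_pow p (by omega)), Subgroup.coe_one]
      · show (S : Subgroup G).subtype (powMonoidHom (n / p) s) ∈ F
        rw [hsf]; exact hf
    have hTne : T ≠ ⊥ := fun e => by
      have h1 : ((y₀ ^ (n / p) : (S : Subgroup G)) : G) ∈ T := ⟨_, ⟨y₀, rfl⟩, rfl⟩
      rw [e, Subgroup.mem_bot] at h1
      have h2 := orderOf_pow_orderOf_div (orderOf_pos y₀).ne' (hy₀.symm ▸ hpn : p ∣ orderOf y₀)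
      rw [hy₀, show y₀ ^ (n / p) = 1 from Subtype.ext h1, orderOf_one] at h2
      exact hp.out.ne_one h2.symm
    have hTc := InvariantLine.not_le_centralizer_line hA hTA hTne hTe
    have hNT : Subgroup.normalizer ((S : Subgroup G) : Set G) ≤ Subgroup.normalizer (T : Set G) := fun g hg => by
      refine NormalizerFusion.mem_normalizer_of_conj ?_
      rintro _ ⟨_, ⟨s, rfl⟩, rfl⟩
      refine ⟨_, ⟨⟨g * s * g⁻¹, (Subgroup.mem_normalizer_iff.mp hg s).mp s.2⟩, rfl⟩, ?_⟩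
      simp [conj_pow]
    refine ⟨T, hTA, hTc, hHS.trans hNT, ?_, y₀, hy₀, ⟨_, ⟨y₀, rfl⟩, rfl⟩⟩
    by_contra hne
    obtain ⟨L, hL, hNL⟩ := Uniqueness.exists_coatom_normalizer (p := p) hG.2 hTne (hA.isPGroup.to_le hTA)
    have hAC : A ≤ Subgroup.centralizer (T : Set G) := fun x hx => Subgroup.mem_centralizer_iff.mpr fun b hb =>
      (PlaneSylow.comm_of hAe.1 (hTA hb) hx).eq
    have hCL := (Subgroup.centralizer_le_normalizer _).trans hNL
    have hLM : L = M := by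
      by_contra hLM
      exact hne (le_bot_iff.mp ((inf_le_inf_left _ hCL).trans
        (TauTwoStructure.inter_eq_bot hG h hL hLM (hAC.trans hCL)).le))
    exact h.not_sigma (SigmaTools.mem_sigma_of_sylow (S := S) h.dvd_card (hNT.trans (hLM ▸ hNL)))
  set F' := F.subgroupOf (S : Subgroup G) with hF'
  obtain ⟨X, -, hXinv, ⟨x, hxX, hxo⟩, hXtors⟩ := InvariantCyclic.exists_invariant_cyclic (hA.ne_two hG) hSp ρ hcop
    (F := F') (by rw [hF', Nat.card_congr (Subgroup.subgroupOfEquivOfLe (hFA.trans hAS)).toEquiv, hFc])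
    (fun g f hf => (Subgroup.mem_normalizer_iff.mp (hHF g.2) (f : G)).mp hf)
    hy (by rw [hy]; exact hyF) (fun e => hy₀1 (orderOf_eq_one_iff.mp (by rw [hy₀, ← hy, e, orderOf_one])))
  refine ⟨X.map (S : Subgroup G).subtype, (Subgroup.map_subtype_le _).trans hSE, (hSp.to_subgroup X).map _,
    fun g hg => NormalizerFusion.mem_normalizer_of_conj ?_, fun z hz hzp => ?_, ?_⟩
  · rintro _ ⟨w, hw, rfl⟩
    exact ⟨ρ ⟨g, hg⟩ w, hXinv ⟨g, hg⟩ w hw, rfl⟩
  · obtain ⟨k, hk⟩ := hzp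
    have hzP : IsPGroup p (Subgroup.zpowers z) := IsPGroup.of_card (n := k) (by rw [Nat.card_zpowers, hk])
    have hzS := SylowCentral.mem_sylow hG h hAS hSab hzP (TauTwoStructure.pGroup_le_centralizer hG h hzP
      (Subgroup.zpowers_le.mpr (hE.1 hz)) (Subgroup.zpowers_le.mpr (hEA hz))) (Subgroup.mem_zpowers z)
    refine ⟨_, ⟨x, hxX, rfl⟩, ?_⟩
    show orderOf z ∣ orderOf ((x : (S : Subgroup G)) : G)
    rw [Subgroup.orderOf_coe, hxo, ← Subgroup.orderOf_mk z hzS]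
    exact Monoid.order_dvd_exponent _
  · rintro _ ⟨w, hw, rfl⟩ hwo
    have hwo' : orderOf w = p := by rw [← Subgroup.orderOf_coe]; exact hwo
    have hwF : (w : G) ∈ F := hXtors w hw (orderOf_dvd_iff_pow_eq_one.mp (dvd_of_eq hwo'))
    rw [← SigmaTools.centralizer_zpowers]
    show Cfsg.sigmaCore M ⊓ Subgroup.centralizer ((Subgroup.zpowers (w : G) : Subgroup G) : Set G) = ⊥
    rw [(FPFTools.line_eq_zpowers hFc hwF fun e => hp.out.ne_one (by
      rw [← hwo, show (S : Subgroup G).subtype w = 1 from e, orderOf_one])).1]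
    exact hFfree

theorem dvd_of_prime_pow {n m : ℕ} (hn : n ≠ 0) (h : ∀ r k : ℕ, r.Prime → r ^ k ∣ n → r ^ k ∣ m) : n ∣ m := by
  rcases eq_or_ne m 0 with rfl | hm
  · exact dvd_zero n
  exact (Nat.dvd_iff_prime_pow_dvd_dvd m n).mpr fun p k hp hd => h p k hp hd

theorem exponent_eq {E₀ : Subgroup G} (hle : E₀ ≤ E)
    (h : ∀ r k : ℕ, r.Prime → ∀ z ∈ E, orderOf z = r ^ k → r ^ k ∣ Monoid.exponent E₀) :
    Monoid.exponent E₀ = Monoid.exponent E := by
  refine Nat.dvd_antisymm (Monoid.exponent_dvd_of_monoidHom (Subgroup.inclusion hle) (Subgroup.inclusion_injective hle)) ?_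
  refine Monoid.exponent_dvd.mpr fun z => dvd_of_prime_pow (orderOf_pos z).ne' fun r k hr hd => ?_
  refine h r k hr ((z ^ (orderOf z / r ^ k) : E) : G) (z ^ (orderOf z / r ^ k)).2 ?_
  rw [Subgroup.orderOf_coe, orderOf_pow_orderOf_div (orderOf_pos z).ne' hd]

/-- The subgroup `E₀`, abelian case. -/
theorem exists_E0_abelian (hG : Cfsg.IsMinSimpleOddOrder G) (hM : IsCoatom M)
    (hE : Cfsg.IsComplIn E (Cfsg.sigmaCore M) M) (hreg : Reg M E) (hab : AllAbelian M) :
    ∃ E₀ : Subgroup G, E₀ ≤ E ∧ Monoid.exponent E₀ = Monoid.exponent E ∧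
      ∀ e ∈ E₀, e ≠ 1 → Cfsg.sigmaCore M ⊓ Subgroup.centralizer ({e} : Set G) = ⊥ := by
  have hsol : Group.IsSolvable E := hG.2.2.2 E fun e => hM.1 (top_le_iff.mp (e ▸ hE.1))
  obtain ⟨H, hH⟩ := Coprime.exists_hall {r | r ∉ Cfsg.tau2 M} hsol
  obtain ⟨hDE, hED, hDc⟩ := tauPart_facts hG hM hE hab
  set D := tauPart hG hM hE hab with hD
  choose X hXE hXp hXH hXmax hXfree using fun t : {p : ℕ // p.Prime ∧ p ∈ Cfsg.tau2 M} =>
    haveI : Fact (t : ℕ).Prime := ⟨t.2.1⟩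
    exists_X hG hM hE hreg hab t.2.2 hH.1 hH.2.1
  set N₀ := ⨆ t, X t with hN₀
  have hXD : ∀ t, X t ≤ D := fun t x hx => ⟨hXE t hx, fun r hr hd => by
    haveI : Fact (t : ℕ).Prime := ⟨t.2.1⟩
    obtain ⟨k, hk⟩ := IsPGroup.iff_orderOf.mp (hXp t) ⟨x, hx⟩
    rw [Subgroup.orderOf_mk] at hk
    rw [hk] at hd
    exact (Nat.prime_dvd_prime_iff_eq hr t.2.1).mp (hr.dvd_of_dvd_pow hd) ▸ t.2.2⟩
  have hN₀D : N₀ ≤ D := iSup_le hXD
  have hHN : H ≤ Subgroup.normalizer (N₀ : Set G) := fun g hg => Subgroup.mem_normalizer_iff_map_conj_eq.mpr (by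
    rw [hN₀, Subgroup.map_iSup]
    exact iSup_congr fun t => Subgroup.mem_normalizer_iff_map_conj_eq.mp (hXH t hg))
  -- the `p`-elements of `N₀`
  have hpart : ∀ t : {p : ℕ // p.Prime ∧ p ∈ Cfsg.tau2 M}, ∀ d ∈ N₀, ∀ k, orderOf d = (t : ℕ) ^ k → d ∈ X t := by
    intro t
    haveI : Fact (t : ℕ).Prime := ⟨t.2.1⟩
    set m := Nat.card D / (t : ℕ) ^ (Nat.card D).factorization t with hm
    have key : ∀ d ∈ N₀, d ∈ D ∧ d ^ m ∈ X t := by
      intro d hd
      induction hd using Subgroup.iSup_induction' with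
      | hp s x hx =>
        refine ⟨hXD s hx, ?_⟩
        by_cases hst : s = t
        · exact hst ▸ pow_mem hx m
        · haveI : Fact (s : ℕ).Prime := ⟨s.2.1⟩
          obtain ⟨k, hk⟩ := IsPGroup.iff_orderOf.mp (hXp s) ⟨x, hx⟩
          rw [Subgroup.orderOf_mk] at hk
          have hdv : orderOf x ∣ m := by
            refine (Nat.Coprime.dvd_of_dvd_mul_left (m := (t : ℕ) ^ (Nat.card D).factorization t) ?_ ?_)
            · rw [hk]
              exact ((Nat.coprime_primes s.2.1 t.2.1).mpr fun e => hst (Subtype.ext e)).pow _ _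
            · rw [hm, Nat.mul_div_cancel' (Nat.ordProj_dvd _ _)]
              exact Subgroup.orderOf_dvd_natCard D (hXD s hx)
          rw [orderOf_dvd_iff_pow_eq_one.mp hdv]
          exact one_mem _
      | h1 => exact ⟨one_mem _, by rw [one_pow]; exact one_mem _⟩
      | hmul a b _ _ ha hb =>
        refine ⟨mul_mem ha.1 hb.1, ?_⟩
        rw [(commute hG hM hE hab ha.1.1 ha.1.2 hb.1.1 hb.1.2).mul_pow]
        exact mul_mem ha.2 hb.2
    intro d hd k hk
    have hc : m.Coprime ((t : ℕ) ^ k) := ((Nat.coprime_ordCompl t.2.1 Nat.card_pos.ne').symm).pow_right k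
    obtain ⟨j, hj⟩ := exists_pow_eq_self_of_coprime (x := d) (n := m) (by rw [hk]; exact hc)
    have hd2 : d = (d ^ m) ^ j := hj.symm
    rw [hd2]
    exact pow_mem (key d hd).2 j
  refine ⟨N₀ ⊔ H, sup_le (hN₀D.trans hDE) hH.1, ?_, fun e he he1 => ?_⟩
  · refine exponent_eq (sup_le (hN₀D.trans hDE) hH.1) fun r k hr z hz hzo => ?_
    rcases eq_or_ne k 0 with rfl | hk
    · simp
    haveI := Fact.mk hr
    by_cases hrτ : r ∈ Cfsg.tau2 M
    · obtain ⟨x, hx, hd⟩ := hXmax ⟨r, hr, hrτ⟩ z hz ⟨k, hzo⟩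
      rw [← hzo]
      refine hd.trans ?_
      have hxmem : x ∈ N₀ ⊔ H := Subgroup.mem_sup_left (Subgroup.mem_iSup_of_mem ⟨r, hr, hrτ⟩ hx)
      rw [← Subgroup.orderOf_mk x hxmem]
      exact Monoid.order_dvd_exponent _
    · obtain ⟨H', hH', hzH⟩ := Coprime.exists_hall_ge {r | r ∉ Cfsg.tau2 M} hsol (Subgroup.zpowers_le.mpr hz)
        fun q hq hd => by
          rw [Nat.card_zpowers, hzo] at hd
          exact (Nat.prime_dvd_prime_iff_eq hq hr).mp (hq.dvd_of_dvd_pow hd) ▸ hrτ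
      obtain ⟨g, -, he⟩ := Coprime.hall_conj hsol hH' hH
      have hmem : g * z * g⁻¹ ∈ N₀ ⊔ H := Subgroup.mem_sup_right (he.le ⟨z, hzH (Subgroup.mem_zpowers z), rfl⟩)
      rw [← hzo, ← MulEquiv.orderOf_eq (MulAut.conj g) z, MulAut.conj_apply, ← Subgroup.orderOf_mk _ hmem]
      exact Monoid.order_dvd_exponent _
  · by_contra hfix
    have heE : e ∈ E := sup_le (hN₀D.trans hDE) hH.1 he
    have hτe := tau2_of_fix hG hM hE hreg heE hfix
    have heD : e ∈ D := ⟨heE, hτe⟩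
    obtain ⟨n, hn, g, hg, hng⟩ := (Coprime.mem_sup_of_le_normalizer hHN).mp he
    have hgD : g ∈ D := by
      rw [show g = n⁻¹ * e by rw [← hng]; group]
      exact mul_mem (inv_mem (hN₀D hn)) heD
    have hg1 : g = 1 := by
      by_contra hg1
      obtain ⟨r, hr, hd⟩ := Nat.exists_prime_and_dvd (mt orderOf_eq_one_iff.mp hg1)
      exact hH.2.1 r hr (hd.trans (Subgroup.orderOf_dvd_natCard H hg)) (hgD.2 r hr hd)
    have heN : e ∈ N₀ := by rw [← hng, hg1, mul_one]; exact hn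
    obtain ⟨r, hr, hd⟩ := Nat.exists_prime_and_dvd (mt orderOf_eq_one_iff.mp he1)
    have ho : orderOf (e ^ (orderOf e / r)) = r := orderOf_pow_orderOf_div (orderOf_pos e).ne' hd
    have hmem := hpart ⟨r, hr, hτe r hr hd⟩ _ (pow_mem heN _) 1 (by rw [ho, pow_one])
    exact hfix (pow_fix (Subgroup.npow_mem_zpowers e _) (hXfree _ _ hmem ho))

/-- The subgroup `E₀`, nonabelian case. -/
theorem exists_E0_nonabelian {p : ℕ} [hp : Fact p.Prime] {A A₀ : Subgroup G} {S : Sylow p G}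
    (hG : Cfsg.IsMinSimpleOddOrder G) (hE : Cfsg.IsComplIn E (Cfsg.sigmaCore M) M) (hreg : Reg M E)
    (h : Exc p M A A₀) (hAE : A ≤ E) (hAS : A ≤ (S : Subgroup G)) (hna : ¬ IsMulCommutative (S : Subgroup G)) :
    ∃ E₀ : Subgroup G, E₀ ≤ E ∧ Monoid.exponent E₀ = Monoid.exponent E ∧
      ∀ e ∈ E₀, e ≠ 1 → Cfsg.sigmaCore M ⊓ Subgroup.centralizer ({e} : Set G) = ⊥ := by
  have hM := h.coatom
  have hA := h.maxPlane hG
  have hEA := TauTwoStructure.normal_in_complement hG h hE hAE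
  have hA₀E : A₀ ≤ E := h.le₀.trans hAE
  obtain ⟨T, hT⟩ := (hA.isPGroup.of_equiv (Subgroup.subgroupOfEquivOfLe hAE).symm).exists_le_sylow
  set P := (T : Subgroup E).map E.subtype with hP
  have hPE : P ≤ E := Subgroup.map_subtype_le _
  have hPp : IsPGroup p P := T.isPGroup'.map _
  have hAP : A ≤ P := fun a ha => ⟨⟨a, hAE ha⟩, hT ha, rfl⟩
  have hPC : P ≤ Subgroup.centralizer (A : Set G) :=
    TauTwoStructure.pGroup_le_centralizer hG h hPp (hPE.trans hE.1) (hPE.trans hEA)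
  have hPab := TauTwoAbelian.pGroup_abelian hG hM h.not_sigma hPp (hPE.trans hE.1)
  obtain ⟨S', hS'⟩ := hPp.exists_le_sylow
  have hAS' := hAP.trans hS'
  have hna' := nonabelian_all (T := S') hna
  -- a complement of `A₀` in `P`
  obtain ⟨c, hcP, hc0, hcmax, hcgen⟩ : ∃ c ∈ P, (∀ i : ℕ, c ^ i ∈ A₀ → c ^ i = 1) ∧
      (∀ z ∈ P, orderOf z ∣ orderOf c) ∧ A₀ ⊔ Subgroup.zpowers c = P := by
    by_cases hPA : P ≤ A
    · set Z := PlaneSylow.zLine S' with hZ
      have hZA : Z ≤ A := PlaneSylow.zLine_le hA hAS'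
      have hZc : Nat.card Z = p := PlaneSylow.zLine_card hG hA hAS' hna'
      obtain ⟨c, hc, hc1⟩ := Z.bot_or_exists_ne_one.resolve_left fun (e : Z = ⊥) => hp.out.ne_one (by
        rw [← hZc, e, Subgroup.card_bot])
      obtain ⟨hcz, hcp⟩ := FPFTools.line_eq_zpowers hZc hc hc1
      refine ⟨c, hAP (hZA hc), fun i hi => ?_, fun z hz => ?_, ?_⟩
      · by_contra hne
        exact h.ne_zLine hG S' ((FPFTools.line_eq_zpowers h.card₀ hi hne).1.symm.trans
          (FPFTools.line_eq_zpowers hZc (hcz ▸ Subgroup.npow_mem_zpowers c i) hne).1)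
      · rw [orderOf_eq_prime hcp hc1]
        exact orderOf_dvd_of_pow_eq_one (hA.ea.2 z (hPA hz))
      · rw [hcz, FPFTools.sup_lines hA h.le₀ h.card₀ hZA hZc (h.ne_zLine hG S')]
        exact le_antisymm hAP hPA
    · obtain ⟨K, hK, hpow⟩ := TauTwoNonabelian.exists_cyclic_powers hG hA hAS' hna'
      haveI := hPab
      letI : CommGroup P := { mul_comm := fun a b => hPab.1.comm a b }
      set Im := (powMonoidHom p : P →* P).range.map P.subtype with hIm
      have hImK : Im ≤ K := by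
        rintro _ ⟨_, ⟨z, rfl⟩, rfl⟩
        exact hpow z ⟨hS' z.2, hPC z.2⟩
      haveI := hK
      haveI : IsCyclic Im := isCyclic_of_injective (Subgroup.inclusion hImK) (Subgroup.inclusion_injective hImK)
      obtain ⟨⟨g, hg⟩, hgen⟩ := IsCyclic.exists_generator (α := Im)
      obtain ⟨_, ⟨c, rfl⟩, hcg⟩ := hg
      have hgen' : ∀ z : P, ∃ i : ℤ, ((z : G)) ^ p = ((c : G) ^ p) ^ i := fun z => by
        obtain ⟨i, hi⟩ := hgen ⟨_, ⟨z ^ p, ⟨z, rfl⟩, rfl⟩⟩
        refine ⟨i, ?_⟩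
        have h1 := congrArg Subtype.val hi
        simp only [Subgroup.coe_zpow] at h1
        rw [← hcg] at h1
        simpa using h1.symm
      have hc1 : (c : G) ^ p ≠ 1 := fun e => hPA fun z hz => hA.mem_of_commute (by
        obtain ⟨i, hi⟩ := hgen' ⟨z, hz⟩
        rw [hi, e, one_zpow]) (hPC hz)
      obtain ⟨k, hk⟩ := IsPGroup.iff_orderOf.mp hPp c
      have hk2 : 2 ≤ k := by
        by_contra hlt
        refine hc1 ?_
        rw [← Subgroup.orderOf_coe] at hk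
        refine orderOf_dvd_iff_pow_eq_one.mp (hk ▸ ?_)
        calc p ^ k ∣ p ^ 1 := pow_dvd_pow p (by omega)
          _ = p := pow_one p
      have hord : orderOf (c : G) = p ^ k := by rw [Subgroup.orderOf_coe, hk]
      refine ⟨c, c.2, fun i hi => ?_, fun z hz => ?_, ?_⟩
      · by_contra hne
        set q := (c : G) ^ p ^ (k - 1) with hq
        have hqo : orderOf q = p := by
          rw [hq, orderOf_pow' _ (pow_ne_zero _ hp.out.ne_zero), hord,
            Nat.gcd_eq_right (pow_dvd_pow p (by omega)), Nat.pow_div (by omega) hp.out.pos,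
            show k - (k - 1) = 1 by omega, pow_one]
        have hqA₀ : q ∈ A₀ := by
          obtain ⟨hiz, hip⟩ := FPFTools.line_eq_zpowers h.card₀ hi hne
          rw [← hiz]
          exact (Solvable.SupersolvableCriteria.eq_of_card_eq_of_le_cyclic (A := Subgroup.zpowers (c : G))
            (Subgroup.zpowers_le.mpr (Subgroup.npow_mem_zpowers _ _))
            (Subgroup.zpowers_le.mpr (Subgroup.npow_mem_zpowers _ _))
            (by rw [Nat.card_zpowers, Nat.card_zpowers, hqo, orderOf_eq_prime hip hne])).le (Subgroup.mem_zpowers q)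
        set w := (c : G) ^ p ^ (k - 2) with hw
        have hwq : w ^ p = q := by rw [hw, hq, ← pow_mul, ← pow_succ]; congr 2; omega
        have hq1 : q ≠ 1 := fun e => hp.out.ne_one (by rw [← hqo, e, orderOf_one])
        have hwZ := TauTwoNonabelian.pow_mem_zLine hG hA hAS' hna' (pow_mem (hS' c.2) _) (pow_mem (hPC c.2) _)
          (x := w) (hwq ▸ h.le₀ hqA₀)
        rw [hwq] at hwZ
        exact h.ne_zLine hG S' ((FPFTools.line_eq_zpowers h.card₀ hqA₀ hq1).1.symm.trans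
          (FPFTools.line_eq_zpowers (PlaneSylow.zLine_card hG hA hAS' hna') hwZ hq1).1)
      · obtain ⟨i, hi⟩ := hgen' ⟨z, hz⟩
        rw [hord]
        refine orderOf_dvd_of_pow_eq_one ?_
        obtain ⟨k', rfl⟩ := Nat.exists_eq_succ_of_ne_zero (show k ≠ 0 by omega)
        rw [pow_succ', pow_mul, show z ^ p = ((c : G) ^ p) ^ i from hi, ← zpow_natCast, ← zpow_mul, mul_comm,
          zpow_mul, zpow_natCast, ← pow_mul, ← pow_succ', ← hord, pow_orderOf_eq_one, one_zpow]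
      · refine le_antisymm (sup_le (h.le₀.trans hAP) (Subgroup.zpowers_le.mpr c.2)) fun z hz => ?_
        obtain ⟨i, hi⟩ := hgen' ⟨z, hz⟩
        have hzA : z * (c : G) ^ (-i) ∈ A := hA.mem_of_commute (by
          rw [Commute.mul_pow ((PlaneSylow.comm_of hPab hz c.2).zpow_right _),
            show z ^ p = ((c : G) ^ p) ^ i from hi, ← zpow_natCast ((c : G) ^ (-i)), ← zpow_mul,
            ← zpow_natCast (c : G) p, ← zpow_mul, ← zpow_add, show (p : ℤ) * i + -i * p = 0 by ring, zpow_zero])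
          (Subgroup.mul_mem _ (hPC hz) (Subgroup.zpow_mem _ (hPC c.2) _))
        -- `A = A₀ Ω₁⟨c⟩`
        have hqA : (c : G) ^ p ^ (k - 1) ∈ A := hA.mem_of_commute (by
          rw [← pow_mul, ← pow_succ, show k - 1 + 1 = k by omega, ← hord, pow_orderOf_eq_one])
          (pow_mem (hPC c.2) _)
        set Q := Subgroup.zpowers ((c : G) ^ p ^ (k - 1)) with hQ
        have hQc : Nat.card Q = p := by
          rw [hQ, Nat.card_zpowers, orderOf_pow' _ (pow_ne_zero _ hp.out.ne_zero), hord,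
            Nat.gcd_eq_right (pow_dvd_pow p (by omega)), Nat.pow_div (by omega) hp.out.pos,
            show k - (k - 1) = 1 by omega, pow_one]
        have hQne : A₀ ≠ Q := fun e => by
          have hw : ((c : G) ^ p ^ (k - 2)) ^ p = (c : G) ^ p ^ (k - 1) := by
            rw [← pow_mul, ← pow_succ]; congr 2; omega
          have hwZ := TauTwoNonabelian.pow_mem_zLine hG hA hAS' hna' (pow_mem (hS' c.2) _) (pow_mem (hPC c.2) _)
            (x := (c : G) ^ p ^ (k - 2)) (hw ▸ hqA)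
          rw [hw] at hwZ
          refine h.ne_zLine hG S' (e.trans (Subgroup.eq_of_le_of_card_ge (Subgroup.zpowers_le.mpr hwZ) ?_))
          rw [hQc, PlaneSylow.zLine_card hG hA hAS' hna']
        have hAle : A ≤ A₀ ⊔ Subgroup.zpowers (c : G) :=
          (FPFTools.sup_lines hA h.le₀ h.card₀ (Subgroup.zpowers_le.mpr hqA) hQc hQne).ge.trans
            (sup_le_sup_left (Subgroup.zpowers_le.mpr (Subgroup.npow_mem_zpowers _ _)) _)
        have := Subgroup.mul_mem _ (hAle hzA)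
          (Subgroup.mem_sup_right (Subgroup.zpow_mem _ (Subgroup.mem_zpowers (c : G)) i))
        rwa [mul_assoc, ← zpow_add, neg_add_cancel, zpow_zero, mul_one] at this
  -- Gaschütz inside `E`
  have hA₀n : E ≤ Subgroup.normalizer (A₀ : Set G) := fun e he => by
    rw [← TauTwoNonabelian.inf_centralizer_eq hG h hAS hna]
    exact Subgroup.inf_normalizer_le_normalizer_inf ⟨hEA he,
      WLine.normalizer_le_normalizer_centralizer _ (SigmaTools.le_normalizer_sigmaCore M (hE.1 he))⟩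
  haveI : (A₀.subgroupOf E).Normal := (Subgroup.normal_subgroupOf_iff_le_normalizer hA₀E).mpr hA₀n
  haveI : IsMulCommutative (A₀.subgroupOf E) := by
    haveI := h.ea.1
    exact ⟨⟨fun a b => Subtype.ext (Subtype.ext (PlaneSylow.comm_of h.ea.1 (h.le₀ a.2) (h.le₀ b.2)).eq)⟩⟩
  have hcT : (⟨c, hPE hcP⟩ : E) ∈ (T : Subgroup E) := by
    obtain ⟨c', hc', hce⟩ := id hcP
    exact (show c' = ⟨c, hPE hcP⟩ from Subtype.ext hce) ▸ hc'
  obtain ⟨K₁, hK₁⟩ := Solvable.Gaschutz.exists_complement (A₀.subgroupOf E) (T : Subgroup E)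
    (fun a ha => hT (h.le₀ ha)) (by
      rw [Nat.card_congr (Subgroup.subgroupOfEquivOfLe hA₀E).toEquiv, h.card₀]
      exact hp.out.coprime_iff_not_dvd.mpr T.not_dvd_index)
    (Subgroup.zpowers ⟨c, hPE hcP⟩) (le_bot_iff.mp (by
      rintro x ⟨hx, hx0⟩
      obtain ⟨i, rfl⟩ := mem_powers_iff_mem_zpowers.mpr hx
      exact Subgroup.mem_bot.mpr (Subtype.ext (by simpa using hc0 i (by simpa [Subgroup.mem_subgroupOf] using hx0)))))
    (by
      refine Subgroup.map_injective E.subtype_injective ?_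
      rw [Subgroup.map_sup, MonoidHom.map_zpowers, Subgroup.map_subgroupOf_eq_of_le hA₀E, ← hP]
      exact hcgen)
  set E₀ := K₁.map E.subtype with hE₀
  have hE₀E : E₀ ≤ E := Subgroup.map_subtype_le _
  have hdec : ∀ z ∈ E, ∃ a ∈ A₀, ∃ g ∈ E₀, z = a * g := fun z hz => by
    obtain ⟨⟨a, g⟩, hag, -⟩ := hK₁.existsUnique ⟨z, hz⟩
    exact ⟨((a : E) : G), a.2, ((g : E) : G), ⟨g, g.2, rfl⟩, (congrArg Subtype.val hag).symm⟩
  have hinf : ∀ x ∈ A₀, x ∈ E₀ → x = 1 := fun x hx hx0 => by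
    obtain ⟨x', hx', rfl⟩ := hx0
    have h1 : x' ∈ A₀.subgroupOf E ⊓ K₁ := ⟨hx, hx'⟩
    rw [disjoint_iff.mp hK₁.disjoint, Subgroup.mem_bot] at h1
    simp [h1]
  have hpow : ∀ z ∈ E, ∃ g ∈ E₀, ∀ i : ℕ, g ^ i = 1 → z ^ i ∈ A₀ := by
    intro z hz
    obtain ⟨a, ha, g, hg, e⟩ := hdec z hz
    refine ⟨g, hg, fun i hi => ?_⟩
    have hzE : (⟨z, hz⟩ : E) = ⟨a, hA₀E ha⟩ * ⟨g, hE₀E hg⟩ := Subtype.ext e
    have h1 : (QuotientGroup.mk ((⟨z, hz⟩ : E) ^ i) : E ⧸ A₀.subgroupOf E) = 1 := by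
      rw [QuotientGroup.mk_pow, hzE, QuotientGroup.mk_mul,
        (QuotientGroup.eq_one_iff (⟨a, hA₀E ha⟩ : E)).mpr (Subgroup.mem_subgroupOf.mpr ha), one_mul,
        ← QuotientGroup.mk_pow, show (⟨g, hE₀E hg⟩ : E) ^ i = 1 from Subtype.ext (by simpa using hi),
        QuotientGroup.mk_one]
    simpa [Subgroup.mem_subgroupOf] using (QuotientGroup.eq_one_iff _).mp h1
  refine ⟨E₀, hE₀E, exponent_eq hE₀E fun r k hr z hz hzo => ?_, fun e he he1 => ?_⟩
  · haveI := Fact.mk hr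
    by_cases hrp : r = p
    · subst hrp
      obtain ⟨g, hg, hgi⟩ := hpow c (hPE hcP)
      have hzP : IsPGroup r (Subgroup.zpowers z) := IsPGroup.of_card (n := k) (by rw [Nat.card_zpowers, hzo])
      -- conjugate into `P`
      obtain ⟨T₂, hT₂⟩ := (hzP.of_equiv (Subgroup.subgroupOfEquivOfLe (Subgroup.zpowers_le.mpr hz)).symm).exists_le_sylow
      obtain ⟨e₁, he₁⟩ := MulAction.exists_smul_eq E T₂ T
      have hmem : (e₁ : G) * z * (e₁ : G)⁻¹ ∈ P := by
        refine ⟨e₁ * ⟨z, hz⟩ * e₁⁻¹, ?_, rfl⟩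
        rw [← he₁, Sylow.coe_subgroup_smul]
        exact ⟨_, hT₂ (Subgroup.mem_zpowers z), rfl⟩
      have hd := hcmax _ hmem
      rw [← MulAut.conj_apply, MulEquiv.orderOf_eq, hzo] at hd
      refine hd.trans ?_
      refine (orderOf_dvd_of_pow_eq_one (hc0 _ (hgi _ (pow_orderOf_eq_one g)))).trans ?_
      exact Subgroup.orderOf_mk g hg ▸ Monoid.order_dvd_exponent (⟨g, hg⟩ : E₀)
    · obtain ⟨g, hg, hgi⟩ := hpow z hz
      have h1 : z ^ (orderOf g * p) = 1 := by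
        rw [pow_mul]
        exact h.ea.2 _ (h.le₀ (hgi _ (pow_orderOf_eq_one g)))
      have h2 : r ^ k ∣ orderOf g := Nat.Coprime.dvd_of_dvd_mul_right
        (((Nat.coprime_primes hr hp.out).mpr hrp).pow_left k) (hzo ▸ orderOf_dvd_of_pow_eq_one h1)
      exact h2.trans (Subgroup.orderOf_mk g hg ▸ Monoid.order_dvd_exponent (⟨g, hg⟩ : E₀))
  · by_contra hfix
    exact he1 (hinf e (mem_line hG hE hreg h hAE hAS hna (hE₀E he) hfix) he)

end CfsgLib.OddOrder.FrobeniusCriterion
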