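import Cfsg.Agent.Lib.OddOrder.SigmaDecomp
import Cfsg.Agent.Lib.OddOrder.SigmaDichotomy
import Cfsg.Agent.S1421
import Mathlib

set_option autoImplicit false
set_option linter.style.haveILetI false
set_option linter.unusedSectionVars false

/-!
Elements of `U M_σ` with fixed points on `M_σ`.
-/

namespace CfsgLib.OddOrder.SigmaA

open scoped commutatorElement
open SigmaFusion (cj)
open KappaHall (rest Str)

variable {G : Type*} [Group G] [Finite G] {M K U : Subgroup G}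

theorem fix_of_hat {x : G} (hx : x ∈ Cfsg.sigmaHat M) :
    Cfsg.sigmaCore M ⊓ Subgroup.centralizer ({x} : Set G) ≠ ⊥ := by
  obtain ⟨-, y, hy, hy1, hc⟩ := hx
  exact fun e => hy1 (Subgroup.mem_bot.mp (e.le ⟨hy, Subgroup.mem_centralizer_singleton_iff.mpr hc.symm⟩))

theorem hat_of_fix {x : G} (hxM : x ∈ M) (h : Cfsg.sigmaCore M ⊓ Subgroup.centralizer ({x} : Set G) ≠ ⊥) :
    x ∈ Cfsg.sigmaHat M := by
  obtain ⟨y, hy, hy1⟩ := (Cfsg.sigmaCore M ⊓ Subgroup.centralizer ({x} : Set G)).bot_or_exists_ne_one.resolve_left h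
  exact ⟨hxM, y, hy.1, hy1, (Subgroup.mem_centralizer_singleton_iff.mp hy.2).symm⟩

/-- Elements with fixed points and all primes outside `σ(M) ∪ κ(M)`. -/
theorem rest_fix (hG : Cfsg.IsMinSimpleOddOrder G) (hM : IsCoatom M) {x : G} (hxM : x ∈ M) (hx1 : x ≠ 1)
    (hr : ∀ t : ℕ, t.Prime → t ∣ orderOf x → t ∈ rest M) (hx : x ∈ Cfsg.sigmaHat M) :
    (∀ t : ℕ, t.Prime → t ∣ orderOf x → t ∈ Cfsg.tau2 M) ∧ Subgroup.centralizer ({x} : Set G) ≤ M ∧
      ∀ L : Subgroup G, IsCoatom L → Subgroup.centralizer ({x} : Set G) ≤ L → L = M := by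
  obtain ⟨-, y, hy, hy1, hc⟩ := hx
  rcases SigmaDichotomy.main hG hM hy hy1 (x' := x) ⟨hxM, Subgroup.mem_centralizer_singleton_iff.mpr hc⟩ hx1
    (fun t ht hd => (hr t ht hd).2.2) with ⟨hκ, -⟩ | ⟨hτ, -, hC, huniq⟩
  · obtain ⟨t, ht, hd⟩ := Nat.exists_prime_and_dvd (mt orderOf_eq_one_iff.mp hx1)
    exact absurd (hκ t ht hd) (hr t ht hd).2.1
  · exact ⟨hτ, hC, huniq⟩

theorem U_order (hG : Cfsg.IsMinSimpleOddOrder G) (hM : IsCoatom M) (h : Cfsg.IsSigmaDecomposition M K U) {x : G}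
    (hx : x ∈ U) (t : ℕ) (ht : t.Prime) (hd : t ∣ orderOf x) : t ∈ rest M :=
  SigmaDecomp.U_primes hG hM h t ht (hd.trans (Subgroup.orderOf_dvd_natCard U hx))

/-- The primes of `U M_σ`. -/
theorem sup_primes (hG : Cfsg.IsMinSimpleOddOrder G) (hM : IsCoatom M) (h : Cfsg.IsSigmaDecomposition M K U)
    (t : ℕ) (ht : t.Prime) (hd : t ∣ Nat.card ↥(U ⊔ Cfsg.sigmaCore M)) : t ∈ rest M ∨ t ∈ Cfsg.sigma M := by
  haveI := Fact.mk ht
  have hc : Cfsg.IsComplIn U (Cfsg.sigmaCore M) (U ⊔ Cfsg.sigmaCore M) := by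
    refine ⟨le_sup_left, le_sup_right, le_bot_iff.mp ((inf_le_inf_right _ (le_sup_left : U ≤ U ⊔ K)).trans
      (SigmaDecomp.compl_sup hG hM h).2.2.1.le), fun m hm => ?_⟩
    rw [← SetLike.mem_coe, Subgroup.coe_mul_of_left_le_normalizer_right U _
      ((SigmaDecomp.U_le h).trans (SigmaTools.le_normalizer_sigmaCore M))] at hm
    obtain ⟨a, ha, b, hb, rfl⟩ := Set.mem_mul.mp hm
    exact ⟨a, ha, b, hb, rfl⟩
  rw [← Coprime.card_mul_relIndex_eq (le_sup_left : U ≤ U ⊔ Cfsg.sigmaCore M), Basic.IsComplIn.relIndex_left hc] at hd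
  rcases ht.dvd_mul.mp hd with hd | hd
  · exact Or.inl (SigmaDecomp.U_primes hG hM h t ht hd)
  · exact Or.inr (SigmaTools.mem_sigma_of_card hd)

/-- In the case `K = 1` the complement `U` satisfies the hypothesis of the Frobenius criterion. -/
theorem reg (hG : Cfsg.IsMinSimpleOddOrder G) (hM : IsCoatom M) (h : Cfsg.IsSigmaDecomposition M K U) (hK : K = ⊥)
    {e : G} (he : e ∈ U) (he1 : e ≠ 1) (hτ : ∀ p : ℕ, p.Prime → p ∣ orderOf e → p ∈ Cfsg.tau1 M ∪ Cfsg.tau3 M) :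
    Cfsg.sigmaCore M ⊓ Subgroup.centralizer ({e} : Set G) = ⊥ := by
  by_contra hne
  obtain ⟨t, ht, hd⟩ := Nat.exists_prime_and_dvd (mt orderOf_eq_one_iff.mp he1)
  have h2 := (rest_fix hG hM (SigmaDecomp.U_le h he) he1 (U_order hG hM h he)
    (hat_of_fix (SigmaDecomp.U_le h he) hne)).1 t ht hd
  rcases hτ t ht hd with h1 | h1
  · exact h2.2.2.2 h1.2.2.2.2
  · exact h2.2.2.2 h1.2.2.2

/-- The subgroup generated by the elements of `U` with fixed points is abelian. -/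
theorem closure_abelian (hG : Cfsg.IsMinSimpleOddOrder G) (hM : IsCoatom M) (h : Cfsg.IsSigmaDecomposition M K U) :
    IsMulCommutative (Subgroup.closure ((U : Set G) ∩ Cfsg.sigmaHat M)) := by
  obtain ⟨A, hA, hle⟩ : ∃ A : Subgroup G, IsMulCommutative A ∧
      Subgroup.closure ((U : Set G) ∩ Cfsg.sigmaHat M) ≤ A := by
    by_cases hK : K = ⊥
    · obtain ⟨⟨A₀, -, -, hA₀c, hA₀⟩, -⟩ := Cfsg.Agent.S1421.result hG M hM U (SigmaDecomp.U_compl_of_bot hG hM h hK)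
        fun e he he1 hτ => reg hG hM h hK he he1 hτ
      refine ⟨A₀, hA₀c, (Subgroup.closure_le _).mpr fun e he => ?_⟩
      obtain ⟨-, y, hy, hy1, hc⟩ := he.2
      exact hA₀ y hy hy1 ⟨he.1, Subgroup.mem_centralizer_singleton_iff.mpr hc⟩
    · exact ⟨U, (SigmaDecomp.str hG hM h hK).comm, (Subgroup.closure_le _).mpr fun e he => he.1⟩
  exact ⟨⟨fun a b => Subtype.ext (PlaneSylow.comm_of hA (hle a.2) (hle b.2)).eq⟩⟩

/-- `C(X)` for `X ≤ U` with fixed points (BG 15.7). -/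
theorem centralizer_unique (hG : Cfsg.IsMinSimpleOddOrder G) (hM : IsCoatom M) (h : Cfsg.IsSigmaDecomposition M K U)
    {X : Subgroup G} (hXU : X ≤ U) (hX : X ≠ ⊥)
    (hXc : Cfsg.sigmaCore M ⊓ Subgroup.centralizer (X : Set G) ≠ ⊥) :
    Subgroup.centralizer (X : Set G) ≤ M ∧
      ∀ L : Subgroup G, IsCoatom L → Subgroup.centralizer (X : Set G) ≤ L → L = M := by
  obtain ⟨y, hy, hy1⟩ := (Cfsg.sigmaCore M ⊓ Subgroup.centralizer (X : Set G)).bot_or_exists_ne_one.resolve_left hXc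
  have hhat : ∀ z ∈ X, z ∈ Cfsg.sigmaHat M := fun z hz =>
    ⟨SigmaDecomp.U_le h (hXU hz), y, hy.1, hy1, (Subgroup.mem_centralizer_iff.mp hy.2 z hz)⟩
  have hτ : ∀ z ∈ X, z ≠ 1 → _ := fun z hz hz1 =>
    rest_fix hG hM (SigmaDecomp.U_le h (hXU hz)) hz1 (U_order hG hM h (hXU hz)) (hhat z hz)
  obtain ⟨x, hx, hx1⟩ := X.bot_or_exists_ne_one.resolve_left hX
  refine ⟨(Subgroup.centralizer_le (Set.singleton_subset_iff.mpr hx)).trans (hτ x hx hx1).2.1, fun L hL hCL => ?_⟩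
  obtain ⟨p, hp, hpd⟩ := Nat.exists_prime_and_dvd (mt orderOf_eq_one_iff.mp hx1)
  haveI := Fact.mk hp
  have hpτ := (hτ x hx hx1).1 p hp hpd
  have hE := SigmaDecomp.compl_sup hG hM h
  obtain ⟨A, hAE, hAe, hA2⟩ := TauTwoAbelian.exists_plane hE hpτ
  obtain ⟨A₀, hExc⟩ := TauTwoStructure.exists_exc hG hM hpτ.2.1 (hAE.trans hE.1) hAe hA2
  have hAC : A ≤ Subgroup.centralizer (X : Set G) := fun a ha => Subgroup.mem_centralizer_iff.mpr fun z hz => by
    rcases eq_or_ne z 1 with rfl | hz1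
    · rw [one_mul, mul_one]
    exact (Subgroup.mem_centralizer_iff.mp (TauTwoAbelian.mem_centralizer hG hE hExc hAE
      (Subgroup.mem_sup_left (hXU hz)) (hτ z hz hz1).1) a ha).symm
  by_contra hne
  exact hy1 (Subgroup.mem_bot.mp ((TauTwoStructure.inter_eq_bot hG hExc hL hne (hAC.trans hCL)).le ⟨hy.1, hCL hy.2⟩))

/-- `A(M)` minus `M_σ` is a TI-subset. -/
theorem ti (hG : Cfsg.IsMinSimpleOddOrder G) (hM : IsCoatom M) (h : Cfsg.IsSigmaDecomposition M K U) :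
    Cfsg.IsTISubset (Cfsg.sigmaA M U \ (Cfsg.sigmaCore M : Set G)) := by
  set S := Cfsg.sigmaA M U \ (Cfsg.sigmaCore M : Set G) with hS
  have hMS : M ≤ Subgroup.normalizer S := by
    have key : ∀ m ∈ M, ∀ z ∈ S, m * z * m⁻¹ ∈ S := by
      rintro m hm z ⟨⟨⟨hzM, y, hy, hy1, hc⟩, hzU⟩, hzσ⟩
      have hN := SigmaTools.le_normalizer_sigmaCore M hm
      refine ⟨⟨⟨mul_mem (mul_mem hm hzM) (inv_mem hm), m * y * m⁻¹, (Subgroup.mem_normalizer_iff.mp hN y).mp hy,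
        fun e => hy1 (conj_eq_one_iff.mp e), ?_⟩, ?_⟩, fun e => hzσ ((Subgroup.mem_normalizer_iff.mp hN z).mpr e)⟩
      · rw [show m * z * m⁻¹ * (m * y * m⁻¹) = m * (z * y) * m⁻¹ by group, hc]
        group
      · exact (Subgroup.mem_normalizer_iff.mp (SigmaDecomp.le_normalizer_sup hG hM h hm) z).mp hzU
    intro m hm
    rw [Subgroup.mem_set_normalizer_iff]
    intro z
    refine ⟨key m hm z, fun hz => ?_⟩
    simpa [mul_assoc] using key m⁻¹ (inv_mem hm) _ hz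
  intro g hg z hz hgz
  exfalso
  refine hg (hMS ?_)
  have hzM : z ∈ M := hz.1.1.1
  obtain ⟨m, k, hmk, hmσ, hkσ⟩ := Coprime.exists_pi_split (Cfsg.sigma M) (orderOf z) (orderOf_pos z).ne'
  set z' := z ^ m with hz'
  have hz'o : orderOf z' = k := by
    rw [hz', orderOf_pow' _ (by rintro rfl; simp [(orderOf_pos z).ne'] at hmk), hmk, Nat.gcd_mul_right_left,
      Nat.mul_div_cancel_left k (Nat.pos_of_ne_zero (by rintro rfl; simp [(orderOf_pos z).ne'] at hmk))]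
  have hz'1 : z' ≠ 1 := fun e => hz.2 (Subgroup.zpowers_le.mp (SigmaTools.le_sigmaCore hG hM
    (Subgroup.zpowers_le.mpr hzM) fun t ht hd => by
      rw [Nat.card_zpowers, hmk, ← hz'o, e, orderOf_one, mul_one] at hd
      exact hmσ t ht hd))
  have hrest : ∀ t : ℕ, t.Prime → t ∣ orderOf z' → t ∈ rest M := fun t ht hd => by
    rw [hz'o] at hd
    exact (sup_primes hG hM h t ht ((hd.trans (hmk ▸ dvd_mul_left k m)).trans
      (Subgroup.orderOf_dvd_natCard _ hz.1.2))).resolve_right fun hs => hkσ t ht hs hd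
  obtain ⟨-, y, hy, hy1, hc⟩ := hz.1.1
  obtain ⟨-, hCM, huniq⟩ := rest_fix hG hM (pow_mem hzM m) hz'1 hrest
    ⟨pow_mem hzM m, y, hy, hy1, ((show Commute z y from hc).pow_left m).eq⟩
  obtain ⟨-, y₂, hy₂, hy₂1, hc₂⟩ := hgz.1.1
  have hco : orderOf (g * z' * g⁻¹) = orderOf z' := MulEquiv.orderOf_eq (MulAut.conj g) z'
  have hpw : g * z' * g⁻¹ = (g * z * g⁻¹) ^ m := (conj_pow).symm
  obtain ⟨-, hCM2, -⟩ := rest_fix hG hM (x := g * z' * g⁻¹) (hpw ▸ pow_mem hgz.1.1.1 m)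
    (fun e => hz'1 (conj_eq_one_iff.mp e)) (by rw [hco]; exact hrest)
    ⟨hpw ▸ pow_mem hgz.1.1.1 m, y₂, hy₂, hy₂1, by rw [hpw]; exact ((show Commute (g * z * g⁻¹) y₂ from hc₂).pow_left m).eq⟩
  have hle : Subgroup.centralizer ({z'} : Set G) ≤ cj g⁻¹ M := fun c hc' => by
    rw [SigmaTools.mem_cj, inv_inv]
    refine hCM2 (Subgroup.mem_centralizer_singleton_iff.mpr ?_)
    have h1 := Subgroup.mem_centralizer_singleton_iff.mp hc'
    calc g * c * g⁻¹ * (g * z' * g⁻¹) = g * (c * z') * g⁻¹ := by group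
      _ = g * (z' * c) * g⁻¹ := by rw [h1]
      _ = _ := by group
  have heq : cj g⁻¹ M = M := huniq _ (SigmaFusion.isCoatom_cj hM g⁻¹) hle
  have h2 : g⁻¹ ∈ Subgroup.normalizer (M : Set G) := Subgroup.mem_normalizer_iff_map_conj_eq.mpr heq
  rw [SigmaFusion.normalizer_eq_self hG.2 hM (SigmaCore.coatom_ne_bot hG hM)] at h2
  exact inv_mem_iff.mp h2

end CfsgLib.OddOrder.SigmaA
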