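import Cfsg.Agent.Lib.OddOrder.StarPair
import Cfsg.Agent.Lib.Coprime.ClassSizeGraph
import Mathlib

set_option autoImplicit false
set_option linter.style.haveILetI false
set_option linter.unusedSectionVars false

/-!
Consequences of BG 14.7.
-/

namespace CfsgLib.OddOrder.StarFacts

open scoped commutatorElement
open SigmaFusion (cj)
open KappaHall (Str rest)
open StarPartner (Dstar Zsub Pk commute exists_mul mem_K core_inf_Z card_Z)
open StarFamily (Zhat conjSet)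
open StarPair (Pair)
open SupportCosets (sigma_number parts_eq)

variable {G : Type*} [Group G] [Finite G] {M L K U : Subgroup G}

theorem disjoint_KD (h : Pk M K) {x : G} (hk : x ∈ K) (hd : x ∈ Cfsg.sigmaCore M) : x = 1 := by
  by_contra hx1
  obtain ⟨t, ht, htd⟩ := Nat.exists_prime_and_dvd (mt orderOf_eq_one_iff.mp hx1)
  exact (h.sigma' hk t ht htd).2.2.1 (sigma_number hd t ht htd)

/-- The elements of `Z` outside `K ∪ K*`. -/
theorem Zhat_eq (hG : Cfsg.IsMinSimpleOddOrder G) (h : Pair M K L) :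
    Zhat M K = (↑(Zsub M K) : Set G) \ ((K : Set G) ∪ ↑(Dstar M K)) := by
  obtain ⟨f, hf, hfp⟩ := KappaHall.exists_prime_elem h.left.ne
  have hmL : StarFamily.Member M K L := Or.inr ⟨f, hf, hfp, h.right.coatom,
    (StarPartner.centralizer_le hG h.right (h.eq.ge hf) hfp).1⟩
  ext z
  refine ⟨fun hz => ⟨hz.1, fun h' => ?_⟩, fun hz => ⟨hz.1, fun A hA hzA => hz.2 ?_⟩⟩
  · rcases h' with h' | h'
    · exact hz.2 L hmL (h.eq.ge h').1
    · exact hz.2 M (Or.inl rfl) h'.1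
  · obtain ⟨L₁, hpair, hall⟩ := StarPair.exists_pair hG h.left
    obtain rfl := h.unique hG hpair.right hpair.eq
    rcases hall A hA with rfl | rfl
    · exact Or.inr ((core_inf_Z h.left).le ⟨hzA, hz.1⟩)
    · exact Or.inl (h.eq.le ((core_inf_Z h.right).le ⟨hzA, h.Z_eq.symm ▸ hz.1⟩))

theorem mem_Zhat_iff (hG : Cfsg.IsMinSimpleOddOrder G) (h : Pair M K L) {z : G} :
    z ∈ Zhat M K ↔ ∃ k ∈ K, ∃ d ∈ Dstar M K, k ≠ 1 ∧ d ≠ 1 ∧ z = k * d := by
  rw [Zhat_eq hG h]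
  constructor
  · rintro ⟨hz, hnot⟩
    obtain ⟨k, hk, d, hd, rfl⟩ := exists_mul hz
    refine ⟨k, hk, d, hd, fun e => hnot (Or.inr ?_), fun e => hnot (Or.inl ?_), rfl⟩
    · rw [SetLike.mem_coe, e, one_mul]; exact hd
    · rw [SetLike.mem_coe, e, mul_one]; exact hk
  · rintro ⟨k, hk, d, hd, hk1, hd1, rfl⟩
    refine ⟨Subgroup.mul_mem_sup hk hd, ?_⟩
    rintro (h' | h')
    · exact hd1 (disjoint_KD h.left (by simpa using K.mul_mem (K.inv_mem hk) h') hd.1)
    · exact hk1 (disjoint_KD h.left hk (by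
        simpa using (Cfsg.sigmaCore M).mul_mem h'.1 ((Cfsg.sigmaCore M).inv_mem hd.1)))

theorem Zhat_nonempty (hG : Cfsg.IsMinSimpleOddOrder G) (h : Pair M K L) : (Zhat M K).Nonempty := by
  obtain ⟨k, hk, hk1⟩ := K.bot_or_exists_ne_one.resolve_left h.left.ne
  obtain ⟨d, hd, hd1⟩ := (Dstar M K).bot_or_exists_ne_one.resolve_left h.right.ne
  exact ⟨k * d, (mem_Zhat_iff hG h).mpr ⟨k, hk, d, hd, hk1, hd1, rfl⟩⟩

/-- BG 14.7: the TI-set `Ẑ`. -/
theorem ti_normalizer (hG : Cfsg.IsMinSimpleOddOrder G) (h : Pair M K L) :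
    Cfsg.IsTISubset (Zhat M K) ∧ Subgroup.normalizer (Zhat M K) = Zsub M K := by
  have hle : Zsub M K ≤ Subgroup.normalizer (Zhat M K) := fun w hw => by
    rw [Subgroup.mem_set_normalizer_iff]
    refine fun z => ⟨fun hz => StarFamily.conj_mem hG h.left hz hw, fun hz => ?_⟩
    simpa [mul_assoc] using StarFamily.conj_mem hG h.left hz (inv_mem hw)
  refine ⟨fun g hg z hz hgz => absurd (hle (StarFamily.mem_Z_of_conj hG h.left hz hgz.1)) hg,
    le_antisymm (fun g hg => ?_) hle⟩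
  obtain ⟨z, hz⟩ := Zhat_nonempty hG h
  exact StarFamily.mem_Z_of_conj hG h.left hz (((Subgroup.mem_set_normalizer_iff.mp hg) z).mp hz).1

theorem ncard_Zhat (hG : Cfsg.IsMinSimpleOddOrder G) (h : Pair M K L) :
    Set.ncard (Zhat M K) = (Nat.card K - 1) * (Nat.card ↥(Dstar M K) - 1) := by
  classical
  have e : Zhat M K = (fun p : G × G => p.1 * p.2) '' (((K : Set G) \ {1}) ×ˢ ((Dstar M K : Set G) \ {1})) := by
    ext z
    rw [mem_Zhat_iff hG h]
    constructor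
    · rintro ⟨k, hk, d, hd, hk1, hd1, rfl⟩
      exact ⟨(k, d), ⟨⟨hk, hk1⟩, hd, hd1⟩, rfl⟩
    · rintro ⟨⟨k, d⟩, ⟨⟨hk, hk1⟩, hd, hd1⟩, rfl⟩
      exact ⟨k, hk, d, hd, hk1, hd1, rfl⟩
  rw [e, Set.ncard_image_of_injOn, Set.ncard_prod, Set.ncard_sdiff_singleton_of_mem (one_mem K),
    Set.ncard_sdiff_singleton_of_mem (one_mem (Dstar M K)), ← Nat.card_coe_set_eq, ← Nat.card_coe_set_eq]
  · rfl
  rintro ⟨k, d⟩ ⟨⟨hk, -⟩, hd, -⟩ ⟨k', d'⟩ ⟨⟨hk', -⟩, hd', -⟩ (e' : k * d = k' * d')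
  have h1 : k'⁻¹ * k = d' * d⁻¹ := by
    calc k'⁻¹ * k = k'⁻¹ * (k * d) * d⁻¹ := by group
      _ = k'⁻¹ * (k' * d') * d⁻¹ := by rw [e']
      _ = _ := by group
  have h2 : k'⁻¹ * k = 1 := disjoint_KD h.left (K.mul_mem (K.inv_mem hk') hk)
    (h1 ▸ (Cfsg.sigmaCore M).mul_mem hd'.1 ((Cfsg.sigmaCore M).inv_mem hd.1))
  obtain rfl := inv_mul_eq_one.mp h2
  rw [mul_right_inj] at e'
  rw [e']

theorem ncard_conjSet (hG : Cfsg.IsMinSimpleOddOrder G) (h : Pair M K L) :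
    Nat.card K * Nat.card ↥(Dstar M K) * Set.ncard (conjSet M K) =
      Nat.card G * ((Nat.card K - 1) * (Nat.card ↥(Dstar M K) - 1)) := by
  rw [← ncard_Zhat hG h, ← StarFamily.card_conjSet hG h.left, card_Z h.left, mul_comm]

/-- More than half of `G`. -/
theorem half (hG : Cfsg.IsMinSimpleOddOrder G) (h : Pair M K L) : Nat.card G < 2 * Set.ncard (conjSet M K) := by
  have hodd : ∀ H : Subgroup G, H ≠ ⊥ → 3 ≤ Nat.card H := fun H hH => by
    have h1 : Nat.card H ≠ 1 := mt Subgroup.card_eq_one.mp hH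
    obtain ⟨j, hj⟩ := hG.1.of_dvd_nat H.card_subgroup_dvd_card
    omega
  have hk := hodd K h.left.ne
  have hd := hodd _ h.right.ne
  have hne : Nat.card K ≠ Nat.card ↥(Dstar M K) := fun e => by
    obtain ⟨t, ht, htd⟩ := Nat.exists_prime_and_dvd (mt Subgroup.card_eq_one.mp h.left.ne)
    haveI := Fact.mk ht
    exact (h.left.hall.2.1 t ht htd).2.2.1
      (SigmaTools.mem_sigma_of_card ((e ▸ htd).trans (Subgroup.card_dvd_of_le inf_le_left)))
  have hK := hG.1.of_dvd_nat K.card_subgroup_dvd_card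
  have hD := hG.1.of_dvd_nat (Dstar M K).card_subgroup_dvd_card
  have key := ncard_conjSet hG h
  have hlt : Nat.card K * Nat.card ↥(Dstar M K) < 2 * ((Nat.card K - 1) * (Nat.card ↥(Dstar M K) - 1)) := by
    obtain ⟨a, ha⟩ := hK
    obtain ⟨b, hb⟩ := hD
    have ha1 : 1 ≤ a := by omega
    have hb1 : 1 ≤ b := by omega
    have hab : a ≠ b := fun e => hne (by rw [ha, hb, e])
    rw [ha, hb, show 2 * a + 1 - 1 = 2 * a by omega, show 2 * b + 1 - 1 = 2 * b by omega]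
    rcases Nat.lt_or_ge a 2 with h2 | h2
    · have : a = 1 := by omega
      subst this
      omega
    · nlinarith
  refine Nat.lt_of_mul_lt_mul_left (a := Nat.card K * Nat.card ↥(Dstar M K)) ?_
  calc Nat.card K * Nat.card ↥(Dstar M K) * Nat.card G
      < 2 * ((Nat.card K - 1) * (Nat.card ↥(Dstar M K) - 1)) * Nat.card G :=
        Nat.mul_lt_mul_of_pos_right hlt Nat.card_pos
    _ = 2 * (Nat.card K * Nat.card ↥(Dstar M K) * Set.ncard (conjSet M K)) := by rw [key]; ring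
    _ = _ := by ring

theorem conj_K (h : Pk M K) (hG : Cfsg.IsMinSimpleOddOrder G) {x : G} (hx : x ∈ M)
    (hκ : ∀ t : ℕ, t.Prime → t ∣ orderOf x → t ∈ Cfsg.kappa M) : ∃ m ∈ M, m * x * m⁻¹ ∈ K := by
  have hsol : Group.IsSolvable M := hG.2.2.2 M h.coatom.1
  obtain ⟨H, hH, hxH⟩ := Coprime.exists_hall_ge (Cfsg.kappa M) hsol (Subgroup.zpowers_le.mpr hx)
    fun t ht hd => hκ t ht (Nat.card_zpowers x ▸ hd)
  obtain ⟨m, hm, e⟩ := Coprime.hall_conj hsol hH h.hall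
  exact ⟨m, hm, e.le ⟨x, hxH (Subgroup.mem_zpowers x), rfl⟩⟩

/-- Elements of `κ`-type with respect to `M` are conjugate in `M` to elements of `Ẑ`. -/
theorem to_Zhat (hG : Cfsg.IsMinSimpleOddOrder G) (h : Pair M K L) {x x' : G} (hx : x ∈ Cfsg.sigmaCore M) (hx1 : x ≠ 1)
    (hx' : x' ∈ M) (hc : Commute x x') (hx'1 : x' ≠ 1)
    (hκ : ∀ t : ℕ, t.Prime → t ∣ orderOf x' → t ∈ Cfsg.kappa M) :
    ∃ m ∈ M, m * (x * x') * m⁻¹ ∈ Zhat M K := by
  obtain ⟨m, hm, hmK⟩ := conj_K h.left hG hx' hκ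
  obtain ⟨E, U, hs⟩ := h.left.str hG
  have hne : m * x' * m⁻¹ ≠ 1 := fun e => hx'1 (conj_eq_one_iff.mp e)
  have hxD : m * x * m⁻¹ ∈ Dstar M K := (hs.fix _ hmK hne).le
    ⟨(Subgroup.mem_normalizer_iff.mp (SigmaTools.le_normalizer_sigmaCore M hm) x).mp hx,
      Subgroup.mem_centralizer_singleton_iff.mpr (hc.map (MulAut.conj m).toMonoidHom).eq⟩
  refine ⟨m, hm, (mem_Zhat_iff hG h).mpr ⟨_, hmK, _, hxD, hne, fun e => hx1 (conj_eq_one_iff.mp e), ?_⟩⟩
  rw [hc.eq]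
  group

/-- BG 14.7: every maximal subgroup with nonempty `κ` is conjugate to `M` or `M*`. -/
theorem conjugate (hG : Cfsg.IsMinSimpleOddOrder G) (h : Pair M K L) {H : Subgroup G} (hH : IsCoatom H)
    (hκ : (Cfsg.kappa H).Nonempty) : ∃ g : G, H = cj g M ∨ H = cj g L := by
  obtain ⟨KH, hKH⟩ := Coprime.exists_hall (Cfsg.kappa H) (hG.2.2.2 H hH.1)
  have hP : Pk H KH := ⟨hH, fun e => by
    obtain ⟨t, ht⟩ := hκ
    have := KappaHall.dvd_card_of_hall hKH ht.1 ht ht.2.1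
    rw [e, Subgroup.card_bot] at this
    exact ht.1.ne_one (Nat.dvd_one.mp this), hKH⟩
  obtain ⟨L', hpair, -⟩ := StarPair.exists_pair hG hP
  by_contra hcon
  push Not at hcon
  have hdis : Disjoint (conjSet M K) (conjSet H KH) := Set.disjoint_left.mpr fun a ha ha' => by
    obtain ⟨g, z, hz, rfl⟩ := ha
    obtain ⟨g', z', hz', e⟩ := ha'
    obtain ⟨k, hk, d, hd, -, -, rfl⟩ := (mem_Zhat_iff hG h).mp hz
    obtain ⟨k', hk', d', hd', -, hd'1, rfl⟩ := (mem_Zhat_iff hG hpair).mp hz'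
    obtain ⟨t, ht, htd⟩ := Nat.exists_prime_and_dvd (mt orderOf_eq_one_iff.mp hd'1)
    haveI := Fact.mk ht
    have hco : ∀ a b : G, orderOf (a * b * a⁻¹) = orderOf b := fun a b => MulEquiv.orderOf_eq (MulAut.conj a) b
    have h1 : t ∣ orderOf (k * d) := by
      rw [← hco g, e, hco g', (commute hk' hd').orderOf_mul_eq_mul_orderOf_of_coprime (Nat.coprime_of_dvd
        fun s hs h1 h2 => (hpair.left.sigma' hk' s hs h1).2.2.1 (sigma_number hd'.1 s hs h2))]
      exact htd.trans (dvd_mul_left _ _)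
    have htH := sigma_number hd'.1 t ht htd
    rcases ht.dvd_mul.mp (h1.trans ((commute hk hd).orderOf_mul_dvd_lcm.trans (Nat.lcm_dvd_mul _ _))) with h2 | h2
    · obtain ⟨c, hc⟩ := SigmaDisjoint.main hG h.right.coatom hH (sigma_number (h.eq.ge hk).1 t ht h2) htH
      exact (hcon c).2 hc
    · obtain ⟨c, hc⟩ := SigmaDisjoint.main hG h.left.coatom hH (sigma_number hd.1 t ht h2) htH
      exact (hcon c).1 hc
  have h1 := half hG h
  have h2 := half hG hpair
  have h3 : Set.ncard (conjSet M K ∪ conjSet H KH) ≤ Nat.card G := by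
    rw [← Set.ncard_univ]
    exact Set.ncard_le_ncard (Set.subset_univ _)
  rw [Set.ncard_union_eq hdis] at h3
  omega

/-- `K*` is a Hall `σ(M)`-subgroup of `M*`. -/
theorem hall_sigma (hG : Cfsg.IsMinSimpleOddOrder G) (h : Pair M K L) :
    Cfsg.IsPiHallOf (Cfsg.sigma M) (Dstar M K) L := by
  have hprimes : ∀ t : ℕ, t.Prime → t ∣ Nat.card ↥(Dstar M K) → t ∈ Cfsg.sigma M := fun t ht hd => by
    haveI := Fact.mk ht
    exact SigmaTools.mem_sigma_of_card (hd.trans (Subgroup.card_dvd_of_le inf_le_left))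
  obtain ⟨Y, hY, hDY⟩ := Coprime.exists_hall_ge (Cfsg.sigma M) (hG.2.2.2 L h.right.coatom.1) h.right.hall.1 hprimes
  obtain ⟨E, U, hs⟩ := h.left.str hG
  have hYM := KappaStar.le_of_meet hG h.left.coatom hs h.left.ne hY.2.1 (by
    rw [inf_eq_right.mpr hDY]; exact h.right.ne)
  rwa [le_antisymm hDY ((le_inf hYM hY.1).trans (h.core_inf hG).le)]

/-- `C(xy) = Z`. -/
theorem centralizer_mul (hG : Cfsg.IsMinSimpleOddOrder G) (h : Pair M K L) {x y : G} (hx : x ∈ K) (hx1 : x ≠ 1)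
    (hy : y ∈ Dstar M K) (hy1 : y ≠ 1) :
    M ⊓ Subgroup.centralizer ({x} : Set G) = Zsub M K ∧ Subgroup.centralizer ({x * y} : Set G) = Zsub M K := by
  haveI := h.cyclic_Z hG
  letI := IsCyclic.commGroup (α := ↥(Zsub M K))
  have hZC : ∀ a ∈ Zsub M K, Zsub M K ≤ Subgroup.centralizer ({a} : Set G) := fun a ha b hb =>
    Subgroup.mem_centralizer_singleton_iff.mpr
      (congrArg Subtype.val (mul_comm (⟨b, hb⟩ : ↥(Zsub M K)) ⟨a, ha⟩))
  obtain ⟨E, U, hs⟩ := h.left.str hG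
  have hCx : M ⊓ Subgroup.centralizer ({x} : Set G) = Zsub M K := by
    refine le_antisymm ?_ (le_inf (StarPartner.Z_le h.left) (hZC x (Subgroup.mem_sup_left hx)))
    obtain ⟨r, hr, hrd⟩ := Nat.exists_prime_and_dvd (mt orderOf_eq_one_iff.mp hx1)
    show _ ≤ K ⊔ (Cfsg.sigmaCore M ⊓ Subgroup.centralizer (K : Set G))
    rw [← hs.inf_normalizer (Subgroup.zpowers_le.mpr (pow_mem hx (orderOf x / r))) (by
      rw [Nat.card_zpowers, orderOf_pow_orderOf_div (orderOf_pos x).ne' hrd]; exact hr)]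
    refine inf_le_inf_left _ ((CN.centralizer_singleton_le_pow x (orderOf x / r)).trans ?_)
    rw [← SigmaTools.centralizer_zpowers]
    exact Subgroup.centralizer_le_normalizer _
  refine ⟨hCx, le_antisymm ?_ (hZC _ (Subgroup.mul_mem_sup hx hy))⟩
  intro g hg
  have hg' : Commute g (x * y) := Subgroup.mem_centralizer_singleton_iff.mp hg
  have hcop : (orderOf x).Coprime (orderOf y) := Nat.coprime_of_dvd fun t ht h1 h2 =>
    (h.left.sigma' hx t ht h1).2.2.1 (sigma_number hy.1 t ht h2)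
  obtain ⟨i, hi⟩ := CfsgLib.Coprime.ClassSizeGraph.exists_pow_eq_left (commute hx hy) (pow_orderOf_eq_one x) (pow_orderOf_eq_one y) hcop
  have hgx : Commute g x := hi ▸ hg'.pow_right i
  have hgy : Commute g y := by
    have := hgx.inv_right.mul_right hg'
    rwa [inv_mul_cancel_left] at this
  obtain ⟨t, ht, htd⟩ := Nat.exists_prime_and_dvd (mt orderOf_eq_one_iff.mp hy1)
  have hgM : g ∈ M := (StarPartner.centralizer_le hG h.left (y := y ^ (orderOf y / t)) (pow_mem hy _) (by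
    rw [orderOf_pow_orderOf_div (orderOf_pos y).ne' htd]; exact ht)).1
    (Subgroup.mem_centralizer_singleton_iff.mpr (hgy.pow_right _).eq)
  exact hCx.le ⟨hgM, Subgroup.mem_centralizer_singleton_iff.mpr hgx.eq⟩

end CfsgLib.OddOrder.StarFacts
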