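import Cfsg.Agent.Lib.OddOrder.FittingStructure
import Cfsg.Agent.Lib.OddOrder.SigmaCommutator
import Cfsg.Agent.Lib.OddOrder.SigmaNeighbour
import Cfsg.Agent.S1420

/-!
Bender–Glauberman 15.7, first part: a Fitting subgroup `F(M)` that meets a conjugate nontrivially.
-/

set_option autoImplicit false

namespace CfsgLib.OddOrder.FittingTI

open scoped commutatorElement
open SigmaFusion (cj)

variable {G : Type*} [Group G] [Finite G] {M : Subgroup G} {g y : G} {p : ℕ} [hp : Fact p.Prime]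

/-- A `σ'`-element of prime order of `F(M)` has centraliser in `M` only. -/
theorem centralizer_le_of_sigma' (hG : Cfsg.IsMinSimpleOddOrder G) (hM : IsCoatom M) (hy : y ∈ Cfsg.fittingOf M)
    (hyo : orderOf y = p) (hps : p ∉ Cfsg.sigma M) :
    Subgroup.centralizer ({y} : Set G) ≤ M ∧
      ∀ L : Subgroup G, IsCoatom L → Subgroup.centralizer ({y} : Set G) ≤ L → L = M := by
  haveI : Group.IsNilpotent (Cfsg.fittingOf M) := Basic.fittingOf_isNilpotent
  set L := Cfsg.sigmaCore M with hL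
  set Y := Cfsg.piCoreOf {q | q.Prime ∧ q ∉ Cfsg.sigma M} (Cfsg.fittingOf M) with hY
  have hyY : y ∈ Y := FittingStructure.mem_piCoreOf_iff.mpr ⟨hy, fun t ht hd => by
    rw [hyo] at hd
    exact (Nat.prime_dvd_prime_iff_eq ht hp.out).mp hd ▸ ⟨hp.out, hps⟩⟩
  have hτ : p ∈ Cfsg.tau2 M := (FittingStructure.sigma'_part hG hM).2.1 p hp.out
    (hyo ▸ Subgroup.orderOf_dvd_natCard _ hyY)
  have hyM : y ∈ M := Basic.fittingOf_le hy
  have hy1 : y ≠ 1 := fun e => hp.out.ne_one (by rw [← hyo, e, orderOf_one])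
  have hYn : M ≤ Subgroup.normalizer (Y : Set G) :=
    FittingStructure.le_normalizer_piCoreOf_of Basic.le_normalizer_fittingOf
  obtain ⟨z, hz, hz1⟩ := (Subgroup.bot_or_exists_ne_one L).resolve_left (SigmaCore.sigmaCore_ne_bot hG hM)
  have hzy : y * z = z * y := by
    have hm : ⁅z, y⁆ ∈ Y ⊓ L := by
      refine ⟨?_, ?_⟩
      · rw [commutatorElement_def]
        exact Y.mul_mem ((Subgroup.mem_normalizer_iff.mp (hYn (SigmaTools.sigmaCore_le M hz)) _).mp hyY) (Y.inv_mem hyY)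
      · rw [commutatorElement_def, show z * y * z⁻¹ * y⁻¹ = z * (y * z⁻¹ * y⁻¹) by group]
        exact L.mul_mem hz ((Subgroup.mem_normalizer_iff.mp (SigmaTools.le_normalizer_sigmaCore M hyM) _).mp (L.inv_mem hz))
    have hbot : Y ⊓ L = ⊥ := Subgroup.inf_eq_bot_of_coprime (Nat.coprime_of_dvd fun t ht h1 h2 => by
      haveI := Fact.mk ht
      rw [hY, Cfsg.piCoreOf, Subgroup.card_map_of_injective (Cfsg.fittingOf M).subtype_injective] at h1
      exact (SigmaBasics.mem_of_dvd_piCore ht h1).2 (SigmaTools.mem_sigma_of_card h2))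
    rw [hbot, Subgroup.mem_bot, commutatorElement_eq_one_iff_mul_comm] at hm
    exact hm.symm
  obtain ⟨E, hEh⟩ := Coprime.exists_hall {t | t ∉ Cfsg.sigma M} (hG.2.2.2 M hM.1)
  exact (Cfsg.Agent.S1420.result hG M hM E (SylowCentral.isComplIn_of_hall hG hM hEh)).2.2.2 y hyM hy1
    (fun t ht hd => (Nat.prime_dvd_prime_iff_eq ht hp.out).mp (hyo ▸ hd) ▸ hτ) ⟨hyM, z, hz, hz1, hzy⟩

/-- Elements of prime order of `F(M) ∩ F(M)^g` are `σ(M)`-elements. -/
theorem sigma_of_mem (hG : Cfsg.IsMinSimpleOddOrder G) (hM : IsCoatom M) (hg : g ∉ M)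
    (hy : y ∈ Cfsg.fittingOf M ⊓ cj g (Cfsg.fittingOf M)) (hyo : orderOf y = p) : p ∈ Cfsg.sigma M := by
  by_contra hps
  obtain ⟨hC, hu⟩ := centralizer_le_of_sigma' hG hM hy.1 hyo hps
  have hy' : g⁻¹ * y * g ∈ Cfsg.fittingOf M := SigmaTools.mem_cj.mp hy.2
  have hy'o : orderOf (g⁻¹ * y * g) = p := by
    have := MulEquiv.orderOf_eq (MulAut.conj g⁻¹) y
    rw [MulAut.conj_apply, inv_inv] at this
    rw [this, hyo]
  obtain ⟨hC', -⟩ := centralizer_le_of_sigma' hG hM hy' hy'o hps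
  have hle : Subgroup.centralizer ({y} : Set G) ≤ cj g M := fun c hc => by
    refine SigmaTools.mem_cj.mpr (hC' (Subgroup.mem_centralizer_singleton_iff.mpr ?_))
    have h := Subgroup.mem_centralizer_singleton_iff.mp hc
    calc g⁻¹ * c * g * (g⁻¹ * y * g) = g⁻¹ * (c * y) * g := by group
      _ = g⁻¹ * (y * c) * g := by rw [h]
      _ = _ := by group
  have he := hu _ (SigmaFusion.isCoatom_cj hM g) hle
  have hN : g ∈ Subgroup.normalizer (M : Set G) := Subgroup.mem_normalizer_iff_map_conj_eq.mpr he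
  rw [SigmaFusion.normalizer_eq_self hG.2 hM (SigmaCore.coatom_ne_bot hG hM)] at hN
  exact hg hN

omit hp in
/-- `F(M) ∩ F(M)^g` lies in `M_σ ∩ M^g`. -/
theorem le_core (hG : Cfsg.IsMinSimpleOddOrder G) (hM : IsCoatom M) (hg : g ∉ M) :
    Cfsg.fittingOf M ⊓ cj g (Cfsg.fittingOf M) ≤ Cfsg.sigmaCore M ⊓ cj g M := by
  refine le_inf (SigmaTools.le_sigmaCore hG hM (inf_le_left.trans Basic.fittingOf_le) fun t ht hd => ?_)
    (inf_le_right.trans (Subgroup.map_mono Basic.fittingOf_le))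
  haveI := Fact.mk ht
  obtain ⟨w, hw⟩ := exists_prime_orderOf_dvd_card' t hd
  exact sigma_of_mem hG hM hg w.2 (by rw [Subgroup.orderOf_coe, hw])

omit hp in
theorem exists_elem (hX : Cfsg.fittingOf M ⊓ cj g (Cfsg.fittingOf M) ≠ ⊥) :
    ∃ q : ℕ, q.Prime ∧ ∃ w ∈ Cfsg.fittingOf M ⊓ cj g (Cfsg.fittingOf M), orderOf w = q := by
  obtain ⟨q, hq, hd⟩ := Nat.exists_prime_and_dvd (mt Subgroup.card_eq_one.mp hX)
  haveI := Fact.mk hq
  obtain ⟨w, hw⟩ := exists_prime_orderOf_dvd_card' q hd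
  exact ⟨q, hq, w, w.2, by rw [Subgroup.orderOf_coe, hw]⟩

theorem not_centralizer_le (hG : Cfsg.IsMinSimpleOddOrder G) (hM : IsCoatom M) (hg : g ∉ M)
    (hy : y ∈ Cfsg.fittingOf M ⊓ cj g (Cfsg.fittingOf M)) (hyo : orderOf y = p) :
    ¬ Subgroup.centralizer ({y} : Set G) ≤ M := fun hC =>
  hg (SigmaTools.mem_of_mem_cj hG hM (sigma_of_mem hG hM hg hy hyo) hyo hC (Basic.fittingOf_le hy.1)
    (le_core hG hM hg hy).2)

theorem not_beta (hG : Cfsg.IsMinSimpleOddOrder G) (hM : IsCoatom M) (hg : g ∉ M)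
    (hy : y ∈ Cfsg.fittingOf M ⊓ cj g (Cfsg.fittingOf M)) (hyo : orderOf y = p) : p ∉ Cfsg.beta M :=
  (SigmaCommutator.inf_cj hG hM hg).2.1 p hp.out (hyo ▸ Subgroup.orderOf_dvd_natCard _ (le_core hG hM hg hy))

/-- `F(M)` has no elementary subgroup of rank three for a prime other than `p`. -/
theorem card_le_of_ea (hG : Cfsg.IsMinSimpleOddOrder G) (hM : IsCoatom M) (hg : g ∉ M)
    (hy : y ∈ Cfsg.fittingOf M ⊓ cj g (Cfsg.fittingOf M)) (hyo : orderOf y = p) {r : ℕ} [hr : Fact r.Prime]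
    (hrp : r ≠ p) {A : Subgroup G} (hA : A ≤ Cfsg.fittingOf M) (hAe : Cfsg.IsElementaryAbelian r A) :
    ¬ r ^ 3 ≤ Nat.card A := fun h3 => by
  haveI : Group.IsNilpotent (Cfsg.fittingOf M) := Basic.fittingOf_isNilpotent
  have hAC : A ≤ Subgroup.centralizer ({y} : Set G) := fun a ha => by
    refine Subgroup.mem_centralizer_singleton_iff.mpr (Basic.commute_of_mem_nilpotent (hA ha) hy.1 ?_).eq
    have h1 : orderOf a ∣ r := orderOf_dvd_of_pow_eq_one (hAe.2 a ha)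
    rw [hyo]
    exact ((Nat.coprime_primes hr.out hp.out).mpr hrp).coprime_dvd_left h1
  have hne : Subgroup.centralizer ({y} : Set G) ≠ ⊤ := SigmaTools.centralizer_singleton_ne_top hG hyo
  exact not_centralizer_le hG hM hg hy hyo
    (UniqueTools.le_of_unique (UniquenessTheorem.rank_three hG hAe h3) hM (hA.trans Basic.fittingOf_le) hAC hne)

omit hp in
/-- `M_σ` is nilpotent. -/
theorem nilpotent_core (hG : Cfsg.IsMinSimpleOddOrder G) (hM : IsCoatom M) (hg : g ∉ M)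
    (hX : Cfsg.fittingOf M ⊓ cj g (Cfsg.fittingOf M) ≠ ⊥) : Group.IsNilpotent (Cfsg.sigmaCore M) := by
  by_contra hn
  obtain ⟨p, hp, y, hy, hyo⟩ := exists_elem hX
  haveI := Fact.mk hp
  obtain ⟨K, U, hd⟩ := FittingStructure.exists_decomp hG hM
  obtain ⟨q, Q, hs⟩ := CoreStructure.exists_split hG hM hd hn
  obtain ⟨D, hD, hKD⟩ := hs.exists_compl hG
  have hqb := (hs.facts_of_invariant hG hD hKD).beta
  haveI := Fact.mk hs.prime
  have hqp : q ≠ p := fun e => not_beta hG hM hg hy hyo (e ▸ hqb)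
  obtain ⟨A, hAM, hAe, hA3⟩ := UniqueTools.exists_isEA_of_not_rankLE hqb.1.2
  have hAp : IsPGroup q A := fun a => ⟨1, by rw [pow_one]; exact Subtype.ext (hAe.2 a a.2)⟩
  have hAσ : A ≤ Cfsg.sigmaCore M :=
    SigmaTools.pGroup_le_sigmaCore hG hM (SigmaBasics.mem_sigma_of_alpha hG hM hqb.1) hAM hAp
  have hQF : Q ≤ Cfsg.fittingOf M :=
    hs.le_fittingHall.trans (le_sup_right.trans (FittingStructure.fitting_eq hG hM).1.ge)
  refine card_le_of_ea hG hM hg hy hyo hqp (fun a ha => hQF ?_) hAe hA3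
  have hQL : (Cfsg.sigmaCore M) ≤ Subgroup.normalizer (Q : Set G) := (SigmaTools.sigmaCore_le M).trans hs.normal
  haveI : (Q.subgroupOf (Cfsg.sigmaCore M)).Normal := (Subgroup.normal_subgroupOf_iff_le_normalizer hs.le).mpr hQL
  have h := SigmaCore.le_of_coprime_index (N := Q.subgroupOf (Cfsg.sigmaCore M)) (K := A.subgroupOf (Cfsg.sigmaCore M)) (by
    rw [Nat.card_congr (Subgroup.subgroupOfEquivOfLe hAσ).toEquiv]
    obtain ⟨j, hj⟩ := hAp.exists_card_eq
    rw [hj]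
    exact (hs.prime.coprime_iff_not_dvd.mpr hs.not_dvd).pow_left j)
  exact h (show (⟨a, hAσ ha⟩ : Cfsg.sigmaCore M) ∈ A.subgroupOf _ from ha)

omit hp in
theorem beta_empty (hG : Cfsg.IsMinSimpleOddOrder G) (hM : IsCoatom M) (hg : g ∉ M)
    (hX : Cfsg.fittingOf M ⊓ cj g (Cfsg.fittingOf M) ≠ ⊥) (r : ℕ) : r ∉ Cfsg.beta M := fun hb => by
  haveI := Fact.mk hb.1.1
  obtain ⟨p, hp, y, hy, hyo⟩ := exists_elem hX
  haveI := Fact.mk hp
  obtain ⟨A, hAM, hAe, hA3⟩ := UniqueTools.exists_isEA_of_not_rankLE hb.1.2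
  refine card_le_of_ea hG hM hg hy hyo (fun e => not_beta hG hM hg hy hyo (e ▸ hb)) ?_ hAe hA3
  exact (SigmaTools.pGroup_le_sigmaCore hG hM (SigmaBasics.mem_sigma_of_alpha hG hM hb.1) hAM
    fun a => ⟨1, by rw [pow_one]; exact Subtype.ext (hAe.2 a a.2)⟩).trans
    (FittingStructure.le_fitting (SigmaTools.sigmaCore_le M) (SigmaTools.le_normalizer_sigmaCore M)
      (nilpotent_core hG hM hg hX))

omit hp in
/-- `M' ≤ F(M)`. -/
theorem derived_le (hG : Cfsg.IsMinSimpleOddOrder G) (hM : IsCoatom M) (hg : g ∉ M)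
    (hX : Cfsg.fittingOf M ⊓ cj g (Cfsg.fittingOf M) ≠ ⊥) : ⁅M, M⁆ ≤ Cfsg.fittingOf M :=
  FittingStructure.le_fitting (SigmaComplement.derived_le_self M)
    (CoreStructure.le_normalizer_commutator Subgroup.le_normalizer Subgroup.le_normalizer)
    (BetaCore.isNilpotent_of_le_derived hG hM le_rfl fun t _ _ => beta_empty hG hM hg hX t)

omit hp in
theorem ti_of (h : ∀ g : G, g ∉ M → Cfsg.fittingOf M ⊓ cj g (Cfsg.fittingOf M) = ⊥) :
    Cfsg.IsTISubset (Cfsg.fittingOf M : Set G) := by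
  intro g hg x hx hgx
  have hgM : g ∉ M := fun hm => hg (Basic.le_normalizer_fittingOf hm)
  have : g * x * g⁻¹ ∈ Cfsg.fittingOf M ⊓ cj g (Cfsg.fittingOf M) :=
    ⟨hgx, SigmaTools.mem_cj.mpr (by rw [show g⁻¹ * (g * x * g⁻¹) * g = x by group]; exact hx)⟩
  rw [h g hgM, Subgroup.mem_bot] at this
  exact conj_eq_one_iff.mp this

end CfsgLib.OddOrder.FittingTI
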