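import Cfsg.Agent.Lib.OddOrder.KappaStar
import Cfsg.Agent.S1420
import Mathlib

set_option autoImplicit false
set_option linter.style.haveILetI false
set_option linter.unusedSectionVars false

/-!
The factorisation `M = K U M_σ`.
-/

namespace CfsgLib.OddOrder.SigmaDecomp

open scoped commutatorElement
open SigmaFusion (cj)
open KappaHall (rest Str)

variable {G : Type*} [Group G] [Finite G] {M K U : Subgroup G}

theorem K_le (h : Cfsg.IsSigmaDecomposition M K U) : K ≤ M := h.hall.1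

theorem U_le (h : Cfsg.IsSigmaDecomposition M K U) : U ≤ M := h.compl.1

theorem kappa_not_sigma {t : ℕ} (ht : t ∈ Cfsg.kappa M) : t ∉ Cfsg.sigma M := ht.2.2.1

theorem coprime_K_core (h : Cfsg.IsSigmaDecomposition M K U) :
    (Nat.card K).Coprime (Nat.card (Cfsg.sigmaCore M)) :=
  Nat.coprime_of_dvd fun t ht h1 h2 => by
    haveI := Fact.mk ht
    exact kappa_not_sigma (h.hall.2.1 t ht h1) (SigmaTools.mem_sigma_of_card h2)

theorem compl_K (h : Cfsg.IsSigmaDecomposition M K U) :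
    Cfsg.IsComplIn K (Cfsg.sigmaCore M) (K ⊔ Cfsg.sigmaCore M) := by
  refine ⟨le_sup_left, le_sup_right, Subgroup.inf_eq_bot_of_coprime (coprime_K_core h), fun m hm => ?_⟩
  rw [← SetLike.mem_coe, Subgroup.coe_mul_of_left_le_normalizer_right K _
    ((K_le h).trans (SigmaTools.le_normalizer_sigmaCore M))] at hm
  obtain ⟨a, ha, b, hb, rfl⟩ := Set.mem_mul.mp hm
  exact ⟨a, ha, b, hb, rfl⟩

theorem card_mul (h : Cfsg.IsSigmaDecomposition M K U) :
    Nat.card U * (Nat.card K * Nat.card (Cfsg.sigmaCore M)) = Nat.card M := by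
  have h1 := Coprime.card_mul_relIndex_eq (le_sup_left : K ≤ K ⊔ Cfsg.sigmaCore M)
  rw [Basic.IsComplIn.relIndex_left (compl_K h)] at h1
  rw [h1, ← Coprime.card_mul_relIndex_eq h.compl.1, Basic.IsComplIn.relIndex_left h.compl]

theorem U_primes (hG : Cfsg.IsMinSimpleOddOrder G) (hM : IsCoatom M) (h : Cfsg.IsSigmaDecomposition M K U)
    (t : ℕ) (ht : t.Prime) (hd : t ∣ Nat.card U) : t ∈ rest M := by
  haveI := Fact.mk ht
  refine ⟨ht, fun hk => h.hall.2.2 t ht hk ?_, fun hs => ?_⟩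
  · have hpos : 0 < Nat.card K := Nat.card_pos
    have : K.relIndex M = Nat.card U * Nat.card (Cfsg.sigmaCore M) := by
      refine Nat.eq_of_mul_eq_mul_left hpos ?_
      rw [Coprime.card_mul_relIndex_eq (K_le h), ← card_mul h]
      ring
    exact this ▸ hd.mul_right _
  · refine SigmaCore.not_dvd_index hG hM hs ?_
    have hpos : 0 < Nat.card (Cfsg.sigmaCore M) := Nat.card_pos
    have : (Cfsg.sigmaCore M).relIndex M = Nat.card U * Nat.card K := by
      refine Nat.eq_of_mul_eq_mul_left hpos ?_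
      rw [Coprime.card_mul_relIndex_eq (SigmaTools.sigmaCore_le M), ← card_mul h]
      ring
    rw [← SigmaCore.relIndex_eq, this]
    exact hd.mul_right _

theorem U_hall (hG : Cfsg.IsMinSimpleOddOrder G) (hM : IsCoatom M) (h : Cfsg.IsSigmaDecomposition M K U) :
    Cfsg.IsPiHallOf (rest M) U M := by
  refine ⟨U_le h, U_primes hG hM h, fun t ht htr hd => ?_⟩
  haveI := Fact.mk ht
  rw [Basic.IsComplIn.relIndex_left h.compl, ← Coprime.card_mul_relIndex_eq (le_sup_left : K ≤ K ⊔ Cfsg.sigmaCore M),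
    Basic.IsComplIn.relIndex_left (compl_K h)] at hd
  rcases ht.dvd_mul.mp hd with hd | hd
  · exact htr.2.1 (h.hall.2.1 t ht hd)
  · exact htr.2.2 (SigmaTools.mem_sigma_of_card hd)

theorem coprime_U_K (hG : Cfsg.IsMinSimpleOddOrder G) (hM : IsCoatom M) (h : Cfsg.IsSigmaDecomposition M K U) :
    (Nat.card U).Coprime (Nat.card K) :=
  Nat.coprime_of_dvd fun t ht h1 h2 => (U_primes hG hM h t ht h1).2.1 (h.hall.2.1 t ht h2)

theorem compl_U_K (hG : Cfsg.IsMinSimpleOddOrder G) (hM : IsCoatom M) (h : Cfsg.IsSigmaDecomposition M K U) :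
    Cfsg.IsComplIn U K (U ⊔ K) := by
  refine ⟨le_sup_left, le_sup_right, Subgroup.inf_eq_bot_of_coprime (coprime_U_K hG hM h), fun m hm => ?_⟩
  rw [← SetLike.mem_coe, Subgroup.coe_mul_of_right_le_normalizer_left U K h.normal] at hm
  obtain ⟨a, ha, b, hb, rfl⟩ := Set.mem_mul.mp hm
  exact ⟨a, ha, b, hb, rfl⟩

theorem sigma'_sup (hG : Cfsg.IsMinSimpleOddOrder G) (hM : IsCoatom M) (h : Cfsg.IsSigmaDecomposition M K U)
    (t : ℕ) (ht : t.Prime) (hd : t ∣ Nat.card ↥(U ⊔ K)) : t ∉ Cfsg.sigma M := fun hs => by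
  have h1 := Coprime.card_mul_relIndex_eq (le_sup_left : U ≤ U ⊔ K)
  rw [← h1] at hd
  rcases ht.dvd_mul.mp hd with hd | hd
  · exact (U_primes hG hM h t ht hd).2.2 hs
  · refine kappa_not_sigma (h.hall.2.1 t ht (hd.trans ?_)) hs
    rw [Basic.IsComplIn.relIndex_left (compl_U_K hG hM h)]

/-- `U K` is a complement of `M_σ`. -/
theorem compl_sup (hG : Cfsg.IsMinSimpleOddOrder G) (hM : IsCoatom M) (h : Cfsg.IsSigmaDecomposition M K U) :
    Cfsg.IsComplIn (U ⊔ K) (Cfsg.sigmaCore M) M := by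
  refine ⟨sup_le (U_le h) (K_le h), SigmaTools.sigmaCore_le M, ?_, fun m hm => ?_⟩
  · refine Subgroup.inf_eq_bot_of_coprime (Nat.coprime_of_dvd fun t ht h1 h2 => ?_)
    haveI := Fact.mk ht
    exact sigma'_sup hG hM h t ht h1 (SigmaTools.mem_sigma_of_card h2)
  · obtain ⟨u, hu, w, hw, rfl⟩ := h.compl.2.2.2 m hm
    obtain ⟨k, hk, s, hs, rfl⟩ := (compl_K h).2.2.2 w hw
    exact ⟨u * k, Subgroup.mul_mem_sup hu hk, s, hs, (mul_assoc _ _ _).symm⟩

theorem sup_normalizes (h : Cfsg.IsSigmaDecomposition M K U) : U ⊔ K ≤ Subgroup.normalizer (U : Set G) :=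
  sup_le Subgroup.le_normalizer h.normal

/-- `U M_σ` is normal in `M`. -/
theorem le_normalizer_sup (hG : Cfsg.IsMinSimpleOddOrder G) (hM : IsCoatom M) (h : Cfsg.IsSigmaDecomposition M K U) :
    M ≤ Subgroup.normalizer ((U ⊔ Cfsg.sigmaCore M : Subgroup G) : Set G) := by
  have hE := compl_sup hG hM h
  refine (Basic.IsComplIn.eq_sup hE).le.trans ?_
  refine sup_le ((le_inf (sup_normalizes h) (hE.1.trans (SigmaTools.le_normalizer_sigmaCore M))).trans ?_)
    (le_sup_right.trans Subgroup.le_normalizer)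
  exact Subgroup.normalizer_inf_normalizer_le_normalizer_sup (H := U) (K := Cfsg.sigmaCore M)

/-- Elements of order prime to `κ(M)` lie in `U M_σ`. -/
theorem mem_sup (hG : Cfsg.IsMinSimpleOddOrder G) (hM : IsCoatom M) (h : Cfsg.IsSigmaDecomposition M K U) {x : G}
    (hx : x ∈ M) (hκ : ∀ t : ℕ, t.Prime → t ∣ orderOf x → t ∉ Cfsg.kappa M) : x ∈ U ⊔ Cfsg.sigmaCore M := by
  set H := U ⊔ Cfsg.sigmaCore M with hH
  haveI : (H.subgroupOf M).Normal :=
    (Subgroup.normal_subgroupOf_iff_le_normalizer (sup_le (U_le h) (SigmaTools.sigmaCore_le M))).mpr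
      (le_normalizer_sup hG hM h)
  obtain ⟨e, he, s, hs, hxe⟩ := (compl_sup hG hM h).2.2.2 x hx
  rw [← SetLike.mem_coe, sup_comm U K, Subgroup.coe_mul_of_left_le_normalizer_right K U h.normal] at he
  obtain ⟨k, hk, u, hu, rfl⟩ := Set.mem_mul.mp he
  set π := QuotientGroup.mk' (H.subgroupOf M)
  have heq : π ⟨x, hx⟩ = π ⟨k, K_le h hk⟩ := by
    refine (QuotientGroup.eq.mpr ?_).symm
    rw [Subgroup.mem_subgroupOf]
    show k⁻¹ * x ∈ H
    rw [hxe, mul_assoc k u s, inv_mul_cancel_left]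
    exact Subgroup.mul_mem_sup hu hs
  have h1 : orderOf (π ⟨x, hx⟩) ∣ orderOf x := (orderOf_map_dvd π _).trans (by rw [← Subgroup.orderOf_coe])
  have h2 : orderOf (π ⟨x, hx⟩) ∣ Nat.card K := by
    rw [heq]
    exact ((orderOf_map_dvd π _).trans (by rw [← Subgroup.orderOf_coe])).trans (Subgroup.orderOf_dvd_natCard K hk)
  have h3 := Nat.eq_one_of_dvd_coprimes
    (Nat.coprime_of_dvd fun t ht a b => hκ t ht a (h.hall.2.1 t ht b)) h1 h2
  rw [orderOf_eq_one_iff] at h3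
  exact Subgroup.mem_subgroupOf.mp ((QuotientGroup.eq_one_iff (N := H.subgroupOf M) ⟨x, hx⟩).mp h3)

theorem kappa_empty (h : Cfsg.IsSigmaDecomposition M K U) (hK : K = ⊥) (t : ℕ) : t ∉ Cfsg.kappa M := fun ht => by
  have := KappaHall.dvd_card_of_hall h.hall ht.1 ht ht.2.1
  rw [hK, Subgroup.card_bot] at this
  exact ht.1.ne_one (Nat.dvd_one.mp this)

theorem U_compl_of_bot (hG : Cfsg.IsMinSimpleOddOrder G) (hM : IsCoatom M) (h : Cfsg.IsSigmaDecomposition M K U)
    (hK : K = ⊥) : Cfsg.IsComplIn U (Cfsg.sigmaCore M) M := by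
  have := compl_sup hG hM h
  rwa [hK, sup_bot_eq] at this

/-- With `K ≠ 1` the factorisation has the structure of BG 14.1. -/
theorem str (hG : Cfsg.IsMinSimpleOddOrder G) (hM : IsCoatom M) (h : Cfsg.IsSigmaDecomposition M K U) (hK : K ≠ ⊥) :
    Str M (U ⊔ K) K U := by
  obtain ⟨U₀, h₀⟩ := KappaHall.exists_str hG hM (compl_sup hG hM h) h.hall hK le_sup_right
  haveI : (U₀.subgroupOf (U ⊔ K)).Normal := (Subgroup.normal_subgroupOf_iff_le_normalizer h₀.Ule).mpr h₀.normal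
  have hle : U ≤ U₀ := by
    have h1 : U.subgroupOf (U ⊔ K) ≤ U₀.subgroupOf (U ⊔ K) := by
      refine SigmaCore.le_of_coprime_index (Coprime.coprime_of_pi (π := rest M) ?_ ?_)
      · intro t ht hd
        rw [Nat.card_congr (Subgroup.subgroupOfEquivOfLe (le_sup_left : U ≤ U ⊔ K)).toEquiv] at hd
        exact U_primes hG hM h t ht hd
      · intro t ht htr hd
        exact KappaHall.not_dvd_relIndex h₀.hall h₀.Ule (sup_le (U_le h) (K_le h)) ht htr hd
    exact fun u hu => h1 (show (⟨u, le_sup_left (α := Subgroup G) hu⟩ : ↥(U ⊔ K)) ∈ U.subgroupOf (U ⊔ K) from hu)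
  have e := Subgroup.eq_of_le_of_card_ge hle (Coprime.card_hall_eq h₀.hall (U_hall hG hM h)).le
  exact e.symm ▸ h₀

/-- Every cyclic Hall `κ(M)`-subgroup is part of a factorisation. -/
theorem exists_decomp (hG : Cfsg.IsMinSimpleOddOrder G) (hM : IsCoatom M) (hKc : IsCyclic K)
    (hK : Cfsg.IsPiHallOf (Cfsg.kappa M) K M) : ∃ U, Cfsg.IsSigmaDecomposition M K U := by
  by_cases hK1 : K = ⊥
  · obtain ⟨E, hE⟩ := Coprime.exists_hall {t | t ∉ Cfsg.sigma M} (hG.2.2.2 M hM.1)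
    have hEc := SylowCentral.isComplIn_of_hall hG hM hE
    refine ⟨E, hKc, hK, ?_, ?_⟩
    · rwa [hK1, bot_sup_eq]
    · rw [hK1]; exact bot_le
  obtain ⟨E, U, h⟩ := KappaHall.exists_str' hG hM hK hK1
  have hKU : K ≤ Subgroup.normalizer (U : Set G) := h.le.trans h.normal
  refine ⟨U, hKc, hK, ⟨h.Ule.trans h.compl.1, sup_le (h.le.trans h.compl.1) (SigmaTools.sigmaCore_le M),
    le_bot_iff.mp fun x hx => ?_, fun m hm => ?_⟩, hKU⟩
  · have hx2 := hx.2
    change x ∈ ((K ⊔ Cfsg.sigmaCore M : Subgroup G) : Set G) at hx2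
    rw [Subgroup.coe_mul_of_left_le_normalizer_right K _
      ((h.le.trans h.compl.1).trans (SigmaTools.le_normalizer_sigmaCore M))] at hx2
    obtain ⟨k, hk, s, hs, rfl⟩ := Set.mem_mul.mp hx2
    have hs1 : s ∈ E ⊓ Cfsg.sigmaCore M := ⟨by simpa using mul_mem (inv_mem (h.le hk)) (h.Ule hx.1), hs⟩
    rw [h.compl.2.2.1, Subgroup.mem_bot] at hs1
    subst hs1
    have hd : U ⊓ K = ⊥ := Subgroup.inf_eq_bot_of_coprime (Nat.coprime_of_dvd fun t ht h1 h2 =>
      (h.hall.2.1 t ht h1).2.1 (hK.2.1 t ht h2))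
    rw [mul_one] at hx ⊢
    exact hd.le ⟨hx.1, hk⟩
  · obtain ⟨e, he, s, hs, rfl⟩ := h.compl.2.2.2 m hm
    rw [← h.sup, ← SetLike.mem_coe, Subgroup.coe_mul_of_right_le_normalizer_left U K hKU] at he
    obtain ⟨u, hu, k, hk, rfl⟩ := Set.mem_mul.mp he
    exact ⟨u, hu, k * s, Subgroup.mul_mem_sup hk hs, mul_assoc _ _ _⟩

/-- A nilpotent `σ'`-subgroup is abelian. -/
theorem abelian_of_nilpotent (hG : Cfsg.IsMinSimpleOddOrder G) (hM : IsCoatom M) {N : Subgroup G} (hN : N ≤ M)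
    (hn : Group.IsNilpotent N) (hσ : ∀ t : ℕ, t.Prime → t ∣ Nat.card N → t ∉ Cfsg.sigma M) : IsMulCommutative N := by
  obtain ⟨E, hE⟩ := Coprime.exists_hall {t | t ∉ Cfsg.sigma M} (hG.2.2.2 M hM.1)
  exact (Cfsg.Agent.S1420.result hG M hM E (SylowCentral.isComplIn_of_hall hG hM hE)).1 N hN hn hσ

end CfsgLib.OddOrder.SigmaDecomp
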