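import Cfsg.Agent.Lib.OddOrder.SigmaA
import Cfsg.Agent.S1417
import Cfsg.Agent.S1418
import Mathlib

set_option autoImplicit false
set_option linter.style.haveILetI false
set_option linter.unusedSectionVars false

/-!
A fixed point free subgroup of `U` of the same exponent.
-/

namespace CfsgLib.OddOrder.SigmaExponent

open scoped commutatorElement
open SigmaFusion (cj)
open KappaHall (rest)

variable {G : Type*} [Group G] [Finite G] {M K U : Subgroup G} {p : ℕ} [hp : Fact p.Prime]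

theorem zpowers_eq_of_prime {z u w : G} (hu : u ∈ Subgroup.zpowers z) (hw : w ∈ Subgroup.zpowers z)
    (h : orderOf u = orderOf w) : Subgroup.zpowers u = Subgroup.zpowers w :=
  Solvable.SupersolvableCriteria.eq_of_card_eq_of_le_cyclic (A := Subgroup.zpowers z)
    (Subgroup.zpowers_le.mpr hu) (Subgroup.zpowers_le.mpr hw) (by rw [Nat.card_zpowers, Nat.card_zpowers, h])

theorem centralizer_eq_of_prime {z u w : G} (hu : u ∈ Subgroup.zpowers z) (hw : w ∈ Subgroup.zpowers z)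
    (h : orderOf u = orderOf w) : Subgroup.centralizer ({u} : Set G) = Subgroup.centralizer ({w} : Set G) := by
  rw [← SigmaTools.centralizer_zpowers, zpowers_eq_of_prime hu hw h, SigmaTools.centralizer_zpowers]

/-- In a `τ₂` Sylow subgroup some element of largest order is fixed point free. -/
theorem exists_elem (hG : Cfsg.IsMinSimpleOddOrder G) (hM : IsCoatom M) (hτ : p ∈ Cfsg.tau2 M) (P : Sylow p M) :
    ∃ z ∈ (P : Subgroup M).map M.subtype, (∀ w ∈ (P : Subgroup M).map M.subtype, orderOf w ∣ orderOf z) ∧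
      ∀ w ∈ Subgroup.zpowers z, orderOf w = p → Cfsg.sigmaCore M ⊓ Subgroup.centralizer ({w} : Set G) = ⊥ := by
  set Q := (P : Subgroup M).map M.subtype with hQ
  have hQM : Q ≤ M := Subgroup.map_subtype_le _
  have hQp : IsPGroup p Q := P.isPGroup'.map M.subtype
  have hr1 := hτ.2.2.2
  obtain ⟨P', hnc'⟩ : ∃ P' : Sylow p M, ¬ IsCyclic P' := by
    by_contra hc
    push Not at hc
    exact hr1 (KappaHall.rank_one_of_cyclic hc)
  have hnc : ¬ IsCyclic Q := fun hc => hnc'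
    ((P'.equiv P).isCyclic.mpr ((Subgroup.equivMapOfInjective (P : Subgroup M) M.subtype M.subtype_injective).isCyclic.mpr hc))
  have hp2 : p ≠ 2 := by
    intro e
    have hdQ : p ∣ Nat.card Q := by
      rcases hQp.card_eq_or_dvd with h1 | h1
      · exact absurd (show IsCyclic Q by rw [Subgroup.eq_bot_of_card_eq _ h1]; infer_instance) hnc
      · exact h1
    have hd := hdQ.trans Q.card_subgroup_dvd_card
    rw [e] at hd
    exact Nat.not_even_iff_odd.mpr hG.1 (even_iff_two_dvd.mpr hd)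
  obtain ⟨A, hAQ, hAe, hA2⟩ := NonabelianUnique.exists_plane_le hp2 hQp hnc
  have hAM := hAQ.trans hQM
  obtain ⟨-, hb, -, -, -, A₁, hA₁A, hA₁c, hA₁f⟩ := Cfsg.Agent.S1417.result hG M hM p hτ A ⟨hAM, hAe, hA2⟩
  obtain ⟨hPab, hb2⟩ := hb P
  obtain ⟨hAiff, hNP⟩ := hb2 hAQ
  have hcomm : ∀ a ∈ Q, ∀ b ∈ Q, Commute a b := by
    rintro _ ⟨a, ha, rfl⟩ _ ⟨b, hb, rfl⟩
    exact ((PlaneSylow.comm_of hPab ha hb).map M.subtype)
  haveI : IsMulCommutative Q := ⟨⟨fun a b => Subtype.ext (hcomm a a.2 b b.2).eq⟩⟩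
  letI : CommGroup Q := { mul_comm := fun a b => Subtype.ext (hcomm a a.2 b b.2).eq }
  obtain ⟨y₀, hy₀⟩ := Monoid.exists_orderOf_eq_exponent (Monoid.ExponentExists.of_finite (G := Q))
  set n := Monoid.exponent Q with hn
  have hmax : ∀ w ∈ Q, orderOf w ∣ n := fun w hw => by
    rw [← Subgroup.orderOf_mk w hw]; exact Monoid.order_dvd_exponent _
  have hy₀' : orderOf (y₀ : G) = n := by rw [Subgroup.orderOf_coe, hy₀]
  obtain ⟨a, ha⟩ := IsPGroup.iff_orderOf.mp hQp y₀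
  rw [hy₀] at ha
  have hAnt : ∃ f ∈ A, orderOf f = p := by
    obtain ⟨f, hf⟩ := exists_prime_orderOf_dvd_card' (G := A) p (hA2 ▸ dvd_pow_self p two_ne_zero)
    exact ⟨f, f.2, by rw [Subgroup.orderOf_coe, hf]⟩
  have hpn : p ∣ n := by
    obtain ⟨f, hf, hfo⟩ := hAnt
    exact hfo ▸ hmax f (hAQ hf)
  have hword : ∀ w ∈ Q, w ^ (n / p) ≠ 1 → orderOf w = n := fun w hw hne => by
    obtain ⟨b, hb⟩ := IsPGroup.iff_orderOf.mp hQp ⟨w, hw⟩
    rw [Subgroup.orderOf_mk] at hb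
    have hba : p ^ b ∣ p ^ a := ha ▸ hb ▸ hmax w hw
    rw [hb, ha]
    by_contra hne'
    have hlt : b < a := lt_of_le_of_ne ((Nat.pow_dvd_pow_iff_le_right hp.out.one_lt).mp hba)
      fun e => hne' (by rw [e])
    refine hne (orderOf_dvd_iff_pow_eq_one.mp ?_)
    rw [hb, ha, show p ^ a = p ^ (a - 1) * p by rw [← pow_succ]; congr 1; omega,
      Nat.mul_div_cancel _ hp.out.pos]
    exact pow_dvd_pow p (by omega)
  by_contra hcon
  push Not at hcon
  have hfixed : ∀ z ∈ Q, orderOf z = n →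
      Cfsg.sigmaCore M ⊓ Subgroup.centralizer ({z ^ (n / p)} : Set G) ≠ ⊥ := fun z hz hzo e => by
    obtain ⟨w, hw, hwo, hwne⟩ := hcon z hz fun w hw => hzo ▸ hmax w hw
    refine hwne ?_
    rw [centralizer_eq_of_prime hw (Subgroup.npow_mem_zpowers z (n / p))
      (by rw [hwo, ← hzo, orderOf_pow_orderOf_div (orderOf_pos z).ne' (hzo.symm ▸ hpn)])]
    exact e
  set T := ((powMonoidHom (n / p) : Q →* Q).range).map Q.subtype with hT
  have hTA : T ≤ A := by
    rintro _ ⟨_, ⟨s, rfl⟩, rfl⟩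
    refine (hAiff _ (Q.pow_mem s.2 _)).mp ?_
    show ((s : G) ^ (n / p)) ^ p = 1
    rw [← pow_mul, Nat.div_mul_cancel hpn]
    exact orderOf_dvd_iff_pow_eq_one.mp (hmax _ s.2)
  set t₀ := (y₀ : G) ^ (n / p) with ht₀
  have ht₀T : t₀ ∈ T := ⟨_, ⟨y₀, rfl⟩, rfl⟩
  have ht₀o : orderOf t₀ = p := by
    rw [ht₀]
    conv_lhs => rw [← hy₀']
    exact orderOf_pow_orderOf_div (orderOf_pos (y₀ : G)).ne' (hy₀'.symm ▸ hpn)
  have hTne : T ≠ A := fun e => by
    obtain ⟨f, hf, hf1⟩ := A₁.bot_or_exists_ne_one.resolve_left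
      (RankOneTools.ne_bot_of_card hA₁c)
    obtain ⟨_, ⟨s, rfl⟩, hsf⟩ := e.ge (hA₁A hf)
    have hs : (s : G) ^ (n / p) = f := hsf
    refine hfixed s s.2 (hword s s.2 (hs ▸ hf1)) ?_
    rw [hs, ← SigmaTools.centralizer_zpowers, (FPFTools.line_eq_zpowers hA₁c hf hf1).1]
    exact hA₁f
  have hTc : Nat.card T = p := by
    have hd := Subgroup.card_dvd_of_le hTA
    rw [hA2] at hd
    obtain ⟨i, hi, hTi⟩ := (Nat.dvd_prime_pow hp.out).mp hd
    have h0 : i ≠ 0 := fun e => by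
      have := Subgroup.orderOf_dvd_natCard T ht₀T
      rw [ht₀o, hTi, e, pow_zero] at this
      exact hp.out.ne_one (Nat.dvd_one.mp this)
    have h2 : i ≠ 2 := fun e => hTne (Subgroup.eq_of_le_of_card_ge hTA (by rw [hA2, hTi, e]))
    rw [hTi, show i = 1 by omega, pow_one]
  have hTfix : Cfsg.sigmaCore M ⊓ Subgroup.centralizer (T : Set G) ≠ ⊥ := by
    rw [← (FPFTools.line_eq_zpowers hTc ht₀T fun e => hp.out.ne_one (by rw [← ht₀o, e, orderOf_one])).1,
      SigmaTools.centralizer_zpowers]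
    exact hfixed _ y₀.2 hy₀'
  obtain ⟨E, hE, hAE⟩ := Coprime.exists_hall_ge {t | t ∉ Cfsg.sigma M} (hG.2.2.2 M hM.1) hAM fun t ht hd => by
    rw [hA2] at hd
    rw [(Nat.prime_dvd_prime_iff_eq ht hp.out).mp (ht.dvd_of_dvd_pow hd)]
    exact hτ.2.1
  obtain ⟨hCT, huniq⟩ := (Cfsg.Agent.S1418.result hG M hM E (SylowCentral.isComplIn_of_hall hG hM hE) p hτ A
    ⟨hAE, hAe, hA2⟩).2.2 T hTA hTc hTfix
  obtain ⟨L, hL, hNL⟩ := Uniqueness.exists_coatom_normalizer (p := p) hG.2 (RankOneTools.ne_bot_of_card hTc)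
    (RankOneTools.isPGroup_of_card hTc)
  have hLM : L = M := huniq L hL ((Subgroup.centralizer_le_normalizer _).trans hNL)
  refine hNP (le_trans (fun g hg => ?_) (hLM ▸ hNL))
  refine NormalizerFusion.mem_normalizer_of_conj ?_
  rintro _ ⟨_, ⟨s, rfl⟩, rfl⟩
  refine ⟨_, ⟨⟨g * s * g⁻¹, (Subgroup.mem_normalizer_iff.mp hg s).mp s.2⟩, rfl⟩, ?_⟩
  simp [conj_pow]

omit hp in
/-- BG 15.6: `U` has a subgroup of the same exponent without fixed points. -/
theorem exists_U0 (hG : Cfsg.IsMinSimpleOddOrder G) (hM : IsCoatom M) (h : Cfsg.IsSigmaDecomposition M K U) :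
    ∃ U₀ : Subgroup G, U₀ ≤ U ∧ Monoid.exponent U₀ = Monoid.exponent U ∧
      ∀ u ∈ U₀, u ∈ Cfsg.sigmaHat M → u = 1 := by
  by_cases hK : K = ⊥
  · obtain ⟨-, E₀, hE₀, hexp, hfree⟩ := Cfsg.Agent.S1421.result hG M hM U (SigmaDecomp.U_compl_of_bot hG hM h hK)
      fun e he he1 hτ => SigmaA.reg hG hM h hK he he1 hτ
    exact ⟨E₀, hE₀, hexp, fun u hu huh => by_contra fun hu1 => SigmaA.fix_of_hat huh (hfree u hu hu1)⟩
  have hUc := (SigmaDecomp.str hG hM h hK).comm
  letI : CommGroup U := { mul_comm := fun a b => hUc.is_comm.comm a b }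
  set n := Monoid.exponent U with hn
  have hn0 : n ≠ 0 := Monoid.exponent_ne_zero_of_finite
  obtain ⟨y₀, hy₀⟩ := Monoid.exists_orderOf_eq_exponent (Monoid.ExponentExists.of_finite (G := U))
  have hUM := SigmaDecomp.U_le h
  have hgood : ∀ q : n.primeFactors, ∃ z : U, orderOf z = (q : ℕ) ^ n.factorization q ∧
      ∀ w ∈ Subgroup.zpowers (z : G), orderOf w = q →
        Cfsg.sigmaCore M ⊓ Subgroup.centralizer ({w} : Set G) = ⊥ := by
    rintro ⟨q, hqmem⟩
    obtain ⟨hq, hqn, -⟩ := Nat.mem_primeFactors.mp hqmem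
    haveI := Fact.mk hq
    set u := y₀ ^ (n / q ^ n.factorization q) with hu
    have huo : orderOf u = q ^ n.factorization q := by
      rw [hu]
      conv_lhs => rw [hn, ← hy₀]
      rw [orderOf_pow_orderOf_div (orderOf_pos y₀).ne' (by rw [hy₀]; exact Nat.ordProj_dvd n q), hy₀]
    have hqU : q ∣ Nat.card U := hqn.trans Group.exponent_dvd_nat_card
    have hrest := SigmaDecomp.U_primes hG hM h q hq hqU
    by_cases hr1 : Cfsg.PRankLE q 1 M
    · refine ⟨u, huo, fun w hw hwo => by_contra fun hne => hrest.2.1 ?_⟩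
      exact KappaHall.mem_kappa hG hrest.2.2 hr1 (hUM ((Subgroup.zpowers_le.mpr u.2) hw)) hwo hne
    have hτ : q ∈ Cfsg.tau2 M := by
      refine ⟨hq, hrest.2.2, ?_, hr1⟩
      by_contra hr
      exact hrest.2.2 (SigmaBasics.mem_sigma_of_alpha hG hM ⟨hq, hr⟩)
    obtain ⟨T⟩ : Nonempty (Sylow q U) := inferInstance
    set R := (T : Subgroup U).map (Subgroup.inclusion hUM) with hR
    obtain ⟨P, hP⟩ := (T.isPGroup'.map (Subgroup.inclusion hUM) : IsPGroup q R).exists_le_sylow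
    have hPR : R = (P : Subgroup M) := by
      refine Subgroup.eq_of_le_of_card_ge hP (le_of_eq ?_)
      rw [P.card_eq_multiplicity, hR, Subgroup.card_map_of_injective (Subgroup.inclusion_injective hUM),
        T.card_eq_multiplicity, ← Coprime.card_mul_relIndex_eq hUM, Nat.factorization_mul Nat.card_pos.ne'
          (Nat.pos_of_mul_pos_left (Coprime.card_mul_relIndex_eq hUM ▸ Nat.card_pos)).ne',
        Finsupp.add_apply, Nat.factorization_eq_zero_of_not_dvd ((SigmaDecomp.U_hall hG hM h).2.2 q hq hrest),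
        add_zero]
    obtain ⟨z, hz, hzmax, hzfree⟩ := exists_elem hG hM hτ P
    have hzT : ∃ z' : U, z' ∈ (T : Subgroup U) ∧ (z' : G) = z := by
      obtain ⟨z₁, hz₁, rfl⟩ := hz
      obtain ⟨z₂, hz₂, rfl⟩ := hPR.ge hz₁
      exact ⟨z₂, hz₂, rfl⟩
    obtain ⟨z', hz'T, rfl⟩ := hzT
    haveI : (T : Subgroup U).Normal := inferInstance
    have huT : u ∈ (T : Subgroup U) := by
      obtain ⟨T', hT'⟩ := (IsPGroup.of_card (n := n.factorization q) (by rw [Nat.card_zpowers, huo]) :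
        IsPGroup q (Subgroup.zpowers u)).exists_le_sylow
      letI := Sylow.unique_of_normal T inferInstance
      exact (Subsingleton.elim T' T) ▸ hT' (Subgroup.mem_zpowers u)
    refine ⟨z', Nat.dvd_antisymm ?_ (huo ▸ ?_), hzfree⟩
    · obtain ⟨k, hk⟩ := IsPGroup.iff_orderOf.mp T.isPGroup' ⟨z', hz'T⟩
      rw [Subgroup.orderOf_mk] at hk
      rw [hk]
      exact pow_dvd_pow q ((hq.pow_dvd_iff_le_factorization hn0).mp (hk ▸ Monoid.order_dvd_exponent z'))
    · rw [← Subgroup.orderOf_coe u, ← Subgroup.orderOf_coe z']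
      exact hzmax _ (hPR ▸ ⟨Subgroup.inclusion hUM u, ⟨u, huT, rfl⟩, rfl⟩)
  choose z hzo hzf using hgood
  set y := ∏ q : n.primeFactors, z q with hy
  have hpow : ∀ q : n.primeFactors, y ^ (n / q) = z q ^ (n / q) := fun q => by
    rw [hy, ← Finset.prod_pow]
    refine Finset.prod_eq_single q (fun r _ hrq => ?_) fun hn' => absurd (Finset.mem_univ q) hn'
    refine orderOf_dvd_iff_pow_eq_one.mp ?_
    rw [hzo r]
    obtain ⟨hr, -, -⟩ := Nat.mem_primeFactors.mp r.2
    obtain ⟨hq, hqn, -⟩ := Nat.mem_primeFactors.mp q.2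
    refine Nat.Coprime.dvd_of_dvd_mul_right (k := (r : ℕ) ^ n.factorization r) (n := (q : ℕ)) ?_ ?_
    · exact Nat.Coprime.pow_left _ ((Nat.coprime_primes hr hq).mpr fun e => hrq (Subtype.ext e))
    · rw [Nat.div_mul_cancel hqn]; exact Nat.ordProj_dvd n r
  have hzne : ∀ q : n.primeFactors, z q ^ (n / q) ≠ 1 := fun q e => by
    obtain ⟨hq, hqn, -⟩ := Nat.mem_primeFactors.mp q.2
    have h1 := orderOf_dvd_of_pow_eq_one e
    rw [hzo q] at h1
    have h2 : (q : ℕ) ^ (n.factorization q + 1) ∣ n := by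
      rw [pow_succ]; exact (Nat.mul_dvd_mul_right h1 q).trans (Nat.div_mul_cancel hqn).dvd
    exact Nat.pow_succ_factorization_not_dvd hn0 hq h2
  have hyo : orderOf y = n := by
    refine orderOf_eq_of_pow_and_pow_div_prime (Nat.pos_of_ne_zero hn0) (Monoid.pow_exponent_eq_one y)
      fun q hq hqn => ?_
    rw [hpow ⟨q, Nat.mem_primeFactors.mpr ⟨hq, hqn, hn0⟩⟩]
    exact hzne _
  refine ⟨Subgroup.zpowers (y : G), Subgroup.zpowers_le.mpr y.2, ?_, fun u hu huh => by_contra fun hu1 => ?_⟩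
  · rw [IsCyclic.exponent_eq_card, Nat.card_zpowers, Subgroup.orderOf_coe, hyo]
  obtain ⟨q, hq, hqd⟩ := Nat.exists_prime_and_dvd (mt orderOf_eq_one_iff.mp hu1)
  haveI := Fact.mk hq
  have hyo' : orderOf (y : G) = n := by rw [Subgroup.orderOf_coe, hyo]
  have hqn : q ∣ n := hqd.trans (hyo' ▸ Nat.card_zpowers (y : G) ▸ Subgroup.orderOf_dvd_natCard _ hu)
  set q' : n.primeFactors := ⟨q, Nat.mem_primeFactors.mpr ⟨hq, hqn, hn0⟩⟩
  have hwo : orderOf ((y : G) ^ (n / q)) = q := by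
    rw [← hyo']
    exact orderOf_pow_orderOf_div (orderOf_pos (y : G)).ne' (hyo'.symm ▸ hqn)
  have hw : (y : G) ^ (n / q) = (z q' : G) ^ (n / q) := by
    have := congrArg (Subtype.val : U → G) (hpow q')
    simpa using this
  have hfree := hzf q' ((y : G) ^ (n / q)) (hw ▸ Subgroup.npow_mem_zpowers _ _) hwo
  refine SigmaA.fix_of_hat huh (FrobeniusCriterion.pow_fix (Subgroup.npow_mem_zpowers u (orderOf u / q)) ?_)
  rw [centralizer_eq_of_prime (Subgroup.pow_mem _ hu _) (Subgroup.npow_mem_zpowers (y : G) (n / q))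
    (by rw [hwo, orderOf_pow_orderOf_div (orderOf_pos u).ne' hqd])]
  exact hfree

end CfsgLib.OddOrder.SigmaExponent
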