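import Cfsg.Agent.Lib.OddOrder.StarDerived
import Cfsg.Agent.Lib.Coprime.Abelian
import Mathlib

set_option autoImplicit false
set_option linter.style.haveILetI false
set_option linter.unusedSectionVars false

/-!
`K* ≤ M''`.
-/

namespace CfsgLib.OddOrder.StarDerived2

open scoped commutatorElement
open StarPartner (Dstar)

/-- A fixed point in `X'` of an abelian coprime complement lies in `X''`. -/
theorem mem_second {X : Type*} [Group X] [Finite X] {A : Subgroup X} (hAab : IsMulCommutative A)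
    (hgen : ∀ x : X, ∃ h ∈ _root_.commutator X, ∃ a ∈ A, x = h * a)
    (hcop : (Nat.card A).Coprime (Nat.card (_root_.commutator X))) {x : X} (hx : x ∈ _root_.commutator X)
    (hxA : x ∈ Subgroup.centralizer (A : Set X)) : x ∈ ⁅_root_.commutator X, _root_.commutator X⁆ := by
  set H := _root_.commutator X with hH
  set N := ⁅H, H⁆ with hN
  set π := QuotientGroup.mk' N with hπ
  set V := H.map π with hV
  set B := A.map π with hB
  haveI hVab : IsMulCommutative V := by
    refine ⟨⟨?_⟩⟩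
    rintro ⟨_, a, ha, rfl⟩ ⟨_, b, hb, rfl⟩
    refine Subtype.ext (commutatorElement_eq_one_iff_commute.mp ?_).eq
    rw [← map_commutatorElement, hπ, QuotientGroup.mk'_apply, QuotientGroup.eq_one_iff]
    exact Subgroup.commutator_mem_commutator ha hb
  have hsup : V ⊔ B = ⊤ := by
    refine top_le_iff.mp fun q _ => ?_
    obtain ⟨y, rfl⟩ := QuotientGroup.mk'_surjective N q
    obtain ⟨h, hh, a, ha, rfl⟩ := hgen y
    rw [map_mul]
    exact Subgroup.mul_mem_sup ⟨h, hh, rfl⟩ ⟨a, ha, rfl⟩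
  haveI : ⁅V, B⁆.Normal := Subgroup.normalizer_eq_top_iff.mp (top_le_iff.mp
    (hsup.ge.trans (sup_le (Subgroup.normalizer_commutator_ge_left _ _) (Subgroup.normalizer_commutator_ge_right _ _))))
  have hVW : V ≤ ⁅V, B⁆ := by
    refine Subgroup.map_le_iff_le_comap.mpr ((le_of_eq (_root_.commutator_def X)).trans (Subgroup.commutator_le.mpr ?_))
    intro p _ q _
    rw [Subgroup.mem_comap, ← QuotientGroup.eq_one_iff]
    obtain ⟨v, hv, a, ha, rfl⟩ := hgen p
    obtain ⟨v', hv', a', ha', rfl⟩ := hgen q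
    set χ := (QuotientGroup.mk' ⁅V, B⁆).comp π with hχ
    show χ ⁅v * a, v' * a'⁆ = 1
    have hva : ∀ x ∈ H, ∀ y ∈ A, Commute (χ x) (χ y) := fun x hx y hy => by
      rw [← commutatorElement_eq_one_iff_commute, ← map_commutatorElement, hχ, MonoidHom.comp_apply,
        map_commutatorElement π, QuotientGroup.mk'_apply, QuotientGroup.eq_one_iff]
      exact Subgroup.commutator_mem_commutator ⟨x, hx, rfl⟩ ⟨y, hy, rfl⟩
    have hvv : Commute (χ v) (χ v') := (PlaneSylow.comm_of hVab (a := π v) (b := π v') ⟨v, hv, rfl⟩ ⟨v', hv', rfl⟩).map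
      (QuotientGroup.mk' ⁅V, B⁆)
    rw [map_commutatorElement, commutatorElement_eq_one_iff_commute, map_mul, map_mul]
    exact (hvv.mul_right (hva v hv a' ha')).mul_left
      ((hva v' hv' a ha).symm.mul_right ((PlaneSylow.comm_of hAab ha ha').map χ))
  have hVn : V.Normal := Subgroup.Normal.map inferInstance π (QuotientGroup.mk'_surjective _)
  have hBV : B ≤ Subgroup.normalizer (V : Set (X ⧸ N)) := by
    rw [Subgroup.normalizer_eq_top_iff.mpr hVn]
    exact le_top
  have hxC : π x ∈ Subgroup.centralizer (B : Set (X ⧸ N)) := by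
    rw [Subgroup.mem_centralizer_iff]
    rintro _ ⟨a, ha, rfl⟩
    exact ((show Commute a x from Subgroup.mem_centralizer_iff.mp hxA a ha).map π).eq
  have h1 := (Coprime.centralizer_inf_commutator_eq_bot hBV
    ((hcop.coprime_dvd_left (Subgroup.card_map_dvd _ _)).coprime_dvd_right (Subgroup.card_map_dvd _ _))).le
    ⟨⟨⟨x, hx, rfl⟩, hxC⟩, hVW ⟨x, hx, rfl⟩⟩
  rwa [Subgroup.mem_bot, hπ, QuotientGroup.mk'_apply, QuotientGroup.eq_one_iff] at h1

variable {G : Type*} [Group G] [Finite G] {M K U : Subgroup G}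

theorem Dstar_le_second (hG : Cfsg.IsMinSimpleOddOrder G) (hM : IsCoatom M) (h : Cfsg.IsSigmaDecomposition M K U)
    (hK1 : K ≠ ⊥) : Dstar M K ≤ ⁅⁅M, M⁆, ⁅M, M⁆⁆ := by
  have hder := StarDerived.derived_eq hG hM h hK1
  have hmap : (_root_.commutator M).map M.subtype = ⁅M, M⁆ := Subgroup.map_subtype_commutator M
  have hmemH : ∀ x : M, (x : G) ∈ U ⊔ Cfsg.sigmaCore M → x ∈ _root_.commutator M := fun x hx => by
    rw [← hder, ← hmap] at hx
    obtain ⟨y, hy, e⟩ := hx
    exact Subtype.ext e ▸ hy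
  haveI := h.cyclic
  intro x hx
  have hxM : x ∈ M := SigmaTools.sigmaCore_le M hx.1
  rw [← hmap, ← Subgroup.map_commutator]
  refine ⟨⟨x, hxM⟩, mem_second (A := K.subgroupOf M) inferInstance ?_ ?_ (hmemH _ (Subgroup.mem_sup_right hx.1)) ?_,
    rfl⟩
  · rintro ⟨m, hm⟩
    obtain ⟨e, he, s, hs, hme⟩ := (SigmaDecomp.compl_sup hG hM h).2.2.2 m hm
    rw [← SetLike.mem_coe, sup_comm U K, Subgroup.coe_mul_of_left_le_normalizer_right K U h.normal] at he
    obtain ⟨k, hk, u, hu, rfl⟩ := Set.mem_mul.mp he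
    refine ⟨⟨m, hm⟩ * ⟨k, SigmaDecomp.K_le h hk⟩⁻¹, hmemH _ ?_, ⟨k, SigmaDecomp.K_le h hk⟩, hk, by simp⟩
    show m * k⁻¹ ∈ U ⊔ Cfsg.sigmaCore M
    rw [hme, show k * u * s * k⁻¹ = k * (u * s) * k⁻¹ by group]
    exact (Subgroup.mem_normalizer_iff.mp (SigmaDecomp.le_normalizer_sup hG hM h (SigmaDecomp.K_le h hk)) _).mp
      (Subgroup.mul_mem_sup hu hs)
  · refine Nat.coprime_of_dvd fun t ht h1 h2 => ?_
    rw [Nat.card_congr (Subgroup.subgroupOfEquivOfLe (SigmaDecomp.K_le h)).toEquiv] at h1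
    rw [← Subgroup.card_map_of_injective M.subtype_injective, hmap, hder] at h2
    rcases SigmaA.sup_primes hG hM h t ht h2 with hr | hr
    · exact hr.2.1 (h.hall.2.1 t ht h1)
    · exact SigmaDecomp.kappa_not_sigma (h.hall.2.1 t ht h1) hr
  · rw [Subgroup.mem_centralizer_iff]
    intro a ha
    exact Subtype.ext (Subgroup.mem_centralizer_iff.mp hx.2 (a : G) ha)

end CfsgLib.OddOrder.StarDerived2
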