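import Cfsg.Agent.Lib.OddOrder.FittingTI
import Cfsg.Agent.Lib.OddOrder.StarFacts
import Cfsg.Agent.Lib.OddOrder.StarNormalizer
import Cfsg.Agent.S1354
import Cfsg.Agent.S1359
import Cfsg.Agent.S1360
import Cfsg.Agent.S1363
import Cfsg.Agent.S1365
import Cfsg.Agent.S1372

/-!
Bender–Glauberman §16: the sigma-factorisation and the five types of maximal subgroups.
-/

set_option autoImplicit false

namespace CfsgLib.OddOrder.TypeP

open SigmaFusion (cj)
open StarPartner (Dstar Zsub Pk)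

variable {G : Type*} [Group G] [Finite G] {M K U W₁ V W₂ : Subgroup G}

/-- A subgroup with the complementary primes is a complement of a normal Hall subgroup. -/
theorem compl_of_hall {H X L : Subgroup G} (hHL : H ≤ L) (hn : L ≤ Subgroup.normalizer (H : Set G))
    (hH : (Nat.card H).Coprime (H.relIndex L)) (hX : Cfsg.IsPiHallOf {t | ¬ t ∣ Nat.card H} X L) :
    Cfsg.IsComplIn H X L := by
  have hbot : H ⊓ X = ⊥ := Subgroup.inf_eq_bot_of_coprime
    (Nat.coprime_of_dvd fun t ht h1 h2 => hX.2.1 t ht h2 h1)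
  have hXn : X ≤ Subgroup.normalizer (H : Set G) := hX.1.trans hn
  have hsup : H ⊔ X = L := by
    refine Subgroup.eq_of_le_of_card_ge (sup_le hHL hX.1) ?_
    rw [Coprime.card_sup_of_le_normalizer hXn (disjoint_iff.mpr hbot), ← Coprime.card_mul_relIndex_eq hHL]
    refine Nat.mul_le_mul_left _ (Nat.le_of_dvd Nat.card_pos ?_)
    refine Nat.Coprime.dvd_of_dvd_mul_right (n := X.relIndex L) ?_ ?_
    · exact Nat.coprime_of_dvd fun t ht h1 h2 =>
        hX.2.2 t ht (fun h3 => Nat.not_coprime_of_dvd_of_dvd ht.one_lt h3 h1 hH) h2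
    · rw [Coprime.card_mul_relIndex_eq hX.1, ← Coprime.card_mul_relIndex_eq hHL]
      exact dvd_mul_left _ _
  refine ⟨hHL, hX.1, hbot, fun m hm => ?_⟩
  rw [← hsup, ← SetLike.mem_coe, Subgroup.coe_mul_of_right_le_normalizer_left H X hXn] at hm
  obtain ⟨a, ha, b, hb, rfl⟩ := Set.mem_mul.mp hm
  exact ⟨a, ha, b, hb, rfl⟩

/-- Complements of a normal Hall subgroup are Hall subgroups. -/
theorem hall_of_compl {H X L : Subgroup G} (hH : (Nat.card H).Coprime (H.relIndex L))
    (hX : Cfsg.IsComplIn H X L) : Cfsg.IsPiHallOf {t | ¬ t ∣ Nat.card H} X L := by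
  rw [Basic.IsComplIn.relIndex_left hX] at hH
  refine ⟨hX.2.1, fun t ht h1 h2 => Nat.not_coprime_of_dvd_of_dvd ht.one_lt h2 h1 hH, fun t ht htH hd => htH ?_⟩
  rwa [Basic.IsComplIn.relIndex_right hX] at hd

theorem fittingHall_eq (hG : Cfsg.IsMinSimpleOddOrder G) (hM : IsCoatom M) (hn : Group.IsNilpotent (Cfsg.sigmaCore M)) :
    Cfsg.fittingHallOf M = Cfsg.sigmaCore M := (SigmaCentralizer.sigmaCore_eq_fittingHallOf hG hM hn).symm

theorem nilpotent_of_U (hG : Cfsg.IsMinSimpleOddOrder G) (hM : IsCoatom M) (h : Cfsg.IsSigmaDecomposition M K U)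
    (hU : U ≠ ⊥) : Group.IsNilpotent (Cfsg.sigmaCore M) :=
  by_contra fun hn => hU (CoreStructure.not_nilpotent hG hM h hn).1

theorem derived_bot (hG : Cfsg.IsMinSimpleOddOrder G) (hM : IsCoatom M) (h : Cfsg.IsSigmaDecomposition M K U)
    (hK : K ≠ ⊥) (hU : U = ⊥) : ⁅M, M⁆ = Cfsg.sigmaCore M := by
  rw [StarDerived.derived_eq hG hM h hK, hU, bot_sup_eq]

theorem derived_compl (hG : Cfsg.IsMinSimpleOddOrder G) (hM : IsCoatom M) (h : Cfsg.IsSigmaDecomposition M K U)
    (hK : K ≠ ⊥) : Cfsg.IsComplIn (Cfsg.sigmaCore M) U ⁅M, M⁆ := by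
  rw [StarDerived.derived_eq hG hM h hK]
  refine ⟨le_sup_right, le_sup_left, Subgroup.inf_eq_bot_of_coprime (Nat.coprime_of_dvd fun t ht h1 h2 => ?_),
    fun m hm => ?_⟩
  · haveI := Fact.mk ht
    exact (SigmaDecomp.U_primes hG hM h t ht h2).2.2 (SigmaTools.mem_sigma_of_card h1)
  · rw [sup_comm, ← SetLike.mem_coe, Subgroup.coe_mul_of_right_le_normalizer_left _ U
      ((SigmaDecomp.U_le h).trans (SigmaTools.le_normalizer_sigmaCore M))] at hm
    obtain ⟨a, ha, b, hb, rfl⟩ := Set.mem_mul.mp hm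
    exact ⟨a, ha, b, hb, rfl⟩

/-- `K` is a complement of `M'`. -/
theorem compl_K (hG : Cfsg.IsMinSimpleOddOrder G) (hM : IsCoatom M) (h : Cfsg.IsSigmaDecomposition M K U)
    (hK : K ≠ ⊥) : Cfsg.IsComplIn ⁅M, M⁆ K M := by
  have hd := derived_compl hG hM h hK
  refine ⟨SigmaComplement.derived_le_self M, SigmaDecomp.K_le h, ?_, fun m hm => ?_⟩
  · refine Subgroup.inf_eq_bot_of_coprime (Nat.coprime_of_dvd fun t ht h1 h2 => ?_)
    haveI := Fact.mk ht
    rw [← Coprime.card_mul_relIndex_eq hd.1, Basic.IsComplIn.relIndex_left hd] at h1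
    rcases ht.dvd_mul.mp h1 with h1 | h1
    · exact SigmaDecomp.kappa_not_sigma (h.hall.2.1 t ht h2) (SigmaTools.mem_sigma_of_card h1)
    · exact (SigmaDecomp.U_primes hG hM h t ht h1).2.1 (h.hall.2.1 t ht h2)
  · obtain ⟨u, hu, w, hw, rfl⟩ := h.compl.2.2.2 m hm
    obtain ⟨k, hk, s, hs, rfl⟩ := (SigmaDecomp.compl_K h).2.2.2 w hw
    refine ⟨u * (k * s * k⁻¹), ?_, k, hk, by group⟩
    rw [StarDerived.derived_eq hG hM h hK]
    exact Subgroup.mul_mem_sup hu
      ((Subgroup.mem_normalizer_iff.mp (SigmaTools.le_normalizer_sigmaCore M (SigmaDecomp.K_le h hk)) s).mp hs)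

theorem K_hall (h : Cfsg.IsSigmaDecomposition M K U) : (Nat.card K).Coprime (K.relIndex M) :=
  Nat.coprime_of_dvd fun t ht h1 h2 => h.hall.2.2 t ht (h.hall.2.1 t ht h1) h2

/-- `K, K*` is a self-normalizing cyclic pair. -/
theorem selfNormalizing (hG : Cfsg.IsMinSimpleOddOrder G) (hM : IsCoatom M) (h : Cfsg.IsSigmaDecomposition M K U)
    (hK : K ≠ ⊥) : Cfsg.IsSelfNormalizingCyclic K (Dstar M K) := by
  obtain ⟨L, hp, -⟩ := StarPair.exists_pair hG (M := M) (K := K) ⟨hM, hK, h.hall⟩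
  obtain ⟨hDc, hD1, -, -⟩ := StarFitting.main hG hM h hK
  have hcop : (Nat.card K).Coprime (Nat.card ↥(Dstar M K)) :=
    (SigmaDecomp.coprime_K_core h).coprime_dvd_right (Subgroup.card_dvd_of_le inf_le_left)
  refine ⟨hK, hD1, Subgroup.inf_eq_bot_of_coprime hcop, fun a ha b hb => (StarPartner.commute ha hb).eq, ?_, ?_⟩
  · haveI := h.cyclic
    haveI : IsCyclic ↥(Dstar M K) := hDc
    obtain ⟨k₀, hk₀⟩ := IsCyclic.exists_ofOrder_eq_natCard (α := K)
    obtain ⟨d₀, hd₀⟩ := IsCyclic.exists_ofOrder_eq_natCard (α := ↥(Dstar M K))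
    refine isCyclic_of_orderOf_eq_card (⟨(k₀ : G) * d₀, Subgroup.mul_mem_sup k₀.2 d₀.2⟩ : ↥(K ⊔ Dstar M K)) ?_
    rw [Subgroup.orderOf_mk, (StarPartner.commute k₀.2 d₀.2).orderOf_mul_eq_mul_orderOf_of_coprime
      (by rwa [Subgroup.orderOf_coe, Subgroup.orderOf_coe, hk₀, hd₀]), Subgroup.orderOf_coe, Subgroup.orderOf_coe,
      hk₀, hd₀]
    exact (StarPartner.card_Z hp.left).symm
  · intro X hX hne
    have hX' : X ⊆ StarFamily.Zhat M K := by rw [StarFacts.Zhat_eq hG hp]; exact hX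
    refine le_antisymm (fun g hg => ?_) fun w hw => ?_
    · obtain ⟨x, hx⟩ := hne
      exact StarFamily.mem_Z_of_conj hG hp.left (hX' hx) (hX (((Subgroup.mem_set_normalizer_iff.mp hg) x).mp hx)).1
    · have hc : ∀ x ∈ (K ⊔ Dstar M K : Subgroup G), Commute w x := fun x hx => by
        obtain ⟨k₁, hk₁, d₁, hd₁, rfl⟩ := StarPartner.exists_mul hw
        obtain ⟨k₂, hk₂, d₂, hd₂, rfl⟩ := StarPartner.exists_mul hx
        haveI := h.cyclic
        haveI : IsCyclic ↥(Dstar M K) := hDc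
        have hk : Commute k₁ k₂ := by
          letI := IsCyclic.commGroup (α := K)
          exact congrArg Subtype.val (mul_comm (⟨k₁, hk₁⟩ : K) ⟨k₂, hk₂⟩)
        have hd : Commute d₁ d₂ := by
          letI := IsCyclic.commGroup (α := ↥(Dstar M K))
          exact congrArg Subtype.val (mul_comm (⟨d₁, hd₁⟩ : ↥(Dstar M K)) ⟨d₂, hd₂⟩)
        exact (hk.mul_right (StarPartner.commute hk₁ hd₂)).mul_left
          ((StarPartner.commute hk₂ hd₁).symm.mul_right hd)
      rw [Subgroup.mem_set_normalizer_iff]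
      refine fun x => ⟨fun hx => ?_, fun hx => ?_⟩
      · rwa [(hc x (hX hx).1).eq, mul_inv_cancel_right]
      · have := hc _ (hX hx).1
        have e : x = w * x * w⁻¹ := by
          conv_lhs => rw [show x = w⁻¹ * (w * x * w⁻¹) * w by group]
          rw [mul_assoc w⁻¹, ← this.eq, inv_mul_cancel_left]
        rwa [← e] at hx

/-- Every complement of `M_F` in `M'` normalised by `K` gives data of type `P`. -/
theorem typePWith (hG : Cfsg.IsMinSimpleOddOrder G) (hM : IsCoatom M) (h : Cfsg.IsSigmaDecomposition M K U)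
    (hK : K ≠ ⊥) (hV : Cfsg.IsComplIn (Cfsg.fittingHallOf M) V ⁅M, M⁆) (hVn : Group.IsNilpotent V)
    (hKV : K ≤ Subgroup.normalizer (V : Set G)) : Cfsg.IsTypePWith M K V (Dstar M K) := by
  obtain ⟨-, -, hDH, hnc⟩ := StarFitting.main hG hM h hK
  obtain ⟨heq, hle⟩ := FittingStructure.fitting_eq hG hM
  have hne : (Cfsg.kappa M).Nonempty := by
    obtain ⟨t, ht, htd⟩ := Nat.exists_prime_and_dvd (mt Subgroup.card_eq_one.mp hK)
    exact ⟨t, h.hall.2.1 t ht htd⟩
  refine ⟨hK, h.cyclic, K_hall h, compl_K hG hM h hK, hVn, hKV, hV, hnc, ?_, ?_, hle hne,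
    le_inf hDH (Cfsg.Agent.S1365.result hG M hM K U h hK).2, fun k hk hk1 => ?_, selfNormalizing hG hM h hK⟩
  · rw [sup_comm, ← heq]; exact FittingStructure.second_le_fitting hG hM
  · rw [sup_comm, ← heq]
  have hC := (Cfsg.Agent.S1354.result hG M hM K h.cyclic h.hall).2 hK k hk hk1
  refine le_antisymm (fun z hz => ?_) (le_inf ?_ (inf_le_right.trans
    (Subgroup.centralizer_le (Set.singleton_subset_iff.mpr hk))))
  · obtain ⟨k', hk', d, hd, rfl⟩ := StarPartner.exists_mul
      (hC.le ⟨(SigmaComplement.derived_le_self M) hz.1, hz.2⟩)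
    have : k' ∈ ⁅M, M⁆ ⊓ K := ⟨by
      simpa using (⁅M, M⁆ : Subgroup G).mul_mem hz.1 ((⁅M, M⁆ : Subgroup G).inv_mem (SigmaCore.le_derived hG hM hd.1)), hk'⟩
    rw [(compl_K hG hM h hK).2.2.1, Subgroup.mem_bot] at this
    rw [this, one_mul]; exact hd
  · exact inf_le_left.trans (SigmaCore.le_derived hG hM)

/-- In case `U = 1` a nilpotent `K`-invariant complement of `M_F` in `M'` exists. -/
theorem exists_compl (hG : Cfsg.IsMinSimpleOddOrder G) (hM : IsCoatom M) (h : Cfsg.IsSigmaDecomposition M K U)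
    (hK : K ≠ ⊥) (hU : U = ⊥) : ∃ V, Cfsg.IsComplIn (Cfsg.fittingHallOf M) V ⁅M, M⁆ ∧ Group.IsNilpotent V ∧
      K ≤ Subgroup.normalizer (V : Set G) := by
  rw [derived_bot hG hM h hK hU]
  set L := Cfsg.sigmaCore M
  set H := Cfsg.fittingHallOf M with hHdef
  have hLM := SigmaTools.sigmaCore_le M
  have hHL : H ≤ L := SigmaCentralizer.fittingHallOf_le_sigmaCore hG hM
  have hHn : L ≤ Subgroup.normalizer (H : Set G) := hLM.trans Basic.le_normalizer_fittingHallOf
  have hHall : (Nat.card H).Coprime (H.relIndex L) :=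
    (Basic.fittingHallOf_coprime (M := M)).coprime_dvd_right (Dvd.intro _ (Subgroup.relIndex_mul_relIndex H L M hHL hLM))
  obtain ⟨V, hV, hKV⟩ := Coprime.exists_invariant_hall {t | ¬ t ∣ Nat.card H}
    ((SigmaDecomp.K_le h).trans (SigmaTools.le_normalizer_sigmaCore M)) (SigmaDecomp.coprime_K_core h)
    (hG.2.2.2 L fun e => hM.1 (top_le_iff.mp (e ▸ hLM)))
  have hc := compl_of_hall hHL hHn hHall hV
  refine ⟨V, hc, ?_, hKV⟩
  haveI : (H.subgroupOf L).Normal := (Subgroup.normal_subgroupOf_iff_le_normalizer hHL).mpr hHn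
  haveI := FittingStructure.core_quotient_nilpotent hG hM
  let f : V →* L ⧸ H.subgroupOf L := (QuotientGroup.mk' _).comp (Subgroup.inclusion hV.1)
  have hf : Function.Injective f := (injective_iff_map_eq_one f).mpr fun v hv => by
    have h1 : (v : G) ∈ H ⊓ V := ⟨(QuotientGroup.eq_one_iff (N := H.subgroupOf L) (Subgroup.inclusion hV.1 v)).mp hv, v.2⟩
    rw [hc.2.2.1, Subgroup.mem_bot] at h1
    exact Subtype.ext h1
  haveI : Group.IsNilpotent f.range := inferInstance
  exact Group.nilpotent_of_mulEquiv (MonoidHom.ofInjective hf).symm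

/-- A nilpotent complement of `M_F` in `M_σ` has its normaliser in `M`. -/
theorem normalizer_compl_le (hG : Cfsg.IsMinSimpleOddOrder G) (hM : IsCoatom M) (hVn : Group.IsNilpotent V)
    (hV : Cfsg.IsComplIn (Cfsg.fittingHallOf M) V (Cfsg.sigmaCore M)) (hV1 : V ≠ ⊥) :
    Subgroup.normalizer (V : Set G) ≤ M := by
  haveI := hVn
  have hVL : V ≤ Cfsg.sigmaCore M := hV.2.1
  obtain ⟨t, ht, htd⟩ := Nat.exists_prime_and_dvd (mt Subgroup.card_eq_one.mp hV1)
  haveI := Fact.mk ht
  set T := Cfsg.piCoreOf ({t} : Set ℕ) V with hT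
  have hTV : T ≤ V := Subgroup.map_subtype_le _
  have hts : t ∈ Cfsg.sigma M := SigmaTools.mem_sigma_of_card (htd.trans (Subgroup.card_dvd_of_le hVL))
  have hTp : IsPGroup t T := by
    refine IsPGroup.of_card (n := (Nat.card T).factorization t) (Nat.eq_of_factorization_eq Nat.card_pos.ne'
      (pow_ne_zero _ ht.ne_zero) fun s => ?_)
    by_cases hs : s.Prime
    · rw [ht.factorization_pow]
      by_cases hst : s = t
      · subst hst; simp
      · rw [Finsupp.single_eq_of_ne hst, Nat.factorization_eq_zero_of_not_dvd]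
        intro hd
        rw [hT, Cfsg.piCoreOf, Subgroup.card_map_of_injective V.subtype_injective] at hd
        exact hst (Set.mem_singleton_iff.mp (SigmaBasics.mem_of_dvd_piCore (t := s) (π := ({t} : Set ℕ)) hs hd))
    · simp [Nat.factorization_eq_zero_of_not_prime _ hs]
  have hti : ¬ t ∣ T.index := by
    rw [← Subgroup.relIndex_mul_index hTV, ← Subgroup.relIndex_mul_index hVL]
    intro hd
    rcases ht.dvd_mul.mp hd with hd | hd
    · rw [Subgroup.relIndex, hT, Cfsg.piCoreOf, Subgroup.subgroupOf,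
        Subgroup.comap_map_eq_self_of_injective V.subtype_injective] at hd
      exact FittingStructure.piCore_hall _ ht (Set.mem_singleton t) hd
    · rcases ht.dvd_mul.mp hd with hd | hd
      · rw [Basic.IsComplIn.relIndex_right hV] at hd
        have := Basic.fittingHallOf_coprime (M := M)
        refine Nat.not_coprime_of_dvd_of_dvd ht.one_lt hd (htd.trans ?_)
          (this.coprime_dvd_right (Dvd.intro _ (Subgroup.relIndex_mul_relIndex _ _ M hV.1 (SigmaTools.sigmaCore_le M))))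
        rw [Basic.IsComplIn.relIndex_left hV]
      · exact (SigmaCore.hall hG hM).2.2 t ht hts hd
  exact (FittingStructure.le_normalizer_piCoreOf_of (π := ({t} : Set ℕ)) (F := V) le_rfl).trans
    (SigmaTools.normalizer_sylow_le hts (hTp.toSylow hti)
      (show T ≤ M from hTV.trans (hVL.trans (SigmaTools.sigmaCore_le M))))

theorem kappa_of_typeP (hG : Cfsg.IsMinSimpleOddOrder G) (hM : IsCoatom M) (h : Cfsg.IsSigmaDecomposition M K U)
    (hP : Cfsg.IsTypePWith M W₁ V W₂) : K ≠ ⊥ := by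
  intro hK
  obtain ⟨w, hw, hwp⟩ := KappaHall.exists_prime_elem hP.W₁_ne
  haveI := Fact.mk hwp
  have hW₁M := hP.W₁_compl.2.1
  have hw1 : w ≠ 1 := fun e => hwp.ne_one (by rw [e, orderOf_one])
  have hwd : orderOf w ∣ Nat.card W₁ := Subgroup.orderOf_dvd_natCard _ hw
  have hcop := hP.W₁_hall
  rw [Basic.IsComplIn.relIndex_right hP.W₁_compl] at hcop
  have hws : orderOf w ∉ Cfsg.sigma M := fun hs => by
    refine Nat.not_coprime_of_dvd_of_dvd hwp.one_lt hwd ?_ hcop
    refine (dvd_trans ?_ (Subgroup.card_dvd_of_le (SigmaCore.le_derived hG hM)))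
    have hz : Subgroup.zpowers w ≤ Cfsg.sigmaCore M := SigmaTools.pGroup_le_sigmaCore hG hM hs
      (Subgroup.zpowers_le.mpr (hW₁M hw)) (RankOneTools.isPGroup_of_card (Nat.card_zpowers w))
    exact Nat.card_zpowers w ▸ Subgroup.card_dvd_of_le hz
  haveI := hP.W₁_cyclic
  have hr1 : Cfsg.PRankLE (orderOf w) 1 M := by
    refine KappaHall.rank_one_of_cyclic fun P => ?_
    obtain ⟨S⟩ : Nonempty (Sylow (orderOf w) W₁) := inferInstance
    set S₀ := (S : Subgroup W₁).map (Subgroup.inclusion hW₁M) with hS₀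
    have hi : ¬ orderOf w ∣ S₀.index := by
      rw [hS₀, Subgroup.index_map_of_injective (H := (S : Subgroup W₁)) (f := Subgroup.inclusion hW₁M) (hf := Subgroup.inclusion_injective hW₁M), Subgroup.inclusion_range]
      refine fun hd => (hwp.dvd_mul.mp hd).elim S.not_dvd_index fun hd => ?_
      exact Nat.not_coprime_of_dvd_of_dvd hwp.one_lt hwd hd hP.W₁_hall
    let Q : Sylow (orderOf w) M := IsPGroup.toSylow (S.isPGroup'.map (Subgroup.inclusion hW₁M) : IsPGroup (orderOf w) S₀) hi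
    haveI : IsCyclic S₀ := isCyclic_of_surjective
      ((S : Subgroup W₁).equivMapOfInjective _ (Subgroup.inclusion_injective hW₁M)) (MulEquiv.surjective _)
    exact (Q.equiv P).isCyclic.mp (show IsCyclic S₀ from inferInstance)
  have hW₂ : Cfsg.sigmaCore M ⊓ Subgroup.centralizer ({w} : Set G) ≠ ⊥ := by
    obtain ⟨z, hz, hz1⟩ := (Subgroup.bot_or_exists_ne_one W₂).resolve_left hP.selfNormalizing.2.1
    refine fun e => hz1 (Subgroup.mem_bot.mp (e.le ⟨?_, ?_⟩))
    · exact SigmaCentralizer.fittingHallOf_le_sigmaCore hG hM (hP.W₂_le hz).1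
    · exact ((hP.W₂_centralizer w hw hw1).ge hz).2
  exact SigmaDecomp.kappa_empty h hK _ (KappaHall.mem_kappa hG hws hr1 (hW₁M hw) rfl hW₂)

/-- If `U ≠ 1` no complement of `M_F` in `M'` has its normaliser in `M`. -/
theorem not_normalizer_le (hG : Cfsg.IsMinSimpleOddOrder G) (hM : IsCoatom M) (h : Cfsg.IsSigmaDecomposition M K U)
    (hK : K ≠ ⊥) (hU : U ≠ ⊥) (hV : Cfsg.IsComplIn (Cfsg.fittingHallOf M) V ⁅M, M⁆) :
    ¬ Subgroup.normalizer (V : Set G) ≤ M := fun hle => by
  have hd := derived_compl hG hM h hK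
  have hcop : (Nat.card (Cfsg.sigmaCore M)).Coprime ((Cfsg.sigmaCore M).relIndex ⁅M, M⁆) := by
    rw [Basic.IsComplIn.relIndex_left hd]
    exact Nat.coprime_of_dvd fun t ht h1 h2 => haveI := Fact.mk ht
      (SigmaDecomp.U_primes hG hM h t ht h2).2.2 (SigmaTools.mem_sigma_of_card h1)
  rw [fittingHall_eq hG hM (nilpotent_of_U hG hM h hU)] at hV
  have hsol : Group.IsSolvable ↥⁅M, M⁆ := hG.2.2.2 _ fun e => hM.1 (top_le_iff.mp (e ▸ SigmaComplement.derived_le_self M))
  obtain ⟨g, hg, e⟩ := Coprime.hall_conj hsol (hall_of_compl hcop hV) (hall_of_compl hcop hd)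
  refine (Cfsg.Agent.S1363.result hG M hM K U h hK).2 ?_
  have hgM : g ∈ M := SigmaComplement.derived_le_self M hg
  calc Subgroup.normalizer (U : Set G) = cj g (Subgroup.normalizer (V : Set G)) := by
        rw [SigmaTools.cj_normalizer]; exact (congrArg (fun X : Subgroup G => Subgroup.normalizer (X : Set G)) e).symm
    _ ≤ cj g M := Subgroup.map_mono hle
    _ = M := SigmaFusion.cj_eq_self (Subgroup.le_normalizer hgM)

end CfsgLib.OddOrder.TypeP
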