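import Cfsg.Agent.Lib.OddOrder.TypeP
import Cfsg.Agent.Lib.OddOrder.TypeF
import Cfsg.Agent.S1362
import Cfsg.Agent.S1371
import Cfsg.Agent.S1372
import Cfsg.Agent.S1381
import Cfsg.Agent.S1382

/-!
The sets `A₁(M)`, `A(M)`, `A₀(M)` attached to a maximal subgroup: normalisers and the TI property.
-/

set_option autoImplicit false

namespace CfsgLib.OddOrder.TypeSets

open scoped Pointwise

variable {G : Type*} [Group G] [Finite G] {M K U : Subgroup G}

/-- A set of elements of `M` invariant under `M` has normaliser `M`. -/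
theorem normalizer_eq (hG : Cfsg.IsMinSimpleOddOrder G) (hM : IsCoatom M) {X : Set G} (hXM : X ⊆ (M : Set G))
    (hinv : ∀ m ∈ M, ∀ x ∈ X, m * x * m⁻¹ ∈ X) (hne : ∃ x ∈ X, x ≠ 1) : Subgroup.normalizer X = M := by
  have hle : M ≤ Subgroup.normalizer X := by
    intro m hm
    rw [Subgroup.mem_set_normalizer_iff]
    refine fun x => ⟨hinv m hm x, fun h => ?_⟩
    have := hinv _ (inv_mem hm) _ h
    simpa [mul_assoc] using this
  refine (hM.le_iff.mp hle).resolve_left fun htop => ?_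
  haveI := hG.2.1
  have hn : (Subgroup.closure X).Normal := by
    rw [← Subgroup.normalizer_eq_top_iff, ← top_le_iff, ← htop]
    intro g hg
    rw [Subgroup.mem_normalizer_iff]
    have key : ∀ g ∈ Subgroup.normalizer X, ∀ y ∈ Subgroup.closure X, g * y * g⁻¹ ∈ Subgroup.closure X := by
      intro g hg y hy
      induction hy using Subgroup.closure_induction with
      | mem x hx => exact Subgroup.subset_closure ((Subgroup.mem_set_normalizer_iff.mp hg x).mp hx)
      | one => simp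
      | mul a b _ _ iha ihb =>
        have : g * (a * b) * g⁻¹ = g * a * g⁻¹ * (g * b * g⁻¹) := by group
        rw [this]; exact mul_mem iha ihb
      | inv a _ iha =>
        have : g * a⁻¹ * g⁻¹ = (g * a * g⁻¹)⁻¹ := by group
        rw [this]; exact inv_mem iha
    refine fun y => ⟨key g hg y, fun h => ?_⟩
    have := key _ (inv_mem hg) _ h
    simpa [mul_assoc] using this
  rcases hn.eq_bot_or_eq_top with h | h
  · obtain ⟨x, hx, hx1⟩ := hne
    exact hx1 (Subgroup.mem_bot.mp (h ▸ Subgroup.subset_closure hx))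
  · exact hM.1 (top_le_iff.mp (h ▸ (Subgroup.closure_le M).mpr hXM))

theorem conj_mem_of_le_normalizer {H X : Subgroup G} (h : X ≤ Subgroup.normalizer (H : Set G)) {m x : G}
    (hm : m ∈ X) (hx : x ∈ H) : m * x * m⁻¹ ∈ H :=
  (Subgroup.mem_normalizer_iff.mp (h hm) x).mp hx

theorem mem_of_orderOf_dvd {D L : Subgroup G} (hDL : D ≤ L) (hn : L ≤ Subgroup.normalizer (D : Set G))
    (hc : (Nat.card D).Coprime (D.relIndex L)) {x : G} (hx : x ∈ L) (hd : orderOf x ∣ Nat.card D) : x ∈ D := by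
  haveI : (D.subgroupOf L).Normal := Subgroup.normal_subgroupOf_of_le_normalizer hn
  have h1 : orderOf ((QuotientGroup.mk' (D.subgroupOf L)) ⟨x, hx⟩) = 1 :=
    Nat.eq_one_of_dvd_coprimes hc
      ((orderOf_map_dvd (QuotientGroup.mk' (D.subgroupOf L)) ⟨x, hx⟩).trans ((Subgroup.orderOf_mk x hx).symm ▸ hd))
      (orderOf_dvd_natCard _)
  have := (QuotientGroup.eq_one_iff (⟨x, hx⟩ : L)).mp (orderOf_eq_one_iff.mp h1)
  exact this

/-- For Type II the three sets are TI-subsets with normaliser `M`. -/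
theorem typeTwo (hG : Cfsg.IsMinSimpleOddOrder G) (hM : IsCoatom M) (hII : Cfsg.IsOfTypeII M)
    (h : Cfsg.IsSigmaDecomposition M K U) :
    (Cfsg.IsTISubset (Cfsg.typeA0 M) ∧ Subgroup.normalizer (Cfsg.typeA0 M) = M) ∧
      (Cfsg.IsTISubset (Cfsg.typeA M) ∧ Subgroup.normalizer (Cfsg.typeA M) = M) ∧
      (Cfsg.IsTISubset (Cfsg.typeA1 M) ∧ Subgroup.normalizer (Cfsg.typeA1 M) = M) := by
  obtain ⟨hK, hU⟩ := (Cfsg.Agent.S1381.result hG M hM K U h).mp hII
  have hFH := TypeP.fittingHall_eq hG hM (TypeP.nilpotent_of_U hG hM h hU)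
  have hnot : ¬ (Cfsg.IsOfTypeIII M ∨ Cfsg.IsOfTypeIV M) := fun h34 =>
    hU ((Cfsg.Agent.S1382.result hG M hM K U h).mp h34).2.1
  have hnI : ¬ Cfsg.IsOfTypeI M := fun hI => hK (TypeF.kappa_of_typeF hG hM h hI.1)
  set H := Cfsg.sigmaCore M with hH
  have hcore : Cfsg.typeCore M = H := by
    unfold Cfsg.typeCore; rw [if_neg hnot, hFH]
  have hA1 : Cfsg.typeA1 M = (H : Set G) \ {1} := by
    unfold Cfsg.typeA1; rw [hcore]
  have hA : Cfsg.typeA M = {a | a ∈ ⁅M, M⁆ ∧ a ≠ 1 ∧ ∃ x ∈ H, x ≠ 1 ∧ a * x = x * a} := by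
    unfold Cfsg.typeA; rw [if_neg hnI, hcore]
  have hHM : H ≤ M := SigmaTools.sigmaCore_le M
  have hDM : ⁅M, M⁆ ≤ M := SigmaComplement.derived_le_self M
  have hHD : H ≤ ⁅M, M⁆ := SigmaCore.le_derived hG hM
  have hnH : M ≤ Subgroup.normalizer (H : Set G) := SigmaTools.le_normalizer_sigmaCore M
  have hnD : M ≤ Subgroup.normalizer ((⁅M, M⁆ : Subgroup G) : Set G) :=
    Subgroup.le_normalizer_iff_commutator_le_left.mpr (Subgroup.commutator_mono hDM le_rfl)
  have hW := TypeP.compl_K hG hM h hK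
  have hcopD : (Nat.card ↥⁅M, M⁆).Coprime (⁅M, M⁆.relIndex M) := by
    have h1 := TypeP.K_hall h
    rw [Basic.IsComplIn.relIndex_right hW] at h1
    rw [Basic.IsComplIn.relIndex_left hW]
    exact h1.symm
  -- nonidentity elements of the core
  obtain ⟨y, hy, hy1⟩ := (Subgroup.bot_or_exists_ne_one H).resolve_left (SigmaCore.sigmaCore_ne_bot hG hM)
  have hyA : y ∈ Cfsg.typeA M := by rw [hA]; exact ⟨hHD hy, hy1, y, hy, hy1, rfl⟩
  have hy1A : y ∈ Cfsg.typeA1 M := by rw [hA1]; exact ⟨hy, hy1⟩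
  have hinvA : ∀ m ∈ M, ∀ a ∈ Cfsg.typeA M, m * a * m⁻¹ ∈ Cfsg.typeA M := by
    intro m hm a ha
    rw [hA] at ha ⊢
    obtain ⟨haD, ha1, x, hx, hx1, hax⟩ := ha
    refine ⟨conj_mem_of_le_normalizer hnD hm haD, fun e => ha1 (conj_eq_one_iff.mp e), m * x * m⁻¹,
      conj_mem_of_le_normalizer hnH hm hx, fun e => hx1 (conj_eq_one_iff.mp e), ?_⟩
    calc m * a * m⁻¹ * (m * x * m⁻¹) = m * (a * x) * m⁻¹ := by group
      _ = m * (x * a) * m⁻¹ := by rw [hax]
      _ = m * x * m⁻¹ * (m * a * m⁻¹) := by group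
  have hnA1 : Subgroup.normalizer (Cfsg.typeA1 M) = M := by
    refine normalizer_eq hG hM (hA1 ▸ fun a ha => hHM ha.1) (fun m hm a ha => ?_) ⟨y, hy1A, hy1⟩
    rw [hA1] at ha ⊢
    exact ⟨conj_mem_of_le_normalizer hnH hm ha.1, fun e => ha.2 (conj_eq_one_iff.mp e)⟩
  have hnA : Subgroup.normalizer (Cfsg.typeA M) = M :=
    normalizer_eq hG hM (hA ▸ fun a ha => hDM ha.1) hinvA ⟨y, hyA, hy1⟩
  -- the core is TI
  have hH_ti : ∀ g x : G, x ∈ H → x ≠ 1 → g * x * g⁻¹ ∈ H → g ∈ M := by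
    intro g x hx hx1 hgx
    obtain ⟨-, hFti, hHF⟩ := Cfsg.Agent.S1372.result hG M hM K U h hK hU
    by_contra hg
    have hNF : Subgroup.normalizer (Cfsg.fittingOf M : Set G) = M :=
      normalizer_eq hG hM (fun a ha => Basic.fittingOf_le ha)
        (fun m hm a ha => conj_mem_of_le_normalizer Basic.le_normalizer_fittingOf hm ha) ⟨y, hHF hy, hy1⟩
    exact hx1 (hFti g (by rw [hNF]; exact hg) x (hHF hx) (hHF hgx))
  have hsplit : ∀ g a : G, a ∈ M → g * a * g⁻¹ ∈ M → (a ∈ H → g * a * g⁻¹ ∈ H) ∧ (g * a * g⁻¹ ∈ H → a ∈ H) := by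
    have hc : (Nat.card H).Coprime (H.relIndex M) := by
      rw [← hFH]; exact Basic.fittingHallOf_coprime
    have ho : ∀ g a : G, orderOf (g * a * g⁻¹) = orderOf a := fun g a =>
      orderOf_injective (MulAut.conj g).toMonoidHom (MulEquiv.injective _) a
    intro g a haM hgaM
    refine ⟨fun ha => mem_of_orderOf_dvd hHM hnH hc hgaM (ho g a ▸ Subgroup.orderOf_dvd_natCard _ ha),
      fun ha => mem_of_orderOf_dvd hHM hnH hc haM (ho g a ▸ Subgroup.orderOf_dvd_natCard _ ha)⟩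
  -- `A(M) ∖ A₁(M)` is `A(M, U) ∖ M_σ`
  have hAsig : ∀ a ∈ Cfsg.typeA M, a ∉ H → a ∈ Cfsg.sigmaA M U \ (H : Set G) := by
    intro a ha haH
    rw [hA] at ha
    obtain ⟨haD, ha1, x, hx, hx1, hax⟩ := ha
    refine ⟨⟨⟨hDM haD, x, hx, hx1, hax⟩, ?_⟩, haH⟩
    rw [← StarDerived.derived_eq hG hM h hK]; exact haD
  have hAti : ∀ g a : G, a ∈ Cfsg.typeA M → g * a * g⁻¹ ∈ Cfsg.typeA M → g ∈ M := by
    intro g a ha hga
    have ha' := ha
    have hga' := hga
    rw [hA] at ha' hga'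
    by_cases haH : a ∈ H
    · exact hH_ti g a haH ha'.2.1 ((hsplit g a (hDM ha'.1) (hDM hga'.1)).1 haH)
    · by_contra hg
      have hs := hAsig a ha haH
      have hN : Subgroup.normalizer (Cfsg.sigmaA M U \ (H : Set G)) = M := by
        refine normalizer_eq hG hM (fun z hz => hz.1.1.1) (fun m hm z hz => ?_) ⟨a, hs, ha'.2.1⟩
        obtain ⟨⟨⟨hzM, w, hw, hw1, hzw⟩, hzU⟩, hzH⟩ := hz
        rw [← StarDerived.derived_eq hG hM h hK] at hzU
        refine ⟨⟨⟨mul_mem (mul_mem hm hzM) (inv_mem hm), m * w * m⁻¹, conj_mem_of_le_normalizer hnH hm hw,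
          fun e => hw1 (conj_eq_one_iff.mp e), ?_⟩, ?_⟩, fun e => hzH ?_⟩
        · calc m * z * m⁻¹ * (m * w * m⁻¹) = m * (z * w) * m⁻¹ := by group
            _ = m * (w * z) * m⁻¹ := by rw [hzw]
            _ = m * w * m⁻¹ * (m * z * m⁻¹) := by group
        · rw [← StarDerived.derived_eq hG hM h hK]; exact conj_mem_of_le_normalizer hnD hm hzU
        · have := conj_mem_of_le_normalizer hnH (inv_mem hm) e
          simpa [mul_assoc] using this
      exact ha'.2.1 (Cfsg.Agent.S1362.result hG M hM K U h g (by rw [hN]; exact hg) a hs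
        (hAsig _ hga fun e => haH ((hsplit g a (hDM ha'.1) (hDM hga'.1)).2 e)))
  -- the conjugates of the cyclic part
  have hV : ∀ v ∈ Cfsg.typeA0 M, v ∉ Cfsg.typeA M → v ∈ Cfsg.sigmaA0 M K \ Cfsg.sigmaA M U ∧ v ∉ ⁅M, M⁆ := by
    intro v hv hvA
    rcases hv with hv | ⟨-, W₁, V, W₂, hP, m, hm, w, hw, hw1, hw2, rfl⟩
    · exact absurd hv hvA
    have hW₂D : W₂ ≤ ⁅M, M⁆ := hP.W₂_le.trans (inf_le_left.trans (by rw [hFH]; exact hHD))
    have hW₂H : W₂ ≤ H := hP.W₂_le.trans (inf_le_left.trans hFH.le)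
    have hW₁M := hP.W₁_compl.2.1
    have hcomm := hP.selfNormalizing.2.2.2.1
    haveI := hP.selfNormalizing.2.2.2.2.1
    obtain ⟨a, ha, b, hb, rfl⟩ : ∃ a ∈ W₁, ∃ b ∈ W₂, a * b = w := by
      letI := IsCyclic.commGroup (α := ↥(W₁ ⊔ W₂))
      have hn : W₁ ≤ Subgroup.normalizer (W₂ : Set G) := by
        intro x hx
        refine Subgroup.mem_normalizer_iff.mpr fun z => ⟨fun hz => ?_, fun hz => ?_⟩
        · rwa [hcomm x hx z hz, mul_inv_cancel_right]
        · have h1 := hcomm x⁻¹ (inv_mem hx) _ hz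
          have e : x⁻¹ * (x * z * x⁻¹) = z * x⁻¹ := by group
          rw [e] at h1
          have : z = x * z * x⁻¹ := mul_right_cancel h1
          rwa [← this] at hz
      have h1 : w ∈ (W₁ : Set G) * (W₂ : Set G) := by
        rw [← Subgroup.coe_mul_of_left_le_normalizer_right W₁ W₂ hn]; exact hw
      exact h1
    have hb1 : b ≠ 1 := fun e => hw1 (by rw [e, mul_one]; exact ha)
    have ha1 : a ≠ 1 := fun e => hw2 (by rw [e, one_mul]; exact hb)
    have hwM : a * b ∈ M := mul_mem (hW₁M ha) (hHM (hW₂H hb))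
    have hwD : a * b ∉ ⁅M, M⁆ := by
      intro hd
      have : a ∈ ⁅M, M⁆ ⊓ W₁ := ⟨by simpa using (⁅M, M⁆ : Subgroup G).mul_mem hd (inv_mem (hW₂D hb)), ha⟩
      rw [hP.W₁_compl.2.2.1, Subgroup.mem_bot] at this
      exact ha1 this
    have hvD : m * (a * b) * m⁻¹ ∉ ⁅M, M⁆ := by
      intro hd
      apply hwD
      have := conj_mem_of_le_normalizer hnD (inv_mem hm) hd
      simpa [mul_assoc] using this
    refine ⟨⟨⟨⟨mul_mem (mul_mem hm hwM) (inv_mem hm), m * b * m⁻¹, conj_mem_of_le_normalizer hnH hm (hW₂H hb),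
      fun e => hb1 (conj_eq_one_iff.mp e), ?_⟩, ?_⟩, fun e => hvD ?_⟩, hvD⟩
    · have hab : a * b * b = b * (a * b) := by rw [← mul_assoc b a b, ← hcomm a ha b hb]
      calc m * (a * b) * m⁻¹ * (m * b * m⁻¹) = m * (a * b * b) * m⁻¹ := by group
        _ = m * (b * (a * b)) * m⁻¹ := by rw [hab]
        _ = m * b * m⁻¹ * (m * (a * b) * m⁻¹) := by group
    · rintro ⟨k, hk, hk1, n, hn, e⟩
      -- the order of `b` would divide the order of the Hall complement
      have hcopKW : (Nat.card K).Coprime (Nat.card ↥⁅M, M⁆) := by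
        have h1 := TypeP.K_hall h
        rwa [Basic.IsComplIn.relIndex_right hW] at h1
      have hcopW : (orderOf a).Coprime (orderOf b) := by
        have h1 := hP.W₁_hall
        rw [Basic.IsComplIn.relIndex_right hP.W₁_compl] at h1
        exact Nat.Coprime.of_dvd (Subgroup.orderOf_dvd_natCard _ ha) (Subgroup.orderOf_dvd_natCard _ (hW₂D hb)) h1
      have h2 : orderOf b ∣ orderOf (m * (a * b) * m⁻¹) := by
        rw [show orderOf (m * (a * b) * m⁻¹) = orderOf (a * b) from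
          orderOf_injective (MulAut.conj m).toMonoidHom (MulEquiv.injective _) (a * b),
          (show Commute a b from hcomm a ha b hb).orderOf_mul_eq_mul_orderOf_of_coprime hcopW]
        exact dvd_mul_left _ _
      rw [e, show orderOf (n * k * n⁻¹) = orderOf k from
        orderOf_injective (MulAut.conj n).toMonoidHom (MulEquiv.injective _) k] at h2
      exact hb1 (orderOf_eq_one_iff.mp (Nat.eq_one_of_dvd_coprimes hcopKW
        (h2.trans (Subgroup.orderOf_dvd_natCard _ hk)) (Subgroup.orderOf_dvd_natCard _ (hW₂D hb))))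
    · rw [StarDerived.derived_eq hG hM h hK]; exact e.2
  obtain ⟨hZeq, hZti⟩ := Cfsg.Agent.S1371.result hG M hM K U h hK
  have hZinv : ∀ m ∈ M, ∀ v ∈ Cfsg.sigmaA0 M K \ Cfsg.sigmaA M U,
      m * v * m⁻¹ ∈ Cfsg.sigmaA0 M K \ Cfsg.sigmaA M U := by
    intro m hm v hv
    rw [← hZeq] at hv ⊢
    obtain ⟨n, hn, z, hz, rfl⟩ := hv
    exact ⟨m * n, mul_mem hm hn, z, hz, by group⟩
  have hinv0 : ∀ m ∈ M, ∀ v ∈ Cfsg.typeA0 M, m * v * m⁻¹ ∈ Cfsg.typeA0 M := by
    rintro m hm v (hv | ⟨h1, W₁, V, W₂, hP, n, hn, w, hw, hw1, hw2, rfl⟩)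
    · exact Or.inl (hinvA m hm v hv)
    · exact Or.inr ⟨h1, W₁, V, W₂, hP, m * n, mul_mem hm hn, w, hw, hw1, hw2, by group⟩
  have hsub0 : Cfsg.typeA0 M ⊆ (M : Set G) := by
    intro v hv
    by_cases hvA : v ∈ Cfsg.typeA M
    · rw [hA] at hvA; exact hDM hvA.1
    · exact (hV v hv hvA).1.1.1.1
  have hn0 : Subgroup.normalizer (Cfsg.typeA0 M) = M :=
    normalizer_eq hG hM hsub0 hinv0 ⟨y, Or.inl hyA, hy1⟩
  refine ⟨⟨fun g hg v hv hgv => ?_, hn0⟩, ⟨fun g hg a ha hga => ?_, hnA⟩, ⟨fun g hg a ha hga => ?_, hnA1⟩⟩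
  · rw [hn0] at hg
    by_contra hv1
    apply hg
    have ho : orderOf (g * v * g⁻¹) = orderOf v :=
      orderOf_injective (MulAut.conj g).toMonoidHom (MulEquiv.injective _) v
    by_cases hvA : v ∈ Cfsg.typeA M
    · refine hAti g v hvA (by_contra fun hgA => (hV _ hgv hgA).2 ?_)
      rw [hA] at hvA
      exact mem_of_orderOf_dvd hDM hnD hcopD (hsub0 hgv) (ho ▸ Subgroup.orderOf_dvd_natCard _ hvA.1)
    · have hgA : g * v * g⁻¹ ∉ Cfsg.typeA M := by
        intro hgA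
        rw [hA] at hgA
        exact (hV v hv hvA).2
          (mem_of_orderOf_dvd hDM hnD hcopD (hsub0 hv) (ho ▸ Subgroup.orderOf_dvd_natCard _ hgA.1))
      by_contra hgM
      have hNZ : Subgroup.normalizer (Cfsg.sigmaA0 M K \ Cfsg.sigmaA M U) = M :=
        normalizer_eq hG hM (fun z hz => hz.1.1.1) hZinv ⟨v, (hV v hv hvA).1, hv1⟩
      exact hv1 (hZti g (by rw [hNZ]; exact hgM) v (hV v hv hvA).1 (hV _ hgv hgA).1)
  · rw [hnA] at hg
    by_contra ha1
    exact hg (hAti g a ha hga)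
  · rw [hnA1] at hg
    rw [hA1] at ha hga
    by_contra ha1
    exact hg (hH_ti g a ha.1 ha1 hga.1)

end CfsgLib.OddOrder.TypeSets
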