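import Cfsg.Agent.Lib.OddOrder.TauTwoStructure
import Mathlib

set_option autoImplicit false
set_option linter.style.haveILetI false
set_option linter.unusedSectionVars false

/-!
Exceptional maximal subgroups when the Sylow `p`-subgroups of `G` are nonabelian.
-/

namespace CfsgLib.OddOrder.TauTwoNonabelian

open scoped commutatorElement
open A2Transitive (MaxPlane)
open SigmaFusion (cj)
open Exceptional (Exc)

variable {G : Type*} [Group G] [Finite G] {p : ℕ} [hp : Fact p.Prime] {M A : Subgroup G}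

/-- The `p`-th powers of `C_S(A)` lie in a cyclic group. -/
theorem exists_cyclic_powers (hG : Cfsg.IsMinSimpleOddOrder G) (hA : MaxPlane p A) {S : Sylow p G}
    (hAS : A ≤ (S : Subgroup G)) (hna : ¬ IsMulCommutative (S : Subgroup G)) :
    ∃ K : Subgroup G, IsCyclic K ∧
      ∀ x ∈ (S : Subgroup G) ⊓ Subgroup.centralizer (A : Set G), x ^ p ∈ K := by
  have hp2 := hA.ne_two hG
  by_cases hr : Cfsg.PRankLE p 2 (S : Subgroup G)
  · obtain hc | ⟨P₁, P₂, hsup, hcomm, -, h3, hexp, hcyc, -⟩ := Cfsg.Agent.S1412.result hG p S hr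
    · exact absurd hc hna
    refine ⟨P₂, hcyc, fun x hx => ?_⟩
    have hP₂A : P₂ ≤ Subgroup.normalizer (P₁ : Set G) := fun b hb =>
      Subgroup.centralizer_le_normalizer _ (Subgroup.mem_centralizer_iff.mpr fun a ha => hcomm a ha b hb)
    obtain ⟨v, hv, w, hw, rfl⟩ := (Coprime.mem_sup_of_le_normalizer hP₂A).mp (hsup.ge hx.1)
    have hvp : v ^ p = 1 := by
      have := Monoid.pow_exponent_eq_one (G := P₁) ⟨v, hv⟩
      rw [hexp] at this
      exact congrArg Subtype.val this
    rw [Commute.mul_pow (hcomm v hv w hw), hvp, one_mul]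
    exact pow_mem hw p
  · obtain ⟨R₀, R₁, hR0, -, hcyc, -, hcomm, hsup⟩ := NarrowMaximal.exists_split (R := (S : Subgroup G)) hp2 S.isPGroup'
      (Fusion.Thompson.isEA_subgroupOf hA.ea (S : Subgroup G))
      (by rw [Nat.card_congr (Subgroup.subgroupOfEquivOfLe hAS).toEquiv, hA.card])
      (fun B hB hle => by
        refine le_antisymm (fun x hx => ?_) hle
        exact (hA.max _ (Fusion.Thompson.isEA_map _ hB) (fun a ha => ⟨⟨a, hAS ha⟩, hle ha, rfl⟩)).le
          (Subgroup.mem_map_of_mem _ hx)) hr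
    have hR₁n : R₁ ≤ Subgroup.normalizer (R₀ : Set (S : Subgroup G)) := fun b hb =>
      Subgroup.centralizer_le_normalizer _ (Subgroup.mem_centralizer_iff.mpr fun a ha => hcomm a ha b hb)
    refine ⟨R₁.map (S : Subgroup G).subtype, ?_, fun x hx => ?_⟩
    · haveI := hcyc
      exact isCyclic_of_surjective (R₁.equivMapOfInjective _ (S : Subgroup G).subtype_injective)
        (MulEquiv.surjective _)
    have hmem : (⟨x, hx.1⟩ : (S : Subgroup G)) ∈ R₀ ⊔ R₁ := hsup.ge
      (Subgroup.mem_centralizer_iff.mpr fun a ha => Subtype.ext (Subgroup.mem_centralizer_iff.mp hx.2 a (hR0 ha)))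
    obtain ⟨v, hv, w, hw, e⟩ := (Coprime.mem_sup_of_le_normalizer hR₁n).mp hmem
    refine ⟨w ^ p, pow_mem hw p, ?_⟩
    have hvp : v ^ p = 1 := Subtype.ext (by simpa using hA.ea.2 _ (hR0 hv))
    have h1 : (⟨x, hx.1⟩ : (S : Subgroup G)) ^ p = w ^ p := by
      rw [← e, Commute.mul_pow (hcomm v hv w hw), hvp, one_mul]
    exact (congrArg Subtype.val h1).symm

/-- Elements of `A` which are `p`-th powers in `C_S(A)` lie in `Ω₁(Z(S))`. -/
theorem pow_mem_zLine (hG : Cfsg.IsMinSimpleOddOrder G) (hA : MaxPlane p A) {S : Sylow p G}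
    (hAS : A ≤ (S : Subgroup G)) (hna : ¬ IsMulCommutative (S : Subgroup G)) {x : G}
    (hxS : x ∈ (S : Subgroup G)) (hxC : x ∈ Subgroup.centralizer (A : Set G)) (hxA : x ^ p ∈ A) :
    x ^ p ∈ PlaneSylow.zLine S := by
  obtain ⟨K, hK, hpow⟩ := exists_cyclic_powers hG hA hAS hna
  obtain ⟨u, huS, huA, hin, hfix⟩ := PlaneSylow.exists_u hG hA hAS hna
  set a := x ^ p with ha
  by_contra haZ
  have ha1 : a ≠ 1 := fun e => haZ (e ▸ one_mem _)
  have haK : a ∈ K := hpow x ⟨hxS, hxC⟩
  have hau : u * a * u⁻¹ ∈ K := by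
    rw [ha, ← conj_pow]
    exact hpow _ ⟨mul_mem (mul_mem huS hxS) (Subgroup.inv_mem _ huS),
      (Subgroup.mem_normalizer_iff.mp (WLine.normalizer_le_normalizer_centralizer A huA) x).mp hxC⟩
  have hau' : u * a * u⁻¹ ∈ Subgroup.zpowers a := by
    haveI := hK
    have he := Solvable.SupersolvableCriteria.eq_of_card_eq_of_le_cyclic (A := K) (Subgroup.zpowers_le.mpr hau)
      (Subgroup.zpowers_le.mpr haK) (by
        rw [Nat.card_zpowers, Nat.card_zpowers, orderOf_eq_prime (hA.ea.2 a hxA) ha1,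
          orderOf_eq_prime (hA.ea.2 _ ((Subgroup.mem_normalizer_iff.mp huA a).mp hxA))
            (fun e => ha1 (conj_eq_one_iff.mp e))])
    exact he.le (Subgroup.mem_zpowers _)
  have hcomm : ⁅u, a⁆ ∈ Subgroup.zpowers a := by
    rw [commutatorElement_def]
    exact mul_mem hau' (inv_mem (Subgroup.mem_zpowers a))
  by_cases hne : ⁅u, a⁆ = 1
  · exact haZ (hfix a hxA (commutatorElement_eq_one_iff_commute.mp hne))
  have hca : ⁅u, a⁆ ^ p = 1 := (PlaneSylow.mem_zLine.mp (hin a hxA)).2.2
  have heq : Subgroup.zpowers ⁅u, a⁆ = Subgroup.zpowers a := Subgroup.eq_of_le_of_card_ge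
    (Subgroup.zpowers_le.mpr hcomm) (by
      rw [Nat.card_zpowers, Nat.card_zpowers, orderOf_eq_prime (hA.ea.2 a hxA) ha1, orderOf_eq_prime hca hne])
  exact haZ ((Subgroup.zpowers_le.mpr (hin a hxA)) (heq.ge (Subgroup.mem_zpowers a)))

variable {A₀ : Subgroup G} {S : Sylow p G}
variable (hG : Cfsg.IsMinSimpleOddOrder G) (h : Exc p M A A₀) (hAS : A ≤ (S : Subgroup G))
  (hna : ¬ IsMulCommutative (S : Subgroup G))
include hG h hAS hna

theorem sylow_not_le : ¬ (S : Subgroup G) ≤ M := fun hle => hna (h.pGroup hG S.isPGroup' hle hAS).1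

theorem u_not_mem {u : G} (huS : u ∈ (S : Subgroup G)) (huA : u ∈ Subgroup.normalizer (A : Set G))
    (hfix : ∀ a ∈ A, Commute u a → a ∈ PlaneSylow.zLine S) : u ∉ M := by
  intro huM
  have huC := TauTwoStructure.pGroup_le_centralizer hG h (S.isPGroup'.to_le (Subgroup.zpowers_le.mpr huS))
    (Subgroup.zpowers_le.mpr huM) (Subgroup.zpowers_le.mpr huA) (Subgroup.mem_zpowers u)
  refine h.ne_zLine hG S (Subgroup.eq_of_le_of_card_ge (h.le₀.trans fun a ha =>
    hfix a ha (Subgroup.mem_centralizer_iff.mp huC a ha).symm) ?_)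
  rw [PlaneSylow.zLine_card hG (h.maxPlane hG) hAS hna, h.card₀]

/-- A line other than `A₀` and `Ω₁(Z(S))` is a conjugate of `A₀` by an element outside `M`. -/
theorem exists_conj {X : Subgroup G} (hXA : X ≤ A) (hXc : Nat.card X = p) (hX₀ : X ≠ A₀)
    (hXZ : X ≠ PlaneSylow.zLine S) : ∃ g ∈ Subgroup.normalizer (A : Set G), g ∉ M ∧ cj g A₀ = X := by
  have hA := h.maxPlane hG
  obtain ⟨u, huS, huA, hin, hfix⟩ := PlaneSylow.exists_u hG hA hAS hna
  obtain ⟨i, hi⟩ := PlaneSylow.lines_conj hG hA hAS hna huS hin hfix h.le₀ h.card₀ (h.ne_zLine hG S) hXA hXc hXZ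
  refine ⟨u ^ i, pow_mem huA i, fun hgM => hX₀ ?_, hi⟩
  have hgC := TauTwoStructure.pGroup_le_centralizer hG h (S.isPGroup'.to_le (Subgroup.zpowers_le.mpr (pow_mem huS i)))
    (Subgroup.zpowers_le.mpr hgM) (Subgroup.zpowers_le.mpr (pow_mem huA i)) (Subgroup.mem_zpowers (u ^ i))
  rw [← hi]
  exact SigmaFusion.cj_eq_self (Subgroup.centralizer_le_normalizer _
    (Subgroup.centralizer_le (SetLike.coe_subset_coe.mpr h.le₀) hgC))

/-- Lines other than `A₀` have no fixed points on `M_σ` and centralisers outside `M`. -/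
theorem line_free {X : Subgroup G} (hXA : X ≤ A) (hXc : Nat.card X = p) (hX₀ : X ≠ A₀) :
    Cfsg.sigmaCore M ⊓ Subgroup.centralizer (X : Set G) = ⊥ := by
  by_cases hXZ : X = PlaneSylow.zLine S
  · subst hXZ
    set Z := PlaneSylow.zLine S with hZ
    by_contra hne
    have hSC : (S : Subgroup G) ≤ Subgroup.centralizer (Z : Set G) := fun s hs =>
      Subgroup.mem_centralizer_iff.mpr fun z hz =>
        (Subgroup.mem_centralizer_iff.mp (PlaneSylow.mem_zLine.mp hz).2.1 s hs).symm
    obtain ⟨L, hL, hNL⟩ := Uniqueness.exists_coatom_normalizer (p := p) hG.2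
      (fun (e : Z = ⊥) => hp.out.ne_one (by rw [← hXc, e, Subgroup.card_bot]))
      (IsPGroup.of_card (n := 1) (by rw [hXc, pow_one]))
    have hCL := (Subgroup.centralizer_le_normalizer _).trans hNL
    have hLM : L = M := by
      by_contra hLM
      exact hne (le_bot_iff.mp ((inf_le_inf_left _ hCL).trans
        (TauTwoStructure.inter_eq_bot hG h hL hLM (hAS.trans (hSC.trans hCL))).le))
    exact sylow_not_le hG h hAS hna (hSC.trans (hLM ▸ hCL))
  · obtain ⟨g, hg, hgM, rfl⟩ := exists_conj hG h hAS hna hXA hXc hX₀ hXZ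
    exact h.fpf hG hg hgM

theorem centralizes₀ : Cfsg.sigmaCore M ≤ Subgroup.centralizer (A₀ : Set G) := by
  refine FPFTools.le_of_lines (h.maxPlane hG) (h.le.trans (SigmaTools.le_normalizer_sigmaCore M))
    (SigmaTools.coprime_sigmaCore h.not_sigma) fun B hB hBc => ?_
  by_cases e : B = A₀
  · exact e ▸ inf_le_right
  · exact (line_free hG h hAS hna hB hBc e).le.trans bot_le

theorem not_centralizer_le {X : Subgroup G} (hXA : X ≤ A) (hXc : Nat.card X = p) (hX₀ : X ≠ A₀) :
    ¬ Subgroup.centralizer (X : Set G) ≤ M := by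
  intro hle
  by_cases hXZ : X = PlaneSylow.zLine S
  · subst hXZ
    refine sylow_not_le hG h hAS hna (le_trans (fun s hs => ?_) hle)
    exact Subgroup.mem_centralizer_iff.mpr fun z hz =>
      (Subgroup.mem_centralizer_iff.mp (PlaneSylow.mem_zLine.mp hz).2.1 s hs).symm
  · obtain ⟨g, -, hgM, rfl⟩ := exists_conj hG h hAS hna hXA hXc hX₀ hXZ
    set σc := Cfsg.sigmaCore M with hσc
    have h1 : cj g σc ≤ M := by
      refine le_trans ?_ hle
      rintro _ ⟨s, hs, rfl⟩
      refine Subgroup.mem_centralizer_iff.mpr ?_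
      rintro _ ⟨a, ha, rfl⟩
      show (g * a * g⁻¹) * (g * s * g⁻¹) = (g * s * g⁻¹) * (g * a * g⁻¹)
      rw [show (g * a * g⁻¹) * (g * s * g⁻¹) = g * (a * s) * g⁻¹ by group,
        Subgroup.mem_centralizer_iff.mp (centralizes₀ hG h hAS hna hs) a ha]
      group
    have hcard : Nat.card (cj g σc) = Nat.card σc := Subgroup.card_map_of_injective (MulAut.conj g).injective
    have h2 : cj g σc = σc := Subgroup.eq_of_le_of_card_ge (SigmaTools.le_sigmaCore hG h.coatom h1 fun t ht hd => by
      haveI := Fact.mk ht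
      exact SigmaTools.mem_sigma_of_card (hcard ▸ hd)) hcard.ge
    have h3 : Subgroup.normalizer (σc : Set G) = M := (h.coatom.le_iff.mp (SigmaTools.le_normalizer_sigmaCore M)).resolve_left
      (Uniqueness.normalizer_ne_top hG.2 (SigmaCore.sigmaCore_ne_bot hG h.coatom)
        (hG.2.2.2 _ fun e => h.coatom.1 (top_le_iff.mp (e ▸ SigmaTools.sigmaCore_le M))))
    exact hgM (h3 ▸ Subgroup.mem_normalizer_iff_map_conj_eq.mpr h2)

theorem inf_centralizer_eq : A ⊓ Subgroup.centralizer (Cfsg.sigmaCore M : Set G) = A₀ := by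
  refine le_antisymm (fun a ha => ?_) (le_inf h.le₀ (Subgroup.le_centralizer_iff.mp (centralizes₀ hG h hAS hna)))
  by_contra ha₀
  have ha1 : a ≠ 1 := fun e => ha₀ (e ▸ one_mem _)
  have hfree := line_free hG h hAS hna (X := Subgroup.zpowers a) (Subgroup.zpowers_le.mpr ha.1)
    (by rw [Nat.card_zpowers, orderOf_eq_prime (h.ea.2 a ha.1) ha1])
    (fun e => ha₀ (e ▸ Subgroup.mem_zpowers a))
  refine SigmaCore.sigmaCore_ne_bot hG h.coatom ?_
  rw [← hfree, left_eq_inf, Subgroup.le_centralizer_iff, Subgroup.zpowers_le]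
  exact ha.2

variable {E : Subgroup G} (hE : Cfsg.IsComplIn E (Cfsg.sigmaCore M) M) (hAE : A ≤ E)
include hE hAE

theorem tau2_eq : Cfsg.tau2 M = {p} := by
  have hA := h.maxPlane hG
  have hM := h.coatom
  refine Set.eq_singleton_iff_unique_mem.mpr ⟨⟨hp.out, h.not_sigma, h.rank_two hG,
    UniqueTools.not_pRankLE_of_isEA h.ea h.card.ge h.le⟩, fun r hr => ?_⟩
  by_contra hrp
  haveI := Fact.mk hr.1
  -- a plane of `E` for `r`
  obtain ⟨B, hBE, hBe, hB2⟩ : ∃ B : Subgroup G, B ≤ E ∧ Cfsg.IsElementaryAbelian r B ∧ r ^ 2 ≤ Nat.card B := by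
    obtain ⟨T⟩ : Nonempty (Sylow r E) := inferInstance
    have hTM : (T : Subgroup E).map E.subtype ≤ M := (Subgroup.map_subtype_le _).trans hE.1
    have hTc : Nat.card ↥((T : Subgroup E).map E.subtype) = r ^ (Nat.card M).factorization r := by
      rw [Coprime.card_map_subtype, T.card_eq_multiplicity]
      congr 1
      rw [← Subgroup.card_mul_index (Cfsg.piCore (Cfsg.sigma M) M), Nat.factorization_mul Nat.card_pos.ne'
        Subgroup.index_ne_zero_of_finite, Finsupp.add_apply, ← SigmaComplement.card_E hE,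
        Nat.factorization_eq_zero_of_not_dvd fun hd => hr.2.1 (SigmaBasics.mem_of_dvd_piCore hr.1 hd), zero_add]
    obtain ⟨S₀, hS₀⟩ := Coprime.exists_sylow_map_eq hTM hTc
    by_contra hcon
    push Not at hcon
    refine hr.2.2.2 (SigmaFusion.pRankLE_of_sylow S₀ fun D hDc hDe => ?_)
    by_contra hlt
    have hDe' := Fusion.Thompson.isEA_map (S₀ : Subgroup M).subtype (p := r) ⟨hDc, hDe⟩
    have hDe'' := Fusion.Thompson.isEA_map M.subtype hDe'
    refine absurd ?_ (not_le.mpr (hcon ((D.map (S₀ : Subgroup M).subtype).map M.subtype) ?_ hDe''))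
    · rw [Subgroup.card_map_of_injective M.subtype_injective,
        Subgroup.card_map_of_injective (S₀ : Subgroup M).subtype_injective]
      obtain ⟨j, hj⟩ := (Fusion.Thompson.isPGroup_isEA (⟨hDc, hDe⟩ : Cfsg.IsElementaryAbelian r D)).exists_card_eq
      rw [hj] at hlt ⊢
      exact Nat.pow_le_pow_right hr.1.pos (by
        by_contra hj2
        exact hlt (Nat.pow_le_pow_right hr.1.pos (by omega)))
    · exact ((Subgroup.map_mono (Subgroup.map_subtype_le _)).trans hS₀.le).trans (Subgroup.map_subtype_le _)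
  have hBM : B ≤ M := hBE.trans hE.1
  have hBc : Nat.card B = r ^ 2 := le_antisymm (RankTwo.card_le_sq hr.2.2.1 hBe hBM) hB2
  obtain ⟨B₀, hB⟩ := TauTwoStructure.exists_exc hG hM hr.2.1 hBM hBe hBc
  have hB' := hB.maxPlane hG
  have hEA := TauTwoStructure.normal_in_complement hG h hE hAE
  have hEB := TauTwoStructure.normal_in_complement hG hB hE hBE
  have hBA : B ≤ Subgroup.centralizer (A : Set G) := by
    refine Subgroup.commutator_eq_bot_iff_le_centralizer.mp (le_bot_iff.mp ?_)
    rw [← (Subgroup.disjoint_of_coprime_natCard (G := G) (H := B) (K := A) (by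
      rw [hBc, h.card]; exact ((Nat.coprime_primes hr.1 hp.out).mpr hrp).pow 2 2)).eq_bot]
    exact le_inf (Subgroup.le_normalizer_iff_commutator_le_left.1 (hAE.trans hEB))
      (Subgroup.le_normalizer_iff_commutator_le_right.1 (hBE.trans hEA))
  obtain ⟨u, huS, huA, hin, hfix⟩ := PlaneSylow.exists_u hG hA hAS hna
  have huM := u_not_mem hG h hAS hna huS huA hfix
  have hCE : Subgroup.centralizer (A : Set G) ≤ E := (le_inf h.centralizer_le
    (Subgroup.centralizer_le_normalizer _)).trans (TauTwoStructure.inf_normalizer_eq hG h hE hAE).le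
  have huB : u ∈ Subgroup.normalizer (B : Set G) := NormalizerFusion.mem_normalizer_of_conj fun b hb => by
    have hc : u * b * u⁻¹ ∈ Subgroup.centralizer (A : Set G) :=
      (Subgroup.mem_normalizer_iff.mp (WLine.normalizer_le_normalizer_centralizer A huA) b).mp (hBA hb)
    have hbr : (u * b * u⁻¹) ^ r = 1 := by rw [conj_pow, hBe.2 b hb]; group
    exact hB'.mem_of_commute hbr (TauTwoStructure.pGroup_le_centralizer hG hB
      (IsPGroup.of_card_dvd_pow (n := 1) (by
        rw [Nat.card_zpowers, pow_one]; exact orderOf_dvd_of_pow_eq_one hbr))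
      (Subgroup.zpowers_le.mpr (hE.1 (hCE hc))) (Subgroup.zpowers_le.mpr (hEB (hCE hc))) (Subgroup.mem_zpowers _))
  set Z := PlaneSylow.zLine S with hZ
  obtain ⟨L, hL, hNL⟩ := Uniqueness.exists_coatom_normalizer (p := p) hG.2 (P := Z)
    (fun (e : Z = ⊥) => hp.out.ne_one (by rw [← PlaneSylow.zLine_card hG hA hAS hna, ← hZ, e, Subgroup.card_bot]))
    (hA.isPGroup.to_le (PlaneSylow.zLine_le hA hAS))
  have hNS := (PlaneSylow.normalizer_le_normalizer_zLine S).trans hNL
  have hpL := SigmaTools.mem_sigma_of_sylow h.dvd_card hNS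
  have hBL : B ≤ L := hBA.trans ((Subgroup.centralizer_le_normalizer _).trans
    ((PlaneSylow.normalizer_le_zLine hG hA hAS hna).trans hNL))
  set U := Subgroup.zpowers u with hU
  have hUp : IsPGroup p U := S.isPGroup'.to_le (Subgroup.zpowers_le.mpr huS)
  have hUL : U ≤ L := Subgroup.zpowers_le.mpr (hNS (Subgroup.le_normalizer huS))
  have hUB : U ≤ Subgroup.normalizer (B : Set G) := Subgroup.zpowers_le.mpr huB
  have hUσ := SigmaTools.pGroup_le_sigmaCore hG hL hpL hUL hUp
  have hBU : B ≤ Subgroup.centralizer (U : Set G) := by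
    by_cases hrL : r ∈ Cfsg.sigma L
    · exact SigmaTools.centralizes_in_derived hG hL hrp (fun e => A2Centralize.not_ideal hA e.2)
        (fun e => A2Centralize.not_ideal hB' e.2) hB'.isPGroup hUp
        ((SigmaTools.pGroup_le_sigmaCore hG hL hrL hBL hB'.isPGroup).trans (SigmaCore.le_derived hG hL))
        (hUσ.trans (SigmaCore.le_derived hG hL)) hUB
    · refine Subgroup.commutator_eq_bot_iff_le_centralizer.mp (le_bot_iff.mp ?_)
      have hbot : B ⊓ Cfsg.sigmaCore L = ⊥ := (Subgroup.disjoint_of_coprime_natCard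
        (hBc ▸ ((SigmaTools.coprime_sigmaCore hrL).symm.pow_left 2))).eq_bot
      rw [← hbot]
      refine le_inf (Subgroup.le_normalizer_iff_commutator_le_left.1 hUB) ?_
      rw [Subgroup.commutator_comm]
      exact (Subgroup.commutator_mono hUσ le_rfl).trans (Subgroup.le_normalizer_iff_commutator_le_left.1
        (hBL.trans (SigmaTools.le_normalizer_sigmaCore L)))
  exact huM (hB.centralizer_le (Subgroup.le_centralizer_iff.mp hBU (Subgroup.mem_zpowers u)))

theorem fitting_eq : Cfsg.fittingOf M = Cfsg.sigmaCore M ⊔ A₀ := by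
  have hA := h.maxPlane hG
  have hM := h.coatom
  have hτ := tau2_eq hG h hAS hna hE hAE
  have hI := inf_centralizer_eq hG h hAS hna
  refine le_antisymm (Bender.fittingOf_le_of_parts fun r hr => ?_) (sup_le ?_ ?_)
  · haveI := Fact.mk hr
    set R := Bender.part r M with hR
    have hRM : R ≤ M := Bender.part_le r M
    have hRp : IsPGroup r R := Bender.isPGroup_part r M
    have hMR : M ≤ Subgroup.normalizer (R : Set G) := Bender.le_normalizer_part r M
    by_cases hrs : r ∈ Cfsg.sigma M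
    · exact (SigmaTools.pGroup_le_sigmaCore hG hM hrs hRM hRp).trans le_sup_left
    by_cases hrp : r = p
    · subst hrp
      have hRC : R ≤ Subgroup.centralizer (Cfsg.sigmaCore M : Set G) := by
        refine Subgroup.commutator_eq_bot_iff_le_centralizer.mp (le_bot_iff.mp ?_)
        have hbot : R ⊓ Cfsg.sigmaCore M = ⊥ := by
          obtain ⟨k, hk⟩ := hRp.exists_card_eq
          exact (Subgroup.disjoint_of_coprime_natCard
            (hk ▸ ((SigmaTools.coprime_sigmaCore hrs).symm.pow_left k))).eq_bot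
        rw [← hbot]
        exact le_inf (Subgroup.le_normalizer_iff_commutator_le_left.1 ((SigmaTools.sigmaCore_le M).trans hMR))
          (Subgroup.le_normalizer_iff_commutator_le_right.1 (hRM.trans (SigmaTools.le_normalizer_sigmaCore M)))
      have hP : IsPGroup r ↥(R ⊔ A) := hRp.to_sup_of_normal_left' hA.isPGroup (h.le.trans hMR)
      obtain ⟨T, hT⟩ := hP.exists_le_sylow
      have hAT : A ≤ (T : Subgroup G) := le_sup_right.trans hT
      have hTna : ¬ IsMulCommutative (T : Subgroup G) := fun hc => hna (by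
        obtain ⟨g, hg⟩ := MulAction.exists_smul_eq G T S
        refine ⟨⟨fun a b => Subtype.ext ?_⟩⟩
        have hST : ∀ x ∈ (S : Subgroup G), g⁻¹ * x * g ∈ (T : Subgroup G) := fun x hx =>
          SigmaTools.mem_cj.mp (by rwa [← hg, Sylow.coe_subgroup_smul] at hx)
        have := PlaneSylow.comm_of hc (hST a a.2) (hST b b.2)
        show (a : G) * b = b * a
        calc (a : G) * b = g * ((g⁻¹ * a * g) * (g⁻¹ * b * g)) * g⁻¹ := by group
          _ = g * ((g⁻¹ * b * g) * (g⁻¹ * a * g)) * g⁻¹ := by rw [this.eq]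
          _ = _ := by group)
      have hPC := (h.pGroup hG hP (sup_le hRM h.le) le_sup_right).2
      have hexp : ∀ k : ℕ, ∀ y ∈ R, y ^ r ^ k = 1 → y ^ r = 1 := by
        intro k
        induction k with
        | zero => intro y _ hy; rw [pow_zero, pow_one] at hy; rw [hy, one_pow]
        | succ k ih =>
          intro y hy hyk
          rcases k with - | k
          · simpa using hyk
          have h1 : (y ^ r) ^ r = 1 := ih (y ^ r) (pow_mem hy r) (by rw [← pow_mul, ← pow_succ']; exact hyk)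
          have hyA : y ^ r ∈ A := hA.mem_of_commute h1
            (hPC (Subgroup.mem_sup_left (pow_mem hy r)))
          have hy₀ : y ^ r ∈ A₀ := hI.le ⟨hyA, hRC (pow_mem hy r)⟩
          have hyZ := pow_mem_zLine hG hA hAT hTna (hT (Subgroup.mem_sup_left hy))
            (hPC (Subgroup.mem_sup_left hy)) hyA
          by_contra hy1
          refine h.ne_zLine hG T ?_
          rw [← (FPFTools.line_eq_zpowers h.card₀ hy₀ hy1).1,
            (FPFTools.line_eq_zpowers (PlaneSylow.zLine_card hG hA hAT hTna) hyZ hy1).1]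
      intro y hy
      obtain ⟨k, hk⟩ := hRp ⟨y, hy⟩
      have hyp := hexp k y hy (by simpa using congrArg Subtype.val hk)
      exact Subgroup.mem_sup_right (hI.le ⟨hA.mem_of_commute hyp (hPC (Subgroup.mem_sup_left hy)), hRC hy⟩)
    · by_cases hR1 : R = ⊥
      · exact hR1.le.trans bot_le
      exfalso
      have hr1 : Cfsg.PRankLE r 1 M := by
        by_contra hr1
        have hr2 : Cfsg.PRankLE r 2 M := by
          by_contra hr2
          exact hrs (SigmaBasics.mem_sigma_of_alpha hG hM ⟨hr, hr2⟩)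
        exact hrp (hτ.le ⟨hr, hrs, hr2, hr1⟩)
      haveI : IsCyclic R := SigmaComplement.isCyclic_of_rank_one hG.1 hRM hRp hr1
      obtain ⟨y, hy⟩ := exists_prime_orderOf_dvd_card' (G := R) r
        (hRp.card_eq_or_dvd.resolve_left fun e => hR1 (Subgroup.eq_bot_of_card_eq _ e))
      set Y := Subgroup.zpowers (y : G) with hY
      have hYc : Nat.card Y = r := by rw [hY, Nat.card_zpowers, Subgroup.orderOf_coe, hy]
      have hYR : Y ≤ R := Subgroup.zpowers_le.mpr y.2
      have hMY : M ≤ Subgroup.normalizer (Y : Set G) := fun m hm => Subgroup.mem_normalizer_iff_map_conj_eq.mpr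
        (Solvable.SupersolvableCriteria.eq_of_card_eq_of_le_cyclic (A := R)
          ((Subgroup.map_mono hYR).trans (Subgroup.mem_normalizer_iff_map_conj_eq.mp (hMR hm)).le) hYR
          (Subgroup.card_map_of_injective (MulAut.conj m).injective))
      have hNY : Subgroup.normalizer (Y : Set G) ≤ M := ((hM.le_iff.mp hMY).resolve_left
        (A2Transitive.max_ne_top hG hr (hRp.to_le hYR) fun e => hr.ne_one (by rw [← hYc, e, Subgroup.card_bot]))).le
      exact (TauTwo.of_normalizer_le hG hM hrs hYc hNY).1.2 hr1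
  · exact Bender.le_fittingOf (SigmaTools.sigmaCore_le M) (SigmaTools.le_normalizer_sigmaCore M) (h.sigma_nilpotent hG)
  · refine Bender.le_fittingOf (h.le₀.trans h.le) (fun m hm => ?_) ?_
    · obtain ⟨e, he, s, hs, rfl⟩ := hE.2.2.2 m hm
      refine mul_mem ?_ ?_
      · rw [← hI]
        exact Subgroup.inf_normalizer_le_normalizer_inf ⟨TauTwoStructure.normal_in_complement hG h hE hAE he,
          WLine.normalizer_le_normalizer_centralizer _ (SigmaTools.le_normalizer_sigmaCore M (hE.1 he))⟩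
      · exact Subgroup.centralizer_le_normalizer _ (centralizes₀ hG h hAS hna hs)
    · exact ((IsPGroup.of_card (n := 1) (by rw [h.card₀, pow_one]) : IsPGroup p A₀)).isNilpotent

end CfsgLib.OddOrder.TauTwoNonabelian
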