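import Cfsg.Agent.Lib.OddOrder.StarCentral
import Cfsg.Agent.Lib.OddOrder.FrobeniusCriterion
import Cfsg.Agent.S1419
import Mathlib

set_option autoImplicit false
set_option linter.style.haveILetI false
set_option linter.unusedSectionVars false

/-!
The maximal subgroups over the normalizers of the Sylow subgroups of `U`: no planes, cyclic complements.
-/

namespace CfsgLib.OddOrder.StarFrobenius

open scoped commutatorElement
open SigmaFusion (cj)
open KappaHall (Str rest)
open StarPartner (Dstar)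
open StarPair (Pair)
open StarNormalizer (Nbr mem_centralizer_of_commute tau2_of plane_bot fpf_centralizes)
open RankOneTools (isPGroup_of_card line_of_orderOf)
open SupportCosets (sigma_number)

variable {G : Type*} [Group G] [Finite G] {M K U L H : Subgroup G}

/-- A Frobenius group cannot act without fixed points on a commutator of order at most `p ^ 2`. -/
theorem centralizes_of_small {p : ℕ} [hp : Fact p.Prime] {A T : Subgroup G} (hAe : Cfsg.IsElementaryAbelian p A)
    (hAc : Nat.card A = p ^ 2) (hT : Group.IsSolvable T) (hTA : T ≤ Subgroup.normalizer (A : Set G)) {d : G}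
    (hdA : d ∈ Subgroup.normalizer (A : Set G)) (hdT : d ∈ Subgroup.normalizer (T : Set G))
    (hd3 : 3 ≤ orderOf d) (hdp : (orderOf d).Prime) (hcop : (Nat.card T).Coprime p) (hdne : orderOf d ≠ p)
    (hfpf : T ⊓ Subgroup.centralizer ({d} : Set G) = ⊥) : T ≤ Subgroup.centralizer (A : Set G) := by
  haveI := hAe.1
  set Y := ⁅A, T⁆ with hY
  have hAp : IsPGroup p A := IsPGroup.of_card (n := 2) hAc
  have hYA : Y ≤ A := Subgroup.le_normalizer_iff_commutator_le_left.1 hTA
  have hdN : Subgroup.zpowers d ≤ Subgroup.normalizer (Y : Set G) :=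
    Subgroup.zpowers_le.mpr (FrobeniusFormulaGroup.normalizer_commutator_le d hdA hdT)
  obtain ⟨j, hj⟩ := (hAp.to_le hYA).exists_card_eq
  have hcopY : (Nat.card T).Coprime (Nat.card Y) := hj ▸ hcop.pow_right j
  have hdata : FrobeniusFormulaGroup.FData T (Subgroup.zpowers d) Y :=
    { hKR := Subgroup.zpowers_le.mpr hdT
      hKM := Subgroup.normalizer_commutator_ge_right A T
      hRM := hdN
      hfpf := fun r hr hr1 u hu hc => by
        have hro : Subgroup.zpowers r = Subgroup.zpowers d := by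
          refine Subgroup.eq_of_le_of_card_ge (Subgroup.zpowers_le.mpr hr) ?_
          rw [Nat.card_zpowers, Nat.card_zpowers]
          exact (((Nat.dvd_prime hdp).mp (Nat.card_zpowers d ▸ Subgroup.orderOf_dvd_natCard _ hr)).resolve_left
            (mt orderOf_eq_one_iff.mp hr1)).ge
        obtain ⟨i, hi⟩ := Subgroup.mem_zpowers_iff.mp (hro.ge (Subgroup.mem_zpowers d))
        exact Subgroup.mem_bot.mp (hfpf.le ⟨hu, mem_centralizer_of_commute (hi ▸ (hc.symm : Commute u r).zpow_right i)⟩)
      hsolv := hT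
      hcop := hcopY
      hcopR := by
        rw [Nat.card_zpowers, hj]
        exact ((Nat.coprime_primes hdp hp.out).mpr hdne).pow_right j }
  haveI : Group.IsNilpotent Y := (hAp.to_le hYA).isNilpotent
  have hfix : Y ⊓ Subgroup.centralizer (T : Set G) = ⊥ := by
    refine le_bot_iff.mp (le_trans ?_ (Coprime.centralizer_inf_commutator_eq_bot (A := T) (V := A) hTA
      (hAc.symm ▸ hcop.pow_right 2)).le)
    exact fun x hx => Subgroup.mem_inf.mpr ⟨Subgroup.mem_inf.mpr ⟨hYA hx.1, hx.2⟩, hx.1⟩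
  have hform := (FrobeniusFormulaGroup.main _ G T (Subgroup.zpowers d) Y le_rfl hdata inferInstance hfix).1
  obtain ⟨a, ha⟩ := (hAp.to_le (inf_le_left.trans hYA :
    Y ⊓ Subgroup.centralizer ((Subgroup.zpowers d : Subgroup G) : Set G) ≤ A)).exists_card_eq
  rw [ha, Nat.card_zpowers, ← pow_mul] at hform
  have h2 : Nat.card Y ≤ p ^ 2 := hAc ▸ Subgroup.card_le_of_le hYA
  rw [hform] at h2
  have h2' := (Nat.pow_le_pow_iff_right hp.out.one_lt).mp h2
  have ha0 : a = 0 := by
    by_contra ha0
    have : 1 * 3 ≤ a * orderOf d := Nat.mul_le_mul (Nat.one_le_iff_ne_zero.mpr ha0) hd3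
    omega
  have hY1 : Y = ⊥ := Subgroup.card_eq_one.mp (by rw [hform, ha0, zero_mul, pow_zero])
  exact Subgroup.le_centralizer_iff.mp (Subgroup.commutator_eq_bot_iff_le_centralizer.mp hY1)

/-- No plane for `τ₂(H)` when `C(U) ≤ M`. -/
theorem no_tau2 (hG : Cfsg.IsMinSimpleOddOrder G) (h : Nbr M K U L H)
    (hCU : Subgroup.centralizer (U : Set G) ≤ M) : Cfsg.tau2 H = ∅ := by
  classical
  obtain ⟨f, hf, hfp, hgen, hkL, hkH, hCf⟩ := h.gen hG
  haveI := Fact.mk hfp
  by_contra hne
  obtain ⟨p, hτ, hpsel⟩ : ∃ p, p ∈ Cfsg.tau2 H ∧ (p = orderOf f ∨ orderOf f ∉ Cfsg.tau2 H) := by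
    by_cases hk : orderOf f ∈ Cfsg.tau2 H
    · exact ⟨_, hk, Or.inl rfl⟩
    · obtain ⟨p, hp⟩ := Set.nonempty_iff_ne_empty.mpr hne
      exact ⟨p, hp, Or.inr hk⟩
  haveI := Fact.mk hτ.1
  have hH := h.coatom
  have hL := h.pair.right.coatom
  set E := H ⊓ L with hEdef
  have hE : Cfsg.IsComplIn E (Cfsg.sigmaCore H) H := (h.tail hG).2
  have hKL : K ≤ L := h.pair.eq.ge.trans (inf_le_left.trans (SigmaTools.sigmaCore_le L))
  have hKE : K ≤ E := le_inf h.K_le hKL
  have hKc : Nat.card K = orderOf f := by rw [← hgen, Nat.card_zpowers]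
  obtain ⟨A, hAE, hAe, hAc⟩ := TauTwoAbelian.exists_plane hE hτ
  obtain ⟨⟨hEA, hlines⟩, -⟩ := Cfsg.Agent.S1418.result hG H hH E hE p hτ A ⟨hAE, hAe, hAc⟩
  obtain ⟨A₀, hexc⟩ := TauTwoStructure.exists_exc hG hH hτ.2.1 (hAE.trans hE.1) hAe hAc
  have hmax := hexc.maxPlane hG
  haveI := hAe.1
  have hAf : ∀ z ∈ A, Commute f z := fun z hz => by
    by_cases e : orderOf f = p
    · exact (PlaneSylow.comm_of hAe.1 (hlines K hKE (hKc.trans e) hf) hz)
    · exact h.plane_commute hG hf hfp hτ.1 e hkL hkH hCf hτ (hAE.trans hE.1) hAe hAc (hEA (hKE hf)) hz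
  have hAL : A ≤ L := hAE.trans inf_le_right
  have hAK : A ≤ Subgroup.centralizer (K : Set G) := by
    rw [← hgen, SigmaTools.centralizer_zpowers]
    exact fun z hz => mem_centralizer_of_commute (hAf z hz).symm
  have hrk : ¬ Cfsg.PRankLE p 1 L := UniqueTools.not_pRankLE_of_isEA hAe hAc.ge hAL
  have hpσ : p ∈ Cfsg.sigma L := by
    by_contra hps
    refine hfp.ne_one (orderOf_eq_one_iff.mpr (Subgroup.mem_bot.mp ((plane_bot hG hL (tau2_of hG hL hps hrk)
      hAL hAe hAc).le ⟨(h.pair.eq.ge hf).1, Subgroup.mem_centralizer_iff.mpr fun z hz => (hAf z hz).symm.eq⟩)))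
  obtain ⟨UL, hdL⟩ := StarDerived.exists_decomp' hG h.pair.symm
  have hsL := SigmaDecomp.str hG hL hdL h.pair.right.ne
  have hUL : UL = ⊥ := by
    by_contra hU
    exact StarNormalizer.no_plane hG hL hsL h.pair.right.ne hU hmax hAL hpσ
  -- abelian Sylow subgroups
  have hab : ∀ S : Sylow p G, IsMulCommutative (S : Subgroup G) := by
    intro S
    by_contra hS
    obtain ⟨-, ⟨hXc, -⟩, -⟩ := Cfsg.Agent.S1419.result hG H hH E hE p hτ
      (fun S' => FrobeniusCriterion.nonabelian_all hS) A ⟨hAE, hAe, hAc⟩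
    set X := A ⊓ Subgroup.centralizer (Cfsg.sigmaCore H : Set G) with hX
    obtain ⟨z, hz, hzo⟩ : ∃ z ∈ X, orderOf z = p := by
      obtain ⟨z, hz⟩ := exists_prime_orderOf_dvd_card' (G := X) p (by rw [hXc])
      exact ⟨z, z.2, by rw [Subgroup.orderOf_coe, hz]⟩
    have hzU : z ∈ Subgroup.centralizer (U : Set G) :=
      Subgroup.centralizer_le (SetLike.coe_subset_coe.mpr (h.U_le_core hG)) hz.2
    have hzMH : z ∈ U ⊔ K := (h.meet hG).1.le ⟨hCU hzU, (hAE.trans hE.1) hz.1⟩
    rw [← SetLike.mem_coe, Subgroup.coe_mul_of_right_le_normalizer_left U K (le_sup_right.trans h.str.normal)] at hzMH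
    obtain ⟨u, hu, k, hk, rfl⟩ := Set.mem_mul.mp hzMH
    have hkU : k ∈ Subgroup.centralizer (U : Set G) := by
      have h1 : u⁻¹ ∈ Subgroup.centralizer (U : Set G) :=
        inv_mem (Subgroup.le_centralizer_iff_isMulCommutative.mpr h.str.comm hu)
      simpa using mul_mem h1 hzU
    have hk1 : k = 1 := by
      by_contra hk1
      obtain ⟨v, hv, hv1⟩ := U.bot_or_exists_ne_one.resolve_left h.U_ne
      exact hv1 (Subgroup.mem_bot.mp ((h.str.free k hk hk1).le
        ⟨hv, mem_centralizer_of_commute (Subgroup.mem_centralizer_iff.mp hkU v hv)⟩))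
    rw [hk1, mul_one] at hzo
    exact hτ.2.1 (sigma_number (h.U_le_core hG hu) p hτ.1 (dvd_of_eq hzo.symm))
  -- the Sylow structure of `L_σ`
  have hqp := Cfsg.Agent.S1373.result hG L hL (Dstar M K) UL hdL h.pair.right.ne hUL
  rw [show Cfsg.sigmaCore L ⊓ Subgroup.centralizer (Dstar M K : Set G) = K from h.pair.eq, hKc] at hqp
  obtain ⟨d, hdD, hdp⟩ := KappaHall.exists_prime_elem h.pair.right.ne
  have hdκ : orderOf d ∈ Cfsg.kappa L := h.pair.right.sigma' hdD _ hdp dvd_rfl
  have hd1 : d ≠ 1 := fun e => hdp.ne_one (e ▸ orderOf_one)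
  have hdL' : d ∈ L := h.pair.right.hall.1 hdD
  have hfixd : Cfsg.sigmaCore L ⊓ Subgroup.centralizer ({d} : Set G) = K := (hsL.fix d hdD hd1).trans h.pair.eq
  have hd3 : 3 ≤ orderOf d := by
    obtain ⟨j, hj⟩ := hG.1.of_dvd_nat (orderOf_dvd_natCard d)
    have := hdp.two_le
    omega
  set W := Cfsg.sigmaCore L with hW
  obtain ⟨ℓ, hℓ, hℓd, S, hKS, hSF, -⟩ := StarFitting.exists_sylow_bot hG hL hdL h.pair.right.ne hUL
  rw [show Dstar L (Dstar M K) = K from h.pair.eq] at hℓd hKS
  obtain rfl : ℓ = orderOf f := (Nat.prime_dvd_prime_iff_eq hℓ hfp).mp (hKc ▸ hℓd)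
  set Q := (S : Subgroup W).map W.subtype with hQ
  have hQW : Q ≤ W := Subgroup.map_subtype_le _
  have hQL : Q ≤ L := hQW.trans (SigmaTools.sigmaCore_le L)
  have hQn : L ≤ Subgroup.normalizer (Q : Set G) := StarCentral.le_normalizer_sylow (hp := Fact.mk hfp)
    Basic.fittingHallOf_isNilpotent (SigmaCentralizer.fittingHallOf_le_sigmaCore hG hL)
    Basic.le_normalizer_fittingHallOf S hSF
  have hQp : IsPGroup (orderOf f) Q := S.isPGroup'.map _
  have hk2 : orderOf f ≠ 2 := fun e => Nat.not_even_iff_odd.mpr hG.1 (even_iff_two_dvd.mpr (e ▸ orderOf_dvd_natCard f))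
  have hCA : Subgroup.centralizer (A : Set G) ≤ H := hexc.centralizer_le
  -- Sylow `p`-subgroups of `L_σ` centralise `A`
  have hAW : A ≤ W := SigmaTools.pGroup_le_sigmaCore hG hL hpσ hAL (IsPGroup.of_card (n := 2) hAc)
  obtain ⟨T, hAT⟩ : ∃ T : Sylow p W, A ≤ (T : Subgroup W).map W.subtype := by
    obtain ⟨T, hT⟩ := ((IsPGroup.of_card (n := 2) hAc).of_equiv
      (Subgroup.subgroupOfEquivOfLe hAW).symm).exists_le_sylow
    exact ⟨T, fun x hx => ⟨⟨x, hAW hx⟩, hT (Subgroup.mem_subgroupOf.mpr hx), rfl⟩⟩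
  obtain ⟨S', hS'⟩ := (T.isPGroup'.map W.subtype).exists_le_sylow
  have hTA : (T : Subgroup W).map W.subtype ≤ Subgroup.centralizer (A : Set G) := fun x hx =>
    Subgroup.mem_centralizer_iff.mpr fun a ha => (PlaneSylow.comm_of (hab S') (hS' (hAT ha)) (hS' hx)).eq
  haveI hWn : (Q.subgroupOf L).Normal := Subgroup.normal_subgroupOf_of_le_normalizer hQn
  haveI : (W.subgroupOf L).Normal :=
    Subgroup.normal_subgroupOf_of_le_normalizer (SigmaTools.le_normalizer_sigmaCore L)
  have hdcop : (Nat.card W).Coprime (orderOf d) := SigmaTools.coprime_sigmaCore (hp := Fact.mk hdp) hdκ.2.2.1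
  have hnilq := StarFitting.isNilpotent_map (V := W.subgroupOf L) (N := Q.subgroupOf L) hdp (k := ⟨d, hdL'⟩)
    (Subtype.ext (pow_orderOf_eq_one d))
    (by rw [Nat.card_congr (Subgroup.subgroupOfEquivOfLe (SigmaTools.sigmaCore_le L)).toEquiv]; exact hdcop) (by
      rintro y ⟨hy, hyc⟩
      exact hKS (hfixd.le ⟨hy, mem_centralizer_of_commute
        (congrArg Subtype.val (Subgroup.mem_centralizer_singleton_iff.mp hyc))⟩))
  have hWCA : W ≤ Subgroup.centralizer (A : Set G) := by
    suffices htop : (Subgroup.centralizer (A : Set G)).subgroupOf W = ⊤ from Subgroup.subgroupOf_eq_top.mp htop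
    refine Solvable.Cores.eq_top_of_sylow_le _ fun t ht => ?_
    haveI := Fact.mk ht
    by_cases htp : t = p
    · subst htp
      exact ⟨T, fun x hx => hTA ⟨x, hx, rfl⟩⟩
    by_cases hpf : orderOf f = p
    · -- `p = |K|`: Frobenius action on `A`
      have hAQ : A ≤ Q := by
        intro a ha
        subst hpf
        haveI : (Q.subgroupOf W).Normal :=
          Subgroup.normal_subgroupOf_of_le_normalizer ((SigmaTools.sigmaCore_le L).trans hQn)
        have he : Q.subgroupOf W = (S : Subgroup W) := by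
          rw [hQ, Subgroup.subgroupOf, Subgroup.comap_map_eq_self_of_injective W.subtype_injective]
        obtain ⟨a', ha', e⟩ := hAT ha
        have := S.3 (T.isPGroup'.to_sup_of_normal_right' (K := (S : Subgroup W)) S.isPGroup'
          (by rw [← he, Subgroup.normalizer_eq_top_iff.mpr inferInstance]; exact le_top)) le_sup_right
        exact ⟨a', this.le (Subgroup.mem_sup_left ha'), e⟩
      have hnA : ∀ g ∈ Subgroup.normalizer (Q : Set G), g ∈ Subgroup.normalizer (A : Set G) := fun g hg => by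
        refine NormalizerFusion.mem_normalizer_of_conj fun a ha => hmax.mem_of_commute ?_ ?_
        · rw [conj_pow, hAe.2 a ha, mul_one, mul_inv_cancel]
        · refine Subgroup.mem_centralizer_iff.mpr fun b hb => ?_
          obtain ⟨S'', hS''⟩ := hQp.exists_le_sylow
          subst hpf
          exact (PlaneSylow.comm_of (hab S'') (hS'' (hAQ hb))
            (hS'' ((Subgroup.mem_normalizer_iff.mp hg a).mp (hAQ ha)))).eq
      have hdN : Subgroup.zpowers d ≤ Subgroup.normalizer (W : Set G) :=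
        Subgroup.zpowers_le.mpr (SigmaTools.le_normalizer_sigmaCore L hdL')
      obtain ⟨T', hT'⟩ := Coprime.exists_invariant_sylow hdN (by rw [Nat.card_zpowers]; exact hdcop.symm)
        (.inl (Coprime.isSolvable_zpowers d)) t
      refine ⟨T', fun x hx => ?_⟩
      set T₁ := (T' : Subgroup W).map W.subtype with hT₁
      have hT₁W : T₁ ≤ W := Subgroup.map_subtype_le _
      obtain ⟨i, hi⟩ := (T'.isPGroup'.map W.subtype).exists_card_eq
      refine centralizes_of_small hAe hAc (hG.2.2.2 _ fun e => hL.1 (top_le_iff.mp (e ▸ hT₁W.trans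
        (SigmaTools.sigmaCore_le L)))) (fun g hg => hnA g (hQn (SigmaTools.sigmaCore_le L (hT₁W hg))))
        (hnA d (hQn hdL')) (hT' (Subgroup.mem_zpowers d)) hd3 hdp
        (by rw [hi]; exact ((Nat.coprime_primes ht hτ.1).mpr htp).pow_left i)
        (fun e => hdκ.2.2.1 (e ▸ hpσ)) ?_ ⟨x, hx, rfl⟩
      refine Subgroup.eq_bot_of_card_eq _ (Nat.eq_one_of_dvd_coprimes ?_
        (Subgroup.card_dvd_of_le ((inf_le_inf_right _ hT₁W).trans hfixd.le))
        (Subgroup.card_dvd_of_le (inf_le_left : T₁ ⊓ Subgroup.centralizer ({d} : Set G) ≤ T₁)))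
      rw [hKc, hi, hpf]
      exact ((Nat.coprime_primes hτ.1 ht).mpr (Ne.symm htp)).pow_right i
    · -- `p ≠ |K|`: `A` centralises `Q`
      have hAQ : A ≤ Subgroup.centralizer (Q : Set G) := by
        set N := (UL ⊔ W) ⊓ Subgroup.centralizer (K : Set G) with hN
        haveI : Group.IsNilpotent N := StarCentral.nilpotent_centralizer hG h.pair hdL
        haveI : Group.IsNilpotent (⊤ : Subgroup N) := Subgroup.isNilpotent _
        set O := (Cfsg.pCore p N).map N.subtype with hO
        have hAO : A ≤ O := fun a ha =>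
          ⟨⟨a, Subgroup.mem_sup_right (hAW ha), hAK ha⟩, RankTwoGlobal.mem_pCore_of_mem (N := ⊤) (Subgroup.mem_top _)
            (((Nat.dvd_prime_pow hτ.1).mp (orderOf_dvd_of_pow_eq_one (n := p ^ 1)
              (Subtype.ext (by simpa using hAe.2 a ha)))).imp fun _ h => h.2), rfl⟩
        have hON : O ≤ N := Subgroup.map_subtype_le _
        have hNW : N ≤ W := inf_le_left.trans (by rw [hUL, bot_sup_eq])
        obtain ⟨i, hi⟩ := ((Solvable.Cores.isPGroup_pCore p).map N.subtype : IsPGroup p O).exists_card_eq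
        have hOL : O ≤ L := (hON.trans hNW).trans (SigmaTools.sigmaCore_le L)
        have hdO : d ∈ Subgroup.normalizer (O : Set G) := by
          refine WLine.normalizer_le_normalizer_pCore p N ?_
          refine Subgroup.inf_normalizer_le_normalizer_inf ⟨?_, ?_⟩
          · exact SigmaDecomp.le_normalizer_sup hG hL hdL hdL'
          · exact Subgroup.le_normalizer (hdD.2)
        refine (hAO.trans (PrimeActionTools.centralizes_of_cyclic_fix hk2 hQp hdp (pow_orderOf_eq_one d)
          (fun e => hdκ.2.2.1 (e ▸ hkL)) (hOL.trans hQn) (hQn hdL') hdO ?_ ?_ ?_ ?_))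
        · refine Subgroup.eq_bot_of_card_eq _ (Nat.eq_one_of_dvd_coprimes ?_
            (Subgroup.card_dvd_of_le ((inf_le_inf_right _ (hON.trans hNW)).trans hfixd.le))
            (Subgroup.card_dvd_of_le (inf_le_left : O ⊓ Subgroup.centralizer ({d} : Set G) ≤ O)))
          rw [hKc, hi]
          exact ((Nat.coprime_primes hfp hτ.1).mpr hpf).pow_right i
        · rw [hi]; exact ((Nat.coprime_primes hτ.1 hfp).mpr (Ne.symm hpf)).pow_left i
        · haveI := h.pair.cyclic hG
          exact isCyclic_of_injective _ (Subgroup.inclusion_injective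
            ((inf_le_inf_right _ hQW).trans hfixd.le : Q ⊓ Subgroup.centralizer ({d} : Set G) ≤ K))
        · intro c hc _
          exact Subgroup.le_centralizer_iff.mp ((hON.trans inf_le_right) : O ≤ Subgroup.centralizer (K : Set G))
            (hfixd.le ⟨hQW hc.1, hc.2⟩)
      by_cases htf : t = orderOf f
      · subst htf
        exact ⟨S, fun x hx => Subgroup.le_centralizer_iff.mp hAQ ⟨x, hx, rfl⟩⟩
      obtain ⟨T'⟩ : Nonempty (Sylow t W) := inferInstance
      refine ⟨T', fun x hx => Subgroup.mem_centralizer_iff.mpr fun a ha => ?_⟩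
      obtain ⟨j, hj⟩ := T'.isPGroup' ⟨x, hx⟩
      have hxt : (x : G) ^ t ^ j = 1 := by
        simpa using congrArg (fun z : ↥(T' : Subgroup W) => (((z : W)) : G)) hj
      set π := QuotientGroup.mk' (Q.subgroupOf L)
      set a' : L := ⟨a, hAL ha⟩
      set x' : L := ⟨x, SigmaTools.sigmaCore_le L x.2⟩
      haveI := hnilq
      have hc : Commute (π a') (π x') := Basic.commute_of_mem_nilpotent (K := (W.subgroupOf L).map π)
        ⟨a', hAW ha, rfl⟩ ⟨x', x.2, rfl⟩ ((((Nat.coprime_primes hτ.1 ht).mpr (Ne.symm htp)).pow_right j).coprime_dvd_left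
          ((orderOf_map_dvd π a').trans (orderOf_dvd_of_pow_eq_one (Subtype.ext (hAe.2 a ha))))
          |>.coprime_dvd_right ((orderOf_map_dvd π x').trans (orderOf_dvd_of_pow_eq_one (Subtype.ext hxt))))
      have hcQ : (x : G)⁻¹ * (a * x * a⁻¹) ∈ Q := by
        have h1 : π (x'⁻¹ * (a' * x' * a'⁻¹)) = 1 := by
          rw [map_mul, map_inv, map_mul, map_mul, map_inv, hc.eq, mul_inv_cancel_right, inv_mul_cancel]
        exact (QuotientGroup.eq_one_iff (N := Q.subgroupOf L) _).mp h1
      obtain ⟨i, hi⟩ := hQp.exists_card_eq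
      have hc1 := Stabilize.eq_one_of_conj_eq_mul (a := a) (h := (x : G)) (c := (x : G)⁻¹ * (a * x * a⁻¹))
        (by group) (Subgroup.mem_centralizer_iff.mp (hAQ ha) _ hcQ).symm
        (((((Nat.coprime_primes hτ.1 hfp).mpr (Ne.symm hpf)).pow_right i).coprime_dvd_left
          (orderOf_dvd_of_pow_eq_one (hAe.2 a ha))).coprime_dvd_right (hi ▸ Subgroup.orderOf_dvd_natCard Q hcQ))
      rw [inv_mul_eq_one] at hc1
      exact mul_inv_eq_iff_eq_mul.mp hc1.symm
  -- hence `L_σ` is abelian
  have hWE : W ≤ E := le_inf (hWCA.trans hCA) (SigmaTools.sigmaCore_le L)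
  have hWK : W ≤ Subgroup.centralizer (K : Set G) := by
    rcases hpsel with e | e
    · rw [← hgen, SigmaTools.centralizer_zpowers]
      intro x hx
      exact mem_centralizer_of_commute
        (Subgroup.mem_centralizer_iff.mp (hWCA hx) f (hlines K hKE (hKc.trans e.symm) hf)).symm
    · have hr : Cfsg.PRankLE (Nat.card K) 1 H := by
        by_contra hr
        exact e (tau2_of hG hH hkH (hKc ▸ hr))
      exact (hWE.trans (h.normalizer_of_rank_one hG hE hKE hr)).trans
        (StarCentral.normalizer_le_centralizer hG h.pair)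
  have hWnil : Group.IsNilpotent W := by
    have e : (UL ⊔ W) ⊓ Subgroup.centralizer (K : Set G) = W := by
      rw [hUL, bot_sup_eq, inf_eq_left.mpr hWK]
    have := StarCentral.nilpotent_centralizer hG h.pair hdL
    rwa [e] at this
  have hWab : IsMulCommutative W := SigmaDecomp.abelian_of_nilpotent hG hH (hWE.trans hE.1) hWnil
    fun t ht hd hs => by
      haveI := Fact.mk ht
      exact SigmaComplement.not_dvd_card hG hH hE hs (hd.trans (Subgroup.card_dvd_of_le hWE))
  have hder : ⁅L, L⁆ = W := by rw [StarDerived.derived_eq hG hL hdL h.pair.right.ne, hUL, bot_sup_eq]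
  refine h.pair.left.ne (le_bot_iff.mp ?_)
  rw [← h.pair.eq]
  refine (StarDerived2.Dstar_le_second hG hL hdL h.pair.right.ne).trans ?_
  rw [hder, Subgroup.commutator_self_eq_bot_iff.mpr hWab]

/-- With `τ₂(H) = ∅` the complement `H ∩ M*` is cyclic and fixed point free. -/
theorem frobenius (hG : Cfsg.IsMinSimpleOddOrder G) (h : Nbr M K U L H) (hτ : Cfsg.tau2 H = ∅) :
    IsCyclic ↥(H ⊓ L) ∧ ∀ e ∈ H ⊓ L, e ≠ 1 → Cfsg.sigmaCore H ⊓ Subgroup.centralizer ({e} : Set G) = ⊥ := by
  obtain ⟨f, hf, hfp, hgen, hkL, hkH, hCf⟩ := h.gen hG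
  haveI := Fact.mk hfp
  have hH := h.coatom
  have hL := h.pair.right.coatom
  set E := H ⊓ L with hEdef
  have hE : Cfsg.IsComplIn E (Cfsg.sigmaCore H) H := (h.tail hG).2
  have hEσ : ∀ t : ℕ, t.Prime → t ∣ Nat.card E → t ∉ Cfsg.sigma H := fun t ht hd hs => by
    haveI := Fact.mk ht
    exact SigmaComplement.not_dvd_card hG hH hE hs hd
  have hrank : ∀ t : ℕ, t.Prime → t ∣ Nat.card E → Cfsg.PRankLE t 1 H := fun t ht hd => by
    haveI := Fact.mk ht
    by_contra hr
    have := tau2_of hG hH (hEσ t ht hd) hr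
    rw [hτ] at this
    exact this
  have hfree : ∀ e ∈ E, e ≠ 1 → Cfsg.sigmaCore H ⊓ Subgroup.centralizer ({e} : Set G) = ⊥ := fun e he he1 => by
    by_contra hne
    obtain ⟨t, ht, htd⟩ := Nat.exists_prime_and_dvd (mt orderOf_eq_one_iff.mp he1)
    haveI := Fact.mk ht
    have hdE : t ∣ Nat.card E := htd.trans (Subgroup.orderOf_dvd_natCard E he)
    have := KappaHall.mem_kappa hG (hEσ t ht hdE) (hrank t ht hdE) (f := e ^ (orderOf e / t)) (pow_mem (hE.1 he) _)
      (orderOf_pow_orderOf_div (orderOf_pos e).ne' htd)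
      (fun e' => hne (FrobeniusCriterion.pow_fix (Subgroup.npow_mem_zpowers e _) e'))
    rw [h.kappa_empty hG] at this
    exact this
  refine ⟨?_, hfree⟩
  have hKL : K ≤ L := h.pair.eq.ge.trans (inf_le_left.trans (SigmaTools.sigmaCore_le L))
  have hKE : K ≤ E := le_inf h.K_le hKL
  have hKc : Nat.card K = orderOf f := by rw [← hgen, Nat.card_zpowers]
  have hEK : E ≤ Subgroup.centralizer (K : Set G) :=
    (h.normalizer_of_rank_one hG hE hKE (hKc ▸ hrank _ hfp (Subgroup.orderOf_dvd_natCard E (hKE hf)))).trans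
      (StarCentral.normalizer_le_centralizer hG h.pair)
  obtain ⟨UL, hd⟩ := StarDerived.exists_decomp' hG h.pair.symm
  have hsL := SigmaDecomp.str hG hL hd h.pair.right.ne
  set W := UL ⊔ Cfsg.sigmaCore L with hW
  haveI : Group.IsNilpotent ↥(W ⊓ Subgroup.centralizer (K : Set G)) := StarCentral.nilpotent_centralizer hG h.pair hd
  have hnil : Group.IsNilpotent E := by
    by_cases hEW : E ≤ W
    · exact Subgroup.isNilpotent_of_ker_le_center (Subgroup.inclusion (le_inf hEW hEK))
        (by rw [(MonoidHom.ker_eq_bot_iff _).mpr (Subgroup.inclusion_injective _)]; exact bot_le)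
    obtain ⟨w, hwE, hwW⟩ := SetLike.not_le_iff_exists.mp hEW
    obtain ⟨t, ht, htd, htκ⟩ : ∃ t : ℕ, t.Prime ∧ t ∣ orderOf w ∧ t ∈ Cfsg.kappa L := by
      by_contra hcon
      exact hwW (SigmaDecomp.mem_sup hG hL hd (inf_le_right (a := H) hwE) fun t ht htd hk => hcon ⟨t, ht, htd, hk⟩)
    haveI := Fact.mk ht
    set e₀ := w ^ (orderOf w / t) with he₀
    have he₀o : orderOf e₀ = t := orderOf_pow_orderOf_div (orderOf_pos w).ne' htd
    have he₀E : e₀ ∈ E := pow_mem hwE _
    have he₀1 : e₀ ≠ 1 := fun e => ht.ne_one (by rw [← he₀o, e, orderOf_one])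
    obtain ⟨m, hm, hmD⟩ := StarFacts.conj_K h.pair.right hG (inf_le_right (a := H) he₀E) fun s hs hd' => by
      rw [he₀o] at hd'
      exact (Nat.prime_dvd_prime_iff_eq hs ht).mp hd' ▸ htκ
    have hKW : K ≤ W := (h.pair.eq.ge.trans inf_le_left).trans le_sup_right
    have hfixW : W ⊓ Subgroup.centralizer ({e₀} : Set G) ≤ K := by
      have hle : (W ⊓ Subgroup.centralizer ({e₀} : Set G)).map (MulAut.conj m).toMonoidHom ≤ K := by
        rintro _ ⟨y, hy, rfl⟩
        refine h.pair.eq.le (StarCentral.derived_fix hG hL hsL hmD (fun e => he₀1 (conj_eq_one_iff.mp e)) ⟨?_, ?_⟩)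
        · exact (Subgroup.mem_normalizer_iff.mp (SigmaDecomp.le_normalizer_sup hG hL hd hm) y).mp hy.1
        · exact mem_centralizer_of_commute ((show Commute y e₀ from
            Subgroup.mem_centralizer_singleton_iff.mp hy.2).map (MulAut.conj m).toMonoidHom)
      have hKle : K ≤ W ⊓ Subgroup.centralizer ({e₀} : Set G) := le_inf hKW fun k hk =>
        mem_centralizer_of_commute (Subgroup.mem_centralizer_iff.mp (hEK he₀E) k hk)
      refine (Subgroup.eq_of_le_of_card_ge hKle ?_).ge
      rw [← Subgroup.card_map_of_injective (K := W ⊓ Subgroup.centralizer ({e₀} : Set G))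
        (f := (MulAut.conj m).toMonoidHom) (MulAut.conj m).injective]
      exact Subgroup.card_le_of_le hle
    set F := E ⊓ W with hF
    haveI : Group.IsNilpotent F := Subgroup.isNilpotent_of_ker_le_center
      (Subgroup.inclusion (le_inf (inf_le_right : F ≤ W) ((inf_le_left : F ≤ E).trans hEK)))
      (by rw [(MonoidHom.ker_eq_bot_iff _).mpr (Subgroup.inclusion_injective _)]; exact bot_le)
    haveI : IsZGroup F := by
      refine ⟨fun s hs P => ?_⟩
      haveI := Fact.mk hs
      rcases P.isPGroup'.card_eq_or_dvd with h1 | h1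
      · rw [Subgroup.eq_bot_of_card_eq _ h1]
        infer_instance
      · haveI := SigmaComplement.isCyclic_of_rank_one hG.1
          (((Subgroup.map_subtype_le (P : Subgroup F)).trans (inf_le_left : F ≤ E)).trans hE.1)
          (P.isPGroup'.map F.subtype) (hrank s hs (h1.trans ((Subgroup.card_subgroup_dvd_card _).trans
            (Subgroup.card_dvd_of_le inf_le_left))))
        exact (Subgroup.equivMapOfInjective (P : Subgroup F) F.subtype F.subtype_injective).isCyclic.mpr ‹_›
    haveI : IsCyclic F := inferInstance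
    have hEF : E ≤ Subgroup.normalizer (F : Set G) :=
      (le_inf Subgroup.le_normalizer ((inf_le_right (a := H)).trans (SigmaDecomp.le_normalizer_sup hG hL hd))).trans
        Subgroup.inf_normalizer_le_normalizer_inf
    have hFk : ∀ s : ℕ, s.Prime → s ∣ Nat.card F → s = orderOf f := by
      intro s hs hsd
      by_contra hne
      haveI := Fact.mk hs
      obtain ⟨z, hz⟩ := exists_prime_orderOf_dvd_card' (G := F) s hsd
      have hzo : orderOf (z : G) = s := by rw [Subgroup.orderOf_coe, hz]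
      have hzE : (z : G) ∈ E := z.2.1
      have hz1 : (z : G) ≠ 1 := fun e => hs.ne_one (by rw [← hzo, e, orderOf_one])
      have hbot : Subgroup.zpowers (z : G) ⊓ Subgroup.centralizer ({e₀} : Set G) = ⊥ := by
        refine Subgroup.eq_bot_of_card_eq _ (Nat.eq_one_of_dvd_coprimes ((Nat.coprime_primes hfp hs).mpr (Ne.symm hne))
          (hKc ▸ Subgroup.card_dvd_of_le ((inf_le_inf_right _ (Subgroup.zpowers_le.mpr z.2.2)).trans hfixW))
          ?_)
        rw [← hzo, ← Nat.card_zpowers]
        exact Subgroup.card_dvd_of_le inf_le_left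
      have hcz := fpf_centralizes hG hH (hEσ s hs (hzo ▸ Subgroup.orderOf_dvd_natCard E hzE))
        (isPGroup_of_card (line_of_orderOf hzo)) (Subgroup.zpowers_le.mpr (hE.1 hzE)) (hE.1 he₀E) (he₀o.symm ▸ ht)
        (hEσ _ (he₀o.symm ▸ ht) (Subgroup.orderOf_dvd_natCard E he₀E)) (hfree e₀ he₀E he₀1)
        (SigmaEmbedding.normalizer_le_of_cyclic (Subgroup.zpowers_le.mpr z.2) (hEF he₀E)) hbot
      refine SigmaCore.sigmaCore_ne_bot hG hH (le_bot_iff.mp fun x hx => (hfree _ hzE hz1).le ⟨hx, ?_⟩)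
      exact mem_centralizer_of_commute (Subgroup.mem_centralizer_iff.mp (hcz (Subgroup.mem_zpowers _)) x hx)
    have hFp : IsPGroup (orderOf f) F := IsPGroup.of_card (n := (Nat.card F).primeFactorsList.length)
      (Nat.eq_prime_pow_of_unique_prime_dvd Nat.card_pos.ne' fun {d} hd hd' => hFk d hd hd')
    obtain ⟨i, hi⟩ := hFp.exists_card_eq
    have htne : t ≠ orderOf f := fun e => htκ.2.2.1 (e ▸ hkL)
    have hFK : F ≤ K := (le_inf inf_le_right (StarFitting.centralizes_cyclic hFp (hEF he₀E)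
      (by rw [he₀o, hi]; exact ((Nat.coprime_primes ht hfp).mpr htne).pow_right i) ⟨hKE hf, hKW hf⟩
      (fun e => hfp.ne_one (e ▸ orderOf_one)) (Subgroup.mem_centralizer_iff.mp (hEK he₀E) f hf).symm)).trans hfixW
    have hdE : ⁅E, E⁆ ≤ K := by
      refine le_trans (le_inf (SigmaComplement.derived_le_self E) ?_) hFK
      rw [hW, ← StarDerived.derived_eq hG hL hd h.pair.right.ne]
      exact Subgroup.commutator_mono inf_le_right inf_le_right
    refine Subgroup.isNilpotent_of_ker_le_center (Abelianization.of (G := E)) ?_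
    rw [Abelianization.ker_of]
    intro c hc
    have hcK : (c : G) ∈ K := hdE ((Subgroup.map_subtype_commutator E).le ⟨c, hc, rfl⟩)
    exact Subgroup.mem_center_iff.mpr fun g => Subtype.ext (Subgroup.mem_centralizer_iff.mp (hEK g.2) _ hcK).symm
  haveI := hnil
  haveI : IsZGroup E := by
    refine ⟨fun s hs P => ?_⟩
    haveI := Fact.mk hs
    rcases P.isPGroup'.card_eq_or_dvd with h1 | h1
    · rw [Subgroup.eq_bot_of_card_eq _ h1]
      infer_instance
    · haveI := SigmaComplement.isCyclic_of_rank_one hG.1 ((Subgroup.map_subtype_le (P : Subgroup E)).trans hE.1)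
        (P.isPGroup'.map E.subtype) (hrank s hs (h1.trans (Subgroup.card_subgroup_dvd_card _)))
      exact (Subgroup.equivMapOfInjective (P : Subgroup E) E.subtype E.subtype_injective).isCyclic.mpr ‹_›
  infer_instance

end CfsgLib.OddOrder.StarFrobenius
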