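import Cfsg.Agent.Lib.OddOrder.CoreStructure
import Cfsg.Agent.Lib.OddOrder.SigmaA
import Cfsg.Agent.Lib.OddOrder.Bender
import Cfsg.Agent.S1351
import Mathlib

set_option autoImplicit false
set_option linter.style.haveILetI false
set_option linter.unusedSectionVars false

/-!
`F(M)`, `M_F` and the centralisers of Hall subgroups of `M_σ` (BG 15.1, 15.2).
-/

namespace CfsgLib.OddOrder.FittingStructure

open scoped commutatorElement
open SigmaFusion (cj)
open StarPartner (Dstar)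

variable {G : Type*} [Group G] [Finite G] {M H X : Subgroup G}

theorem exists_decomp (hG : Cfsg.IsMinSimpleOddOrder G) (hM : IsCoatom M) :
    ∃ K U, Cfsg.IsSigmaDecomposition M K U := by
  obtain ⟨⟨K, hK⟩, hc⟩ := Cfsg.Agent.S1351.result hG M hM
  exact ⟨K, SigmaDecomp.exists_decomp hG hM (hc K hK) hK⟩

theorem nilpotent_of_comm {Z : Type*} [Group Z] (h : IsMulCommutative Z) : Group.IsNilpotent Z := by
  letI : CommGroup Z := { (inferInstance : Group Z) with mul_comm := fun a b => h.is_comm.comm a b }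
  exact CommGroup.isNilpotent

/-- In a nilpotent group the `π`-core is a Hall subgroup. -/
theorem piCore_hall {Z : Type*} [Group Z] [Finite Z] [Group.IsNilpotent Z] (π : Set ℕ) {t : ℕ} (ht : t.Prime)
    (htπ : t ∈ π) : ¬ t ∣ (Cfsg.piCore π Z).index := by
  haveI := Fact.mk ht
  obtain ⟨T⟩ : Nonempty (Sylow t Z) := inferInstance
  haveI : (T : Subgroup Z).Normal := inferInstance
  refine fun hd => T.not_dvd_index (hd.trans (Subgroup.index_dvd_of_le
    (SigmaBasics.le_piCore (π := π) (N := (T : Subgroup Z)) fun s hs hsd => ?_)))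
  exact PrimeAction.pGroup_dvd T.isPGroup' hs hsd ▸ htπ

theorem mem_piCoreOf_iff {F : Subgroup G} [Group.IsNilpotent F] {π : Set ℕ} {y : G} :
    y ∈ Cfsg.piCoreOf π F ↔ y ∈ F ∧ ∀ t : ℕ, t.Prime → t ∣ orderOf y → t ∈ π := by
  constructor
  · rintro ⟨z, hz, rfl⟩
    refine ⟨z.2, fun t ht hd => SigmaBasics.mem_of_dvd_piCore (π := π) (H := F) ht ?_⟩
    rw [Subgroup.coe_subtype, Subgroup.orderOf_coe] at hd
    exact hd.trans (Subgroup.orderOf_dvd_natCard _ hz)
  · rintro ⟨hyF, hy⟩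
    refine ⟨⟨y, hyF⟩, SigmaCore.le_of_coprime_index (N := Cfsg.piCore π F) (K := Subgroup.zpowers (⟨y, hyF⟩ : F))
      (Coprime.coprime_of_pi (π := π) ?_ fun t ht htπ => piCore_hall π ht htπ) (Subgroup.mem_zpowers _), rfl⟩
    intro t ht hd
    rw [Nat.card_zpowers, Subgroup.orderOf_mk] at hd
    exact hy t ht hd

theorem le_normalizer_piCoreOf_of {F L : Subgroup G} [Group.IsNilpotent F] {π : Set ℕ}
    (hL : L ≤ Subgroup.normalizer (F : Set G)) :
    L ≤ Subgroup.normalizer ((Cfsg.piCoreOf π F : Subgroup G) : Set G) := fun g hg => by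
  refine NormalizerFusion.mem_normalizer_of_conj fun y hy => ?_
  rw [mem_piCoreOf_iff] at hy ⊢
  refine ⟨(Subgroup.mem_normalizer_iff.mp (hL hg) y).mp hy.1, ?_⟩
  rw [← MulAut.conj_apply, MulEquiv.orderOf_eq]
  exact hy.2

/-- A normal nilpotent subgroup of `M` lies in `F(M)`. -/
theorem le_fitting {N : Subgroup G} (hNM : N ≤ M) (hn : M ≤ Subgroup.normalizer (N : Set G))
    (hnil : Group.IsNilpotent N) : N ≤ Cfsg.fittingOf M :=
  StarNormalizer.le_fittingOf hNM hn hnil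

/-- The image of a Hall subgroup in a nilpotent quotient: `H W` is normal in `L`. -/
theorem sup_normal {L W : Subgroup G} (hW : W ≤ L) (hWn : L ≤ Subgroup.normalizer (W : Set G)) (hH : H ≤ L)
    {π : Set ℕ} (hHall : Cfsg.IsPiHallOf π H L) [hn : (W.subgroupOf L).Normal]
    (hnil : Group.IsNilpotent (L ⧸ W.subgroupOf L)) : L ≤ Subgroup.normalizer ((H ⊔ W : Subgroup G) : Set G) := by
  set φ := QuotientGroup.mk' (W.subgroupOf L) with hφ
  set Hb := (H.subgroupOf L).map φ with hHb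
  haveI := hnil
  have hle : Hb ≤ Cfsg.piCore π (L ⧸ W.subgroupOf L) := by
    refine SigmaCore.le_of_coprime_index (Coprime.coprime_of_pi (π := π) (fun t ht hd => hHall.2.1 t ht ?_)
      fun t ht htπ => piCore_hall π ht htπ)
    exact hd.trans ((Subgroup.card_map_dvd _ φ).trans (Nat.card_congr (Subgroup.subgroupOfEquivOfLe hH).toEquiv).dvd)
  have heq : Hb = Cfsg.piCore π (L ⧸ W.subgroupOf L) := by
    refine Subgroup.eq_of_le_of_card_ge hle (Nat.le_of_dvd Nat.card_pos ?_)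
    refine (Coprime.coprime_of_pi (π := π) (fun t ht hd => SigmaBasics.mem_of_dvd_piCore ht hd) fun t ht htπ hd => ?_).dvd_of_dvd_mul_right
      ((Cfsg.piCore π (L ⧸ W.subgroupOf L)).card_subgroup_dvd_card.trans (Subgroup.card_mul_index Hb).symm.dvd)
    exact hHall.2.2 t ht htπ (hd.trans (Subgroup.index_map_dvd _ (QuotientGroup.mk'_surjective _)))
  haveI : Hb.Normal := heq ▸ inferInstance
  have hnrm : (((H ⊔ W) : Subgroup G).subgroupOf L).Normal := by
    have : ((H ⊔ W) : Subgroup G).subgroupOf L = Hb.comap φ := by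
      rw [hHb, Subgroup.comap_map_eq, hφ, QuotientGroup.ker_mk', Subgroup.subgroupOf_sup hH hW]
    rw [this]
    infer_instance
  exact (Subgroup.normal_subgroupOf_iff_le_normalizer (sup_le hH hW)).mp hnrm

theorem nilpotent_quotient (hG : Cfsg.IsMinSimpleOddOrder G) (hM : IsCoatom M) :
    Group.IsNilpotent ↥((commutator ↥M).map (QuotientGroup.mk' (Cfsg.fittingHall ↥M))) ∧
      Cfsg.fittingHallOf M ≠ ⊥ := by
  obtain ⟨K, U, hd⟩ := exists_decomp hG hM
  haveI : Group.IsSolvable M := hG.2.2.2 M hM.1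
  set φ := QuotientGroup.mk' (Cfsg.fittingHall ↥M) with hφ
  have hker : ∀ m : M, φ m = 1 ↔ (m : G) ∈ Cfsg.fittingHallOf M := fun m =>
    (QuotientGroup.eq_one_iff m).trans ⟨fun h => ⟨m, h, rfl⟩, fun ⟨m', h, e⟩ => (Subtype.ext e : m' = m) ▸ h⟩
  by_cases hn : Group.IsNilpotent (Cfsg.sigmaCore M)
  · have heq := SigmaCentralizer.sigmaCore_eq_fittingHallOf hG hM hn
    refine ⟨?_, fun e => SigmaCore.sigmaCore_ne_bot hG hM (heq.trans e)⟩
    obtain ⟨E, hEh⟩ := Coprime.exists_hall {t | t ∉ Cfsg.sigma M} (hG.2.2.2 M hM.1)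
    have hE := SylowCentral.isComplIn_of_hall hG hM hEh
    have htop : (E.subgroupOf M).map φ = ⊤ := by
      refine top_le_iff.mp fun z _ => ?_
      obtain ⟨m, rfl⟩ := QuotientGroup.mk'_surjective _ z
      obtain ⟨a, ha, b, hb, e⟩ := hE.2.2.2 m m.2
      refine ⟨⟨a, hE.1 ha⟩, ha, ?_⟩
      have : m = ⟨a, hE.1 ha⟩ * ⟨b, SigmaTools.sigmaCore_le M hb⟩ := Subtype.ext e
      rw [this, map_mul, (hker ⟨b, _⟩).mpr (heq.le hb), mul_one]
    have hab := (Cfsg.Agent.S1420.result hG M hM E hE).2.1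
    have he : (commutator ↥M).map φ = (⁅E.subgroupOf M, E.subgroupOf M⁆).map φ := by
      rw [_root_.commutator_def, Subgroup.map_commutator, Subgroup.map_commutator, htop,
        Subgroup.map_top_of_surjective φ (QuotientGroup.mk'_surjective _)]
    have hmem : ∀ x ∈ ⁅E.subgroupOf M, E.subgroupOf M⁆, (x : G) ∈ ⁅E, E⁆ := by
      intro x hx
      have := Subgroup.mem_map_of_mem M.subtype hx
      rwa [Subgroup.map_commutator, Subgroup.map_subgroupOf_eq_of_le hE.1] at this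
    have hc : IsMulCommutative ↥((commutator ↥M).map φ) := by
      rw [he]
      refine ⟨⟨?_⟩⟩
      rintro ⟨_, a, ha, rfl⟩ ⟨_, b, hb, rfl⟩
      refine Subtype.ext ?_
      show φ a * φ b = φ b * φ a
      rw [← map_mul, ← map_mul, show a * b = b * a from Subtype.ext (PlaneSylow.comm_of hab (hmem a ha) (hmem b hb)).eq]
    exact nilpotent_of_comm hc
  · obtain ⟨q, Q, hs⟩ := CoreStructure.exists_split hG hM hd hn
    refine ⟨?_, fun e => ?_⟩
    · obtain ⟨D, hD, -⟩ := hs.exists_compl hG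
      haveI := hs.compl_nilpotent D hD.2.1 hD.2.2.1
      have hDM := hD.2.1.trans (SigmaTools.sigmaCore_le M)
      haveI : Group.IsNilpotent (D.subgroupOf M) := Group.nilpotent_of_mulEquiv (Subgroup.subgroupOfEquivOfLe hDM).symm
      haveI : Group.IsNilpotent ↥((D.subgroupOf M).map φ) :=
        Group.nilpotent_of_surjective (φ.subgroupMap (D.subgroupOf M)) (φ.subgroupMap_surjective _)
      refine ((Group.nilpotent_of_mulEquiv (MulEquiv.subgroupCongr (?_ : (D.subgroupOf M).map φ = (commutator ↥M).map φ))) : _)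
      have hmap : (commutator ↥M).map M.subtype = Cfsg.sigmaCore M := (Subgroup.map_subtype_commutator M).trans hs.derived
      refine le_antisymm (Subgroup.map_mono fun x hx => ?_) ?_
      · obtain ⟨y, hy, e⟩ := hmap.ge (hD.2.1 hx)
        exact (Subtype.ext e : y = x) ▸ hy
      · rintro _ ⟨x, hx, rfl⟩
        obtain ⟨a, ha, b, hb, e⟩ := hD.2.2.2 x (hmap.le ⟨x, hx, rfl⟩)
        refine ⟨⟨b, hDM hb⟩, hb, ?_⟩
        have : x = ⟨a, SigmaTools.sigmaCore_le M (hs.le ha)⟩ * ⟨b, hDM hb⟩ := Subtype.ext e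
        rw [this, map_mul, (hker ⟨a, _⟩).mpr (hs.le_fittingHall ha), one_mul]
    · have h2 : Nat.card ↥(Dstar M K) ∣ Nat.card ↥(Cfsg.fittingHallOf M) :=
        Subgroup.card_dvd_of_le (hs.star.trans hs.le_fittingHall)
      rw [e, Subgroup.card_bot, hs.star_card] at h2
      exact hs.prime.ne_one (Nat.dvd_one.mp h2)

theorem core_quotient_nilpotent (hG : Cfsg.IsMinSimpleOddOrder G) (hM : IsCoatom M)
    [((Cfsg.fittingHallOf M).subgroupOf (Cfsg.sigmaCore M)).Normal] :
    Group.IsNilpotent (Cfsg.sigmaCore M ⧸ (Cfsg.fittingHallOf M).subgroupOf (Cfsg.sigmaCore M)) := by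
  haveI := (nilpotent_quotient hG hM).1
  set φ := QuotientGroup.mk' (Cfsg.fittingHall ↥M) with hφ
  let g : Cfsg.sigmaCore M →* ↥((commutator ↥M).map φ) :=
    (φ.comp (Subgroup.inclusion (SigmaTools.sigmaCore_le M))).codRestrict _ fun w => by
      obtain ⟨y, hy, e⟩ := (Subgroup.map_subtype_commutator M).ge (SigmaCore.le_derived hG hM w.2)
      exact ⟨y, hy, congrArg φ (Subtype.ext e)⟩
  have hk : g.ker = (Cfsg.fittingHallOf M).subgroupOf (Cfsg.sigmaCore M) := by
    ext w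
    rw [MonoidHom.mem_ker, Subgroup.mem_subgroupOf, ← Subtype.coe_inj]
    show φ (Subgroup.inclusion _ w) = 1 ↔ _
    rw [hφ, QuotientGroup.mk'_apply, QuotientGroup.eq_one_iff]
    exact ⟨fun h => ⟨_, h, rfl⟩, fun ⟨m, h, e⟩ => (Subtype.ext e : m = Subgroup.inclusion _ w) ▸ h⟩
  haveI := Subgroup.isNilpotent g.range
  exact Group.nilpotent_of_mulEquiv
    (((QuotientGroup.quotientKerEquivRange g).symm).trans (QuotientGroup.quotientMulEquivOfEq hk))

/-- `M'' ≤ M_σ`. -/
theorem second_le (hG : Cfsg.IsMinSimpleOddOrder G) (hM : IsCoatom M) :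
    ⁅⁅M, M⁆, ⁅M, M⁆⁆ ≤ Cfsg.sigmaCore M := by
  obtain ⟨K, U, hd⟩ := exists_decomp hG hM
  by_cases hn : Group.IsNilpotent (Cfsg.sigmaCore M)
  · have heq := SigmaCentralizer.sigmaCore_eq_fittingHallOf hG hM hn
    obtain ⟨E, hEh⟩ := Coprime.exists_hall {t | t ∉ Cfsg.sigma M} (hG.2.2.2 M hM.1)
    have hE := SylowCentral.isComplIn_of_hall hG hM hEh
    have hab := (Cfsg.Agent.S1420.result hG M hM E hE).2.1
    haveI : ((Cfsg.sigmaCore M).subgroupOf M).Normal :=
      (Subgroup.normal_subgroupOf_iff_le_normalizer (SigmaTools.sigmaCore_le M)).mpr (SigmaTools.le_normalizer_sigmaCore M)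
    set φ := QuotientGroup.mk' ((Cfsg.sigmaCore M).subgroupOf M)
    have htop : (E.subgroupOf M).map φ = ⊤ := by
      refine top_le_iff.mp fun z _ => ?_
      obtain ⟨m, rfl⟩ := QuotientGroup.mk'_surjective _ z
      obtain ⟨a, ha, b, hb, e⟩ := hE.2.2.2 m m.2
      refine ⟨⟨a, hE.1 ha⟩, ha, ?_⟩
      have : m = ⟨a, hE.1 ha⟩ * ⟨b, SigmaTools.sigmaCore_le M hb⟩ := Subtype.ext e
      rw [this, map_mul, show φ ⟨b, SigmaTools.sigmaCore_le M hb⟩ = 1 from
        (QuotientGroup.eq_one_iff (N := (Cfsg.sigmaCore M).subgroupOf M) _).mpr hb, mul_one]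
    have hle : ∀ a ∈ ⁅(⊤ : Subgroup M), (⊤ : Subgroup M)⁆, ∃ e ∈ ⁅E.subgroupOf M, E.subgroupOf M⁆, φ a = φ e := by
      intro a ha
      have h1 : φ a ∈ (⁅E.subgroupOf M, E.subgroupOf M⁆).map φ := by
        rw [Subgroup.map_commutator, htop, ← Subgroup.map_top_of_surjective φ (QuotientGroup.mk'_surjective ((Cfsg.sigmaCore M).subgroupOf M)),
          ← Subgroup.map_commutator]
        exact Subgroup.mem_map_of_mem φ ha
      obtain ⟨e, he, e'⟩ := h1
      exact ⟨e, he, e'.symm⟩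
    rw [← Subgroup.map_subtype_commutator M, ← Subgroup.map_commutator, _root_.commutator_def]
    rintro _ ⟨x, hx, rfl⟩
    have h2 : ⁅⁅(⊤ : Subgroup M), (⊤ : Subgroup M)⁆, ⁅(⊤ : Subgroup M), (⊤ : Subgroup M)⁆⁆ ≤ (Cfsg.sigmaCore M).subgroupOf M := by
      refine Subgroup.commutator_le.mpr fun a ha b hb => ?_
      obtain ⟨a', ha', ea⟩ := hle a ha
      obtain ⟨b', hb', eb⟩ := hle b hb
      rw [← QuotientGroup.eq_one_iff, ← QuotientGroup.mk'_apply, map_commutatorElement, ea, eb, ← map_commutatorElement]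
      have hm : ∀ z ∈ ⁅E.subgroupOf M, E.subgroupOf M⁆, (z : G) ∈ ⁅E, E⁆ := fun z hz => by
        have := Subgroup.mem_map_of_mem M.subtype hz
        rwa [Subgroup.map_commutator, Subgroup.map_subgroupOf_eq_of_le hE.1] at this
      rw [commutatorElement_eq_one_iff_mul_comm.mpr (Subtype.ext (PlaneSylow.comm_of hab (hm a' ha') (hm b' hb')).eq),
        map_one]
    exact h2 hx
  · obtain ⟨q, Q, hs⟩ := CoreStructure.exists_split hG hM hd hn
    rw [hs.derived]
    exact Subgroup.commutator_le_self _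

/-- BG 15.1 (a). -/
theorem centralizer_hall (hG : Cfsg.IsMinSimpleOddOrder G) (hM : IsCoatom M) (hH : H ≤ Cfsg.sigmaCore M)
    (hH1 : H ≠ ⊥) (hHall : (Nat.card H).Coprime (H.relIndex (Cfsg.sigmaCore M))) :
    ∃ X : Subgroup G, X ≤ M ⊓ Subgroup.centralizer (H : Set G) ∧ IsCyclic X ∧
      (∀ p : ℕ, p.Prime → p ∣ Nat.card X → p ∈ Cfsg.tau2 M) ∧
      Cfsg.IsPiHallOf {t | t ∉ Cfsg.sigma M} X (M ⊓ Subgroup.centralizer (H : Set G)) ∧
      M ⊓ Subgroup.centralizer (H : Set G) = (Cfsg.sigmaCore M ⊓ Subgroup.centralizer (H : Set G)) ⊔ X := by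
  classical
  set C := M ⊓ Subgroup.centralizer (H : Set G) with hC
  obtain ⟨X, hX⟩ := Coprime.exists_hall {t | t ∉ Cfsg.sigma M} (G := C)
    (hG.2.2.2 C fun e => hM.1 (top_le_iff.mp (e ▸ inf_le_left)))
  have hXM : X ≤ M := hX.1.trans inf_le_left
  have hHX : ∀ x ∈ X, ∀ y ∈ H, y * x = x * y := fun x hx y hy => Subgroup.mem_centralizer_iff.mp (hX.1 hx).2 y hy
  obtain ⟨y, hy, hyp⟩ := KappaHall.exists_prime_elem hH1
  have hy1 : y ≠ 1 := fun e => hyp.ne_one (e ▸ orderOf_one)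
  have hτ : ∀ t : ℕ, t.Prime → t ∣ Nat.card X → t ∈ Cfsg.tau2 M := by
    intro t ht hd
    haveI := Fact.mk ht
    have hts : t ∉ Cfsg.sigma M := hX.2.1 t ht hd
    obtain ⟨f', hf'⟩ := exists_prime_orderOf_dvd_card' (G := X) t hd
    set f := (f' : G)
    have hfo : orderOf f = t := by rw [Subgroup.orderOf_coe, hf']
    have hf1 : f ≠ 1 := fun e => ht.ne_one (by rw [← hfo, e, orderOf_one])
    rcases SigmaDichotomy.main hG hM (hH hy) hy1 (x' := f)
        ⟨hXM f'.2, Subgroup.mem_centralizer_singleton_iff.mpr (hHX f f'.2 y hy).symm⟩ hf1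
        (fun s hs hsd => (Nat.prime_dvd_prime_iff_eq hs ht).mp (hfo ▸ hsd) ▸ hts) with ⟨hk, -⟩ | ⟨hτ, -, -, -⟩
    · exfalso
      have hkt := hk t ht (hfo ▸ dvd_rfl)
      obtain ⟨K, hK, hfK⟩ := Coprime.exists_hall_ge (Cfsg.kappa M) (hG.2.2.2 M hM.1)
        (Subgroup.zpowers_le.mpr (hXM f'.2)) fun s hs hsd => by
          rw [Nat.card_zpowers, hfo, Nat.prime_dvd_prime_iff_eq hs ht] at hsd
          exact hsd ▸ hkt
      have hfK' : f ∈ K := hfK (Subgroup.mem_zpowers f)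
      have hK1 : K ≠ ⊥ := fun e => hf1 (Subgroup.mem_bot.mp (e ▸ hfK'))
      obtain ⟨U, hd'⟩ := SigmaDecomp.exists_decomp hG hM ((Cfsg.Agent.S1351.result hG M hM).2 K hK) hK
      have hs := SigmaDecomp.str hG hM hd' hK1
      have hHD : H ≤ Dstar M K := (le_inf hH fun h hh => Subgroup.mem_centralizer_singleton_iff.mpr
        (hHX f f'.2 h hh)).trans (hs.fix f hfK' hf1).le
      set p := orderOf y
      haveI := Fact.mk hyp
      have hpH : p ∣ Nat.card H := Subgroup.orderOf_dvd_natCard H hy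
      obtain ⟨T⟩ : Nonempty (Sylow p H) := inferInstance
      obtain ⟨S, hS⟩ := Coprime.exists_sylow_map_eq (K := Cfsg.sigmaCore M)
        ((Subgroup.map_subtype_le (T : Subgroup H)).trans hH) (p := p) (by
          rw [Coprime.card_map_subtype, T.card_eq_multiplicity, ← Coprime.card_mul_relIndex_eq hH,
            Nat.factorization_mul Nat.card_pos.ne' (Nat.pos_of_mul_pos_left
              (Coprime.card_mul_relIndex_eq hH ▸ Nat.card_pos)).ne', Finsupp.add_apply,
            Nat.factorization_eq_zero_of_not_dvd (fun h => hyp.ne_one (Nat.eq_one_of_dvd_coprimes hHall hpH h)), add_zero])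
      exact (KappaStar.sylow hG hM hs hK1 (hpH.trans (Subgroup.card_dvd_of_le hHD)) S).2
        (hS.le.trans ((Subgroup.map_subtype_le _).trans hHD))
    · exact hτ t ht (hfo ▸ dvd_rfl)
  have hab : IsMulCommutative X := by
    obtain ⟨K, U, hd⟩ := exists_decomp hG hM
    have hU := SigmaDecomp.U_hall hG hM hd
    obtain ⟨U', hU', hXU⟩ := Coprime.exists_hall_ge (KappaHall.rest M) (hG.2.2.2 M hM.1) hXM fun t ht hd =>
      haveI := Fact.mk ht
      ⟨ht, fun hk => (hτ t ht hd).2.2.2 (KappaHall.kappa_rank_one hk), (hτ t ht hd).2.1⟩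
    obtain ⟨m, hm, e⟩ := Coprime.hall_conj (hG.2.2.2 M hM.1) hU' hU
    have hcl := SigmaA.closure_abelian hG hM hd
    have hmem : ∀ x ∈ X, m * x * m⁻¹ ∈ Subgroup.closure ((U : Set G) ∩ Cfsg.sigmaHat M) := fun x hx =>
      Subgroup.subset_closure ⟨e.le ⟨x, hXU hx, rfl⟩, M.mul_mem (M.mul_mem hm (hXM hx)) (M.inv_mem hm), m * y * m⁻¹,
        (Subgroup.mem_normalizer_iff.mp (SigmaTools.le_normalizer_sigmaCore M hm) y).mp (hH hy),
        fun e' => hy1 (conj_eq_one_iff.mp e'),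
        ((show Commute x y from (hHX x hx y hy).symm).map (MulAut.conj m).toMonoidHom).eq⟩
    refine ⟨⟨fun a b => Subtype.ext ?_⟩⟩
    have h1 := (PlaneSylow.comm_of hcl (hmem a a.2) (hmem b b.2)).map (MulAut.conj m⁻¹).toMonoidHom
    simpa [mul_assoc] using h1.eq
  have hcyc : IsCyclic X := by
    haveI := hab
    haveI : Group.IsNilpotent X := nilpotent_of_comm hab
    haveI : IsZGroup X := by
      refine ⟨fun t ht T => ?_⟩
      haveI := Fact.mk ht
      set T₁ := (T : Subgroup X).map X.subtype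
      suffices hc : IsCyclic T₁ from
        (Subgroup.equivMapOfInjective (T : Subgroup X) X.subtype X.subtype_injective).isCyclic.mpr hc
      by_contra hc
      have hT1 : T₁ ≠ ⊥ := fun e => hc (by rw [e]; infer_instance)
      have htd : t ∣ Nat.card T₁ := (T.isPGroup'.map X.subtype).card_eq_or_dvd.resolve_left (mt Subgroup.card_eq_one.mp hT1)
      have ht' := hτ t ht (htd.trans (Subgroup.card_dvd_of_le (Subgroup.map_subtype_le _)))
      have ht2 : t ≠ 2 := fun e => Nat.not_even_iff_odd.mpr hG.1 (even_iff_two_dvd.mpr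
        (e ▸ htd.trans T₁.card_subgroup_dvd_card))
      obtain ⟨B, hBT, hBe, hBc⟩ := NonabelianUnique.exists_plane_le ht2 (T.isPGroup'.map X.subtype) hc
      have hBX : B ≤ X := hBT.trans (Subgroup.map_subtype_le _)
      refine hH1 (le_bot_iff.mp (le_trans (le_inf hH ?_) (StarNormalizer.plane_bot hG hM ht' (hBX.trans hXM) hBe hBc).le))
      exact Subgroup.le_centralizer_iff.mp ((hBX.trans hX.1).trans inf_le_right)
    infer_instance
  refine ⟨X, hX.1, hcyc, hτ, hX, ?_⟩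
  refine le_antisymm ?_ (sup_le (inf_le_inf_right _ (SigmaTools.sigmaCore_le M)) hX.1)
  refine Subgroup.relIndex_eq_one.mp (Nat.eq_one_of_dvd_coprimes ?_
    (Subgroup.relIndex_dvd_of_le_left C (le_sup_left : Cfsg.sigmaCore M ⊓ Subgroup.centralizer (H : Set G) ≤ _ ⊔ X))
    (Subgroup.relIndex_dvd_of_le_left C (le_sup_right : X ≤ (Cfsg.sigmaCore M ⊓ Subgroup.centralizer (H : Set G)) ⊔ X)))
  refine Coprime.coprime_of_pi (π := {t | t ∉ Cfsg.sigma M}) (fun t ht hd hts => ?_) fun t ht htπ => hX.2.2 t ht htπ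
  rw [show Cfsg.sigmaCore M ⊓ Subgroup.centralizer (H : Set G) = Cfsg.sigmaCore M ⊓ C by
      rw [hC, ← inf_assoc, inf_eq_left.mpr (SigmaTools.sigmaCore_le M)], Subgroup.inf_relIndex_right] at hd
  haveI : ((Cfsg.sigmaCore M).subgroupOf M).Normal :=
    (Subgroup.normal_subgroupOf_iff_le_normalizer (SigmaTools.sigmaCore_le M)).mpr (SigmaTools.le_normalizer_sigmaCore M)
  have h1 := Subgroup.relIndex_dvd_index_of_normal ((Cfsg.sigmaCore M).subgroupOf M) (C.subgroupOf M)
  rw [Subgroup.relIndex_subgroupOf (show C ≤ M from inf_le_left)] at h1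
  exact (SigmaCore.hall hG hM).1.2.2 t ht hts (hd.trans h1)

/-- BG 15.1 (b). -/
theorem fusion (hG : Cfsg.IsMinSimpleOddOrder G) (hM : IsCoatom M) (hH : H ≤ Cfsg.sigmaCore M)
    (hHall : (Nat.card H).Coprime (H.relIndex (Cfsg.sigmaCore M))) {x g : G} (hx : x ∈ H) (hgx : g * x * g⁻¹ ∈ H) :
    ∃ n ∈ M ⊓ Subgroup.normalizer (H : Set G), n * x * n⁻¹ = g * x * g⁻¹ := by
  by_cases hx1 : x = 1
  · exact ⟨1, one_mem _, by rw [hx1]; simp⟩
  set L := Cfsg.sigmaCore M with hL
  have hLM := SigmaTools.sigmaCore_le M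
  have hLn := SigmaTools.le_normalizer_sigmaCore M
  set z := g * x * g⁻¹ with hz
  -- `M`-conjugacy
  obtain ⟨b, hb, e⟩ := SigmaCentralizer.exists_centralizer_conj hG hM (hH hx) hx1 (g := g⁻¹)
    (SigmaTools.mem_cj.mpr (by rw [inv_inv]; exact hLM (hH hgx)))
  set m := g * b with hm
  have hmM : m ∈ M := by
    have h1 := SupportCount.eq_of_cj_eq hG hM e.symm
    rwa [inv_inv] at h1
  have hmx : m * x * m⁻¹ = z := by
    have hbx : b * x = x * b := Subgroup.mem_centralizer_singleton_iff.mp hb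
    calc m * x * m⁻¹ = g * (b * x) * b⁻¹ * g⁻¹ := by rw [hm]; group
      _ = g * (x * b) * b⁻¹ * g⁻¹ := by rw [hbx]
      _ = z := by rw [hz]; group
  set π : Set ℕ := {t | t ∣ Nat.card H}
  have hHπ : Cfsg.IsPiHallOf π H L := ⟨hH, fun t _ hd => hd, fun t ht htπ hd =>
    ht.ne_one (Nat.eq_one_of_dvd_coprimes hHall htπ hd)⟩
  have hLsol : Group.IsSolvable L := hG.2.2.2 L fun e => hM.1 (top_le_iff.mp (e ▸ hLM))
  -- Frattini
  obtain ⟨s, hs, hse⟩ := Coprime.hall_conj hLsol (Coprime.hall_conj_map (hLn hmM) hHπ) hHπ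
  set n := s * m with hn
  have hnN : n ∈ Subgroup.normalizer (H : Set G) := by
    refine Subgroup.mem_normalizer_iff_map_conj_eq.mpr ?_
    show cj (s * m) H = H
    rw [← SigmaFusion.cj_cj]
    exact hse
  set w := n * x * n⁻¹ with hw
  have hwH : w ∈ H := (Subgroup.mem_normalizer_iff.mp hnN x).mp hx
  have hzw : s * z * s⁻¹ = w := by rw [hw, hn, ← hmx]; group
  -- fusion in `M_σ`
  set W := Cfsg.fittingHallOf M with hW
  haveI hWnil : Group.IsNilpotent W := Basic.fittingHallOf_isNilpotent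
  have hWL : W ≤ L := SigmaCentralizer.fittingHallOf_le_sigmaCore hG hM
  have hWn : M ≤ Subgroup.normalizer (W : Set G) := Basic.le_normalizer_fittingHallOf
  haveI hWnL : (W.subgroupOf L).Normal := (Subgroup.normal_subgroupOf_iff_le_normalizer hWL).mpr (hLM.trans hWn)
  have hP := sup_normal hWL (hLM.trans hWn) hH hHπ (core_quotient_nilpotent hG hM)
  set O := Cfsg.piCoreOf {t | t ∉ π} W with hO
  have hOW : O ≤ W := Subgroup.map_subtype_le _
  have hOn : M ≤ Subgroup.normalizer (O : Set G) := le_normalizer_piCoreOf_of hWn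
  have hOH : O ⊓ H = ⊥ := le_bot_iff.mp fun a ha => Subgroup.mem_bot.mpr (by
    by_contra ha1
    obtain ⟨t, ht, htd⟩ := Nat.exists_prime_and_dvd (mt orderOf_eq_one_iff.mp ha1)
    exact (mem_piCoreOf_iff.mp ha.1).2 t ht htd (htd.trans (Subgroup.orderOf_dvd_natCard H ha.2)))
  have hWsub : W ≤ H ⊔ O := by
    have hWπ : Cfsg.piCoreOf π W ≤ H := by
      have hle : Cfsg.piCoreOf π W ≤ L := (Subgroup.map_subtype_le _).trans hWL
      haveI : ((Cfsg.piCoreOf π W).subgroupOf L).Normal :=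
        (Subgroup.normal_subgroupOf_iff_le_normalizer hle).mpr (hLM.trans (le_normalizer_piCoreOf_of hWn))
      have hcard : ∀ t : ℕ, t.Prime → t ∣ Nat.card ↥(Cfsg.piCoreOf π W) → t ∈ π := fun t ht hd => by
        rw [Cfsg.piCoreOf, Subgroup.card_map_of_injective W.subtype_injective] at hd
        exact SigmaBasics.mem_of_dvd_piCore ht hd
      -- a normal `π`-subgroup lies in every Hall `π`-subgroup
      obtain ⟨H', hH', hle'⟩ := Coprime.exists_hall_ge π hLsol hle hcard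
      obtain ⟨u, hu, hue⟩ := Coprime.hall_conj hLsol hH' hHπ
      rw [← hue, ← Subgroup.mem_normalizer_iff_map_conj_eq.mp (le_normalizer_piCoreOf_of hWn (hLM hu) :
        u ∈ Subgroup.normalizer ((Cfsg.piCoreOf π W : Subgroup G) : Set G))]
      exact Subgroup.map_mono hle'
    refine KappaHall.le_of_sylows fun t ht => ?_
    haveI := Fact.mk ht
    obtain ⟨T⟩ : Nonempty (Sylow t W) := inferInstance
    refine ⟨T, fun a ha => ?_⟩
    have hprimes : ∀ u : ℕ, u.Prime → u ∣ orderOf a → u = t := fun u hu hd =>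
      PrimeAction.pGroup_dvd (T.isPGroup'.map W.subtype) hu (hd.trans (Subgroup.orderOf_dvd_natCard _ ha))
    by_cases htπ : t ∈ π
    · exact Subgroup.mem_sup_left (hWπ (mem_piCoreOf_iff.mpr ⟨Subgroup.map_subtype_le _ ha, fun u hu hd => hprimes u hu hd ▸ htπ⟩))
    · exact Subgroup.mem_sup_right (mem_piCoreOf_iff.mpr ⟨Subgroup.map_subtype_le _ ha, fun u hu hd => hprimes u hu hd ▸ htπ⟩)
  have hPeq : H ⊔ W = O ⊔ H := le_antisymm (sup_le le_sup_right (hWsub.trans (sup_comm _ _).le))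
    (sup_le (hOW.trans le_sup_right) le_sup_left)
  rw [hPeq] at hP
  have hHO : H ≤ Subgroup.normalizer (O : Set G) := (hH.trans hLM).trans hOn
  have hPL : O ⊔ H ≤ L := sup_le (hOW.trans hWL) hH
  have hHP : Cfsg.IsPiHallOf π H (O ⊔ H) :=
    ⟨le_sup_right, hHπ.2.1, fun t ht htπ => KappaHall.not_dvd_relIndex hHπ le_sup_right hPL ht htπ⟩
  obtain ⟨p₀, hp₀, hpe⟩ := Coprime.hall_conj (Coprime.isSolvable_of_le hPL hLsol)
    (Coprime.hall_conj_map (hP hs) hHP) hHP
  obtain ⟨o, ho, h₀, hh₀, rfl⟩ := (Coprime.mem_sup_of_le_normalizer hHO).mp hp₀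
  set n' := h₀⁻¹ * (o * h₀) * s with hn'
  have hn'N : n' ∈ Subgroup.normalizer (H : Set G) := by
    rw [hn', mul_assoc h₀⁻¹]
    refine mul_mem (Subgroup.le_normalizer (inv_mem hh₀)) (Subgroup.mem_normalizer_iff_map_conj_eq.mpr ?_)
    show cj (o * h₀ * s) H = H
    rw [← SigmaFusion.cj_cj]
    exact hpe
  have hn'M : n' ∈ M := by
    exact hLM (L.mul_mem (L.mul_mem (L.inv_mem (hH hh₀)) (L.mul_mem (hWL (hOW ho)) (hH hh₀))) hs)
  -- the `O`-part commutes
  set o' := h₀⁻¹ * o * h₀ with ho'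
  have ho'O : o' ∈ O := by
    have := (Subgroup.mem_normalizer_iff.mp (hHO (inv_mem hh₀)) o).mp ho
    rwa [inv_inv] at this
  have e1 : n' = o' * s := by rw [hn', ho']; group
  have hw' : n' * z * n'⁻¹ = o' * w * o'⁻¹ := by rw [e1, ← hzw]; group
  have hcomm : ⁅o', w⁆ = 1 := by
    refine Subgroup.mem_bot.mp (hOH.le ⟨?_, ?_⟩)
    · rw [commutatorElement_def, show o' * w * o'⁻¹ * w⁻¹ = o' * (w * o'⁻¹ * w⁻¹) by group]
      exact O.mul_mem ho'O ((Subgroup.mem_normalizer_iff.mp (hHO hwH) _).mp (O.inv_mem ho'O))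
    · rw [commutatorElement_def, ← hw']
      exact H.mul_mem ((Subgroup.mem_normalizer_iff.mp hn'N z).mp hgx) (H.inv_mem hwH)
  refine ⟨n'⁻¹ * n, ⟨M.mul_mem (M.inv_mem hn'M) (M.mul_mem (hLM hs) hmM),
    Subgroup.mul_mem _ (Subgroup.inv_mem _ hn'N) hnN⟩, ?_⟩
  have hc : o' * w = w * o' := commutatorElement_eq_one_iff_mul_comm.mp hcomm
  calc n'⁻¹ * n * x * (n'⁻¹ * n)⁻¹ = n'⁻¹ * w * n' := by rw [hw]; group
    _ = n'⁻¹ * (w * o' * o'⁻¹) * n' := by group
    _ = n'⁻¹ * (o' * w * o'⁻¹) * n' := by rw [hc]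
    _ = n'⁻¹ * (n' * z * n'⁻¹) * n' := by rw [hw']
    _ = z := by group

/-- BG 15.2 (c): `F(M) = C_M(M_F) M_F`. -/
theorem fitting_eq (hG : Cfsg.IsMinSimpleOddOrder G) (hM : IsCoatom M) :
    Cfsg.fittingOf M = (M ⊓ Subgroup.centralizer (Cfsg.fittingHallOf M : Set G)) ⊔ Cfsg.fittingHallOf M ∧
      ((Cfsg.kappa M).Nonempty → Cfsg.fittingOf M ≤ ⁅M, M⁆) := by
  set W := Cfsg.fittingHallOf M with hW
  haveI hWnil : Group.IsNilpotent W := Basic.fittingHallOf_isNilpotent
  have hWL : W ≤ Cfsg.sigmaCore M := SigmaCentralizer.fittingHallOf_le_sigmaCore hG hM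
  have hLM := SigmaTools.sigmaCore_le M
  have hWn : M ≤ Subgroup.normalizer (W : Set G) := Basic.le_normalizer_fittingHallOf
  have hWcop : (Nat.card W).Coprime (W.relIndex M) := Basic.fittingHallOf_coprime
  have hWcop' : (Nat.card W).Coprime (W.relIndex (Cfsg.sigmaCore M)) :=
    hWcop.coprime_dvd_right (Subgroup.relIndex_mul_relIndex W _ M hWL hLM ▸ dvd_mul_right _ _)
  obtain ⟨K, U, hd⟩ := exists_decomp hG hM
  obtain ⟨X, hXC, hXc, hXτ, -, hXsup⟩ := centralizer_hall hG hM hWL (nilpotent_quotient hG hM).2 hWcop'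
  set C := M ⊓ Subgroup.centralizer (W : Set G) with hC
  set Z := Cfsg.sigmaCore M ⊓ Subgroup.centralizer (W : Set G) with hZ
  have hZnil : Group.IsNilpotent Z := by
    haveI : (W.subgroupOf (Cfsg.sigmaCore M)).Normal :=
      (Subgroup.normal_subgroupOf_iff_le_normalizer hWL).mpr (hLM.trans hWn)
    haveI := core_quotient_nilpotent hG hM
    let f := (QuotientGroup.mk' (W.subgroupOf (Cfsg.sigmaCore M))).comp (Subgroup.inclusion (inf_le_left : Z ≤ _))
    haveI := Subgroup.isNilpotent f.range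
    refine Subgroup.isNilpotent_of_ker_le_center f.rangeRestrict fun z hz => Subgroup.mem_center_iff.mpr fun w => ?_
    have hzW : (z : G) ∈ W := (QuotientGroup.eq_one_iff (N := W.subgroupOf (Cfsg.sigmaCore M))
      (Subgroup.inclusion inf_le_left z)).mp (congrArg Subtype.val hz)
    exact Subtype.ext (Subgroup.mem_centralizer_iff.mp w.2.2 z hzW).symm
  have hCnil : Group.IsNilpotent C := by
    rw [hXsup]
    haveI := hZnil
    by_cases hn : Group.IsNilpotent (Cfsg.sigmaCore M)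
    · have heq := SigmaCentralizer.sigmaCore_eq_fittingHallOf hG hM hn
      haveI := hXc
      haveI : Group.IsNilpotent X := nilpotent_of_comm IsCyclic.isMulCommutative
      exact Basic.isNilpotent_sup_of_commute fun a ha b hb =>
        Subgroup.mem_centralizer_iff.mp (hXC hb).2 a (heq.le ha.1)
    · obtain ⟨q, Q, hs⟩ := CoreStructure.exists_split hG hM hd hn
      have hX1 : X = ⊥ := by
        by_contra hX1
        obtain ⟨t, ht, htd⟩ := Nat.exists_prime_and_dvd (mt Subgroup.card_eq_one.mp hX1)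
        haveI := Fact.mk ht
        obtain ⟨f, hf⟩ := exists_prime_orderOf_dvd_card' (G := X) t htd
        have hfs : t ∣ Nat.card K := by
          have h1 : t ∣ Nat.card ↥(Cfsg.sigmaCore M ⊔ K) := hs.sup.symm ▸
            htd.trans (Subgroup.card_dvd_of_le (hXC.trans inf_le_left))
          rw [sup_comm, Coprime.card_mul_relIndex_eq (le_sup_right : Cfsg.sigmaCore M ≤ K ⊔ Cfsg.sigmaCore M) |>.symm,
            Basic.IsComplIn.relIndex_right (SigmaDecomp.compl_K hd)] at h1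
          exact (ht.dvd_mul.mp h1).resolve_left fun h => (hXτ t ht htd).2.1 (SigmaTools.mem_sigma_of_card h)
        exact (hXτ t ht htd).2.2.2 (KappaHall.kappa_rank_one (hd.hall.2.1 t ht hfs))
      rw [hX1, sup_bot_eq]
      exact hZnil
  have hCn : M ≤ Subgroup.normalizer (C : Set G) :=
    (le_inf Subgroup.le_normalizer (CoreStructure.le_normalizer_centralizer hWn)).trans
      Subgroup.inf_normalizer_le_normalizer_inf
  have hCF : C ≤ Cfsg.fittingOf M := le_fitting inf_le_left hCn hCnil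
  have heqF : Cfsg.fittingOf M = C ⊔ W := by
    refine le_antisymm ?_ (sup_le hCF Basic.fittingHallOf_le_fittingOf)
    haveI : Group.IsNilpotent (Cfsg.fittingOf M) := Basic.fittingOf_isNilpotent
    refine KappaHall.le_of_sylows fun t ht => ?_
    haveI := Fact.mk ht
    obtain ⟨T⟩ : Nonempty (Sylow t (Cfsg.fittingOf M)) := inferInstance
    refine ⟨T, fun a ha => ?_⟩
    have haF : a ∈ Cfsg.fittingOf M := Subgroup.map_subtype_le _ ha
    have haM : a ∈ M := Basic.fittingOf_le haF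
    have hprimes : ∀ u : ℕ, u.Prime → u ∣ orderOf a → u = t := fun u hu hd =>
      PrimeAction.pGroup_dvd (T.isPGroup'.map _) hu (hd.trans (Subgroup.orderOf_dvd_natCard _ ha))
    by_cases htW : t ∣ Nat.card W
    · refine Subgroup.mem_sup_right ?_
      haveI : (W.subgroupOf M).Normal := (Subgroup.normal_subgroupOf_iff_le_normalizer (hWL.trans hLM)).mpr hWn
      have h1 := SigmaCore.le_of_coprime_index (N := W.subgroupOf M) (K := Subgroup.zpowers (⟨a, haM⟩ : M)) (by
        refine Nat.coprime_of_dvd fun u hu h1 h2 => ?_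
        rw [Nat.card_zpowers, Subgroup.orderOf_mk] at h1
        obtain rfl := hprimes u hu h1
        exact hu.ne_one (Nat.eq_one_of_dvd_coprimes hWcop htW h2))
      exact h1 (Subgroup.mem_zpowers _)
    · refine Subgroup.mem_sup_left ⟨haM, Subgroup.mem_centralizer_iff.mpr fun w hw => ?_⟩
      refine (Basic.commute_of_mem_nilpotent (Basic.fittingHallOf_le_fittingOf hw) haF ?_).eq
      exact Nat.coprime_of_dvd fun u hu h1 h2 => htW (hprimes u hu h2 ▸ h1.trans (Subgroup.orderOf_dvd_natCard W hw))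
  refine ⟨heqF, fun hκ => ?_⟩
  have hK1 : K ≠ ⊥ := fun e => by
    obtain ⟨t, ht⟩ := hκ
    have := KappaHall.dvd_card_of_hall hd.hall ht.1 ht ht.2.1
    rw [e, Subgroup.card_bot] at this
    exact ht.1.ne_one (Nat.dvd_one.mp this)
  have hder := StarDerived.derived_eq hG hM hd hK1
  have hσ' : Cfsg.sigmaCore M ≤ ⁅M, M⁆ := SigmaCore.le_derived hG hM
  rw [heqF, hXsup]
  refine sup_le (sup_le (inf_le_left.trans hσ') fun a ha => ?_) (hWL.trans hσ')
  have hM'M : ⁅M, M⁆ ≤ M := Subgroup.commutator_le_self M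
  haveI : (⁅M, M⁆.subgroupOf M).Normal :=
    (Subgroup.normal_subgroupOf_iff_le_normalizer hM'M).mpr (CoreStructure.le_normalizer_commutator
      Subgroup.le_normalizer Subgroup.le_normalizer)
  have haM : a ∈ M := (hXC ha).1
  refine SigmaCore.le_of_coprime_index (N := ⁅M, M⁆.subgroupOf M) (K := Subgroup.zpowers (⟨a, haM⟩ : M))
    (Nat.coprime_of_dvd fun t ht h1 h2 => ?_) (Subgroup.mem_zpowers _)
  haveI := Fact.mk ht
  rw [Nat.card_zpowers, Subgroup.orderOf_mk] at h1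
  have hτ := hXτ t ht (h1.trans (Subgroup.orderOf_dvd_natCard X ha))
  have hs := SigmaDecomp.str hG hM hd hK1
  rw [← Subgroup.relIndex, hder] at h2
  have h3 := h2.trans (Subgroup.relIndex_dvd_of_le_left M (le_sup_right : Cfsg.sigmaCore M ≤ U ⊔ Cfsg.sigmaCore M))
  by_cases htU : t ∣ Nat.card U
  · refine hs.hall.2.2 t ht ⟨ht, fun hk => hτ.2.2.2 (KappaHall.kappa_rank_one hk), hτ.2.1⟩ (h2.trans ?_)
    exact Subgroup.relIndex_dvd_of_le_left M le_sup_left
  · exact hs.hall.2.2 t ht ⟨ht, fun hk => hτ.2.2.2 (KappaHall.kappa_rank_one hk), hτ.2.1⟩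
      (h2.trans (Subgroup.relIndex_dvd_of_le_left M le_sup_left))

/-- BG 15.2 (c): `M'' ≤ F(M)`. -/
theorem second_le_fitting (hG : Cfsg.IsMinSimpleOddOrder G) (hM : IsCoatom M) :
    ⁅⁅M, M⁆, ⁅M, M⁆⁆ ≤ Cfsg.fittingOf M := by
  obtain ⟨K, U, hd⟩ := exists_decomp hG hM
  by_cases hn : Group.IsNilpotent (Cfsg.sigmaCore M)
  · exact (second_le hG hM).trans (le_fitting (SigmaTools.sigmaCore_le M) (SigmaTools.le_normalizer_sigmaCore M) hn)
  obtain ⟨q, Q, hs⟩ := CoreStructure.exists_split hG hM hd hn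
  haveI := Fact.mk hs.prime
  obtain ⟨D, hD, hKD⟩ := hs.exists_compl hG
  have hf := hs.facts_of_invariant hG hD hKD
  haveI := hs.compl_nilpotent D hD.2.1 hD.2.2.1
  haveI := hs.pgroup.isNilpotent
  haveI : Group.IsNilpotent ↥⁅D, D⁆ :=
    Group.nilpotent_of_mulEquiv (Subgroup.subgroupOfEquivOfLe (Subgroup.commutator_le_self D))
  haveI hN := Basic.isNilpotent_sup_of_commute (A := Q) (B := ⁅D, D⁆) fun a ha b hb =>
    Subgroup.mem_centralizer_iff.mp (hf.derived hb) a ha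
  rw [hs.derived]
  set L := Cfsg.sigmaCore M
  have hLM := SigmaTools.sigmaCore_le M
  have hle : ⁅L, L⁆ ≤ Q ⊔ ⁅D, D⁆ := by
    haveI : (Q.subgroupOf L).Normal := (Subgroup.normal_subgroupOf_iff_le_normalizer hs.le).mpr (hLM.trans hs.normal)
    set φ := QuotientGroup.mk' (Q.subgroupOf L)
    refine Subgroup.commutator_le.mpr fun a ha b hb => ?_
    obtain ⟨a₁, ha₁, a₂, ha₂, rfl⟩ := hD.2.2.2 a ha
    obtain ⟨b₁, hb₁, b₂, hb₂, rfl⟩ := hD.2.2.2 b hb
    have hq : ∀ (c : G) (hc : c ∈ Q), φ ⟨c, hs.le hc⟩ = 1 := fun c hc => (QuotientGroup.eq_one_iff _).mpr hc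
    have h1 : φ (⁅(⟨a₁, hs.le ha₁⟩ * ⟨a₂, hD.2.1 ha₂⟩ : L), ⟨b₁, hs.le hb₁⟩ * ⟨b₂, hD.2.1 hb₂⟩⁆) =
        φ ⁅(⟨a₂, hD.2.1 ha₂⟩ : L), ⟨b₂, hD.2.1 hb₂⟩⁆ := by
      rw [map_commutatorElement, map_commutatorElement, map_mul, map_mul, hq a₁ ha₁, hq b₁ hb₁, one_mul, one_mul]
    have h2 := QuotientGroup.eq.mp h1
    have h3 := (Q ⊔ ⁅D, D⁆).mul_mem (Subgroup.mem_sup_right (Subgroup.commutator_mem_commutator ha₂ hb₂))
      ((Q ⊔ ⁅D, D⁆).inv_mem (Subgroup.mem_sup_left (show _ ∈ Q from h2)))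
    convert h3 using 1
    simp [commutatorElement_def, mul_assoc]
  refine le_fitting ((Subgroup.commutator_le_self L).trans hLM) (CoreStructure.le_normalizer_commutator
    (SigmaTools.le_normalizer_sigmaCore M) (SigmaTools.le_normalizer_sigmaCore M))
    (Group.nilpotent_of_mulEquiv (Subgroup.subgroupOfEquivOfLe hle))

/-- BG 15.2 (d). -/
theorem sigma'_part (hG : Cfsg.IsMinSimpleOddOrder G) (hM : IsCoatom M) :
    IsCyclic ↥(Cfsg.piCoreOf {q | q.Prime ∧ q ∉ Cfsg.sigma M} (Cfsg.fittingOf M)) ∧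
      (∀ p : ℕ, p.Prime → p ∣ Nat.card ↥(Cfsg.piCoreOf {q | q.Prime ∧ q ∉ Cfsg.sigma M} (Cfsg.fittingOf M)) → p ∈ Cfsg.tau2 M) ∧
      Cfsg.fittingOf M = Cfsg.fittingOf (Cfsg.sigmaCore M) ⊔ Cfsg.piCoreOf {q | q.Prime ∧ q ∉ Cfsg.sigma M} (Cfsg.fittingOf M) := by
  set L := Cfsg.sigmaCore M with hL
  set F := Cfsg.fittingOf M with hF
  haveI : Group.IsNilpotent F := Basic.fittingOf_isNilpotent
  set Y := Cfsg.piCoreOf {q | q.Prime ∧ q ∉ Cfsg.sigma M} F with hY
  have hLM := SigmaTools.sigmaCore_le M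
  have hYF : Y ≤ F := Subgroup.map_subtype_le _
  have hYn : M ≤ Subgroup.normalizer (Y : Set G) := le_normalizer_piCoreOf_of Basic.le_normalizer_fittingOf
  have hYs : ∀ t : ℕ, t.Prime → t ∣ Nat.card Y → t ∉ Cfsg.sigma M := by
    intro t ht hd
    rw [hY, Cfsg.piCoreOf, Subgroup.card_map_of_injective F.subtype_injective] at hd
    exact (SigmaBasics.mem_of_dvd_piCore ht hd).2
  obtain ⟨X, hXC, hXc, hXτ, hXh, hXsup⟩ := centralizer_hall hG hM le_rfl (SigmaCore.sigmaCore_ne_bot hG hM)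
    (by rw [Subgroup.relIndex_self]; exact Nat.coprime_one_right _)
  have hYbot : Y ⊓ L = ⊥ := Subgroup.inf_eq_bot_of_coprime (Nat.coprime_of_dvd fun t ht h1 h2 =>
    haveI := Fact.mk ht
    hYs t ht h1 (SigmaTools.mem_sigma_of_card h2))
  have hYC : Y ≤ M ⊓ Subgroup.centralizer (L : Set G) := fun y hy => by
    have hyM : y ∈ M := Basic.fittingOf_le (hYF hy)
    refine ⟨hyM, Subgroup.mem_centralizer_iff.mpr fun s hs => ?_⟩
    have hm : ⁅s, y⁆ ∈ Y ⊓ L := by
      refine ⟨?_, ?_⟩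
      · rw [commutatorElement_def]
        exact Y.mul_mem ((Subgroup.mem_normalizer_iff.mp (hYn (hLM hs)) _).mp hy) (Y.inv_mem hy)
      · rw [commutatorElement_def, show s * y * s⁻¹ * y⁻¹ = s * (y * s⁻¹ * y⁻¹) by group]
        exact L.mul_mem hs ((Subgroup.mem_normalizer_iff.mp (SigmaTools.le_normalizer_sigmaCore M hyM) _).mp (L.inv_mem hs))
    rw [hYbot, Subgroup.mem_bot, commutatorElement_eq_one_iff_mul_comm] at hm
    exact hm
  have hYX : Y ≤ X := by
    set C := M ⊓ Subgroup.centralizer (L : Set G) with hC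
    have hab : C ≤ Subgroup.normalizer (X : Set G) := by
      intro c hc
      refine NormalizerFusion.mem_normalizer_of_conj fun a ha => ?_
      suffices hca : c * a = a * c by rw [hca, mul_inv_cancel_right]; exact ha
      haveI : IsCyclic X := hXc
      have hc' : c ∈ (L ⊓ Subgroup.centralizer (L : Set G)) ⊔ X := hXsup.le hc
      letI := IsCyclic.commGroup (α := X)
      have : Subgroup.zpowers a ≤ Subgroup.centralizer (((L ⊓ Subgroup.centralizer (L : Set G)) ⊔ X : Subgroup G) : Set G) := by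
        rw [Subgroup.le_centralizer_iff]
        refine sup_le (fun u hu => ?_) fun u hu => ?_
        · refine SigmaTools.centralizer_zpowers a ▸ Subgroup.mem_centralizer_singleton_iff.mpr ?_
          exact Subgroup.mem_centralizer_iff.mp (hXC ha).2 u hu.1
        · refine SigmaTools.centralizer_zpowers a ▸ Subgroup.mem_centralizer_singleton_iff.mpr ?_
          exact congrArg Subtype.val (mul_comm (⟨u, hu⟩ : X) ⟨a, ha⟩)
      exact Subgroup.mem_centralizer_iff.mp (this (Subgroup.mem_zpowers a)) c hc'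
    haveI : (X.subgroupOf C).Normal := (Subgroup.normal_subgroupOf_iff_le_normalizer hXh.1).mpr hab
    refine fun y hy => SigmaCore.le_of_coprime_index (N := X.subgroupOf C) (K := Y.subgroupOf C)
      (Coprime.coprime_of_pi (π := {t | t ∉ Cfsg.sigma M}) ?_ fun t ht htπ => hXh.2.2 t ht htπ)
      (show (⟨y, hYC hy⟩ : C) ∈ Y.subgroupOf C from hy)
    intro t ht hd
    rw [Nat.card_congr (Subgroup.subgroupOfEquivOfLe hYC).toEquiv] at hd
    exact hYs t ht hd
  haveI := hXc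
  refine ⟨isCyclic_of_injective (Subgroup.inclusion hYX) (Subgroup.inclusion_injective hYX),
    fun t ht hd => hXτ t ht (hd.trans (Subgroup.card_dvd_of_le hYX)), ?_⟩
  haveI hFLn : Group.IsNilpotent (Cfsg.fittingOf L) := Basic.fittingOf_isNilpotent
  have hFL : Cfsg.fittingOf L ≤ F := le_fitting (Basic.fittingOf_le.trans hLM)
    ((SigmaTools.le_normalizer_sigmaCore M).trans (Bender.normalizer_le_normalizer_fittingOf L)) hFLn
  refine le_antisymm (KappaHall.le_of_sylows fun t ht => ?_) (sup_le hFL hYF)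
  haveI := Fact.mk ht
  obtain ⟨T⟩ : Nonempty (Sylow t F) := inferInstance
  refine ⟨T, fun a ha => ?_⟩
  have haF : a ∈ F := Subgroup.map_subtype_le _ ha
  have hprimes : ∀ u : ℕ, u.Prime → u ∣ orderOf a → u = t := fun u hu hd =>
    PrimeAction.pGroup_dvd (T.isPGroup'.map _) hu (hd.trans (Subgroup.orderOf_dvd_natCard _ ha))
  by_cases hts : t ∈ Cfsg.sigma M
  · refine Subgroup.mem_sup_left ?_
    have haL : a ∈ L := SigmaTools.le_sigmaCore hG hM (Subgroup.zpowers_le.mpr (Basic.fittingOf_le haF))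
      (fun u hu hd => hprimes u hu (Nat.card_zpowers a ▸ hd) ▸ hts) (Subgroup.mem_zpowers a)
    have hle : F ⊓ L ≤ Cfsg.fittingOf L := le_fitting inf_le_right
      ((le_inf ((hLM.trans Basic.le_normalizer_fittingOf)) Subgroup.le_normalizer).trans
        Subgroup.inf_normalizer_le_normalizer_inf)
      (Group.nilpotent_of_mulEquiv (Subgroup.subgroupOfEquivOfLe (inf_le_left : F ⊓ L ≤ F)))
    exact hle ⟨haF, haL⟩
  · exact Subgroup.mem_sup_right (mem_piCoreOf_iff.mpr ⟨haF, fun u hu hd => hprimes u hu hd ▸ ⟨ht, hts⟩⟩)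

end CfsgLib.OddOrder.FittingStructure
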