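import Cfsg.Prelude.Def_OddOrderChar
import Cfsg.Agent.Lib.OddOrder.TypeSets
import Cfsg.Agent.Lib.OddOrder.SigmaNeighbour
import Cfsg.Agent.Lib.OddOrder.SupportCosets
import Cfsg.Agent.Lib.OddOrder.SigmaCover
import Cfsg.Agent.S1350
import Cfsg.Agent.S1375
import Cfsg.Agent.S1376
import Cfsg.Agent.S1438

/-!
Peterfalvi's first hypothesis for the sets `A₁(M)`, `A(M)`, `A₀(M)` of every maximal subgroup: the support
of `M` (BG 16.1, last part).
-/

set_option autoImplicit false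

namespace CfsgLib.OddOrder.DadeSets

open scoped Pointwise
open CfsgLib.OddOrder.TypeSets

variable {G : Type*} [Group G] [Finite G] {M K U : Subgroup G}

theorem typeCore_eq (hG : Cfsg.IsMinSimpleOddOrder G) (hM : IsCoatom M) (h : Cfsg.IsSigmaDecomposition M K U) :
    Cfsg.typeCore M = Cfsg.sigmaCore M := by
  unfold Cfsg.typeCore
  by_cases h34 : Cfsg.IsOfTypeIII M ∨ Cfsg.IsOfTypeIV M
  · rw [if_pos h34]
    obtain ⟨hK, hU, -⟩ := (Cfsg.Agent.S1382.result hG M hM K U h).mp h34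
    exact TypeP.derived_bot hG hM h hK hU
  · rw [if_neg h34]
    by_contra hne
    obtain ⟨hU, hK⟩ := CoreStructure.not_nilpotent hG hM h fun hn => hne (TypeP.fittingHall_eq hG hM hn)
    exact h34 ((Cfsg.Agent.S1382.result hG M hM K U h).mpr ⟨hK, hU, hne⟩)

theorem derived_le_sup (hG : Cfsg.IsMinSimpleOddOrder G) (hM : IsCoatom M) (h : Cfsg.IsSigmaDecomposition M K U) :
    ⁅M, M⁆ ≤ U ⊔ Cfsg.sigmaCore M := by
  by_cases hK : K = ⊥
  · rw [← Basic.IsComplIn.eq_sup (SigmaDecomp.U_compl_of_bot hG hM h hK)]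
    exact SigmaComplement.derived_le_self M
  · exact (StarDerived.derived_eq hG hM h hK).le

theorem derived_normal : M ≤ Subgroup.normalizer ((⁅M, M⁆ : Subgroup G) : Set G) :=
  Subgroup.le_normalizer_iff_commutator_le_left.mpr
    (Subgroup.commutator_mono (SigmaComplement.derived_le_self M) le_rfl)

theorem conj_commute {m a x : G} (h : a * x = x * a) : m * a * m⁻¹ * (m * x * m⁻¹) = m * x * m⁻¹ * (m * a * m⁻¹) :=
  calc m * a * m⁻¹ * (m * x * m⁻¹) = m * (a * x) * m⁻¹ := by group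
    _ = m * (x * a) * m⁻¹ := by rw [h]
    _ = m * x * m⁻¹ * (m * a * m⁻¹) := by group

/-- `A(M)` lies in `A(M, U)`. -/
theorem typeA_sub (hG : Cfsg.IsMinSimpleOddOrder G) (hM : IsCoatom M) (h : Cfsg.IsSigmaDecomposition M K U) {a : G}
    (ha : a ∈ Cfsg.typeA M) : a ∈ Cfsg.sigmaA M U ∧ a ≠ 1 := by
  classical
  by_cases hI : Cfsg.IsOfTypeI M
  · simp only [Cfsg.typeA, if_pos hI, Set.mem_setOf_eq] at ha
    obtain ⟨haM, ha1, x, hx, hx1, hax⟩ := ha
    have hK := TypeF.kappa_of_typeF hG hM h hI.1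
    refine ⟨⟨⟨haM, x, SigmaCentralizer.fittingHallOf_le_sigmaCore hG hM hx, hx1, hax⟩, ?_⟩, ha1⟩
    rw [← Basic.IsComplIn.eq_sup (SigmaDecomp.U_compl_of_bot hG hM h hK)]
    exact haM
  · simp only [Cfsg.typeA, if_neg hI, Set.mem_setOf_eq] at ha
    obtain ⟨haD, ha1, x, hx, hx1, hax⟩ := ha
    rw [typeCore_eq hG hM h] at hx
    exact ⟨⟨⟨SigmaComplement.derived_le_self M haD, x, hx, hx1, hax⟩, derived_le_sup hG hM h haD⟩, ha1⟩

theorem typeA_inv (hG : Cfsg.IsMinSimpleOddOrder G) (hM : IsCoatom M) (h : Cfsg.IsSigmaDecomposition M K U) :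
    ∀ m ∈ M, ∀ a ∈ Cfsg.typeA M, m * a * m⁻¹ ∈ Cfsg.typeA M := by
  classical
  intro m hm a ha
  by_cases hI : Cfsg.IsOfTypeI M
  · simp only [Cfsg.typeA, if_pos hI, Set.mem_setOf_eq] at ha ⊢
    obtain ⟨haM, ha1, x, hx, hx1, hax⟩ := ha
    exact ⟨mul_mem (mul_mem hm haM) (inv_mem hm), fun e => ha1 (conj_eq_one_iff.mp e), m * x * m⁻¹,
      conj_mem_of_le_normalizer Basic.le_normalizer_fittingHallOf hm hx, fun e => hx1 (conj_eq_one_iff.mp e),
      conj_commute hax⟩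
  · simp only [Cfsg.typeA, if_neg hI, Set.mem_setOf_eq] at ha ⊢
    obtain ⟨haD, ha1, x, hx, hx1, hax⟩ := ha
    rw [typeCore_eq hG hM h] at hx ⊢
    exact ⟨conj_mem_of_le_normalizer derived_normal hm haD, fun e => ha1 (conj_eq_one_iff.mp e), m * x * m⁻¹,
      conj_mem_of_le_normalizer (SigmaTools.le_normalizer_sigmaCore M) hm hx,
      fun e => hx1 (conj_eq_one_iff.mp e), conj_commute hax⟩

theorem core_sub (hG : Cfsg.IsMinSimpleOddOrder G) (hM : IsCoatom M) (h : Cfsg.IsSigmaDecomposition M K U) {a : G}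
    (ha : a ∈ Cfsg.sigmaCore M) (ha1 : a ≠ 1) : a ∈ Cfsg.typeA M := by
  classical
  by_cases hI : Cfsg.IsOfTypeI M
  · simp only [Cfsg.typeA, if_pos hI, Set.mem_setOf_eq]
    have hK := TypeF.kappa_of_typeF hG hM h hI.1
    have hFH := TypeP.fittingHall_eq hG hM (by_contra fun hn => (CoreStructure.not_nilpotent hG hM h hn).2 hK)
    exact ⟨SigmaTools.sigmaCore_le M ha, ha1, a, by rw [hFH]; exact ha, ha1, rfl⟩
  · simp only [Cfsg.typeA, if_neg hI, Set.mem_setOf_eq]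
    exact ⟨SigmaCore.le_derived hG hM ha, ha1, a, by rw [typeCore_eq hG hM h]; exact ha, ha1, rfl⟩

/-- The elements of `A₀(M)` outside `A(M)`. -/
theorem extra (hG : Cfsg.IsMinSimpleOddOrder G) (hM : IsCoatom M) (h : Cfsg.IsSigmaDecomposition M K U) {v : G}
    (hv : v ∈ Cfsg.typeA0 M) (hvA : v ∉ Cfsg.typeA M) :
    K ≠ ⊥ ∧ v ∈ Cfsg.sigmaA0 M K \ Cfsg.sigmaA M U ∧ v ∉ ⁅M, M⁆ := by
  rcases hv with hv | ⟨-, W₁, V, W₂, hP, m, hm, w, hw, hw1, hw2, rfl⟩
  · exact absurd hv hvA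
  have hK := TypeP.kappa_of_typeP hG hM h hP
  refine ⟨hK, ?_⟩
  set H := Cfsg.sigmaCore M with hH
  have hW₂H : W₂ ≤ H :=
    hP.W₂_le.trans (inf_le_left.trans (SigmaCentralizer.fittingHallOf_le_sigmaCore hG hM))
  have hW₂D : W₂ ≤ ⁅M, M⁆ := hW₂H.trans (SigmaCore.le_derived hG hM)
  have hW₁M := hP.W₁_compl.2.1
  have hcomm := hP.selfNormalizing.2.2.2.1
  obtain ⟨a, ha, b, hb, rfl⟩ : ∃ a ∈ W₁, ∃ b ∈ W₂, a * b = w := by
    have hn : W₁ ≤ Subgroup.normalizer (W₂ : Set G) := by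
      intro x hx
      refine Subgroup.mem_normalizer_iff.mpr fun z => ⟨fun hz => ?_, fun hz => ?_⟩
      · rwa [hcomm x hx z hz, mul_inv_cancel_right]
      · have h1 := hcomm x⁻¹ (inv_mem hx) _ hz
        have e : x⁻¹ * (x * z * x⁻¹) = z * x⁻¹ := by group
        rw [e] at h1
        have : z = x * z * x⁻¹ := mul_right_cancel h1
        rwa [← this] at hz
    have h1 : w ∈ (W₁ : Set G) * (W₂ : Set G) := by
      rw [← Subgroup.coe_mul_of_left_le_normalizer_right W₁ W₂ hn]; exact hw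
    exact h1
  have hb1 : b ≠ 1 := fun e => hw1 (by rw [e, mul_one]; exact ha)
  have ha1 : a ≠ 1 := fun e => hw2 (by rw [e, one_mul]; exact hb)
  have hnH : M ≤ Subgroup.normalizer (H : Set G) := SigmaTools.le_normalizer_sigmaCore M
  have hwM : a * b ∈ M := mul_mem (hW₁M ha) (SigmaTools.sigmaCore_le M (hW₂H hb))
  have hwD : a * b ∉ ⁅M, M⁆ := by
    intro hd
    have : a ∈ ⁅M, M⁆ ⊓ W₁ := ⟨by simpa using (⁅M, M⁆ : Subgroup G).mul_mem hd (inv_mem (hW₂D hb)), ha⟩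
    rw [hP.W₁_compl.2.2.1, Subgroup.mem_bot] at this
    exact ha1 this
  have hvD : m * (a * b) * m⁻¹ ∉ ⁅M, M⁆ := by
    intro hd
    apply hwD
    have := conj_mem_of_le_normalizer derived_normal (inv_mem hm) hd
    simpa [mul_assoc] using this
  refine ⟨⟨⟨⟨mul_mem (mul_mem hm hwM) (inv_mem hm), m * b * m⁻¹, conj_mem_of_le_normalizer hnH hm (hW₂H hb),
    fun e => hb1 (conj_eq_one_iff.mp e), conj_commute (by rw [← mul_assoc b a b, ← hcomm a ha b hb])⟩, ?_⟩,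
    fun e => hvD (by rw [StarDerived.derived_eq hG hM h hK]; exact e.2)⟩, hvD⟩
  rintro ⟨k, hk, hk1, n, hn, e⟩
  have hcopKW : (Nat.card K).Coprime (Nat.card ↥⁅M, M⁆) := by
    have h1 := TypeP.K_hall h
    rwa [Basic.IsComplIn.relIndex_right (TypeP.compl_K hG hM h hK)] at h1
  have hcopW : (orderOf a).Coprime (orderOf b) := by
    have h1 := hP.W₁_hall
    rw [Basic.IsComplIn.relIndex_right hP.W₁_compl] at h1
    exact Nat.Coprime.of_dvd (Subgroup.orderOf_dvd_natCard _ ha) (Subgroup.orderOf_dvd_natCard _ (hW₂D hb)) h1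
  have h2 : orderOf b ∣ orderOf (m * (a * b) * m⁻¹) := by
    rw [show orderOf (m * (a * b) * m⁻¹) = orderOf (a * b) from
      orderOf_injective (MulAut.conj m).toMonoidHom (MulEquiv.injective _) (a * b),
      (show Commute a b from hcomm a ha b hb).orderOf_mul_eq_mul_orderOf_of_coprime hcopW]
    exact dvd_mul_left _ _
  rw [e, show orderOf (n * k * n⁻¹) = orderOf k from
    orderOf_injective (MulAut.conj n).toMonoidHom (MulEquiv.injective _) k] at h2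
  exact hb1 (orderOf_eq_one_iff.mp (Nat.eq_one_of_dvd_coprimes hcopKW
    (h2.trans (Subgroup.orderOf_dvd_natCard _ hk)) (Subgroup.orderOf_dvd_natCard _ (hW₂D hb))))

theorem A0_sub (hG : Cfsg.IsMinSimpleOddOrder G) (hM : IsCoatom M) (h : Cfsg.IsSigmaDecomposition M K U) {a : G}
    (ha : a ∈ Cfsg.typeA0 M) : a ∈ Cfsg.sigmaHat M ∧ a ∈ M ∧ a ≠ 1 := by
  by_cases hA : a ∈ Cfsg.typeA M
  · obtain ⟨h1, h2⟩ := typeA_sub hG hM h hA
    exact ⟨h1.1, h1.1.1, h2⟩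
  · obtain ⟨-, h1, h2⟩ := extra hG hM h ha hA
    exact ⟨h1.1.1, h1.1.1.1, fun e => h2 (e ▸ one_mem _)⟩

theorem A0_inv (hG : Cfsg.IsMinSimpleOddOrder G) (hM : IsCoatom M) (h : Cfsg.IsSigmaDecomposition M K U) :
    ∀ m ∈ M, ∀ a ∈ Cfsg.typeA0 M, m * a * m⁻¹ ∈ Cfsg.typeA0 M := by
  rintro m hm v (hv | ⟨h1, W₁, V, W₂, hP, n, hn, w, hw, hw1, hw2, rfl⟩)
  · exact Or.inl (typeA_inv hG hM h m hm v hv)
  · exact Or.inr ⟨h1, W₁, V, W₂, hP, m * n, mul_mem hm hn, w, hw, hw1, hw2, by group⟩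

theorem conj_mem_core_iff (hG : Cfsg.IsMinSimpleOddOrder G) (hM : IsCoatom M) {g a : G} (ha : a ∈ M)
    (hga : g * a * g⁻¹ ∈ M) : g * a * g⁻¹ ∈ Cfsg.sigmaCore M ↔ a ∈ Cfsg.sigmaCore M := by
  have hs := (Cfsg.Agent.S1350.result hG M hM).1
  have hc : (Nat.card (Cfsg.sigmaCore M)).Coprime ((Cfsg.sigmaCore M).relIndex M) :=
    Nat.coprime_of_dvd fun t ht h1 h2 => hs.2.2 t ht (hs.2.1 t ht h1) h2
  have ho : orderOf (g * a * g⁻¹) = orderOf a :=
    orderOf_injective (MulAut.conj g).toMonoidHom (MulEquiv.injective _) a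
  exact ⟨fun h => mem_of_orderOf_dvd (SigmaTools.sigmaCore_le M) (SigmaTools.le_normalizer_sigmaCore M) hc ha
      (ho ▸ Subgroup.orderOf_dvd_natCard _ h),
    fun h => mem_of_orderOf_dvd (SigmaTools.sigmaCore_le M) (SigmaTools.le_normalizer_sigmaCore M) hc hga
      (ho ▸ Subgroup.orderOf_dvd_natCard _ h)⟩

/-- Outside `M_σ` the fusion in `A₀(M)` happens inside `M`. -/
theorem mem_of_fusion (hG : Cfsg.IsMinSimpleOddOrder G) (hM : IsCoatom M) (h : Cfsg.IsSigmaDecomposition M K U)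
    {a g : G} (ha : a ∈ Cfsg.typeA0 M) (hga : g * a * g⁻¹ ∈ Cfsg.typeA0 M) (haS : a ∉ Cfsg.sigmaCore M) : g ∈ M := by
  obtain ⟨-, haM, ha1⟩ := A0_sub hG hM h ha
  obtain ⟨-, hgM, -⟩ := A0_sub hG hM h hga
  have hgS : g * a * g⁻¹ ∉ Cfsg.sigmaCore M := fun e => haS ((conj_mem_core_iff hG hM haM hgM).mp e)
  have ho : orderOf (g * a * g⁻¹) = orderOf a :=
    orderOf_injective (MulAut.conj g).toMonoidHom (MulEquiv.injective _) a
  have hcopD : K ≠ ⊥ → (Nat.card ↥⁅M, M⁆).Coprime (⁅M, M⁆.relIndex M) := by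
    intro hK
    have h1 := TypeP.K_hall h
    rw [Basic.IsComplIn.relIndex_right (TypeP.compl_K hG hM h hK)] at h1
    rw [Basic.IsComplIn.relIndex_left (TypeP.compl_K hG hM h hK)]
    exact h1.symm
  by_contra hg
  by_cases hA : a ∈ Cfsg.typeA M
  · by_cases hgA : g * a * g⁻¹ ∈ Cfsg.typeA M
    · have hN : Subgroup.normalizer (Cfsg.sigmaA M U \ (Cfsg.sigmaCore M : Set G)) = M := by
        refine normalizer_eq hG hM (fun z hz => hz.1.1.1) (fun m hm z hz => ?_)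
          ⟨a, ⟨(typeA_sub hG hM h hA).1, haS⟩, ha1⟩
        obtain ⟨⟨⟨hzM, w, hw, hw1, hzw⟩, hzU⟩, hzH⟩ := hz
        refine ⟨⟨⟨mul_mem (mul_mem hm hzM) (inv_mem hm), m * w * m⁻¹,
          conj_mem_of_le_normalizer (SigmaTools.le_normalizer_sigmaCore M) hm hw,
          fun e => hw1 (conj_eq_one_iff.mp e), conj_commute hzw⟩, ?_⟩, fun e => hzH ?_⟩
        · by_cases hK : K = ⊥
          · rw [← Basic.IsComplIn.eq_sup (SigmaDecomp.U_compl_of_bot hG hM h hK)]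
            exact mul_mem (mul_mem hm hzM) (inv_mem hm)
          · rw [← StarDerived.derived_eq hG hM h hK] at hzU ⊢
            exact conj_mem_of_le_normalizer derived_normal hm hzU
        · have := conj_mem_of_le_normalizer (SigmaTools.le_normalizer_sigmaCore M) (inv_mem hm) e
          simpa [mul_assoc] using this
      exact ha1 (Cfsg.Agent.S1362.result hG M hM K U h g (by rw [hN]; exact hg) a
        ⟨(typeA_sub hG hM h hA).1, haS⟩ ⟨(typeA_sub hG hM h hgA).1, hgS⟩)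
    · obtain ⟨hK, -, hgD⟩ := extra hG hM h hga hgA
      have haD : a ∈ ⁅M, M⁆ := by rw [StarDerived.derived_eq hG hM h hK]; exact (typeA_sub hG hM h hA).1.2
      exact hgD (mem_of_orderOf_dvd (SigmaComplement.derived_le_self M) derived_normal (hcopD hK) hgM
        (ho ▸ Subgroup.orderOf_dvd_natCard _ haD))
  · obtain ⟨hK, haZ, haD⟩ := extra hG hM h ha hA
    have hgA : g * a * g⁻¹ ∉ Cfsg.typeA M := by
      intro hgA
      have hgD : g * a * g⁻¹ ∈ ⁅M, M⁆ := by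
        rw [StarDerived.derived_eq hG hM h hK]; exact (typeA_sub hG hM h hgA).1.2
      exact haD (mem_of_orderOf_dvd (SigmaComplement.derived_le_self M) derived_normal (hcopD hK) haM
        (ho ▸ Subgroup.orderOf_dvd_natCard _ hgD))
    obtain ⟨hZeq, hZti⟩ := Cfsg.Agent.S1371.result hG M hM K U h hK
    have hNZ : Subgroup.normalizer (Cfsg.sigmaA0 M K \ Cfsg.sigmaA M U) = M := by
      refine normalizer_eq hG hM (fun z hz => hz.1.1.1) (fun m hm v hv => ?_) ⟨a, haZ, ha1⟩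
      rw [← hZeq] at hv ⊢
      obtain ⟨n, hn, z, hz, rfl⟩ := hv
      exact ⟨m * n, mul_mem hm hn, z, hz, by group⟩
    exact ha1 (hZti g (by rw [hNZ]; exact hg) a haZ (extra hG hM h hga hgA).2.1)

theorem centralizer_le (hG : Cfsg.IsMinSimpleOddOrder G) (hM : IsCoatom M) (h : Cfsg.IsSigmaDecomposition M K U)
    {a : G} (ha : a ∈ Cfsg.typeA0 M) (haS : a ∉ Cfsg.sigmaCore M) : Subgroup.centralizer ({a} : Set G) ≤ M :=
  fun g hg => mem_of_fusion hG hM h ha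
    (by rwa [Subgroup.mem_centralizer_singleton_iff.mp hg, mul_inv_cancel_right]) haS

/-- Two elements of `A₀(M)` conjugate in `G` are conjugate in `M`. -/
theorem fusion (hG : Cfsg.IsMinSimpleOddOrder G) (hM : IsCoatom M) (h : Cfsg.IsSigmaDecomposition M K U)
    {a g : G} (ha : a ∈ Cfsg.typeA0 M) (hga : g * a * g⁻¹ ∈ Cfsg.typeA0 M) :
    ∃ m ∈ M, m * a * m⁻¹ = g * a * g⁻¹ := by
  by_cases haS : a ∈ Cfsg.sigmaCore M
  · obtain ⟨-, haM, -⟩ := A0_sub hG hM h ha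
    obtain ⟨-, hgM, -⟩ := A0_sub hG hM h hga
    obtain ⟨n, hn, e⟩ := (Cfsg.Agent.S1438.result hG M hM (Cfsg.sigmaCore M) le_rfl
      (SigmaCore.sigmaCore_ne_bot hG hM) (by rw [Subgroup.relIndex_self]; exact Nat.coprime_one_right _)).2 a haS g
      ((conj_mem_core_iff hG hM haM hgM).mpr haS)
    exact ⟨n, hn.1, e⟩
  · exact ⟨g, mem_of_fusion hG hM h ha hga haS, rfl⟩

theorem supportR_of_le {a : G} (hle : Subgroup.centralizer ({a} : Set G) ≤ M) : Cfsg.supportR M a = ⊥ := by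
  unfold Cfsg.supportR
  rw [dif_neg fun hn => hn.1 hle]

theorem supportR_eq (hG : Cfsg.IsMinSimpleOddOrder G) (hM : IsCoatom M) {a : G} (ha : a ∈ Cfsg.sigmaCore M)
    (ha1 : a ≠ 1) {N : Subgroup G} (hov : SigmaCentralizer.Over M N a)
    (hnle : ¬ Subgroup.centralizer ({a} : Set G) ≤ M) :
    Cfsg.supportR M a = Cfsg.sigmaCore N ⊓ Subgroup.centralizer ({a} : Set G) := by
  have hN : ∃! L : Subgroup G, IsCoatom L ∧ Subgroup.centralizer ({a} : Set G) ≤ L :=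
    ⟨N, ⟨hov.coatom, hov.le⟩, fun L hL => hov.unique L hL.1 hL.2⟩
  unfold Cfsg.supportR
  rw [dif_pos ⟨hnle, hN⟩]
  have e := hov.unique _ (Classical.choose_spec hN.exists).1 (Classical.choose_spec hN.exists).2
  rw [e, SigmaCentralizer.sigmaCore_eq_fittingHallOf hG hov.coatom hov.nilpotent]

/-- The supports are coprime to the centralisers in `M` of `A₀(M)`. -/
theorem support_coprime (hG : Cfsg.IsMinSimpleOddOrder G) (hM : IsCoatom M) (h : Cfsg.IsSigmaDecomposition M K U)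
    {a b : G} (ha : a ∈ Cfsg.sigmaCore M) (ha1 : a ≠ 1) {N : Subgroup G} (hov : SigmaCentralizer.Over M N a)
    (hnle : ¬ Subgroup.centralizer ({a} : Set G) ≤ M) (hb : b ∈ Cfsg.typeA0 M) :
    (Nat.card (Cfsg.sigmaCore N)).Coprime (Nat.card ↥(M ⊓ Subgroup.centralizer ({b} : Set G))) := by
  refine Nat.coprime_of_dvd fun q hq hqN hqC => ?_
  haveI := Fact.mk hq
  have hqσ : q ∈ Cfsg.sigma N := SigmaTools.mem_sigma_of_card hqN
  have hqM : q ∣ Nat.card M := hqC.trans (Subgroup.card_dvd_of_le inf_le_left)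
  have hqM' : q ∉ Cfsg.sigma M := fun hs => SupportCosets.disjoint hG hM hov.coatom hov.nonconj hq hs hqσ
  obtain ⟨hκ, hτ⟩ : Cfsg.kappa M = ∅ ∧ Cfsg.tau2 M = ∅ := by
    by_cases hκN : Cfsg.kappa N = ∅
    · have hκ := SigmaNeighbour.kappa_empty hG hM hκN ha ha1 hov hqσ hqM
      exact ⟨hκ, SigmaNeighbour.tau2_empty hG hM hκ hκN ha ha1 hov hqσ hqM⟩
    · have hne := Set.nonempty_iff_ne_empty.mpr hκN
      exact ⟨(Cfsg.Agent.S1376.result hG M hM a ha ha1 hnle N hov.coatom hov.le hne).1,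
        SigmaNeighbour.tau2_empty_of_kappa hG hM ha ha1 hov hne⟩
  have key : ∀ x r : G, x ∈ Cfsg.sigmaCore M → x ≠ 1 → r ∈ M → Commute r x →
      (∀ t : ℕ, t.Prime → t ∣ orderOf r → t ∉ Cfsg.sigma M) → r = 1 := by
    intro x r hx hx1 hr hc hσ
    by_contra hr1
    obtain ⟨t, ht, htd⟩ := Nat.exists_prime_and_dvd (mt orderOf_eq_one_iff.mp hr1)
    rcases SigmaDichotomy.main hG hM hx hx1 ⟨hr, Subgroup.mem_centralizer_singleton_iff.mpr hc.eq⟩ hr1 hσ with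
      ⟨h1, -⟩ | ⟨h1, -, -⟩
    · exact Set.notMem_empty t (hκ ▸ h1 t ht htd)
    · exact Set.notMem_empty t (hτ ▸ h1 t ht htd)
  obtain ⟨⟨hbM, x, hx, hx1, hbx⟩, -, hb1⟩ := A0_sub hG hM h hb
  obtain ⟨s, r, hs, hr, hsr, -, hsπ, hrπ⟩ := SigmaCover.exists_parts (Cfsg.sigma M) b
  have hr1 : r = 1 := by
    obtain ⟨i, rfl⟩ := Subgroup.mem_zpowers_iff.mp hr
    exact key x _ hx hx1 (zpow_mem hbM i) ((show Commute b x from hbx).zpow_left i) hrπ
  rw [hr1, mul_one] at hsr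
  have hbS : b ∈ Cfsg.sigmaCore M := by
    refine SigmaTools.le_sigmaCore hG hM (Subgroup.zpowers_le.mpr hbM) (fun t ht hd => ?_) (Subgroup.mem_zpowers b)
    rw [Nat.card_zpowers, hsr] at hd
    exact hsπ t ht hd
  obtain ⟨y, hy⟩ := exists_prime_orderOf_dvd_card' (G := ↥(M ⊓ Subgroup.centralizer ({b} : Set G))) q hqC
  have hoy : orderOf (y : G) = q := by rw [Subgroup.orderOf_coe, hy]
  have hy1 := key b y hbS hb1 y.2.1 (Subgroup.mem_centralizer_singleton_iff.mp y.2.2)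
    (fun t ht hd => (Nat.prime_dvd_prime_iff_eq ht hq).mp (hoy ▸ hd) ▸ hqM')
  rw [hy1, orderOf_one] at hoy
  exact hq.ne_one hoy.symm

/-- The Dade hypothesis for an `M`-invariant subset of `A₀(M)`. -/
theorem dade (hG : Cfsg.IsMinSimpleOddOrder G) (hM : IsCoatom M) (h : Cfsg.IsSigmaDecomposition M K U) {A : Set G}
    (hA : A ⊆ Cfsg.typeA0 M) (hinv : ∀ m ∈ M, ∀ a ∈ A, m * a * m⁻¹ ∈ A) :
    Cfsg.DadeHypothesis A M (Cfsg.supportR M) := by
  have hcase : ∀ a ∈ A, Cfsg.supportR M a = ⊥ ∧ Subgroup.centralizer ({a} : Set G) ≤ M ∨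
      ∃ N : Subgroup G, a ∈ Cfsg.sigmaCore M ∧ a ≠ 1 ∧ SigmaCentralizer.Over M N a ∧
        ¬ Subgroup.centralizer ({a} : Set G) ≤ M ∧
        Cfsg.supportR M a = Cfsg.sigmaCore N ⊓ Subgroup.centralizer ({a} : Set G) := by
    intro a ha
    by_cases hle : Subgroup.centralizer ({a} : Set G) ≤ M
    · exact Or.inl ⟨supportR_of_le hle, hle⟩
    · have haS : a ∈ Cfsg.sigmaCore M := by_contra fun e => hle (centralizer_le hG hM h (hA ha) e)
      have ha1 := (A0_sub hG hM h (hA ha)).2.2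
      obtain ⟨N, hov⟩ := SigmaCentralizer.exists_over hG hM haS ha1 hle
      exact Or.inr ⟨N, haS, ha1, hov, hle, supportR_eq hG hM haS ha1 hov hle⟩
  refine ⟨fun h1 => (A0_sub hG hM h (hA h1)).2.2 rfl, fun a ha => (A0_sub hG hM h (hA ha)).2.1, hinv,
    fun a ha g hga => fusion hG hM h (hA ha) (hA hga), fun a ha => ?_, fun a ha c hc u hu => ?_,
    fun a ha => ?_, fun a ha => ?_, fun a ha b hb => ?_⟩
  · rcases hcase a ha with ⟨e, -⟩ | ⟨N, -, -, -, -, e⟩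
    · rw [e]; exact bot_le
    · rw [e]; exact inf_le_right
  · rcases hcase a ha with ⟨e, -⟩ | ⟨N, -, -, hov, -, e⟩
    · rw [e, Subgroup.mem_bot] at hu ⊢
      rw [hu]; group
    · rw [e] at hu ⊢
      exact ⟨conj_mem_of_le_normalizer (SigmaTools.le_normalizer_sigmaCore N) (hov.le hc) hu.1,
        Subgroup.mul_mem _ (Subgroup.mul_mem _ hc hu.2) (Subgroup.inv_mem _ hc)⟩
  · rcases hcase a ha with ⟨e, -⟩ | ⟨N, haS, ha1, hov, hle, e⟩
    · rw [e, bot_inf_eq]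
    · rw [e, eq_bot_iff]
      exact fun z hz => hov.bot.le ⟨hz.1.1, hz.2.1⟩
  · rcases hcase a ha with ⟨e, hle⟩ | ⟨N, haS, ha1, hov, hle, e⟩
    · rw [e, bot_sup_eq, inf_eq_right.mpr hle]
    · obtain ⟨N', ⟨hN', hCN'⟩, huniq, -, -, hc, -⟩ := Cfsg.Agent.S1375.result hG M hM a haS ha1 hle
      obtain rfl := huniq N hov.coatom hov.le
      rw [e, sup_comm, ← Basic.IsComplIn.eq_sup hc]
  · rcases hcase a ha with ⟨e, -⟩ | ⟨N, haS, ha1, hov, hle, e⟩
    · rw [e, Subgroup.card_bot]; exact Nat.coprime_one_left _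
    · rw [e]
      exact (support_coprime hG hM h haS ha1 hov hle (hA hb)).coprime_dvd_left
        (Subgroup.card_dvd_of_le inf_le_left)

/-- The three sets. -/
theorem sets (hG : Cfsg.IsMinSimpleOddOrder G) (hM : IsCoatom M) (h : Cfsg.IsSigmaDecomposition M K U) {A : Set G}
    (hA : A = Cfsg.typeA1 M ∨ A = Cfsg.typeA M ∨ A = Cfsg.typeA0 M) :
    A ⊆ Cfsg.typeA0 M ∧ (∀ m ∈ M, ∀ a ∈ A, m * a * m⁻¹ ∈ A) ∧ ∃ y ∈ A, y ≠ 1 := by
  obtain ⟨y, hy, hy1⟩ := (Subgroup.bot_or_exists_ne_one _).resolve_left (SigmaCore.sigmaCore_ne_bot hG hM)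
  have hA1 : Cfsg.typeA1 M = (Cfsg.sigmaCore M : Set G) \ {1} := by
    unfold Cfsg.typeA1; rw [typeCore_eq hG hM h]
  rcases hA with rfl | rfl | rfl
  · rw [hA1]
    exact ⟨fun a ha => Or.inl (core_sub hG hM h ha.1 ha.2),
      fun m hm a ha => ⟨conj_mem_of_le_normalizer (SigmaTools.le_normalizer_sigmaCore M) hm ha.1,
        fun e => ha.2 (conj_eq_one_iff.mp e)⟩, y, ⟨hy, hy1⟩, hy1⟩
  · exact ⟨Set.subset_union_left, typeA_inv hG hM h, y, core_sub hG hM h hy hy1, hy1⟩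
  · exact ⟨subset_rfl, A0_inv hG hM h, y, Or.inl (core_sub hG hM h hy hy1), hy1⟩

theorem main (hG : Cfsg.IsMinSimpleOddOrder G) (hM : IsCoatom M) (h : Cfsg.IsSigmaDecomposition M K U) {A : Set G}
    (hA : A = Cfsg.typeA1 M ∨ A = Cfsg.typeA M ∨ A = Cfsg.typeA0 M) :
    Subgroup.normalizer A = M ∧ Cfsg.DadeHypothesis A M (Cfsg.supportR M) := by
  obtain ⟨hsub, hinv, hne⟩ := sets hG hM h hA
  exact ⟨normalizer_eq hG hM (fun a ha => (A0_sub hG hM h (hsub ha)).2.1) hinv hne, dade hG hM h hsub hinv⟩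

end CfsgLib.OddOrder.DadeSets
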