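import Cfsg.Agent.Lib.OddOrder.TypeF

/-!
Conjugates of a sigma-factorisation.
-/

set_option autoImplicit false

namespace CfsgLib.OddOrder.DecompConj

open SigmaFusion (cj)

variable {G : Type*} [Group G] [Finite G] {M K U V L : Subgroup G}

omit [Finite G] in
theorem cj_compl {A B X : Subgroup G} (g : G) (h : Cfsg.IsComplIn A B X) :
    Cfsg.IsComplIn (cj g A) (cj g B) (cj g X) := by
  refine ⟨Subgroup.map_mono h.1, Subgroup.map_mono h.2.1, ?_, ?_⟩
  · show A.map _ ⊓ B.map _ = ⊥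
    rw [← Subgroup.map_inf _ _ _ (MulAut.conj g).injective, h.2.2.1, Subgroup.map_bot]
  · rintro _ ⟨m, hm, rfl⟩
    obtain ⟨a, ha, b, hb, rfl⟩ := h.2.2.2 m hm
    exact ⟨_, ⟨a, ha, rfl⟩, _, ⟨b, hb, rfl⟩, map_mul _ a b⟩

theorem conj (hG : Cfsg.IsMinSimpleOddOrder G) (hM : IsCoatom M) (h : Cfsg.IsSigmaDecomposition M K U) {g : G}
    (hg : g ∈ M) : Cfsg.IsSigmaDecomposition M (cj g K) (cj g U) := by
  have hgM : cj g M = M := SigmaFusion.cj_eq_self (Subgroup.le_normalizer hg)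
  have hgS : cj g (Cfsg.sigmaCore M) = Cfsg.sigmaCore M :=
    SigmaFusion.cj_eq_self (SigmaTools.le_normalizer_sigmaCore M hg)
  refine ⟨?_, ?_, ?_, ?_⟩
  · haveI := h.cyclic
    exact isCyclic_of_surjective (K.equivMapOfInjective _ (MulAut.conj g).injective) (MulEquiv.surjective _)
  · obtain ⟨h1, h2, h3⟩ := h.hall
    refine ⟨hgM ▸ Subgroup.map_mono h1, fun t ht hd => h2 t ht ?_, fun t ht htk hd => h3 t ht htk ?_⟩
    · rwa [Subgroup.card_map_of_injective (MulAut.conj g).injective] at hd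
    · rw [← hgM, Subgroup.relIndex_map_map_of_injective _ _ (MulAut.conj g).injective] at hd
      exact hd
  · have := cj_compl g h.compl
    rwa [hgM, show cj g (K ⊔ Cfsg.sigmaCore M) = cj g K ⊔ Cfsg.sigmaCore M by
      show Subgroup.map _ _ = _; rw [Subgroup.map_sup]; exact congrArg _ hgS] at this
  · rw [← SigmaTools.cj_normalizer]
    exact Subgroup.map_mono h.normal

/-- A complement of `M_σ` in `L = U M_σ` is part of a factorisation. -/
theorem exists_decomp (hG : Cfsg.IsMinSimpleOddOrder G) (hM : IsCoatom M) (h : Cfsg.IsSigmaDecomposition M K U)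
    (hLM : L ≤ M) (hc : Cfsg.IsComplIn (Cfsg.sigmaCore M) U L) (hV : Cfsg.IsComplIn (Cfsg.sigmaCore M) V L) :
    ∃ g ∈ M, Cfsg.IsSigmaDecomposition M (cj g K) V := by
  have hcop : (Nat.card (Cfsg.sigmaCore M)).Coprime ((Cfsg.sigmaCore M).relIndex L) := by
    rw [Basic.IsComplIn.relIndex_left hc]
    exact Nat.coprime_of_dvd fun t ht h1 h2 => haveI := Fact.mk ht
      (SigmaDecomp.U_primes hG hM h t ht h2).2.2 (SigmaTools.mem_sigma_of_card h1)
  obtain ⟨g, hg, e⟩ := Coprime.hall_conj (hG.2.2.2 L fun e => hM.1 (top_le_iff.mp (e ▸ hLM)))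
    (TypeP.hall_of_compl hcop hc) (TypeP.hall_of_compl hcop hV)
  exact ⟨g, hLM hg, e ▸ conj hG hM h (hLM hg)⟩

end CfsgLib.OddOrder.DecompConj
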