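import Cfsg.Agent.Lib.OddOrder.WLine
import Cfsg.Agent.Lib.OddOrder.FPFTools
import Mathlib

set_option autoImplicit false
set_option linter.style.haveILetI false
set_option linter.unusedSectionVars false

/-!
Exceptional maximal subgroups: `p ∉ σ(M)`, a plane `A ≤ M` with a line whose normalizer lies in `M`.
-/

namespace CfsgLib.OddOrder.Exceptional

open scoped commutatorElement
open A2Transitive (MaxPlane)
open SigmaFusion (cj)

variable {G : Type*} [Group G] [Finite G] {p : ℕ}

/-- An exceptional maximal subgroup. -/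
structure Exc (p : ℕ) (M A A₀ : Subgroup G) : Prop where
  coatom : IsCoatom M
  not_sigma : p ∉ Cfsg.sigma M
  le : A ≤ M
  ea : Cfsg.IsElementaryAbelian p A
  card : Nat.card A = p ^ 2
  le₀ : A₀ ≤ A
  card₀ : Nat.card A₀ = p
  normalizer : Subgroup.normalizer (A₀ : Set G) ≤ M

variable [hp : Fact p.Prime] {M A A₀ : Subgroup G}

theorem Exc.rank_two (hG : Cfsg.IsMinSimpleOddOrder G) (h : Exc p M A A₀) : Cfsg.PRankLE p 2 M := by
  by_contra hr
  exact h.not_sigma (SigmaBasics.mem_sigma_of_alpha hG h.coatom ⟨hp.out, hr⟩)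

theorem Exc.maxPlane (hG : Cfsg.IsMinSimpleOddOrder G) (h : Exc p M A A₀) : MaxPlane p A :=
  ⟨h.ea, h.card, fun _ hB hle => TauTwo.maximal_plane hG h.coatom (h.rank_two hG) h.le h.ea h.card hB hle⟩

theorem Exc.centralizer_le (h : Exc p M A A₀) : Subgroup.centralizer (A : Set G) ≤ M :=
  (Subgroup.centralizer_le h.le₀).trans ((Subgroup.centralizer_le_normalizer _).trans h.normalizer)

theorem Exc.coprime (h : Exc p M A A₀) : (Nat.card A).Coprime (Nat.card (Cfsg.sigmaCore M)) := by
  rw [h.card]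
  exact (SigmaTools.coprime_sigmaCore h.not_sigma).symm.pow_left 2

theorem Exc.dvd_card (h : Exc p M A A₀) : p ∣ Nat.card G :=
  (h.card ▸ dvd_pow_self p (by norm_num : 2 ≠ 0)).trans A.card_subgroup_dvd_card

/-- Invariant `σ(M)`-subgroups meet no conjugate of `M` containing `A`. -/
theorem Exc.eq_of_inter (hG : Cfsg.IsMinSimpleOddOrder G) (h : Exc p M A A₀) {q : ℕ} [hq : Fact q.Prime]
    (hqs : q ∈ Cfsg.sigma M) {D : Subgroup G} {g : G} (hDq : IsPGroup q D) (hD1 : D ≠ ⊥)
    (hDA : A ≤ Subgroup.normalizer (D : Set G)) (hDM : D ≤ M) (hDg : D ≤ cj g M) (hAg : A ≤ cj g M) :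
    g ∈ M := by
  have hA := h.maxPlane hG
  have hpq : q ≠ p := fun e => h.not_sigma (e ▸ hqs)
  have hMg := SigmaFusion.isCoatom_cj h.coatom g
  obtain ⟨Q₁, hD1', hQ1σ, hQ1A⟩ := SigmaTools.exists_invariant_sylow hG h.coatom hqs h.le h.coprime hDM hDq hDA
  obtain ⟨Q₂, hD2', hQ2σ, hQ2A⟩ := SigmaTools.exists_invariant_sylow hG hMg (SigmaTools.sigma_cj hqs g) hAg
    (by rw [h.card]; exact (SigmaTools.coprime_sigmaCore (SigmaTools.not_sigma_cj h.not_sigma g)).symm.pow_left 2)
    hDg hDq hDA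
  obtain ⟨k, hk, hke⟩ := A2Transitive.conj_of_inf hG hA hpq (SigmaTools.sylow_mem_max Q₁ hQ1A)
    (SigmaTools.sylow_mem_max Q₂ hQ2A) fun e => hD1 (le_bot_iff.mp ((le_inf hD1' hD2').trans e.le))
  have hkM : k ∈ M := h.centralizer_le (A2Transitive.K_le p A hk)
  have hQ2M : (Q₂ : Subgroup G) ≤ M := hke.le.trans ((Subgroup.map_mono (hQ1σ.trans (SigmaTools.sigmaCore_le M))).trans
    (Subgroup.mem_normalizer_iff_map_conj_eq.mp (Subgroup.le_normalizer hkM)).le)
  have hQ2g : (Q₂ : Subgroup G).map (MulAut.conj g⁻¹).toMonoidHom ≤ M := by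
    refine (Subgroup.map_mono (hQ2σ.trans (SigmaTools.sigmaCore_le _))).trans ?_
    show cj g⁻¹ (cj g M) ≤ M
    rw [SigmaFusion.cj_cj, inv_mul_cancel, SigmaFusion.cj_one]
  obtain ⟨m, hm, c, hc, e⟩ := (SigmaFusion.main hG h.coatom hqs Q₂.isPGroup'
    (fun e => hD1 (le_bot_iff.mp (hD2'.trans e.le))) hQ2M).1 g⁻¹ hQ2g
  have : g⁻¹ ∈ M := e ▸ mul_mem hm (SigmaTools.normalizer_sylow_le hqs Q₂ hQ2M
    (Subgroup.centralizer_le_normalizer _ hc))
  simpa using inv_mem this

theorem Exc.zLine_not_le (hG : Cfsg.IsMinSimpleOddOrder G) (h : Exc p M A A₀) (S : Sylow p G) :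
    ¬ Subgroup.normalizer (PlaneSylow.zLine S : Set G) ≤ M := fun hle =>
  h.not_sigma (SigmaTools.mem_sigma_of_sylow h.dvd_card
    ((PlaneSylow.normalizer_le_normalizer_zLine S).trans hle))

theorem Exc.ne_zLine (hG : Cfsg.IsMinSimpleOddOrder G) (h : Exc p M A A₀) (S : Sylow p G) :
    A₀ ≠ PlaneSylow.zLine S := fun e => h.zLine_not_le hG S (e ▸ h.normalizer)

/-- `N(A)` is not contained in `M`. -/
theorem Exc.not_normalizer_le (hG : Cfsg.IsMinSimpleOddOrder G) (h : Exc p M A A₀) :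
    ¬ Subgroup.normalizer (A : Set G) ≤ M := by
  intro hN
  have hA := h.maxPlane hG
  have hM := h.coatom
  obtain ⟨S, hAS⟩ := hA.isPGroup.exists_le_sylow
  by_cases hab : IsMulCommutative (S : Subgroup G)
  · exact h.not_sigma (SigmaTools.mem_sigma_of_sylow h.dvd_card
      ((PlaneSylow.abelian_case hG hA hAS hab).2.1.trans hN))
  set Z := PlaneSylow.zLine S with hZ
  have hZA : Z ≤ A := PlaneSylow.zLine_le hA hAS
  have hZc : Nat.card Z = p := PlaneSylow.zLine_card hG hA hAS hab
  have hZ1 : Z ≠ ⊥ := fun e => by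
    rw [e, Subgroup.card_bot] at hZc
    exact hp.out.ne_one hZc.symm
  have hZp : IsPGroup p Z := hA.isPGroup.to_le hZA
  obtain ⟨L, hL, hNL⟩ := Uniqueness.exists_coatom_normalizer (p := p) hG.2 hZ1 hZp
  have hSL : (S : Subgroup G) ≤ L :=
    Subgroup.le_normalizer.trans ((PlaneSylow.normalizer_le_normalizer_zLine S).trans hNL)
  have hpL : p ∈ Cfsg.sigma L := SigmaTools.mem_sigma_of_sylow h.dvd_card
    ((PlaneSylow.normalizer_le_normalizer_zLine S).trans hNL)
  have hconj : ∀ x : G, L ≠ cj x M := fun x e => SigmaTools.not_sigma_cj h.not_sigma x (e ▸ hpL)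
  have hne : L ≠ M := fun e => h.not_sigma (e ▸ hpL)
  have hZM' : Z ≤ ⁅M, M⁆ := (PlaneSylow.zLine_le_derived hG hA hAS hab).trans (Subgroup.commutator_mono hN hN)
  -- `Z` centralises the `σ`-parts outside `β(M)`
  have hZcen : ∀ q : ℕ, q.Prime → q ∈ Cfsg.sigma M → q ∉ Cfsg.beta M → ∀ R : Subgroup G, IsPGroup q R →
      R ≤ M → A ≤ Subgroup.normalizer (R : Set G) → R ≤ Subgroup.centralizer (Z : Set G) := by
    intro q hq hqs hqb R hR hRM hRA
    haveI := Fact.mk hq
    exact SigmaTools.centralizes_in_derived hG hM (fun e : q = p => h.not_sigma (e ▸ hqs))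
      (fun hb => A2Centralize.not_ideal hA hb.2) hqb hR hZp
      ((SigmaTools.pGroup_le_sigmaCore hG hM hqs hRM hR).trans (SigmaCore.le_derived hG hM)) hZM' (hZA.trans hRA)
  have hb0 : ∀ r, r ∉ Cfsg.beta M := by
    intro r hrb
    haveI := Fact.mk hrb.1.1
    have hrs := SigmaBasics.mem_sigma_of_alpha hG hM hrb.1
    have hrp : r ≠ p := fun e => h.not_sigma (e ▸ hrs)
    have hrL : r ∉ Cfsg.sigma L := fun hr => by
      obtain ⟨x, hx⟩ := SigmaTools.exists_cj_of_alpha hG hM hL hrb.1 hr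
      exact hconj x hx
    -- an element `g ∉ M` of `S` with `A^g ≤ M`
    obtain ⟨g, hgM, hgZ, hAgM, hAgS⟩ : ∃ g, g ∉ M ∧ g ∈ Subgroup.normalizer (Z : Set G) ∧
        cj g A ≤ M ∧ cj g A ≤ (S : Subgroup G) := by
      rcases (inf_le_left : (S : Subgroup G) ⊓ M ≤ (S : Subgroup G)).eq_or_lt with e | e
      · have hSM : (S : Subgroup G) ≤ M := e.ge.trans inf_le_right
        obtain ⟨g, hg, hgM⟩ := SetLike.not_le_iff_exists.mp fun hle =>
          h.not_sigma (SigmaTools.mem_sigma_of_sylow (S := S) h.dvd_card hle)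
        have h1 : cj g A ≤ (S : Subgroup G) :=
          (Subgroup.map_mono hAS).trans (Subgroup.mem_normalizer_iff_map_conj_eq.mp hg).le
        exact ⟨g, hgM, PlaneSylow.normalizer_le_normalizer_zLine S hg, h1.trans hSM, h1⟩
      · obtain ⟨g, ⟨hgS, hgN⟩, hg⟩ := SetLike.exists_of_lt (Coprime.lt_normalizer_inf_of_lt S.isPGroup' e)
        have h1 : cj g A ≤ (S : Subgroup G) ⊓ M := (Subgroup.map_mono (le_inf hAS h.le)).trans
          (Subgroup.mem_normalizer_iff_map_conj_eq.mp hgN).le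
        exact ⟨g, fun hgM => hg ⟨hgS, hgM⟩,
          PlaneSylow.normalizer_le_normalizer_zLine S (Subgroup.le_normalizer hgS),
          h1.trans inf_le_right, h1.trans inf_le_left⟩
    set A' := cj g A with hA'd
    have hA'e : Cfsg.IsElementaryAbelian p A' := Fusion.Thompson.isEA_map _ h.ea
    have hA'c : Nat.card A' = p ^ 2 := by rw [hA'd, Subgroup.card_map_of_injective (MulAut.conj g).injective, h.card]
    have hA' : MaxPlane p A' := ⟨hA'e, hA'c,
      fun B hB hle => TauTwo.maximal_plane hG hM (h.rank_two hG) hAgM hA'e hA'c hB hle⟩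
    obtain ⟨R, -, hRσ, hRA⟩ := SigmaTools.exists_invariant_sylow (q := r) hG hM hrs hAgM
      (by rw [hA'c]; exact (SigmaTools.coprime_sigmaCore h.not_sigma).symm.pow_left 2)
      (bot_le : ⊥ ≤ M) IsPGroup.of_bot (by rw [Subgroup.normalizer_eq_top]; exact le_top)
    have hRM : (R : Subgroup G) ≤ M := hRσ.trans (SigmaTools.sigmaCore_le M)
    have hbad : ∀ D : Subgroup G, D ≤ (R : Subgroup G) → D ≤ cj g M → D = ⊥ := by
      intro D hDR hDg
      by_contra hD
      obtain ⟨y, hy⟩ := exists_prime_orderOf_dvd_card' (G := D) r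
        ((R.isPGroup'.to_le hDR).card_eq_or_dvd.resolve_left fun e => hD (Subgroup.eq_bot_of_card_eq _ e))
      have hyo : orderOf (y : G) = r := by rw [Subgroup.orderOf_coe, hy]
      exact hgM (SigmaTools.mem_of_mem_cj hG hM hrs hyo
        (SigmaTools.centralizer_le_of_ideal hG hM hrs hrb.2 (hRM (hDR y.2)) hyo) (hRM (hDR y.2)) (hDg y.2))
    have hR : (R : Subgroup G) ≤ ⊥ := by
      refine FPFTools.le_of_lines hA' hRA (A2Transitive.coprime_of_qGroup hrp hrb.1.1 R.isPGroup') fun B hB hBc => ?_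
      refine (hbad _ inf_le_left ?_).le
      by_cases hBZ : B = Z
      · subst hBZ
        set D := (R : Subgroup G) ⊓ Subgroup.centralizer (Z : Set G) with hD
        have hDL : D ≤ L := inf_le_right.trans ((Subgroup.centralizer_le_normalizer _).trans hNL)
        have hA'L : A' ≤ L := hAgS.trans hSL
        have hA'σ := SigmaTools.pGroup_le_sigmaCore hG hL hpL hA'L hA'.isPGroup
        have hDA' : A' ≤ Subgroup.normalizer (D : Set G) := (le_inf hRA
          fun a ha => Subgroup.le_normalizer (H := Subgroup.centralizer (Z : Set G))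
            (Subgroup.mem_centralizer_iff.mpr fun b hb => (PlaneSylow.comm_of hA'e.1 (hB hb) ha).eq)).trans
          Subgroup.inf_normalizer_le_normalizer_inf
        have hc : ⁅D, A'⁆ = ⊥ := by
          have hbot : D ⊓ Cfsg.sigmaCore L = ⊥ := by
            obtain ⟨k, hk⟩ := (R.isPGroup'.to_le (inf_le_left : D ≤ _)).exists_card_eq
            exact (Subgroup.disjoint_of_coprime_natCard
              (hk ▸ ((SigmaTools.coprime_sigmaCore hrL).symm.pow_left k))).eq_bot
          refine le_bot_iff.mp (hbot ▸ le_inf (Subgroup.le_normalizer_iff_commutator_le_left.1 hDA') ?_)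
          rw [Subgroup.commutator_comm]
          exact (Subgroup.commutator_mono hA'σ le_rfl).trans (Subgroup.le_normalizer_iff_commutator_le_left.1
            (hDL.trans (SigmaTools.le_normalizer_sigmaCore L)))
        intro x hx
        have hx' := Subgroup.commutator_eq_bot_iff_le_centralizer.mp hc hx
        refine SigmaTools.mem_cj.mpr (h.centralizer_le (Subgroup.mem_centralizer_iff.mpr fun a ha => ?_))
        have := Subgroup.mem_centralizer_iff.mp hx' (g * a * g⁻¹) ⟨a, ha, rfl⟩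
        calc a * (g⁻¹ * x * g) = g⁻¹ * ((g * a * g⁻¹) * x) * g := by group
          _ = g⁻¹ * (x * (g * a * g⁻¹)) * g := by rw [this]
          _ = _ := by group
      · obtain ⟨u, huS, huA, hin, hfix⟩ := PlaneSylow.exists_u hG hA hAS hab
        set B₀ := cj g⁻¹ B with hB₀
        have hB₀A : B₀ ≤ A := (Subgroup.map_mono hB).trans (by
          show cj g⁻¹ (cj g A) ≤ A
          rw [SigmaFusion.cj_cj, inv_mul_cancel, SigmaFusion.cj_one])
        have hB₀c : Nat.card B₀ = p := by rw [hB₀, Subgroup.card_map_of_injective (MulAut.conj g⁻¹).injective, hBc]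
        have hB₀Z : B₀ ≠ Z := fun e => hBZ (by
          have := congrArg (cj g) e
          rw [hB₀, SigmaFusion.cj_cj, mul_inv_cancel, SigmaFusion.cj_one] at this
          exact this.trans (Subgroup.mem_normalizer_iff_map_conj_eq.mp hgZ))
        obtain ⟨i, hi⟩ := PlaneSylow.lines_conj hG hA hAS hab huS hin hfix h.le₀ h.card₀ (h.ne_zLine hG S)
          hB₀A hB₀c hB₀Z
        have hNB : Subgroup.normalizer (B : Set G) ≤ cj g M := by
          have hBeq : B = cj g (cj (u ^ i) A₀) := by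
            rw [hi, hB₀, SigmaFusion.cj_cj, mul_inv_cancel, SigmaFusion.cj_one]
          rw [hBeq, ← SigmaTools.cj_normalizer, ← SigmaTools.cj_normalizer]
          refine Subgroup.map_mono ((Subgroup.map_mono h.normalizer).trans ?_)
          exact (Subgroup.mem_normalizer_iff_map_conj_eq.mp (Subgroup.le_normalizer (hN (pow_mem huA i)))).le
        exact inf_le_right.trans ((Subgroup.centralizer_le_normalizer _).trans hNB)
    exact R.not_dvd_index (by rw [le_bot_iff.mp hR, Subgroup.index_bot]; exact SigmaTools.sigma_dvd hrs)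
  -- now `Z` centralises `M_σ`
  have hZσ : Z ≤ Subgroup.centralizer (Cfsg.sigmaCore M : Set G) := by
    rw [Subgroup.le_centralizer_iff]
    intro x hx
    have htop : (Subgroup.centralizer (Z : Set G)).subgroupOf (Cfsg.sigmaCore M) = ⊤ := by
      refine Solvable.Cores.eq_top_of_sylow_le _ fun q hq => ?_
      haveI := Fact.mk hq
      obtain ⟨P, hP⟩ := Coprime.exists_invariant_sylow (h.le.trans (SigmaTools.le_normalizer_sigmaCore M))
        h.coprime (Or.inl (Group.isSolvable_of_comm fun a b => h.ea.1.1.comm a b)) q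
      refine ⟨P, fun y hy => ?_⟩
      rcases P.isPGroup'.card_eq_or_dvd with h1 | h1
      · rw [Subgroup.eq_bot_of_card_eq _ h1, Subgroup.mem_bot] at hy
        rw [hy]; exact one_mem _
      · exact hZcen q hq (SigmaTools.mem_sigma_of_card (h1.trans (Subgroup.card_subgroup_dvd_card _))) (hb0 q)
          _ (P.isPGroup'.map _) ((Subgroup.map_subtype_le _).trans (SigmaTools.sigmaCore_le M)) hP ⟨y, hy, rfl⟩
    exact (htop.ge (Subgroup.mem_top (⟨x, hx⟩ : Cfsg.sigmaCore M)) :)
  obtain ⟨z, hz, hz1⟩ := Z.bot_or_exists_ne_one.resolve_left hZ1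
  obtain ⟨-, hzp⟩ := FPFTools.line_eq_zpowers hZc hz hz1
  obtain ⟨X, -, hXc, hXN, hXcen⟩ := WLine.exists_line hG hM h.not_sigma ⟨hZM' hz, hZσ hz⟩ hz1
    ⟨1, by rw [pow_one, orderOf_eq_prime hzp hz1]⟩
  obtain ⟨u, huS, huA, -, hfix⟩ := PlaneSylow.exists_u hG hA hAS hab
  have huc : u ∈ Subgroup.centralizer (X : Set G) := hXcen _
    (S.isPGroup'.to_le (Subgroup.zpowers_le.mpr huS)) (Subgroup.zpowers_le.mpr (hN huA)) (Subgroup.mem_zpowers u)
  have hXA : X ≤ A := fun x hx => hA.mem_of_commute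
    (by have := pow_card_eq_one' (x := (⟨x, hx⟩ : X)); rw [hXc] at this; exact congrArg Subtype.val this)
    (Subgroup.mem_centralizer_iff.mpr fun a ha =>
      (Subgroup.mem_centralizer_iff.mp (hXcen A hA.isPGroup h.le ha) x hx).symm)
  have hXZ : X = Z := Subgroup.eq_of_le_of_card_ge (fun x hx => hfix x (hXA hx)
    (Subgroup.mem_centralizer_iff.mp huc x hx).symm) (by rw [hXc, hZc])
  exact h.zLine_not_le hG S (hXZ ▸ hXN.le : Subgroup.normalizer (Z : Set G) ≤ M)

end CfsgLib.OddOrder.Exceptional
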