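import Cfsg.Agent.Lib.OddOrder.Exceptional
import Cfsg.Agent.Lib.Coprime.Abelian
import Cfsg.Agent.Lib.Solvable.SupersolvableCriteria
import Mathlib

set_option autoImplicit false
set_option linter.style.haveILetI false
set_option linter.unusedSectionVars false

/-!
The structure of exceptional maximal subgroups: `M_σ` is nilpotent, `C(A) ∩ M_σ = 1`, `M_σ A ◁ M`.
-/

namespace CfsgLib.OddOrder.Exceptional

open scoped commutatorElement
open A2Transitive (MaxPlane)
open SigmaFusion (cj)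

variable {G : Type*} [Group G] [Finite G] {p : ℕ} [hp : Fact p.Prime] {M A A₀ : Subgroup G}

theorem Exc.solvable_A (h : Exc p M A A₀) : Group.IsSolvable A :=
  Group.isSolvable_of_comm fun a b => h.ea.1.1.comm a b

/-- The conjugates of `A₀` under `N(A) \ M` act fixed point freely on `M_σ`. -/
theorem Exc.fpf (hG : Cfsg.IsMinSimpleOddOrder G) (h : Exc p M A A₀) {g : G}
    (hg : g ∈ Subgroup.normalizer (A : Set G)) (hgM : g ∉ M) :
    Cfsg.sigmaCore M ⊓ Subgroup.centralizer (cj g A₀ : Set G) = ⊥ := by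
  set D := Cfsg.sigmaCore M ⊓ Subgroup.centralizer (cj g A₀ : Set G) with hD
  have hA₂ : cj g A₀ ≤ A := (Subgroup.map_mono h.le₀).trans (Subgroup.mem_normalizer_iff_map_conj_eq.mp hg).le
  have hAg : A ≤ cj g M := (Subgroup.mem_normalizer_iff_map_conj_eq.mp hg).ge.trans (Subgroup.map_mono h.le)
  have hDA : A ≤ Subgroup.normalizer (D : Set G) := (le_inf (h.le.trans (SigmaTools.le_normalizer_sigmaCore M))
    fun a ha => Subgroup.le_normalizer (H := Subgroup.centralizer (cj g A₀ : Set G))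
      (Subgroup.mem_centralizer_iff.mpr fun b hb => (PlaneSylow.comm_of h.ea.1 (hA₂ hb) ha).eq)).trans
    Subgroup.inf_normalizer_le_normalizer_inf
  have hDg : D ≤ cj g M := inf_le_right.trans ((Subgroup.centralizer_le_normalizer _).trans
    ((SigmaTools.cj_normalizer g A₀).ge.trans (Subgroup.map_mono h.normalizer)))
  by_contra hne
  obtain ⟨q, hq, hd⟩ := Nat.exists_prime_and_dvd (mt Subgroup.card_eq_one.mp hne)
  haveI := Fact.mk hq
  obtain ⟨P, hP⟩ := Coprime.exists_invariant_sylow hDA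
    (h.coprime.coprime_dvd_right (Subgroup.card_dvd_of_le inf_le_left)) (Or.inl h.solvable_A) q
  refine hgM (h.eq_of_inter hG (SigmaTools.mem_sigma_of_card (hd.trans (Subgroup.card_dvd_of_le inf_le_left)))
    (P.isPGroup'.map D.subtype) ?_ hP ((Subgroup.map_subtype_le _).trans (inf_le_left.trans (SigmaTools.sigmaCore_le M)))
    ((Subgroup.map_subtype_le _).trans hDg) hAg)
  intro e
  have e' := (Subgroup.map_eq_bot_iff_of_injective _ D.subtype_injective).mp e
  exact P.not_dvd_index (by rw [e', Subgroup.index_bot]; exact hd)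

theorem Exc.exists_g (hG : Cfsg.IsMinSimpleOddOrder G) (h : Exc p M A A₀) :
    ∃ g ∈ Subgroup.normalizer (A : Set G), g ∉ M :=
  SetLike.not_le_iff_exists.mp (h.not_normalizer_le hG)

/-- `C(A) ∩ M_σ = 1`. -/
theorem Exc.centralizer_sigma (hG : Cfsg.IsMinSimpleOddOrder G) (h : Exc p M A A₀) :
    Cfsg.sigmaCore M ⊓ Subgroup.centralizer (A : Set G) = ⊥ := by
  obtain ⟨g, hg, hgM⟩ := h.exists_g hG
  refine le_bot_iff.mp ((inf_le_inf_left _ (Subgroup.centralizer_le (SetLike.coe_subset_coe.mpr ?_))).trans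
    (h.fpf hG hg hgM).le)
  exact (Subgroup.map_mono h.le₀).trans (Subgroup.mem_normalizer_iff_map_conj_eq.mp hg).le

/-- `M_σ` is nilpotent. -/
theorem Exc.sigma_nilpotent (hG : Cfsg.IsMinSimpleOddOrder G) (h : Exc p M A A₀) :
    Group.IsNilpotent (Cfsg.sigmaCore M) := by
  obtain ⟨g, hg, hgM⟩ := h.exists_g hG
  have hc : Nat.card (cj g A₀) = p := by rw [Subgroup.card_map_of_injective (MulAut.conj g).injective, h.card₀]
  obtain ⟨x, hx, hx1⟩ := (cj g A₀).bot_or_exists_ne_one.resolve_left fun e => hp.out.ne_one (by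
    rw [← hc, e, Subgroup.card_bot])
  obtain ⟨hxz, hxp⟩ := FPFTools.line_eq_zpowers hc hx hx1
  refine FPFTools.isNilpotent_of_fpf hp.out hxp (SigmaTools.le_normalizer_sigmaCore M (h.le
    ((Subgroup.map_mono h.le₀).trans (Subgroup.mem_normalizer_iff_map_conj_eq.mp hg).le hx))) ?_
  rw [← SigmaTools.centralizer_zpowers, hxz]
  exact h.fpf hG hg hgM

/-- `p`-subgroups of `M` over `A` are abelian and centralise `A`. -/
theorem Exc.pGroup (hG : Cfsg.IsMinSimpleOddOrder G) (h : Exc p M A A₀) {P : Subgroup G} (hP : IsPGroup p P)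
    (hPM : P ≤ M) (hAP : A ≤ P) : IsMulCommutative P ∧ P ≤ Subgroup.centralizer (A : Set G) := by
  have hA := h.maxPlane hG
  obtain ⟨S, hPS⟩ := hP.exists_le_sylow
  have hAS := hAP.trans hPS
  by_cases hab : IsMulCommutative (S : Subgroup G)
  · exact ⟨⟨⟨fun a b => Subtype.ext (PlaneSylow.comm_of hab (hPS a.2) (hPS b.2)).eq⟩⟩,
      fun x hx => Subgroup.mem_centralizer_iff.mpr fun a ha => (PlaneSylow.comm_of hab (hAS ha) (hPS hx)).eq⟩
  suffices hc : P ≤ Subgroup.centralizer (A : Set G) by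
    have habC := PlaneSylow.centralizer_commutative hG hA hAS hab
    exact ⟨⟨⟨fun a b => Subtype.ext (PlaneSylow.comm_of habC ⟨hPS a.2, hc a.2⟩ ⟨hPS b.2, hc b.2⟩).eq⟩⟩, hc⟩
  by_contra hnc
  set Z := PlaneSylow.zLine S with hZ
  have hZA : Z ≤ A := PlaneSylow.zLine_le hA hAS
  have hZc : Nat.card Z = p := PlaneSylow.zLine_card hG hA hAS hab
  set C := P ⊓ Subgroup.centralizer (A : Set G) with hC
  have hClt : C < P := lt_of_le_of_ne inf_le_left fun e => hnc (e ▸ inf_le_right)
  obtain ⟨u, ⟨huP, huN⟩, huC⟩ := SetLike.exists_of_lt (Coprime.lt_normalizer_inf_of_lt hP hClt)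
  have huA : u ∈ Subgroup.normalizer (A : Set G) := NormalizerFusion.mem_normalizer_of_conj fun a ha =>
    hA.mem_of_commute (by rw [conj_pow, h.ea.2 a ha]; group)
      ((Subgroup.mem_normalizer_iff.mp huN a).mp ⟨hAP ha, Subgroup.mem_centralizer_iff.mpr fun b hb =>
        (PlaneSylow.comm_of h.ea.1 hb ha).eq⟩).2
  obtain ⟨hin, hfix⟩ := PlaneSylow.u_props hG hA hAS hab (hPS huP) huA fun e => huC ⟨huP, e⟩
  have huM : u ∈ M := hPM huP
  obtain ⟨g, hg, hgM⟩ := h.exists_g hG
  have hg2A : cj g A₀ ≤ A := (Subgroup.map_mono h.le₀).trans (Subgroup.mem_normalizer_iff_map_conj_eq.mp hg).le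
  have hg2c : Nat.card (cj g A₀) = p := by rw [Subgroup.card_map_of_injective (MulAut.conj g).injective, h.card₀]
  have hg2Z : cj g A₀ ≠ Z := fun e => h.ne_zLine hG S (by
    have h1 : cj g A₀ = cj g Z := e.trans
      (Subgroup.mem_normalizer_iff_map_conj_eq.mp (PlaneSylow.normalizer_le_zLine hG hA hAS hab hg)).symm
    exact Subgroup.map_injective (MulAut.conj g).injective h1)
  have hfree : ∀ B : Subgroup G, B ≤ A → Nat.card B = p → B ≠ Z →
      Cfsg.sigmaCore M ⊓ Subgroup.centralizer (B : Set G) = ⊥ := by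
    intro B hB hBc hBZ
    obtain ⟨i, hi⟩ := PlaneSylow.lines_conj hG hA hAS hab (hPS huP) hin hfix hg2A hg2c hg2Z hB hBc hBZ
    rw [← hi, SigmaFusion.cj_cj]
    exact h.fpf hG (mul_mem (pow_mem huA i) hg)
      fun e => hgM (by simpa using mul_mem (inv_mem (pow_mem huM i)) e)
  have hσZ : Cfsg.sigmaCore M ≤ Subgroup.centralizer (Z : Set G) := by
    refine FPFTools.le_of_lines hA (h.le.trans (SigmaTools.le_normalizer_sigmaCore M))
      (SigmaTools.coprime_sigmaCore h.not_sigma) fun B hB hBc => ?_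
    by_cases e : B = Z
    · exact e ▸ inf_le_right
    · exact (hfree B hB hBc e).le.trans bot_le
  obtain ⟨a, ha, haZ⟩ := SetLike.exists_of_lt (lt_of_le_of_ne hZA fun e => by
    rw [e, h.card] at hZc
    nth_rw 2 [← pow_one p] at hZc
    exact absurd (Nat.pow_right_injective hp.out.two_le hZc) (by norm_num))
  have hne : ⁅u, a⁆ ≠ 1 := fun e => haZ (hfix a ha (commutatorElement_eq_one_iff_commute.mp e))
  have hzp : ⁅u, a⁆ ^ p = 1 := (PlaneSylow.mem_zLine.mp (hin a ha)).2.2
  obtain ⟨X, -, hXc, hXN, hXcen⟩ := WLine.exists_line hG h.coatom h.not_sigma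
    (w := ⁅u, a⁆) ⟨Subgroup.commutator_mem_commutator huM (h.le ha),
      Subgroup.le_centralizer_iff.mp hσZ (hin a ha)⟩ hne ⟨1, by rw [pow_one, orderOf_eq_prime hzp hne]⟩
  have hXA : X ≤ A := fun x hx => hA.mem_of_commute
    (by have := pow_card_eq_one' (x := (⟨x, hx⟩ : X)); rw [hXc] at this; exact congrArg Subtype.val this)
    (Subgroup.mem_centralizer_iff.mpr fun b hb =>
      (Subgroup.mem_centralizer_iff.mp (hXcen A hA.isPGroup h.le hb) x hx).symm)
  have hXZ : X = Z := Subgroup.eq_of_le_of_card_ge (fun x hx => hfix x (hXA hx)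
    (Subgroup.mem_centralizer_iff.mp (hXcen P hP hPM huP) x hx).symm) (by rw [hXc, hZc])
  exact h.zLine_not_le hG S (hXZ ▸ hXN.le : Subgroup.normalizer (Z : Set G) ≤ M)

/-- Fixed point free invariant subgroups centralise `M_σ`. -/
theorem Exc.centralizes_sigma (hG : Cfsg.IsMinSimpleOddOrder G) (h : Exc p M A A₀) {r : ℕ} [hr : Fact r.Prime]
    (hrp : r ≠ p) (hrs : r ∉ Cfsg.sigma M) {R : Subgroup G} (hR : IsPGroup r R) (hRM : R ≤ M)
    (hRA : A ≤ Subgroup.normalizer (R : Set G)) (hfree : R ⊓ Subgroup.centralizer (A : Set G) = ⊥) :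
    R ≤ Subgroup.centralizer (Cfsg.sigmaCore M : Set G) := by
  have hA := h.maxPlane hG
  refine FPFTools.le_of_lines hA hRA (A2Transitive.coprime_of_qGroup hrp hr.out hR) fun B hB hBc => ?_
  obtain ⟨g, hg, hgB, hgM⟩ : ∃ g ∈ Subgroup.normalizer (A : Set G), cj g A₀ ≠ B ∧ g ∉ M := by
    by_contra hcon
    push Not at hcon
    obtain ⟨g, hg, hgM⟩ := h.exists_g hG
    have h1 : cj g A₀ = B := by by_contra e; exact hgM (hcon g hg e)
    have hg2 : g * g ∈ M := by
      by_contra hgg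
      have h2 : cj (g * g) A₀ = B := by by_contra e; exact hgg (hcon _ (mul_mem hg hg) e)
      rw [← SigmaFusion.cj_cj, ← h1] at h2
      have h3 : cj g A₀ = A₀ := Subgroup.map_injective (MulAut.conj g).injective h2
      exact hgM (h.normalizer (Subgroup.mem_normalizer_iff_map_conj_eq.mpr h3))
    obtain ⟨j, hj⟩ : Odd (orderOf g) := hG.1.of_dvd_nat (orderOf_dvd_natCard g)
    refine hgM ?_
    have h4 : g * (g * g) ^ j = 1 := by rw [← sq, ← pow_mul, ← pow_succ', ← hj, pow_orderOf_eq_one]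
    rw [eq_inv_of_mul_eq_one_left h4]
    exact inv_mem (pow_mem hg2 j)
  have hA₂ : cj g A₀ ≤ A := (Subgroup.map_mono h.le₀).trans (Subgroup.mem_normalizer_iff_map_conj_eq.mp hg).le
  have hA₂c : Nat.card (cj g A₀) = p := by rw [Subgroup.card_map_of_injective (MulAut.conj g).injective, h.card₀]
  obtain ⟨x, hx, hx1⟩ := (cj g A₀).bot_or_exists_ne_one.resolve_left fun e => hp.out.ne_one (by
    rw [← hA₂c, e, Subgroup.card_bot])
  obtain ⟨hxz, hxp⟩ := FPFTools.line_eq_zpowers hA₂c hx hx1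
  set R₁ := R ⊓ Subgroup.centralizer (B : Set G) with hR₁
  have hR₁n : A ≤ Subgroup.normalizer (R₁ : Set G) := (le_inf hRA fun a ha =>
    Subgroup.le_normalizer (H := Subgroup.centralizer (B : Set G))
      (Subgroup.mem_centralizer_iff.mpr fun b hb => (PlaneSylow.comm_of h.ea.1 (hB hb) ha).eq)).trans
    Subgroup.inf_normalizer_le_normalizer_inf
  refine FPFTools.centralizes_of_fpf hp.out (h.sigma_nilpotent hG) hxp
    (SigmaTools.le_normalizer_sigmaCore M (h.le (hA₂ hx)))
    ((inf_le_left.trans hRM).trans (SigmaTools.le_normalizer_sigmaCore M)) (hR₁n (hA₂ hx)) ?_ ?_ ?_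
    (SigmaTools.coprime_sigmaCore h.not_sigma)
  · rw [← SigmaTools.centralizer_zpowers, hxz, hR₁, inf_assoc, ← FPFTools.centralizer_sup,
      FPFTools.sup_lines hA hB hBc hA₂ hA₂c (Ne.symm hgB), hfree]
  · rw [← SigmaTools.centralizer_zpowers, hxz]
    exact h.fpf hG hg hgM
  · obtain ⟨k, hk⟩ := (hR.to_le (inf_le_left : R₁ ≤ R)).exists_card_eq
    rw [hk]
    exact (SigmaTools.coprime_sigmaCore hrs).pow_right k

/-- A `p`-element acting nontrivially on a group of prime order `r` has `p < r`. -/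
theorem lt_of_acts {r : ℕ} [hr : Fact r.Prime] {X : Subgroup G} (hX : Nat.card X = r) {a : G} (hap : a ^ p = 1)
    (haX : a ∈ Subgroup.normalizer (X : Set G)) (hac : a ∉ Subgroup.centralizer (X : Set G)) : p < r := by
  haveI : IsCyclic X := isCyclic_of_prime_card hX
  set φ := X.normalizerMonoidHom ⟨a, haX⟩ with hφ
  have hφp : φ ^ p = 1 := by
    rw [hφ, ← map_pow, show (⟨a, haX⟩ : Subgroup.normalizer (X : Set G)) ^ p = 1 from Subtype.ext (by simpa using hap),
      map_one]
  have hφ1 : φ ≠ 1 := fun e => hac (Subgroup.mem_centralizer_iff.mpr fun x hx => by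
    have h0 : ((φ ⟨x, hx⟩ : X) : G) = x := by rw [e]; rfl
    have h1 : a * x * a⁻¹ = x := h0
    calc x * a = (a * x * a⁻¹) * a := by rw [h1]
      _ = a * x := by group)
  have h2 : p ∣ Nat.card (MulAut X) := orderOf_eq_prime hφp hφ1 ▸ orderOf_dvd_natCard φ
  rw [IsCyclic.card_mulAut, hX, Nat.totient_prime hr.out] at h2
  have := Nat.le_of_dvd (by have := hr.out.two_le; omega) h2
  have := hr.out.two_le
  omega

/-- `A` centralises its invariant subgroups of `M` for primes outside `σ(M) ∪ {p}`. -/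
theorem Exc.centralizes (hG : Cfsg.IsMinSimpleOddOrder G) (h : Exc p M A A₀) {r : ℕ} [hr : Fact r.Prime]
    (hrp : r ≠ p) (hrs : r ∉ Cfsg.sigma M) {R : Subgroup G} (hR : IsPGroup r R) (hRM : R ≤ M)
    (hRA : A ≤ Subgroup.normalizer (R : Set G)) : R ≤ Subgroup.centralizer (A : Set G) := by
  have hA := h.maxPlane hG
  have hM := h.coatom
  by_contra hnc
  haveI := h.ea.1
  have hra : Cfsg.PRankLE r 2 M := by
    by_contra hr'
    exact hrs (SigmaBasics.mem_sigma_of_alpha hG hM ⟨hr.out, hr'⟩)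
  have hcopR := A2Transitive.coprime_A hA (A2Transitive.coprime_of_qGroup hrp hr.out hR)
  -- `C_R(A) = 1` and `R' = [R, A]`
  set R' := ⁅R, A⁆ with hR'
  have hR'R : R' ≤ R := Subgroup.le_normalizer_iff_commutator_le_left.1 hRA
  have hR'A : A ≤ Subgroup.normalizer (R' : Set G) := Subgroup.normalizer_commutator_ge_right R A
  have hR'1 : R' ≠ ⊥ := fun e => hnc (Subgroup.commutator_eq_bot_iff_le_centralizer.mp e)
  have hcase : r ∣ Nat.card (Subgroup.centralizer (A : Set G)) → Cfsg.IsIdealPrime r G := fun hd => by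
    by_contra hi
    exact hnc (A2Centralize.centralizes hG hA hrp hi hd hR hRA)
  have hrk1 : r ∣ Nat.card (Subgroup.centralizer (A : Set G)) → Cfsg.PRankLE r 1 M := fun hd => by
    by_contra hr1
    exact TauTwo.not_ideal hG hM hra hr1 (hcase hd)
  have hrC : ∀ D : Subgroup G, IsPGroup r D → D ≤ Subgroup.centralizer (A : Set G) → D ≠ ⊥ →
      r ∣ Nat.card (Subgroup.centralizer (A : Set G)) := fun D hD hDC hD1 =>
    (hD.card_eq_or_dvd.resolve_left fun e => hD1 (Subgroup.eq_bot_of_card_eq _ e)).trans (Subgroup.card_dvd_of_le hDC)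
  have hfree : R' ⊓ Subgroup.centralizer (A : Set G) = ⊥ := by
    by_contra hne
    haveI : IsCyclic R := SigmaComplement.isCyclic_of_rank_one hG.1 hRM hR
      (hrk1 (hrC _ ((hR.to_le hR'R).to_le inf_le_left) inf_le_right hne))
    haveI : IsMulCommutative R := inferInstance
    refine hne (le_bot_iff.mp ?_)
    rw [← Coprime.centralizer_inf_commutator_eq_bot hRA hcopR]
    exact le_inf (le_inf (inf_le_left.trans hR'R) inf_le_right) inf_le_left
  have hR'σ := h.centralizes_sigma hG hrp hrs (hR.to_le hR'R) (hR'R.trans hRM) hR'A hfree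
  have hR'W : R' ≤ WLine.W M := le_inf (Subgroup.commutator_mono hRM h.le) hR'σ
  obtain ⟨w, hw, hw1⟩ := R'.bot_or_exists_ne_one.resolve_left hR'1
  obtain ⟨X, hXW, hXc, hXN, hXcen⟩ := WLine.exists_line hG hM hrs (hR'W hw) hw1 (by
    obtain ⟨k, hk⟩ := IsPGroup.iff_orderOf.mp (hR.to_le hR'R) ⟨w, hw⟩
    exact ⟨k, by rw [Subgroup.orderOf_mk] at hk; exact hk⟩)
  have hXM : X ≤ M := hXW.trans (WLine.W_le M)
  have hAX : A ≤ Subgroup.normalizer (X : Set G) := h.le.trans hXN.ge
  have hX1 : X ≠ ⊥ := fun e => hr.out.ne_one (by rw [← hXc, e, Subgroup.card_bot])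
  have hXr : IsPGroup r X := IsPGroup.of_card (n := 1) (by rw [hXc, pow_one])
  have hXA : ¬ A ≤ Subgroup.centralizer (X : Set G) := by
    intro hle
    have hXC := Subgroup.le_centralizer_iff.mp hle
    have hr1 := hrk1 (hrC X hXr hXC hX1)
    haveI := WLine.W_isNilpotent hG hM
    haveI : Group.IsNilpotent (⊤ : Subgroup (WLine.W M)) := Subgroup.isNilpotent _
    set O := (Cfsg.pCore r (WLine.W M)).map (WLine.W M).subtype with hO
    haveI : IsCyclic O := SigmaComplement.isCyclic_of_rank_one hG.1 ((Subgroup.map_subtype_le _).trans (WLine.W_le M))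
      ((Solvable.Cores.isPGroup_pCore r).map _) hr1
    have hin : ∀ D : Subgroup G, D ≤ WLine.W M → IsPGroup r D → D ≤ O := fun D hDW hD d hd => by
      obtain ⟨k, hk⟩ := IsPGroup.iff_orderOf.mp hD ⟨d, hd⟩
      rw [Subgroup.orderOf_mk] at hk
      exact ⟨⟨d, hDW hd⟩, RankTwoGlobal.mem_pCore_of_mem (N := ⊤) (Subgroup.mem_top _)
        ⟨k, by rw [Subgroup.orderOf_mk, hk]⟩, rfl⟩
    obtain ⟨y, hy⟩ := exists_prime_orderOf_dvd_card' (G := R') r
      ((hR.to_le hR'R).card_eq_or_dvd.resolve_left fun e => hR'1 (Subgroup.eq_bot_of_card_eq _ e))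
    have heq : X = Subgroup.zpowers (y : G) := Solvable.SupersolvableCriteria.eq_of_card_eq_of_le_cyclic
      (A := O) (hin X hXW hXr) ((Subgroup.zpowers_le.mpr y.2).trans (hin R' hR'W (hR.to_le hR'R)))
      (by rw [Nat.card_zpowers, Subgroup.orderOf_coe, hy, hXc])
    have hmem : (y : G) ∈ R' ⊓ Subgroup.centralizer (A : Set G) :=
      ⟨y.2, hXC (heq.ge (Subgroup.mem_zpowers _))⟩
    rw [hfree, Subgroup.mem_bot] at hmem
    rw [← Subgroup.orderOf_coe, hmem, orderOf_one] at hy
    exact hr.out.ne_one hy.symm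
  obtain ⟨⟨-, hr1⟩, hri, -⟩ := TauTwo.of_normalizer_le hG hM hrs hXc hXN.le
  have hrnC : ∀ D : Subgroup G, IsPGroup r D → D ≤ Subgroup.centralizer (A : Set G) → D = ⊥ :=
    fun D hD hDC => by
      by_contra hne
      exact hri (hcase (hrC D hD hDC hne))
  obtain ⟨a, ha, haX⟩ := SetLike.not_le_iff_exists.mp hXA
  have hpr := lt_of_acts hXc (h.ea.2 a ha) (hAX ha) haX
  -- an invariant Sylow `r`-subgroup of `M` inside `O_{p'}(M)`
  haveI : Group.IsSolvable M := hG.2.2.2 M hM.1
  have hpb : p ∉ Cfsg.beta M := fun e => A2Centralize.not_ideal hA e.2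
  set O := (Cfsg.pPrimeCore p M).map M.subtype with hO
  have hOc : (Nat.card O).Coprime p := by
    rw [hO, Subgroup.card_map_of_injective M.subtype_injective]
    exact Solvable.Cores.coprime_card_pPrimeCore p
  have hMO : M ≤ Subgroup.normalizer (O : Set G) := by
    refine (Subgroup.normal_subgroupOf_iff_le_normalizer (Subgroup.map_subtype_le _)).mp ?_
    rw [Subgroup.subgroupOf, Subgroup.comap_map_eq_self_of_injective M.subtype_injective]
    infer_instance
  obtain ⟨T, hT⟩ := Coprime.exists_invariant_sylow (h.le.trans hMO) (A2Transitive.coprime_A hA hOc)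
    (Or.inl h.solvable_A) r
  set S := (T : Subgroup O).map O.subtype with hS
  have hSM : S ≤ M := (Subgroup.map_subtype_le _).trans (Subgroup.map_subtype_le _)
  have hSr : IsPGroup r S := T.isPGroup'.map _
  have hScard : Nat.card S = r ^ (Nat.card M).factorization r := by
    rw [hS, Coprime.card_map_subtype, T.card_eq_multiplicity]
    congr 1
    have hidx : ¬ r ∣ (Cfsg.pPrimeCore p M).index := fun e => not_lt.mpr
      ((NarrowMaximal.main hG hM ((h.card ▸ dvd_pow_self p (by norm_num : 2 ≠ 0)).trans (Subgroup.card_dvd_of_le h.le))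
        hpb).2.2 r hr.out e) hpr
    rw [hO, Subgroup.card_map_of_injective M.subtype_injective, ← Subgroup.card_mul_index (Cfsg.pPrimeCore p M),
      Nat.factorization_mul Nat.card_pos.ne' Subgroup.index_ne_zero_of_finite, Finsupp.add_apply,
      Nat.factorization_eq_zero_of_not_dvd hidx, add_zero]
  have hSσ := h.centralizes_sigma hG hrp hrs hSr hSM hT (hrnC _ (hSr.to_le inf_le_left) inf_le_right)
  -- a plane through `X` inside `S` centralises `M_σ`
  obtain ⟨E, hEM, hEe, hE2⟩ := UniqueTools.exists_isEA_of_not_rankLE hr1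
  obtain ⟨S₀, hS₀⟩ := Coprime.exists_sylow_map_eq hSM hScard
  obtain ⟨Q, hQ⟩ := ((Fusion.Thompson.isPGroup_isEA hEe).of_equiv (Subgroup.subgroupOfEquivOfLe hEM).symm).exists_le_sylow
  obtain ⟨m, hm⟩ := MulAction.exists_smul_eq M Q S₀
  set E' := cj (m : G) E with hE'
  have hE'S : E' ≤ S := by
    rw [← hS₀, ← hm, Coprime.map_smul_sylow]
    exact Subgroup.map_mono fun x hx => ⟨⟨x, hEM hx⟩, hQ hx, rfl⟩
  have hE'M : E' ≤ M := hE'S.trans hSM
  have hE'e : Cfsg.IsElementaryAbelian r E' := Fusion.Thompson.isEA_map _ hEe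
  have hXe : Cfsg.IsElementaryAbelian r X := by
    obtain ⟨x, hx, hx1⟩ := X.bot_or_exists_ne_one.resolve_left hX1
    obtain ⟨hxz, hxp⟩ := FPFTools.line_eq_zpowers hXc hx hx1
    exact hxz ▸ Replacement.isEA_zpowers hxp
  have hBe := Replacement.isEA_sup hXe hE'e
    (Subgroup.le_centralizer_iff.mp (hXcen E' (Fusion.Thompson.isPGroup_isEA hE'e) hE'M))
  have hBM : X ⊔ E' ≤ M := sup_le hXM hE'M
  have hBc : Nat.card ↥(X ⊔ E') = r ^ 2 := by
    refine le_antisymm (RankTwo.card_le_sq hra hBe hBM) ?_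
    refine le_trans ?_ (Subgroup.card_le_of_le le_sup_right)
    rw [hE', Subgroup.card_map_of_injective (MulAut.conj (m : G)).injective]
    exact hE2
  have hExc : Exc r M (X ⊔ E') X := ⟨hM, hrs, hBM, hBe, hBc, le_sup_left, hXc, hXN.le⟩
  refine SigmaCore.sigmaCore_ne_bot hG hM ?_
  rw [← hExc.centralizer_sigma hG, left_eq_inf, Subgroup.le_centralizer_iff]
  exact sup_le (hXW.trans inf_le_right) (hE'S.trans hSσ)

/-- `M` normalises `M_σ A`. -/
theorem Exc.plane_sup_normal (hG : Cfsg.IsMinSimpleOddOrder G) (h : Exc p M A A₀) :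
    M ≤ Subgroup.normalizer ((Cfsg.sigmaCore M ⊔ A : Subgroup G) : Set G) := by
  have hA := h.maxPlane hG
  have hM := h.coatom
  haveI : Group.IsSolvable M := hG.2.2.2 M hM.1
  set N := Cfsg.sigmaCore M ⊔ A with hN
  set V := Cfsg.sigmaCore M ⊔ (M ⊓ Subgroup.centralizer (A : Set G)) with hV
  have hVN : V ≤ Subgroup.normalizer (N : Set G) := by
    refine sup_le (le_sup_left.trans Subgroup.le_normalizer) fun x hx => ?_
    refine Subgroup.mem_normalizer_iff_map_conj_eq.mpr ?_
    rw [hN, Subgroup.map_sup, Subgroup.mem_normalizer_iff_map_conj_eq.mp (SigmaTools.le_normalizer_sigmaCore M hx.1),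
      Subgroup.mem_normalizer_iff_map_conj_eq.mp (Subgroup.centralizer_le_normalizer _ hx.2)]
  set O := (Cfsg.pPrimeCore p M).map M.subtype with hO
  have hOM : O ≤ M := Subgroup.map_subtype_le _
  have hOc : (Nat.card O).Coprime p := by
    rw [hO, Subgroup.card_map_of_injective M.subtype_injective]
    exact Solvable.Cores.coprime_card_pPrimeCore p
  have hMO : M ≤ Subgroup.normalizer (O : Set G) := by
    refine (Subgroup.normal_subgroupOf_iff_le_normalizer hOM).mp ?_
    rw [Subgroup.subgroupOf, Subgroup.comap_map_eq_self_of_injective M.subtype_injective]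
    infer_instance
  have hOV : O ≤ V := by
    intro x hx
    have htop : V.subgroupOf O = ⊤ := by
      refine Solvable.Cores.eq_top_of_sylow_le _ fun q hq => ?_
      haveI := Fact.mk hq
      obtain ⟨T, hT⟩ := Coprime.exists_invariant_sylow (h.le.trans hMO) (A2Transitive.coprime_A hA hOc)
        (Or.inl h.solvable_A) q
      refine ⟨T, fun y hy => ?_⟩
      have hTM : (T : Subgroup O).map O.subtype ≤ M := (Subgroup.map_subtype_le _).trans hOM
      rcases T.isPGroup'.card_eq_or_dvd with h1 | h1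
      · rw [Subgroup.eq_bot_of_card_eq _ h1, Subgroup.mem_bot] at hy
        rw [hy]; exact one_mem _
      have hqp : q ≠ p := fun e => hp.out.ne_one (Nat.eq_one_of_dvd_coprimes hOc
        (e ▸ h1.trans (Subgroup.card_subgroup_dvd_card _)) dvd_rfl)
      by_cases hqs : q ∈ Cfsg.sigma M
      · exact Subgroup.mem_sup_left (SigmaTools.pGroup_le_sigmaCore hG hM hqs hTM (T.isPGroup'.map _) ⟨y, hy, rfl⟩)
      · exact Subgroup.mem_sup_right ⟨hTM ⟨y, hy, rfl⟩,
          h.centralizes hG hqp hqs (T.isPGroup'.map _) hTM hT ⟨y, hy, rfl⟩⟩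
    exact (htop.ge (Subgroup.mem_top (⟨x, hx⟩ : O)) :)
  obtain ⟨S, hS⟩ := (hA.isPGroup.of_equiv (Subgroup.subgroupOfEquivOfLe h.le).symm).exists_le_sylow
  have hAS : A ≤ (S : Subgroup M).map M.subtype := fun a ha => ⟨⟨a, h.le ha⟩, hS ha, rfl⟩
  obtain ⟨hSab, hSC⟩ := h.pGroup hG (S.isPGroup'.map M.subtype) (Subgroup.map_subtype_le _) hAS
  intro x hx
  obtain ⟨n, hn, o, ho, e⟩ := PLengthOne.exists_decomp S (ProperPLength.maximal hG hM) ⟨x, hx⟩
  have hnA : (n : G) ∈ Subgroup.normalizer (A : Set G) := NormalizerFusion.mem_normalizer_of_conj fun a ha => by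
    obtain ⟨s, hs, hse⟩ := hAS ha
    refine hA.mem_of_commute (by rw [conj_pow, h.ea.2 a ha]; group) (hSC ⟨n * s * n⁻¹, (Subgroup.mem_normalizer_iff.mp hn s).mp hs, ?_⟩)
    simp [← hse]
  have hnN : (n : G) ∈ Subgroup.normalizer (N : Set G) := by
    refine Subgroup.mem_normalizer_iff_map_conj_eq.mpr ?_
    rw [hN, Subgroup.map_sup, Subgroup.mem_normalizer_iff_map_conj_eq.mp (SigmaTools.le_normalizer_sigmaCore M n.2),
      Subgroup.mem_normalizer_iff_map_conj_eq.mp hnA]
  have hoN : (o : G) ∈ Subgroup.normalizer (N : Set G) := hVN (hOV ⟨o, ho, rfl⟩)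
  have hxe : x = (n : G) * o := (congrArg Subtype.val e).symm
  exact hxe ▸ mul_mem hnN hoN

end CfsgLib.OddOrder.Exceptional
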