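import Cfsg.Agent.Lib.OddOrder.ExtraspecialDim
import Cfsg.Agent.Lib.Solvable.FPFOperators.FactorRep
import Cfsg.Prelude.Def_Transfer
import Mathlib

set_option autoImplicit false

/-!
An element of odd prime order acting on an extraspecial group, fixed-point-freely modulo the centre, has fixed points
in every module on which the centre acts without fixed points.
-/

namespace CfsgLib.OddOrder.ExtraspecialFixed

open scoped commutatorElement

variable {G : Type*} [Group G] [Finite G] {p q r : ℕ} [hp : Fact p.Prime] [hq : Fact q.Prime] [hr : Fact r.Prime]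
  {V Q : Subgroup G} {z x : G}

theorem false_of_group (hq2 : q ≠ 2) (hr2 : r ≠ 2) (hpq : p ≠ q) (hpr : p ≠ r)
    (hVe : Cfsg.IsElementaryAbelian p V) (hVb : V ≠ ⊥) (hQV : Q ≤ Subgroup.normalizer (V : Set G))
    (hxV : x ∈ Subgroup.normalizer (V : Set G)) (hQq : IsPGroup q Q) (hzQ : z ∈ Q) (hzq : z ^ q = 1)
    (hQQ : ⁅Q, Q⁆ ≤ Subgroup.zpowers z) (hzc : ∀ k ∈ Q, Commute k z)
    (hcenter : ∀ k ∈ Q, (∀ g ∈ Q, Commute g k) → k ∈ Subgroup.zpowers z) (hQne : ¬ Q ≤ Subgroup.zpowers z)
    (hxr : x ^ r = 1) (hxQ : x ∈ Subgroup.normalizer (Q : Set G)) (hxz : Commute x z)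
    (hfpf : ∀ k ∈ Q, ⁅x, k⁆ ∈ Subgroup.zpowers z → k ∈ Subgroup.zpowers z)
    (hVz : V ⊓ Subgroup.centralizer ({z} : Set G) = ⊥) (hVx : V ⊓ Subgroup.centralizer ({x} : Set G) = ⊥) :
    False := by
  classical
  haveI := hVe.1
  letI : CommGroup V := { (inferInstance : Group V) with mul_comm := mul_comm' }
  let K := AlgebraicClosure (ZMod p)
  haveI : CharP K p := charP_of_injective_algebraMap (algebraMap (ZMod p) K).injective p
  set Y := Q ⊔ Subgroup.zpowers x with hY
  have hYV : Y ≤ Subgroup.normalizer (V : Set G) := sup_le hQV (Subgroup.zpowers_le.mpr hxV)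
  let φ : Y →* MulAut V := V.normalizerMonoidHom.comp (Subgroup.inclusion hYV)
  have hφ : ∀ (y : Y) (v : V), ((φ y v : V) : G) = (y : G) * v * (y : G)⁻¹ := fun y v => rfl
  obtain ⟨d, ρ, e1, -, e3⟩ :=
    Solvable.FPFOperators.exists_extend_mulAut K (fun v : V => Subtype.ext (hVe.2 v v.2)) φ
  let xY : Y := ⟨x, Subgroup.mem_sup_right (Subgroup.mem_zpowers x)⟩
  let zY : Y := ⟨z, Subgroup.mem_sup_left hzQ⟩
  have hfix : ∀ (y : Y), V ⊓ Subgroup.centralizer ({(y : G)} : Set G) = ⊥ → ∀ v, φ y v = v → v = 1 := by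
    intro y hy v hv
    have hm : (v : G) ∈ V ⊓ Subgroup.centralizer ({(y : G)} : Set G) := by
      refine Subgroup.mem_inf.mpr ⟨v.2, Subgroup.mem_centralizer_singleton_iff.mpr ?_⟩
      exact (mul_inv_eq_iff_eq_mul.mp ((hφ y v).symm.trans (congrArg Subtype.val hv))).symm
    rw [hy, Subgroup.mem_bot] at hm
    exact Subtype.ext hm
  have hxsum := e3 xY r (Subtype.ext (by simpa [xY] using hxr)) (hfix xY hVx)
  have hzsum := e3 zY q (Subtype.ext (by simpa [zY] using hzq)) (hfix zY hVz)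
  haveI : Nontrivial (Fin d → K) := by
    by_contra hn
    rw [not_nontrivial_iff_subsingleton] at hn
    refine hVb (eq_bot_iff.mpr fun v hv => Subgroup.mem_bot.mpr ?_)
    exact congrArg Subtype.val (hfix xY hVx ⟨v, hv⟩ ((e1 xY).mp (Subsingleton.elim _ _) ⟨v, hv⟩))
  obtain ⟨c, hc⟩ := Module.End.exists_eigenvalue (ρ zY)
  set E := Module.End.eigenspace (ρ zY) c with hE
  haveI : Nontrivial E := Submodule.nontrivial_iff_ne_bot.mpr hc
  obtain ⟨w, hw, hw0⟩ := (Submodule.ne_bot_iff E).mp hc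
  have hzw : ∀ (n : ℕ) {u : Fin d → K}, u ∈ E → ρ (zY ^ n) u = c ^ n • u := by
    intro n u hu
    induction n with
    | zero => simp
    | succ n ih =>
      rw [pow_succ', map_mul, Module.End.mul_apply, ih, map_smul, Module.End.mem_eigenspace_iff.mp hu, smul_smul,
        pow_succ]
  have hcq : c ^ q = 1 := by
    have h := hzw q hw
    rw [show zY ^ q = 1 from Subtype.ext (by simpa [zY] using hzq), map_one, Module.End.one_apply] at h
    have h2 : (c ^ q - 1) • w = 0 := by rw [sub_smul, one_smul, ← h, sub_self]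
    exact sub_eq_zero.mp ((smul_eq_zero.mp h2).resolve_right hw0)
  have hqK : (q : K) ≠ 0 := fun h =>
    hpq ((Nat.prime_dvd_prime_iff_eq hp.out hq.out).mp ((CharP.cast_eq_zero_iff K p q).mp h))
  have hc1 : c ≠ 1 := by
    intro h
    have h2 := LinearMap.congr_fun hzsum w
    rw [LinearMap.sum_apply, Finset.sum_congr rfl fun n _ => hzw n hw] at h2
    simp only [h, one_pow, one_smul, Finset.sum_const, Finset.card_range, LinearMap.zero_apply] at h2
    rw [← Nat.cast_smul_eq_nsmul K] at h2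
    exact hw0 ((smul_eq_zero.mp h2).resolve_left hqK)
  have hco : orderOf c = q := orderOf_eq_prime hcq hc1
  have hYz : ∀ y : Y, Commute y zY := by
    have h : Y ≤ Subgroup.centralizer ({z} : Set G) :=
      sup_le (fun k hk => Subgroup.mem_centralizer_singleton_iff.mpr (hzc k hk).eq)
        (Subgroup.zpowers_le.mpr (Subgroup.mem_centralizer_singleton_iff.mpr hxz.eq))
    exact fun y => Subtype.ext (Subgroup.mem_centralizer_singleton_iff.mp (h y.2))
  have hinv : ∀ y : Y, ∀ u ∈ E, ρ y u ∈ E := by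
    intro y u hu
    rw [hE, Module.End.mem_eigenspace_iff] at hu ⊢
    rw [← Module.End.mul_apply, ← map_mul, ← (hYz y).eq, map_mul, Module.End.mul_apply, hu, map_smul]
  let ρE : Y →* Module.End K E :=
    { toFun := fun y => (ρ y).restrict (hinv y)
      map_one' := LinearMap.ext fun u => Subtype.ext (by simp [LinearMap.restrict_apply])
      map_mul' := fun a b => LinearMap.ext fun u => Subtype.ext (by simp [LinearMap.restrict_apply]) }
  let ρQ : Q →* Module.End K E := ρE.comp (Subgroup.inclusion (le_sup_left : Q ≤ Y))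
  set Zs := (Subgroup.zpowers z).subgroupOf Q with hZs
  haveI : Zs.Normal := ⟨fun n hn g => by
    obtain ⟨i, hi⟩ := Subgroup.mem_zpowers_iff.mp (Subgroup.mem_subgroupOf.mp hn)
    refine Subgroup.mem_subgroupOf.mpr (Subgroup.mem_zpowers_iff.mpr ⟨i, ?_⟩)
    rw [Subgroup.coe_mul, Subgroup.coe_mul, Subgroup.coe_inv, ← hi, ((hzc g g.2).zpow_right i).eq,
      mul_inv_cancel_right]⟩
  have hscal : ∀ (k : Q) (n : ℕ), z ^ n = (k : G) → ρQ k = c ^ n • 1 := by
    intro k n hn
    refine LinearMap.ext fun u => Subtype.ext ?_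
    show ρ (Subgroup.inclusion _ k) (u : Fin d → K) = c ^ n • (u : Fin d → K)
    rw [show Subgroup.inclusion (le_sup_left : Q ≤ Y) k = zY ^ n from Subtype.ext (by simpa [zY] using hn.symm),
      hzw n u.2]
  have hnat : ∀ k : Q, k ∈ Zs → ∃ n : ℕ, z ^ n = (k : G) := fun k hk =>
    Submonoid.mem_powers_iff _ _ |>.mp (mem_powers_iff_mem_zpowers.mpr (Subgroup.mem_subgroupOf.mp hk))
  have hcomm : ∀ g k : Q, ⁅g, k⁆ ∈ Zs := fun g k =>
    Subgroup.mem_subgroupOf.mpr (hQQ
      (by simpa [commutatorElement_def] using Subgroup.commutator_mem_commutator g.2 k.2))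
  have hdata : ExtraspecialDim.Data Zs ρQ := by
    refine ⟨hcomm, fun k hk => ?_, fun k hk => ?_⟩
    · obtain ⟨n, hn⟩ := hnat k hk
      exact ⟨c ^ n, hscal k n hn⟩
    · by_contra hno
      push Not at hno
      refine hk (Subgroup.mem_subgroupOf.mpr (hcenter k k.2 fun g hg => ?_))
      obtain ⟨n, hn⟩ := hnat _ (hcomm ⟨g, hg⟩ k)
      have h1 := hno ⟨g, hg⟩
      rw [hscal _ n hn] at h1
      obtain ⟨u, hu⟩ := exists_ne (0 : E)
      have h2 : c ^ n • (u : Fin d → K) = u := congrArg Subtype.val (LinearMap.congr_fun h1 u)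
      have h3 : (c ^ n - 1) • (u : Fin d → K) = 0 := by rw [sub_smul, one_smul, h2, sub_self]
      have hu' : (u : Fin d → K) ≠ 0 := fun h0 => hu (Subtype.ext h0)
      have h4 : q ∣ n := hco ▸ orderOf_dvd_of_pow_eq_one (sub_eq_zero.mp ((smul_eq_zero.mp h3).resolve_right hu'))
      obtain ⟨m, rfl⟩ := h4
      rw [pow_mul, hzq, one_pow] at hn
      have h5 : ⁅g, (k : G)⁆ = 1 := by simpa [commutatorElement_def] using hn.symm
      exact commutatorElement_eq_one_iff_commute.mp h5
  obtain ⟨a, ha⟩ := (hQq.to_quotient Zs).exists_card_eq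
  have hD : (Nat.card (Q ⧸ Zs) : K) ≠ 0 := by rw [ha, Nat.cast_pow]; exact pow_ne_zero _ hqK
  have hDo : Odd (Nat.card (Q ⧸ Zs)) := by rw [ha]; exact (hq.out.odd_of_ne_two hq2).pow
  have hD1 : Nat.card (Q ⧸ Zs) ≠ 1 := by
    rw [← Subgroup.index_eq_card, Ne, Subgroup.index_eq_one, hZs, Subgroup.subgroupOf_eq_top]
    exact hQne
  have hrK : (r : K) ≠ 0 := fun h =>
    hpr ((Nat.prime_dvd_prime_iff_eq hp.out hr.out).mp ((CharP.cast_eq_zero_iff K p r).mp h))
  let σ : Q ≃* Q := Q.normalizerMonoidHom ⟨x, hxQ⟩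
  have hσ : ∀ g : Q, ((σ g : Q) : G) = x * g * x⁻¹ := fun g => rfl
  have hσn : ∀ (n : ℕ) (g : Q), ((σ^[n] g : Q) : G) = x ^ n * g * (x ^ n)⁻¹ := by
    intro n
    induction n with
    | zero => intro g; simp
    | succ n ih =>
      intro g
      rw [Function.iterate_succ_apply', hσ, ih, pow_succ']
      group
  refine ExtraspecialDim.false_of_rep (W := E) hdata hD hDo hD1 hr.out hr2 hrK σ
    (fun g => Subtype.ext (by rw [hσn, hxr]; simp)) (fun k hk => ?_) (fun g hg => ?_) (X := ρE xY) ?_ ?_ ?_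
  · obtain ⟨n, hn⟩ := hnat k hk
    refine Subgroup.mem_subgroupOf.mpr ?_
    rw [hσ, ← hn, (hxz.pow_right n).eq, mul_inv_cancel_right]
    exact pow_mem (Subgroup.mem_zpowers z) n
  · have hg' : (g : G)⁻¹ * (x * g * x⁻¹) ∈ Subgroup.zpowers z := by
      rw [← hσ]; exact Subgroup.mem_subgroupOf.mp hg
    have h1 := hfpf _ (inv_mem g.2) (by
      rw [← inv_mem_iff]
      simpa [commutatorElement_def, mul_assoc] using hg')
    exact Subgroup.mem_subgroupOf.mpr (by simpa using h1)
  · rw [← map_pow, show xY ^ r = 1 from Subtype.ext (by simpa [xY] using hxr), map_one]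
  · refine LinearMap.ext fun u => Subtype.ext ?_
    have h := LinearMap.congr_fun hxsum (u : Fin d → K)
    rw [LinearMap.sum_apply] at h
    rw [LinearMap.sum_apply, AddSubmonoidClass.coe_finsetSum]
    simp only [← map_pow]
    exact h
  · intro g
    show ρE xY * ρE _ = ρE _ * ρE xY
    rw [← map_mul, ← map_mul]
    congr 1
    exact Subtype.ext (show x * (g : G) = (x * g * x⁻¹) * x by group)

end CfsgLib.OddOrder.ExtraspecialFixed
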