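import Cfsg.Agent.Lib.OddOrder.DadeSets
import Cfsg.Agent.Lib.Char.CoherenceFeitMain
import Cfsg.Agent.Lib.Char.DadeGen
import Cfsg.Agent.Lib.Char.Virtual
import Cfsg.Agent.Lib.FrobRealize.FixedPointFree
import Cfsg.Agent.S1524
import Mathlib.GroupTheory.SpecificGroups.ZGroup

/-!
Coherence for the Frobenius maximal subgroups of Type I (Peterfalvi, the coherence step for Type I).
-/

set_option autoImplicit false

namespace CfsgLib.OddOrder.FrobeniusCoherence

open scoped commutatorElement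
open CfsgLib.Char

variable {G : Type*} [Group G]

/-- Integer combinations of irreducible characters are generalized characters. -/
theorem isGen_of_zspan {L : Type*} [Group L] [Fintype L] {S : Set (L → ℂ)}
    (hS : ∀ χ ∈ S, Cfsg.IsIrrCharacter L χ) {α : L → ℂ} (h : α ∈ Cfsg.zspan S) : Cfsg.IsGeneralizedCharacter L α := by
  have h0 : Cfsg.IsGeneralizedCharacter L (0 : L → ℂ) := by
    refine isGeneralizedCharacter_iff.2 ⟨fun _ _ => rfl, fun χ _ => ⟨0, ?_⟩⟩
    simp [Cfsg.classInner]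
  have hadd : ∀ a b : L → ℂ, Cfsg.IsGeneralizedCharacter L a → Cfsg.IsGeneralizedCharacter L b →
      Cfsg.IsGeneralizedCharacter L (a + b) := fun a b ha hb => by
    have := IsGeneralizedCharacter.sub ha (IsGeneralizedCharacter.sub h0 hb)
    simpa using this
  have h' : α ∈ Submodule.span ℤ S := h
  clear h
  induction h' using Submodule.span_induction with
  | mem x hx =>
    refine isGeneralizedCharacter_iff.2 ⟨IsIrrCharacter.isClassFunction (hS x hx), fun χ hχ => ?_⟩
    by_cases e : x = χ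
    · exact ⟨1, by rw [classInner_irr (hS x hx) hχ, if_pos e]; norm_num⟩
    · exact ⟨0, by rw [classInner_irr (hS x hx) hχ, if_neg e]; norm_num⟩
  | zero => exact h0
  | add a b _ _ ha hb => exact hadd a b ha hb
  | smul n a _ ha =>
    induction n using Int.induction_on with
    | zero => rw [zero_smul]; exact h0
    | succ i ih => rw [add_smul, one_smul]; exact hadd _ _ ih ha
    | pred i ih => rw [sub_smul, one_smul]; exact IsGeneralizedCharacter.sub ih ha

/-- Functions in the span of characters induced from a normal subgroup vanish outside it. -/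
theorem eq_zero_of_notMem {L : Type*} [Group L] [Fintype L] {K : Subgroup L} [K.Normal] {S : Set (L → ℂ)}
    (hS : ∀ χ ∈ S, ∃ θ : K → ℂ, χ = Cfsg.indFun K θ) {α : L → ℂ} (h : α ∈ Cfsg.zspan S) {g : L} (hg : g ∉ K) :
    α g = 0 := by
  have h' : α ∈ Submodule.span ℤ S := h
  clear h
  induction h' using Submodule.span_induction with
  | mem x hx => obtain ⟨θ, rfl⟩ := hS x hx; exact indFun_eq_zero_of_normal K θ hg
  | zero => rfl
  | add a b _ _ ha hb => rw [Pi.add_apply, ha, hb, add_zero]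
  | smul n a _ ha => rw [Pi.smul_apply, ha, smul_zero]

section
variable [Fintype G] {A : Set G} {L : Subgroup G} {H : G → Subgroup G}

theorem dade_one (hD : Cfsg.DadeHypothesis A L H) (α : L → ℂ) : Cfsg.dadeIsometry A L H α 1 = 0 := by
  refine Dade.dade_eq_zero ?_
  rintro ⟨a, ha, x, u, hu, e⟩
  rw [mul_one, mul_inv_cancel] at e
  have hau : (a : G) = u⁻¹ := eq_inv_of_mul_eq_one_left e.symm
  have h2 : (a : G) ∈ H a ⊓ (L ⊓ Subgroup.centralizer ({(a : G)} : Set G)) :=
    ⟨by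
      have := Subgroup.inv_mem _ hu
      rwa [← hau] at this, a.2, Subgroup.mem_centralizer_singleton_iff.mpr rfl⟩
  rw [hD.inf_eq_bot _ ha, Subgroup.mem_bot] at h2
  exact hD.one_not_mem (h2 ▸ ha)

variable [Fintype L]

theorem dade_isometryOn (hD : Cfsg.DadeHypothesis A L H) {S : Set (L → ℂ)}
    (hS : ∀ χ ∈ S, Cfsg.IsIrrCharacter L χ)
    (hA : ∀ α ∈ Cfsg.zspanOn S {1}ᶜ, ∀ x : L, (x : G) ∉ A → α x = 0) :
    Cfsg.IsLinearIsometryOn (Cfsg.zspanOn S {1}ᶜ) (Cfsg.dadeIsometry A L H) := by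
  refine ⟨fun α _ β _ => ?_, fun α _ n => ?_, fun α hα β hβ => ?_, fun α hα => ?_⟩
  · funext g
    unfold Cfsg.dadeIsometry
    simp only [Pi.add_apply]
    split_ifs <;> simp
  · funext g
    unfold Cfsg.dadeIsometry
    simp only [Pi.smul_apply]
    split_ifs <;> simp
  · exact Dade.classInner_dade_dade hD (IsGeneralizedCharacter.isClassFunction (isGen_of_zspan hS hα.1))
      (hA α hα) (IsGeneralizedCharacter.isClassFunction (isGen_of_zspan hS hβ.1))
  · exact Dade.isGeneralizedCharacter_dade hD (isGen_of_zspan hS hα.1) (hA α hα)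

/-- For a TI-set the Dade map is induction. -/
theorem dade_eq_indFun (hD : Cfsg.DadeHypothesis A L H) (hR : ∀ a ∈ A, H a = ⊥)
    (hti : ∀ a ∈ A, ∀ g : G, g * a * g⁻¹ ∈ A → g ∈ L) {α : L → ℂ} (hα : Cfsg.IsClassFunction L α)
    (hA : ∀ x : L, (x : G) ∉ A → α x = 0) : Cfsg.dadeIsometry A L H α = Cfsg.indFun L α := by
  classical
  funext g
  by_cases hg : g ∈ Dade.supp A L H
  · obtain ⟨a, ha, x, u, hu, e⟩ := hg
    rw [Dade.dade_apply hD hα a ha hu e]
    have hu1 : u = 1 := by rw [hR _ ha, Subgroup.mem_bot] at hu; exact hu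
    rw [hu1, mul_one] at e
    have hga : g = x⁻¹ * (a : G) * x := by rw [← e]; group
    have hcl := indFun_isClassFunction (H := L) (θ := α)
    have e2 : Cfsg.indFun L α g = Cfsg.indFun L α (a : G) := by
      rw [← hcl g x, e]
    rw [e2]
    unfold Cfsg.indFun
    have hterm : ∀ y : G, Cfsg.extendByZero L α (y⁻¹ * a * y) = if y ∈ L then α a else 0 := by
      intro y
      by_cases hy : y ∈ L
      · rw [if_pos hy]
        rw [CfsgLib.Char.extendByZero_apply_mem L α (mul_mem (mul_mem (inv_mem hy) a.2) hy)]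
        have := hα a ⟨y⁻¹, inv_mem hy⟩
        refine Eq.trans (congrArg α (Subtype.ext ?_)) this
        simp
      · rw [if_neg hy]
        by_cases hm : y⁻¹ * a * y ∈ L
        · rw [CfsgLib.Char.extendByZero_apply_mem L α hm]
          refine hA _ fun hmA => hy ?_
          simpa using inv_mem (hti a ha y⁻¹ (by simpa using hmA))
        · exact CfsgLib.Char.extendByZero_apply_notMem L α hm
    rw [Finset.sum_congr rfl fun y _ => hterm y, Finset.sum_ite, Finset.sum_const_zero, add_zero,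
      Finset.sum_const, nsmul_eq_mul]
    have hc : (Finset.univ.filter fun y : G => y ∈ L).card = Nat.card L := by
      rw [Nat.card_eq_fintype_card, ← Fintype.card_subtype]
    rw [hc, ← mul_assoc, inv_mul_cancel₀ (Nat.cast_ne_zero.mpr Nat.card_pos.ne'), one_mul]
  · rw [Dade.dade_eq_zero hg]
    unfold Cfsg.indFun
    rw [Finset.sum_eq_zero, mul_zero]
    intro y _
    by_cases hm : y⁻¹ * g * y ∈ L
    · rw [CfsgLib.Char.extendByZero_apply_mem L α hm]
      refine hA _ fun hmA => hg ⟨⟨_, hm⟩, hmA, y⁻¹, 1, one_mem _, ?_⟩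
      simp
    · exact CfsgLib.Char.extendByZero_apply_notMem L α hm

end

theorem isCoherent_congr {L : Type*} [Group L] [Fintype L] [Fintype G] {S : Set (L → ℂ)}
    {τ τ' : (L → ℂ) → (G → ℂ)} (h : Cfsg.IsCoherent S {1}ᶜ τ) (he : ∀ α ∈ Cfsg.zspanOn S {1}ᶜ, τ α = τ' α) :
    Cfsg.IsCoherent S {1}ᶜ τ' := by
  obtain ⟨h1, τ₁, h2, h3⟩ := h
  exact ⟨h1, τ₁, h2, fun α hα => (h3 α hα).trans (he α hα)⟩

theorem inducedIrrAbove_eq {N : Type*} [Group N] [Fintype N] (K : Subgroup N) [K.Normal] [Fintype K] :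
    Cfsg.inducedIrrAbove K ⊥ = Coherence.indNontriv K K := by
  refine (Eq.symm ?_).trans (Coherence.diff_eq_indNontriv K K)
  refine sdiff_eq_left.mpr (Set.disjoint_right.mpr ?_)
  rintro _ ⟨θ, hθ, hθ1, hker, rfl⟩
  exact absurd (congrArg Subtype.val (Feit.eq_one_of_const (K := K) (θ := ⟨θ, hθ⟩)
    ((Feit.trivOn_commutator_iff K hθ).mp fun a ha =>
      hker a (Subgroup.commutator_le_left K K ha)) fun x => hker x x.2)) hθ1

/-- A noncommutative nilpotent group has commutator index at least `p ^ 2`. -/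
theorem sq_le_index {X : Type*} [Group X] [Finite X] {p : ℕ} [Fact p.Prime] (hX : IsPGroup p X)
    (hna : ¬ IsMulCommutative X) : p ^ 2 ≤ (commutator X).index := by
  haveI := hX.isNilpotent
  obtain ⟨k, hk⟩ := hX.index (commutator X)
  rw [hk]
  refine Nat.pow_le_pow_right (Fact.out : p.Prime).pos ?_
  by_contra hlt
  apply hna
  have hq : IsCyclic (X ⧸ commutator X) := by
    rcases Nat.lt_or_ge k 1 with h0 | h1
    · haveI : Subsingleton (X ⧸ commutator X) := by
        rw [← Finite.card_le_one_iff_subsingleton, ← Subgroup.index_eq_card, hk, Nat.lt_one_iff.mp h0, pow_zero]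
      infer_instance
    · have : k = 1 := by omega
      exact isCyclic_of_prime_card (p := p) (by rw [← Subgroup.index_eq_card, hk, this, pow_one])
  obtain ⟨g, hg⟩ := hq.exists_generator
  obtain ⟨x, rfl⟩ := QuotientGroup.mk_surjective g
  have htop : Subgroup.zpowers x ⊔ frattini X = ⊤ := by
    rw [eq_top_iff]
    intro y _
    obtain ⟨i, hi⟩ := Subgroup.mem_zpowers_iff.mp (hg (y : X ⧸ commutator X))
    rw [← QuotientGroup.mk_zpow, QuotientGroup.eq] at hi
    have hy : y = x ^ i * ((x ^ i)⁻¹ * y) := by group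
    rw [hy]
    exact mul_mem (Subgroup.mem_sup_left (zpow_mem (Subgroup.mem_zpowers x) i))
      (Subgroup.mem_sup_right (CfsgLib.Solvable.FrattiniFitting.commutator_le_frattini hi))
  have hx : Subgroup.zpowers x = ⊤ := frattini_nongenerating htop
  refine ⟨⟨fun a b => ?_⟩⟩
  obtain ⟨i, rfl⟩ := Subgroup.mem_zpowers_iff.mp (hx ▸ Subgroup.mem_top a)
  obtain ⟨j, rfl⟩ := Subgroup.mem_zpowers_iff.mp (hx ▸ Subgroup.mem_top b)
  exact (Commute.zpow_zpow (Commute.refl x) i j).eq

/-- A fixed point free group of odd order has all Sylow subgroups cyclic. -/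
theorem isZGroup_fpf [Finite G] {K U : Subgroup G} (hK : K ≠ ⊥) (hUK : U ≤ Subgroup.normalizer (K : Set G))
    (hfpf : ∀ a ∈ U, a ≠ 1 → K ⊓ Subgroup.centralizer {a} = ⊥) (hodd : Odd (Nat.card U)) : IsZGroup U := by
  refine ⟨fun p hp P => ?_⟩
  haveI := Fact.mk hp
  refine (FrobRealize.FPF.sylow_cyclic_or_quaternion hK hUK hfpf P).elim id ?_
  rintro ⟨rfl, m, ⟨f⟩⟩
  exfalso
  have h1 : 2 ∣ Nat.card U := by
    refine dvd_trans ?_ (Subgroup.card_subgroup_dvd_card (P : Subgroup U))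
    rw [Nat.card_congr f.toEquiv, Nat.card_eq_fintype_card, QuaternionGroup.card]
    exact ⟨2 * 2 ^ m, by ring⟩
  exact Nat.not_odd_iff_even.mpr (even_iff_two_dvd.mpr h1) hodd

/-- **Coherence for Frobenius maximal subgroups of Type I.** -/
theorem main [Fintype G] (hG : Cfsg.IsMinSimpleOddOrder G) (L : Subgroup G) [Fintype L] (hL : IsCoatom L)
    (hI : Cfsg.IsOfTypeI L)
    (hfrob : ∀ x ∈ Cfsg.fittingHallOf L, x ≠ 1 → L ⊓ Subgroup.centralizer ({x} : Set G) ≤ Cfsg.fittingHallOf L) :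
    (∀ χ ∈ Cfsg.inducedIrrAbove (Cfsg.fittingHall L) ⊥, Cfsg.IsIrrCharacter L χ) ∧
      Cfsg.IsCoherent (Cfsg.inducedIrrAbove (Cfsg.fittingHall L) ⊥) {1}ᶜ
        (Cfsg.dadeIsometry (Cfsg.typeA L) L (Cfsg.supportR L)) := by
  classical
  obtain ⟨⟨-, hodd, hb, ht, U, hU1, hUc, -, -⟩, hcases⟩ := id hI
  set H := Cfsg.fittingHall L with hHdef
  haveI : H.Normal := inferInstance
  cases nonempty_fintype H
  have hmap : H.map L.subtype = Cfsg.fittingHallOf L := rfl
  have hmem : ∀ x : L, x ∈ H ↔ (x : G) ∈ Cfsg.fittingHallOf L := by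
    intro x
    rw [← Subgroup.mem_subgroupOf (H := Cfsg.fittingHallOf L) (K := L), Basic.subgroupOf_fittingHallOf]
  have hC : ∀ h ∈ H, h ≠ 1 → Subgroup.centralizer ({h} : Set L) ≤ H := by
    intro h hh h1 g hg
    rw [hmem] at hh ⊢
    refine hfrob _ hh (fun e => h1 (Subtype.ext e)) ⟨g.2, Subgroup.mem_centralizer_singleton_iff.mpr ?_⟩
    exact congrArg Subtype.val (Subgroup.mem_centralizer_singleton_iff.mp hg)
  have hirr : ∀ χ ∈ Cfsg.inducedIrrAbove H ⊥, Cfsg.IsIrrCharacter L χ := by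
    rintro χ ⟨θ, hθ, hne, -, rfl⟩
    exact isIrr_indFun_of_frobenius H hC hθ hne
  refine ⟨hirr, ?_⟩
  have hA : Cfsg.typeA L = (Cfsg.fittingHallOf L : Set G) \ {1} := by
    simp only [Cfsg.typeA, if_pos hI]
    ext a
    simp only [Set.mem_setOf_eq, Set.mem_diff, SetLike.mem_coe, Set.mem_singleton_iff]
    refine ⟨fun ⟨haL, ha1, x, hx, hx1, hax⟩ =>
      ⟨hfrob x hx hx1 ⟨haL, Subgroup.mem_centralizer_singleton_iff.mpr hax⟩, ha1⟩,
      fun ⟨ha, ha1⟩ => ⟨Basic.fittingHallOf_le ha, ha1, a, ha, ha1, rfl⟩⟩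
  obtain ⟨K₀, U₀, hd⟩ := FittingStructure.exists_decomp hG hL
  have hD := (DadeSets.main hG hL hd (A := Cfsg.typeA L) (Or.inr (Or.inl rfl))).2
  have hvan : ∀ α ∈ Cfsg.zspanOn (Cfsg.inducedIrrAbove H ⊥) {1}ᶜ, ∀ x : L, (x : G) ∉ Cfsg.typeA L → α x = 0 := by
    intro α hα x hx
    by_cases hxH : x ∈ H
    · refine hα.2 x fun hx1 => hx ?_
      rw [hA]
      exact ⟨(hmem x).mp hxH, fun e => hx1 (Subtype.ext e)⟩
    · exact eq_zero_of_notMem (S := Cfsg.inducedIrrAbove H ⊥) (fun χ ⟨θ, _, _, _, e⟩ => ⟨θ, e⟩) hα.1 hxH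
  have hτ := dade_isometryOn hD hirr hvan
  have hτ1 : ∀ α ∈ Cfsg.zspanOn (Cfsg.inducedIrrAbove H ⊥) {1}ᶜ,
      Cfsg.dadeIsometry (Cfsg.typeA L) L (Cfsg.supportR L) α 1 = 0 := fun α _ => dade_one hD α
  by_cases hTI : Cfsg.IsTISubset (Cfsg.fittingHallOf L : Set G)
  · obtain ⟨y, hy, hy1⟩ := (Subgroup.bot_or_exists_ne_one (Cfsg.fittingHallOf L)).resolve_left
      (fun e => hb ((Subgroup.map_eq_bot_iff_of_injective _ L.subtype_injective).mp (hmap.trans e)))
    have hN : Subgroup.normalizer (Cfsg.fittingHallOf L : Set G) = L :=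
      TypeSets.normalizer_eq hG hL (fun z hz => Basic.fittingHallOf_le hz)
        (fun m hm z hz => TypeSets.conj_mem_of_le_normalizer Basic.le_normalizer_fittingHallOf hm hz) ⟨y, hy, hy1⟩
    have hti : ∀ a ∈ Cfsg.typeA L, ∀ g : G, g * a * g⁻¹ ∈ Cfsg.typeA L → g ∈ L := by
      intro a ha g hga
      rw [hA] at ha hga
      by_contra hg
      exact ha.2 (hTI g (by rw [hN]; exact hg) a ha.1 hga.1)
    have hR : ∀ a ∈ Cfsg.typeA L, Cfsg.supportR L a = ⊥ := fun a ha =>
      DadeSets.supportR_of_le fun g hg => hti a ha g (by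
        rwa [Subgroup.mem_centralizer_singleton_iff.mp hg, mul_inv_cancel_right])
    have hUL : U.map L.subtype ≤ L := Subgroup.map_subtype_le _
    have h0 := Cfsg.Agent.S1524.result (Cfsg.fittingHallOf L) L (U.map L.subtype) hodd
      Basic.fittingHallOf_le hUL (fun e => hy1 (Subgroup.mem_bot.mp (e ▸ hy)))
      (fun e => hU1 ((Subgroup.map_eq_bot_iff_of_injective _ L.subtype_injective).mp e))
      Basic.fittingHallOf_isNilpotent
      (fun x hx h hh => TypeSets.conj_mem_of_le_normalizer Basic.le_normalizer_fittingHallOf hx hh)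
      (by rw [← hmap, ← Subgroup.map_inf _ _ _ L.subtype_injective, hUc.disjoint.eq_bot, Subgroup.map_bot])
      (by rw [← hmap, ← Subgroup.map_sup, hUc.sup_eq_top, ← MonoidHom.range_eq_map, Subgroup.range_subtype])
      (fun w hw hw1 h hh hc => by
        by_contra hh1
        obtain ⟨u, hu, rfl⟩ := hw
        have hu' := hfrob h hh hh1 ⟨u.2, Subgroup.mem_centralizer_singleton_iff.mpr hc⟩
        exact hw1 (congrArg Subtype.val (Subgroup.mem_bot.mp (hUc.disjoint.le_bot ⟨(hmem u).mpr hu', hu⟩))))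
      hTI hN
    rw [Basic.subgroupOf_fittingHallOf] at h0
    exact isCoherent_congr h0 fun α hα => (dade_eq_indFun hD hR hti
      (IsGeneralizedCharacter.isClassFunction (isGen_of_zspan hirr hα.1)) (hvan α hα)).symm
  have hset : Cfsg.inducedIrrAbove H ⊥ = {χ : L → ℂ | Cfsg.IsIrrCharacter L χ ∧ ∃ h ∈ H, χ h ≠ χ 1} := by
    rw [inducedIrrAbove_eq, Feit.S_eq H hC]
  rw [hset] at hτ hτ1 ⊢
  refine Feit.isCoherent_feit H hC hb ht ?_ _ hτ hτ1
  have hidx : Odd H.index := hodd.of_dvd_nat H.index_dvd_card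
  by_cases hc : IsMulCommutative H
  · refine Or.inl ⟨hc, fun e => ?_⟩
    have h3 : Odd (Nat.card H) := hodd.of_dvd_nat (Subgroup.card_subgroup_dvd_card H)
    rw [e] at h3
    exact Nat.not_even_iff_odd.mpr hidx (Nat.not_odd_iff_even.mp (Nat.odd_add_one.mp h3))
  by_cases hpp : ∃ p m : ℕ, p.Prime ∧ Nat.card H = p ^ m
  swap
  · exact Or.inr (Or.inl hpp)
  refine Or.inr (Or.inr ?_)
  obtain ⟨p, m, hp, hm⟩ := hpp
  haveI := Fact.mk hp
  refine ⟨p, m, hp, hm, ?_⟩
  obtain ⟨hexp, -⟩ : (∀ q : ℕ, q.Prime → q ∣ Nat.card (Cfsg.fittingHallOf L) →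
      Monoid.exponent (L ⧸ H) ∣ q - 1) ∧ True := by
    rcases hcases with h | ⟨h, -, -⟩ | ⟨h, -⟩
    · exact absurd h hTI
    · exfalso
      refine hc ⟨⟨fun a b => Subtype.ext (Subtype.ext ?_)⟩⟩
      exact (congrArg Subtype.val (h.is_comm.comm (⟨_, (hmem a.1).mp a.2⟩ : Cfsg.fittingHallOf L) ⟨_, (hmem b.1).mp b.2⟩) :)
    · exact ⟨h, trivial⟩
  have hm0 : m ≠ 0 := by
    rintro rfl
    rw [pow_zero] at hm
    exact hb (Subgroup.card_eq_one.mp hm)
  have hpH : p ∣ Nat.card (Cfsg.fittingHallOf L) := by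
    rw [← hmap, Subgroup.card_map_of_injective L.subtype_injective, hm]
    exact dvd_pow_self p hm0
  have hZ : IsZGroup (L ⧸ H) := by
    haveI := isZGroup_fpf (K := H) (U := U) hb (by rw [Subgroup.normalizer_eq_top]; exact le_top)
      (fun a ha ha1 => by
        rw [eq_bot_iff]
        intro x hx
        rw [Subgroup.mem_bot]
        by_contra hx1
        have := hC x hx.1 hx1 (Subgroup.mem_centralizer_singleton_iff.mpr
          (Subgroup.mem_centralizer_singleton_iff.mp hx.2).symm : a ∈ _)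
        exact ha1 (Subgroup.mem_bot.mp (hUc.disjoint.le_bot ⟨this, ha⟩)))
      (hodd.of_dvd_nat (Subgroup.card_subgroup_dvd_card U))
    exact IsZGroup.of_injective (f := (Subgroup.IsComplement'.QuotientMulEquiv (hUc.symm)).toMonoidHom)
      (MulEquiv.injective _)
  have he : H.index ∣ p - 1 := by
    rw [Subgroup.index_eq_card, ← IsZGroup.exponent_eq_card]
    exact hexp p hp hpH
  have hp1 : 0 < p - 1 := by have := hp.two_le; omega
  have hpodd : Odd p := (hodd.of_dvd_nat (Subgroup.card_subgroup_dvd_card H)).of_dvd_nat (hm ▸ dvd_pow_self p hm0)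
  have h2e : 2 * H.index ≤ p - 1 := by
    obtain ⟨c, hc'⟩ := he
    rcases Nat.lt_or_ge c 2 with hc2 | hc2
    · exfalso
      interval_cases c
      · omega
      · rw [mul_one] at hc'
        have : Even (p - 1) := Nat.Odd.sub_odd hpodd odd_one
        rw [hc'] at this
        exact Nat.not_even_iff_odd.mpr hidx this
    · rw [hc']; rw [mul_comm 2]; exact Nat.mul_le_mul_left _ hc2
  have hcomm : (⁅H, H⁆).relIndex H = (commutator H).index := by
    rw [Subgroup.relIndex, ← Subgroup.map_subtype_commutator, Subgroup.subgroupOf,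
      Subgroup.comap_map_eq_self_of_injective H.subtype_injective]
  rw [hcomm]
  refine lt_of_lt_of_le ?_ (sq_le_index (IsPGroup.of_card hm) hc)
  have : 1 ≤ H.index := Subgroup.index_ne_zero_of_finite |> Nat.pos_of_ne_zero
  have : 2 * H.index + 1 ≤ p := by omega
  nlinarith

end CfsgLib.OddOrder.FrobeniusCoherence
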