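import Cfsg.Agent.Lib.OddOrder.TypeOneCyclic
import Cfsg.Agent.Lib.CharDeep.Glauberman.ModP
import Mathlib

set_option autoImplicit false
set_option linter.style.haveILetI false
set_option linter.unusedSectionVars false

/-!
Congruences for the multiplicities of a virtual character on the fixed points of an element of prime order.
-/

open scoped ComplexConjugate

namespace CfsgLib.OddOrder.TypeOneCongr

open CfsgLib.Char CfsgLib.CharDeep.Glauberman
open TypeOneCyclic (coef)

variable {G : Type*} [Group G] [Fintype G] {p : ℕ}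

theorem isIntegral_gen {ψ : G → ℂ} (hψ : Cfsg.IsGeneralizedCharacter G ψ) (g : G) : IsIntegral ℤ (ψ g) := by
  obtain ⟨α, β, hα, hβ, rfl⟩ := hψ
  exact (IsCharacter.isIntegral hα g).sub (IsCharacter.isIntegral hβ g)

open scoped Classical in
/-- A sum over a set stable under an element of order `p` is congruent to the sum over the fixed points. -/
theorem cong_conj (hp : p.Prime) {x : G} (hx : orderOf x = p) (t : Finset G)
    (ht : ∀ g ∈ t, x * g * x⁻¹ ∈ t) (f : G → ℂ) (hint : ∀ g ∈ t, IsIntegral ℤ (f g))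
    (hinv : ∀ g ∈ t, f (x * g * x⁻¹) = f g) :
    Cong p (∑ g ∈ t, f g) (∑ g ∈ t.filter (fun g => Commute x g), f g) := by
  haveI := Fact.mk hp
  let π : Subgroup.zpowers x →* Equiv.Perm G :=
    { toFun := fun s => (MulAut.conj (s : G)).toEquiv
      map_one' := by ext g; simp
      map_mul' := fun a b => by ext g; simp [mul_assoc] }
  have hπ : ∀ (s : Subgroup.zpowers x) (g : G), π s g = (s : G) * g * (s : G)⁻¹ := fun s g => rfl
  have hpow : ∀ (k : ℕ), ∀ g ∈ t, x ^ k * g * (x ^ k)⁻¹ ∈ t ∧ f (x ^ k * g * (x ^ k)⁻¹) = f g := by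
    intro k
    induction k with
    | zero => intro g hg; simpa using hg
    | succ k ih =>
      intro g hg
      obtain ⟨h1, h2⟩ := ih g hg
      have e : x ^ (k + 1) * g * (x ^ (k + 1))⁻¹ = x * (x ^ k * g * (x ^ k)⁻¹) * x⁻¹ := by
        rw [pow_succ']; group
      rw [e]
      exact ⟨ht _ h1, (hinv _ h1).trans h2⟩
  have hs : ∀ s : Subgroup.zpowers x, ∃ k : ℕ, x ^ k = (s : G) := fun s => by
    obtain ⟨k, -, hk⟩ := Finset.mem_image.mp
      ((IsOfFinOrder.mem_zpowers_iff_mem_range_orderOf (isOfFinOrder_of_finite x)).mp s.2)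
    exact ⟨k, hk⟩
  have hts : ∀ s, ∀ g ∈ t, π s g ∈ t := fun s g hg => by
    obtain ⟨k, hk⟩ := hs s
    rw [hπ, ← hk]
    exact (hpow k g hg).1
  have hts' : ∀ s g, π s g ∈ t → g ∈ t := fun s g hg => by
    have := hts s⁻¹ _ hg
    rwa [← Equiv.Perm.mul_apply, ← map_mul, inv_mul_cancel, map_one, Equiv.Perm.one_apply] at this
  have key := cong_sum_invariant (P := Subgroup.zpowers x) (X := G) (p := p)
    (IsPGroup.of_card (n := 1) (by rw [Nat.card_zpowers, hx, pow_one])) π
    (fun g => if g ∈ t then f g else 0) (fun g => by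
      split_ifs with h
      · exact hint g h
      · exact isIntegral_zero) (fun s g => by
      by_cases h : g ∈ t
      · obtain ⟨k, hk⟩ := hs s
        rw [if_pos (hts s g h), if_pos h, hπ, ← hk]
        exact (hpow k g h).2
      · rw [if_neg h, if_neg fun e => h (hts' s g e)]) t hts
  have e1 : ∀ u : Finset G, u ⊆ t → ∑ g ∈ u, (if g ∈ t then f g else 0) = ∑ g ∈ u, f g := fun u hu =>
    Finset.sum_congr rfl fun g hg => if_pos (hu hg)
  rw [e1 t subset_rfl, e1 _ (Finset.filter_subset _ _)] at key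
  convert key using 3
  rename_i g hg
  constructor
  · intro h s
    obtain ⟨k, hk⟩ := hs s
    rw [hπ, ← hk, (h.pow_left k).eq, mul_inv_cancel_right]
  · intro h
    have h' := h ⟨x, Subgroup.mem_zpowers x⟩
    rw [hπ] at h'
    exact mul_inv_eq_iff_eq_mul.mp h'

open scoped Classical in
theorem sum_toFinset {M : Type*} [AddCommMonoid M] (R : Subgroup G) [Fintype R] (f : G → M) :
    ∑ g ∈ Finset.univ.filter (· ∈ R), f g = ∑ u : R, f u := by
  refine Finset.sum_subtype (Finset.univ.filter (· ∈ R)) (fun g => by simp) f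

/-- A subgroup on which an element of order `p` acts fixed point freely has order `1` modulo `p`. -/
theorem card_modEq (hp : p.Prime) {y : G} (hy : orderOf y = p) (R : Subgroup G)
    (hn : ∀ u ∈ R, y * u * y⁻¹ ∈ R) (hfix : ∀ u ∈ R, Commute y u → u = 1) :
    Nat.card R ≡ 1 [MOD p] := by
  classical
  have h := cong_conj hp hy (Finset.univ.filter (· ∈ R))
    (fun g hg => Finset.mem_filter.mpr ⟨Finset.mem_univ _, hn g (Finset.mem_filter.mp hg).2⟩)
    (fun _ => (1 : ℂ)) (fun _ _ => isIntegral_one) (fun _ _ => rfl)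
  have e : (Finset.univ.filter (· ∈ R)).filter (fun g => Commute y g) = {1} := by
    ext g
    simp only [Finset.mem_filter, Finset.mem_univ, true_and, Finset.mem_singleton]
    exact ⟨fun h => hfix g h.1 h.2, fun e => e ▸ ⟨one_mem R, Commute.one_right y⟩⟩
  rw [e, Finset.sum_singleton, sum_toFinset, Finset.sum_const, Finset.card_univ, nsmul_eq_mul, mul_one,
    ← Nat.card_eq_fintype_card, ← Nat.cast_one, Cong.nat_iff hp.ne_zero] at h
  exact h

theorem card_mul_coef (R : Subgroup G) [Fintype R] (ψ : G → ℂ) (η : R →* ℂˣ) :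
    (Nat.card R : ℂ) * coef R ψ η 1 = ∑ u : R, ψ u * conj (η u : ℂ) := by
  unfold coef Cfsg.classInner
  rw [← mul_assoc, mul_inv_cancel₀ (Nat.cast_ne_zero.mpr Nat.card_pos.ne'), one_mul]
  refine Finset.sum_congr (by ext; simp) fun u _ => ?_
  simp

/-- The degree is congruent to the multiplicity of the principal character. -/
theorem coef_cong (hp : p.Prime) {y : G} (hy : orderOf y = p) (R : Subgroup G) [Fintype R]
    (hn : ∀ u ∈ R, y * u * y⁻¹ ∈ R) (hfix : ∀ u ∈ R, Commute y u → u = 1) {ψ : G → ℂ}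
    (hψ : Cfsg.IsGeneralizedCharacter G ψ) {n m : ℤ} (hn0 : coef R ψ 1 1 = n) (hm : ψ 1 = m) :
    n ≡ m [ZMOD p] := by
  classical
  have h := cong_conj hp hy (Finset.univ.filter (· ∈ R))
    (fun g hg => Finset.mem_filter.mpr ⟨Finset.mem_univ _, hn g (Finset.mem_filter.mp hg).2⟩)
    ψ (fun g _ => isIntegral_gen hψ g) (fun g _ => IsGeneralizedCharacter.isClassFunction hψ g y)
  have e : (Finset.univ.filter (· ∈ R)).filter (fun g => Commute y g) = {1} := by
    ext g
    simp only [Finset.mem_filter, Finset.mem_univ, true_and, Finset.mem_singleton]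
    exact ⟨fun h => hfix g h.1 h.2, fun e => e ▸ ⟨one_mem R, Commute.one_right y⟩⟩
  have hs : ∑ u : R, ψ u = (Nat.card R : ℂ) * n := by
    rw [← hn0, card_mul_coef]
    simp
  rw [e, Finset.sum_singleton, sum_toFinset, hs, hm, ← Int.cast_natCast (R := ℂ), ← Int.cast_mul,
    Cong.int_iff hp.ne_zero] at h
  have h1 : (Nat.card R : ℤ) ≡ 1 [ZMOD p] := by
    exact_mod_cast Int.natCast_modEq_iff.mpr (card_modEq hp hy R hn hfix)
  have h2 := (h1.mul_right n).symm.trans h
  simpa using h2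

/-- The average of `ψ` over the coset `h * RM h`, and `0` at the identity. -/
noncomputable def avg (H : Subgroup G) (RM : G → Subgroup G) (ψ : G → ℂ) : H → ℂ :=
  open scoped Classical in
  fun h => if h = 1 then 0 else (Nat.card (RM (h : G)) : ℂ)⁻¹ * ∑ u : RM (h : G), ψ ((h : G) * u)

open scoped Classical in
/-- The congruence for the coefficient against `1 - θ` of the averaged restriction. -/
theorem avg_cong (hp : p.Prime) {x : G} (hx : orderOf x = p) (H R : Subgroup G) [Fintype R] [Fintype H] (hRH : R ≤ H)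
    (hR : ∀ u : G, u ∈ R ↔ u ∈ H ∧ Commute x u) (hnH : ∀ h ∈ H, x * h * x⁻¹ ∈ H)
    (RM : G → Subgroup G) (hnRM : ∀ h ∈ H, h ≠ 1 → ∀ u, u ∈ RM h ↔ x * u * x⁻¹ ∈ RM (x * h * x⁻¹))
    (hfix : ∀ h ∈ R, h ≠ 1 → ∀ u ∈ RM h, Commute x u → u = 1)
    (hcop : ∀ h ∈ H, h ≠ 1 → ¬ p ∣ Nat.card (RM h)) (hRp : ¬ p ∣ Nat.card R)
    {ψ : G → ℂ} (hψ : Cfsg.IsGeneralizedCharacter G ψ) (θ : H →* ℂˣ)
    (hθ : ∀ (h : G) (hh : h ∈ H), θ ⟨x * h * x⁻¹, hnH h hh⟩ = θ ⟨h, hh⟩)
    {d n₀ n₁ : ℤ} (hd : Cfsg.classInner (avg H RM ψ) (fun h => 1 - (θ h : ℂ)) = d)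
    (hn₀ : coef R ψ 1 1 = n₀) (hn₁ : coef R ψ (θ.comp (Subgroup.inclusion hRH)) 1 = n₁) :
    d ≡ n₀ - n₁ [ZMOD p] := by
  haveI := Fact.mk hp
  have hψc := IsGeneralizedCharacter.isClassFunction hψ
  let w : G → ℂ := fun h => ∑ u : RM h, ψ (h * u)
  let K : ℕ := ∏ h ∈ Finset.univ.filter (fun h : G => h ∈ H ∧ h ≠ 1), Nat.card (RM h)
  have hK : ¬ p ∣ K := fun hd => by
    obtain ⟨h, hh, hd'⟩ := (Prime.dvd_finsetProd_iff (Nat.prime_iff.mp hp) _).mp hd
    exact hcop h (Finset.mem_filter.mp hh).2.1 (Finset.mem_filter.mp hh).2.2 hd'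
  let c : G → ℂ := fun h => if hh : h ∈ H then 1 - conj (θ ⟨h, hh⟩ : ℂ) else 0
  have hci : ∀ h, IsIntegral ℤ (c h) := fun h => by
    simp only [c]
    split_ifs with hh
    · exact isIntegral_one.sub (IsCharacter.isIntegral (IsCharacter.conj' (isCharacter_hom θ)) ⟨h, hh⟩)
    · exact isIntegral_zero
  have hcx : ∀ h ∈ H, c (x * h * x⁻¹) = c h := fun h hh => by
    simp only [c]
    rw [dif_pos (hnH h hh), dif_pos hh, hθ h hh]
  have hwi : ∀ h, IsIntegral ℤ (w h) := fun h => IsIntegral.sum _ fun u _ => isIntegral_gen hψ _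
  set t := Finset.univ.filter (fun h : G => h ∈ H ∧ h ≠ 1) with ht
  have htmem : ∀ h, h ∈ t ↔ h ∈ H ∧ h ≠ 1 := fun h => by simp [ht]
  let f : G → ℂ := fun h => c h * (((K / Nat.card (RM h) : ℕ) : ℂ) * w h)
  have hdiv : ∀ h ∈ t, Nat.card (RM h) ∣ K := fun h hh => Finset.dvd_prod_of_mem _ hh
  have hfi : ∀ h, IsIntegral ℤ (f h) := fun h => (hci h).mul ((_root_.isIntegral_natCast _).mul (hwi h))
  have hxt : ∀ h ∈ t, x * h * x⁻¹ ∈ t := fun h hh => by
    rw [htmem] at hh ⊢
    exact ⟨hnH h hh.1, fun e => hh.2 (conj_eq_one_iff.mp e)⟩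
  have hfx : ∀ h ∈ t, f (x * h * x⁻¹) = f h := by
    intro h hh
    obtain ⟨hhH, hh1⟩ := (htmem h).mp hh
    let e : RM h ≃ RM (x * h * x⁻¹) :=
      { toFun := fun u => ⟨x * u * x⁻¹, (hnRM h hhH hh1 u).mp u.2⟩
        invFun := fun u => ⟨x⁻¹ * u * x, (hnRM h hhH hh1 _).mpr (by simpa [mul_assoc] using u.2)⟩
        left_inv := fun u => Subtype.ext (by simp [mul_assoc])
        right_inv := fun u => Subtype.ext (by simp [mul_assoc]) }
    have h1 : w (x * h * x⁻¹) = w h := by
      show ∑ u : RM (x * h * x⁻¹), ψ (x * h * x⁻¹ * u) = _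
      refine (Fintype.sum_equiv e _ _ fun u => ?_).symm
      show ψ (h * u) = ψ (x * h * x⁻¹ * (x * u * x⁻¹))
      rw [show x * h * x⁻¹ * (x * (u : G) * x⁻¹) = x * (h * u) * x⁻¹ by group, hψc]
    simp only [f, hcx h hhH, h1, Nat.card_congr e]
  have key := cong_conj hp hx t hxt f (fun h _ => hfi h) hfx
  -- the fixed points
  have hfixed : ∀ h ∈ t.filter (fun h => Commute x h), Cong p (f h) ((K : ℂ) * (c h * ψ h)) := by
    intro h hh
    obtain ⟨hht, hxh⟩ := Finset.mem_filter.mp hh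
    obtain ⟨hhH, hh1⟩ := (htmem h).mp hht
    have hhR : h ∈ R := (hR h).mpr ⟨hhH, hxh⟩
    have hnx : ∀ u ∈ RM h, x * u * x⁻¹ ∈ RM h := fun u hu => by
      have := (hnRM h hhH hh1 u).mp hu
      rwa [hxh.eq, mul_inv_cancel_right] at this
    have hk : Cong p (Nat.card (RM h) : ℂ) ((1 : ℕ) : ℂ) :=
      (Cong.nat_iff hp.ne_zero _ _).mpr (card_modEq hp hx (RM h) hnx (hfix h hhR hh1))
    have hw : Cong p (w h) (ψ h) := by
      have h1 := cong_conj hp hx (Finset.univ.filter (· ∈ RM h))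
        (fun g hg => Finset.mem_filter.mpr ⟨Finset.mem_univ _, hnx g (Finset.mem_filter.mp hg).2⟩)
        (fun g => ψ (h * g)) (fun g _ => isIntegral_gen hψ _) (fun g _ => by
          show ψ (h * (x * g * x⁻¹)) = ψ (h * g)
          rw [← hψc (h * g) x, show x * (h * g) * x⁻¹ = x * h * g * x⁻¹ by group, hxh.eq]
          group)
      have e : (Finset.univ.filter (· ∈ RM h)).filter (fun g => Commute x g) = {1} := by
        ext g
        simp only [Finset.mem_filter, Finset.mem_univ, true_and, Finset.mem_singleton]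
        exact ⟨fun hg => hfix h hhR hh1 g hg.1 hg.2, fun e => e ▸ ⟨one_mem _, Commute.one_right x⟩⟩
      rw [e, Finset.sum_singleton, sum_toFinset, mul_one] at h1
      exact h1
    have hKk : (K : ℂ) = ((K / Nat.card (RM h) : ℕ) : ℂ) * (Nat.card (RM h) : ℂ) := by
      rw [← Nat.cast_mul, Nat.div_mul_cancel (hdiv h hht)]
    refine ((hw.mul_left (_root_.isIntegral_natCast _)).mul_left (hci h)).trans ?_
    rw [hKk]
    have h2 := ((hk.mul_left (_root_.isIntegral_natCast (K / Nat.card (RM h)))).mul_right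
      ((hci h).mul (isIntegral_gen hψ h))).symm
    rw [Nat.cast_one, mul_one] at h2
    convert h2 using 1
    ring
  have key' := key.trans (Cong.sum _ hfixed)
  -- the left side
  have hL : ∑ h ∈ t, f h = (K : ℂ) * ((Nat.card H : ℂ) * d) := by
    rw [← hd]
    unfold Cfsg.classInner
    rw [← mul_assoc (Nat.card H : ℂ), mul_inv_cancel₀ (Nat.cast_ne_zero.mpr Nat.card_pos.ne'), one_mul,
      Finset.mul_sum]
    have e : t = (Finset.univ.filter (fun g : G => g ∈ H)).filter (fun h => h ≠ 1) := by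
      ext h; simp [ht]
    rw [e, Finset.sum_filter, sum_toFinset]
    refine Finset.sum_congr rfl fun h _ => ?_
    by_cases h1 : h = 1
    · subst h1
      simp [avg]
    rw [if_pos (show (_ : G) ≠ 1 from fun e => h1 (Subtype.ext e))]
    simp only [f, c, avg, if_neg h1, dif_pos h.2, Subtype.coe_eta, map_sub, map_one]
    have hm : Nat.card (RM (h : G)) ∣ K := hdiv h ((htmem _).mpr ⟨h.2, fun e => h1 (Subtype.ext e)⟩)
    rw [Nat.cast_div hm (Nat.cast_ne_zero.mpr Nat.card_pos.ne')]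
    simp only [w]
    ring
  -- the right side
  have hRt : ∑ h ∈ t.filter (fun h => Commute x h), (K : ℂ) * (c h * ψ h) =
      (K : ℂ) * ((Nat.card R : ℂ) * ((n₀ : ℂ) - n₁)) := by
    rw [← hn₀, ← hn₁, mul_sub, card_mul_coef, card_mul_coef, ← Finset.mul_sum, ← Finset.sum_sub_distrib]
    congr 1
    have e : t.filter (fun h => Commute x h) = (Finset.univ.filter (fun g : G => g ∈ R)).filter (fun h => h ≠ 1) := by
      ext h
      simp only [Finset.mem_filter, Finset.mem_univ, true_and, htmem, hR]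
      tauto
    rw [e, Finset.sum_filter, sum_toFinset]
    refine Finset.sum_congr rfl fun u _ => ?_
    by_cases h1 : u = 1
    · subst h1
      simp
    rw [if_pos (show (_ : G) ≠ 1 from fun e => h1 (Subtype.ext e))]
    simp only [c, dif_pos (hRH u.2), MonoidHom.one_apply, Units.val_one, map_one, mul_one, MonoidHom.comp_apply]
    show (1 - conj (θ ⟨(u : G), hRH u.2⟩ : ℂ)) * ψ u = ψ u - ψ u * conj (θ (Subgroup.inclusion hRH u) : ℂ)
    rw [show Subgroup.inclusion hRH u = ⟨(u : G), hRH u.2⟩ from rfl]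
    ring
  rw [hL, hRt, ← Int.cast_natCast (R := ℂ), ← Int.cast_natCast (R := ℂ) (Nat.card H),
    ← Int.cast_natCast (R := ℂ) (Nat.card R)] at key'
  norm_cast at key'
  rw [Cong.int_iff hp.ne_zero] at key'
  push_cast at key'
  -- `|H| ≡ |R|`
  have hHR : (Nat.card H : ℤ) ≡ Nat.card R [ZMOD p] := by
    have h1 := cong_conj hp hx (Finset.univ.filter (fun g : G => g ∈ H))
      (fun g hg => Finset.mem_filter.mpr ⟨Finset.mem_univ _, hnH g (Finset.mem_filter.mp hg).2⟩)
      (fun _ => (1 : ℂ)) (fun _ _ => isIntegral_one) (fun _ _ => rfl)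
    have e : (Finset.univ.filter (fun g : G => g ∈ H)).filter (fun g => Commute x g) =
        Finset.univ.filter (fun g : G => g ∈ R) := by
      ext g
      simp only [Finset.mem_filter, Finset.mem_univ, true_and, hR]
    rw [e, sum_toFinset, sum_toFinset, Finset.sum_const, Finset.sum_const, Finset.card_univ, Finset.card_univ,
      nsmul_eq_mul, nsmul_eq_mul, mul_one, mul_one, ← Nat.card_eq_fintype_card, ← Nat.card_eq_fintype_card,
      Cong.nat_iff hp.ne_zero] at h1
    exact_mod_cast Int.natCast_modEq_iff.mpr h1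
  have h3 : (K : ℤ) * (Nat.card R * d) ≡ K * (Nat.card R * (n₀ - n₁)) [ZMOD p] :=
    ((hHR.symm.mul_right d).mul_left _).trans key'
  have hp' : Prime (p : ℤ) := Nat.prime_iff_prime_int.mp hp
  rw [Int.modEq_iff_dvd, ← mul_sub, ← mul_sub] at h3
  rcases hp'.dvd_or_dvd h3 with h | h
  · exact absurd (Int.natCast_dvd_natCast.mp h) hK
  rcases hp'.dvd_or_dvd h with h | h
  · exact absurd (Int.natCast_dvd_natCast.mp h) hRp
  exact Int.modEq_iff_dvd.mpr h

end CfsgLib.OddOrder.TypeOneCongr
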