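import Cfsg.Agent.Lib.OddOrder.TypeOneFacts
import Cfsg.Agent.Lib.Solvable.Cores
import Mathlib

set_option autoImplicit false
set_option linter.style.haveILetI false
set_option linter.unusedSectionVars false

/-!
Maximal subgroups of Type I, and the case of a Fitting subgroup which is not a TI-subgroup.
-/

namespace CfsgLib.OddOrder.TypeOneClass

open SigmaFusion (cj)
open FittingNonTI (NT line)

variable {G : Type*} [Group G] [Finite G] {M N K U : Subgroup G} {g y : G} {p : ℕ}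

theorem sigmaCore_le_fitting (h : Group.IsNilpotent (Cfsg.sigmaCore M)) :
    Cfsg.sigmaCore M ≤ Cfsg.fittingOf M :=
  FittingStructure.le_fitting (SigmaTools.sigmaCore_le M) (SigmaTools.le_normalizer_sigmaCore M) h

/-- With `κ(M)` empty the exponent of `M / M_F` divides `r - 1` for every prime `r` of a non-abelian `M_F`. -/
theorem exponent_dvd (hG : Cfsg.IsMinSimpleOddOrder G) (hκ : Cfsg.kappa M = ∅) (h : NT M N g y p)
    (hab : ¬ IsMulCommutative (Cfsg.sigmaCore M)) {r : ℕ} (hr : r.Prime)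
    (hd : r ∣ Nat.card (Cfsg.fittingHallOf M)) : Monoid.exponent (M ⧸ Cfsg.fittingHall M) ∣ r - 1 := by
  have hM := h.coatom
  have hF := TypeOneFacts.fittingHall_of_empty hG hM hκ
  rw [hF] at hd
  haveI := Fact.mk hr
  have hlc := h.line_card hG hab hr hd
  haveI : IsCyclic (line M r) := isCyclic_of_prime_card hlc
  have haut : Nat.card (MulAut (line M r)) = r - 1 := by
    rw [IsCyclic.card_mulAut, hlc, Nat.totient_prime hr]
  obtain ⟨z, hz, hz1⟩ := (Subgroup.bot_or_exists_ne_one (line M r)).resolve_left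
    (fun e => hr.ne_one (by rw [← hlc, e, Subgroup.card_bot]))
  refine Monoid.exponent_dvd_of_forall_pow_eq_one fun v => ?_
  obtain ⟨m, rfl⟩ := QuotientGroup.mk_surjective v
  rw [← QuotientGroup.mk_pow, QuotientGroup.eq_one_iff, ← Basic.subgroupOf_fittingHallOf, Subgroup.mem_subgroupOf, hF]
  refine TypeOneMain.centralizer_le hG hM hκ (FittingNonTI.line_le M r hz) hz1
    ⟨SetLike.coe_mem _, Subgroup.mem_centralizer_singleton_iff.mpr ?_⟩
  have h1 : Coprime.conjHom (FittingNonTI.line_normal M r) (m ^ (r - 1)) = 1 := by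
    rw [map_pow, ← haut]
    exact pow_card_eq_one'
  have h2 := congrArg Subtype.val (DFunLike.congr_fun h1 (⟨z, hz⟩ : line M r))
  rw [Coprime.conjHom_apply, MulAut.one_apply] at h2
  exact mul_inv_eq_iff_eq_mul.mp h2

/-- With `κ(M)` empty `O_{p'}(M)` is cyclic when `M_F` is non-abelian. -/
theorem isCyclic_pPrimeCore (hG : Cfsg.IsMinSimpleOddOrder G) (hκ : Cfsg.kappa M = ∅) (h : NT M N g y p)
    (hab : ¬ IsMulCommutative (Cfsg.sigmaCore M)) : IsCyclic (Cfsg.pPrimeCore p M) := by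
  have hM := h.coatom
  haveI := Fact.mk h.prime
  set O := (Cfsg.pPrimeCore p M).map M.subtype with hO
  have hOM : O ≤ M := Subgroup.map_subtype_le _
  have hOn : M ≤ Subgroup.normalizer (O : Set G) := fun m hm => by
    refine NormalizerFusion.mem_normalizer_of_conj fun a ha => ?_
    obtain ⟨b, hb, rfl⟩ := ha
    exact ⟨⟨m, hm⟩ * b * ⟨m, hm⟩⁻¹, (by
      have hn : (Cfsg.pPrimeCore p M).Normal := Subgroup.sSup_normal _ fun _ h => h.1
      exact hn.conj_mem b hb _), rfl⟩
  have hOc : ¬ p ∣ Nat.card O := by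
    rw [hO, Subgroup.card_map_of_injective M.subtype_injective]
    exact h.prime.coprime_iff_not_dvd.mp (CfsgLib.Solvable.Cores.coprime_card_pPrimeCore p).symm
  have hlc := h.line_card hG hab h.prime (h.order ▸ Subgroup.orderOf_dvd_natCard _ h.core)
  obtain ⟨z, hz, hz1⟩ := (Subgroup.bot_or_exists_ne_one (line M p)).resolve_left
    (fun e => h.prime.ne_one (by rw [← hlc, e, Subgroup.card_bot]))
  have hle : O ≤ Cfsg.sigmaCore M := fun a ha => by
    refine TypeOneMain.centralizer_le hG hM hκ (FittingNonTI.line_le M p hz) hz1 ⟨hOM ha, ?_⟩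
    refine Subgroup.mem_centralizer_singleton_iff.mpr ?_
    have hbot : O ⊓ line M p = ⊥ := Subgroup.inf_eq_bot_of_coprime (by
      rw [hlc]; exact (h.prime.coprime_iff_not_dvd.mpr hOc).symm)
    have hzM := (FittingNonTI.line_le M p).trans (SigmaTools.sigmaCore_le M)
    have hm : a * z * a⁻¹ * z⁻¹ ∈ O ⊓ line M p := ⟨by
        rw [mul_assoc, mul_assoc]
        refine O.mul_mem ha ?_
        rw [← mul_assoc]
        exact (Subgroup.mem_normalizer_iff.mp (hOn (hzM hz)) _).mp (O.inv_mem ha),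
      (line M p).mul_mem ((Subgroup.mem_normalizer_iff.mp (FittingNonTI.line_normal M p (hOM ha)) z).mp hz)
        ((line M p).inv_mem hz)⟩
    rw [hbot, Subgroup.mem_bot, mul_inv_eq_one, mul_inv_eq_iff_eq_mul] at hm
    exact hm
  haveI := h.cyclic hG hab hle hOc
  exact isCyclic_of_surjective ((Cfsg.pPrimeCore p M).equivMapOfInjective M.subtype M.subtype_injective).symm
    (MulEquiv.surjective _)

/-- A maximal subgroup with empty `κ` is of Type I. -/
theorem typeI_of (hG : Cfsg.IsMinSimpleOddOrder G) (hM : IsCoatom M) (h : Cfsg.IsSigmaDecomposition M K U)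
    (hK : K = ⊥) : Cfsg.IsOfTypeI M := by
  have hκ := TypeOneFacts.kappa_eq_empty h hK
  have hn := TypeOneFacts.nilpotent_of_empty hG hM hκ
  have hF := TypeOneFacts.fittingHall_of_empty hG hM hκ
  refine ⟨TypeF.typeF hG hM h hn (TypeOneFacts.U_ne_bot hG hM h hK) le_rfl
    (TypeOneFacts.compl_symm (SigmaDecomp.U_compl_of_bot hG hM h hK)), ?_⟩
  by_cases hTI : Cfsg.IsTISubset (Cfsg.fittingHallOf M : Set G)
  · exact Or.inl hTI
  right
  rw [hF] at hTI
  simp only [Cfsg.IsTISubset, not_forall] at hTI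
  obtain ⟨g, hg, x, hx, hgx, hx1⟩ := hTI
  have hgM : g ∉ M := fun hm => hg (SigmaTools.le_normalizer_sigmaCore M hm)
  have hX : Cfsg.fittingOf M ⊓ cj g (Cfsg.fittingOf M) ≠ ⊥ := fun e => by
    have hm : g * x * g⁻¹ ∈ Cfsg.fittingOf M ⊓ cj g (Cfsg.fittingOf M) :=
      ⟨sigmaCore_le_fitting hn hgx, SigmaTools.mem_cj.mpr (by
        rw [show g⁻¹ * (g * x * g⁻¹) * g = x by group]; exact sigmaCore_le_fitting hn hx)⟩
    rw [e, Subgroup.mem_bot] at hm
    exact hx1 (conj_eq_one_iff.mp hm)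
  obtain ⟨p, y, N, hnt⟩ := FittingNonTI.exists_nt hG hM hgM hX
  by_cases hab : IsMulCommutative (Cfsg.sigmaCore M)
  · left
    rw [hF]
    exact ⟨hab, hnt.rank_two hG hab⟩
  · right
    exact ⟨fun r hr hd => exponent_dvd hG hκ hnt hab hr hd, p, hnt.prime,
      by rw [hF]; exact hnt.order ▸ Subgroup.orderOf_dvd_natCard _ hnt.core,
      isCyclic_pPrimeCore hG hκ hnt hab⟩

theorem typeI_iff (hG : Cfsg.IsMinSimpleOddOrder G) (hM : IsCoatom M) (h : Cfsg.IsSigmaDecomposition M K U) :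
    Cfsg.IsOfTypeI M ↔ K = ⊥ :=
  ⟨fun hI => TypeF.kappa_of_typeF hG hM h hI.1, typeI_of hG hM h⟩

theorem kappa_of_typeI (hG : Cfsg.IsMinSimpleOddOrder G) (hM : IsCoatom M) (hI : Cfsg.IsOfTypeI M) :
    Cfsg.kappa M = ∅ := by
  obtain ⟨K, U, h⟩ := FittingStructure.exists_decomp hG hM
  exact TypeOneFacts.kappa_eq_empty h ((typeI_iff hG hM h).mp hI)

theorem typeI_of_empty (hG : Cfsg.IsMinSimpleOddOrder G) (hM : IsCoatom M) (hκ : Cfsg.kappa M = ∅) :
    Cfsg.IsOfTypeI M := by
  obtain ⟨K, U, h⟩ := FittingStructure.exists_decomp hG hM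
  exact typeI_of hG hM h (TypeOneFacts.K_eq_bot h hκ)

end CfsgLib.OddOrder.TypeOneClass
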