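import Cfsg.Agent.Lib.OddOrder.TypeOneSupports
import Cfsg.Agent.S1377
import Cfsg.Agent.S1438
import Cfsg.Agent.S1526
import Mathlib

set_option autoImplicit false
set_option linter.style.haveILetI false
set_option linter.unusedSectionVars false

/-!
Not every maximal subgroup is of Type I.
-/

namespace CfsgLib.OddOrder.TypeOneAll

open SigmaFusion (cj)

variable {G : Type*} [Group G] [Finite G] {M : Subgroup G} {a : G}

theorem normalizer_core (hG : Cfsg.IsMinSimpleOddOrder G) (hM : IsCoatom M) :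
    Subgroup.normalizer (Cfsg.sigmaCore M : Set G) = M :=
  (hM.le_iff.mp (SigmaTools.le_normalizer_sigmaCore M)).resolve_left (Uniqueness.normalizer_ne_top hG.2
    (SigmaCore.sigmaCore_ne_bot hG hM) (hG.2.2.2 _ fun e => hM.1 (top_le_iff.mp (e ▸ SigmaTools.sigmaCore_le M))))

/-- When all maximal subgroups have empty `κ`, no centraliser leaves its maximal subgroup. -/
theorem centralizer_le (hG : Cfsg.IsMinSimpleOddOrder G) (hall : ∀ N : Subgroup G, IsCoatom N → Cfsg.kappa N = ∅)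
    (hM : IsCoatom M) (ha : a ∈ Cfsg.sigmaCore M) (ha1 : a ≠ 1) : Subgroup.centralizer ({a} : Set G) ≤ M := by
  by_contra h
  obtain ⟨N, hov⟩ := SigmaCentralizer.exists_over hG hM ha ha1 h
  exact (TypeOneFacts.over_kappa hG hov ha1).ne_empty (hall N hov.coatom)

theorem ti_core (hG : Cfsg.IsMinSimpleOddOrder G) (hall : ∀ N : Subgroup G, IsCoatom N → Cfsg.kappa N = ∅)
    (hM : IsCoatom M) : Cfsg.IsTISubset (Cfsg.sigmaCore M : Set G) := by
  intro g hg x hx hgx
  by_contra hx1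
  rw [normalizer_core hG hM] at hg
  obtain ⟨n, hn, e⟩ := (Cfsg.Agent.S1438.result hG M hM (Cfsg.sigmaCore M) le_rfl
    (SigmaCore.sigmaCore_ne_bot hG hM) (by rw [Subgroup.relIndex_self]; exact Nat.coprime_one_right _)).2 x hx g hgx
  have hc : n⁻¹ * g ∈ M := centralizer_le hG hall hM hx hx1 (Subgroup.mem_centralizer_singleton_iff.mpr (by
    calc n⁻¹ * g * x = n⁻¹ * (g * x * g⁻¹) * g := by group
      _ = n⁻¹ * (n * x * n⁻¹) * g := by rw [e]
      _ = x * (n⁻¹ * g) := by group))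
  exact hg (by simpa using M.mul_mem hn.1 hc)

theorem main (hG : Cfsg.IsMinSimpleOddOrder G) : ∃ M : Subgroup G, IsCoatom M ∧ ¬ Cfsg.IsOfTypeI M := by
  by_contra hne
  push Not at hne
  have hall : ∀ N : Subgroup G, IsCoatom N → Cfsg.kappa N = ∅ := fun N hN =>
    TypeOneClass.kappa_of_typeI hG hN (hne N hN)
  have hsetoid : Equivalence fun M N : {M : Subgroup G // IsCoatom M} => ∃ g : G, N.1 = cj g M.1 := by
    refine ⟨fun M => ⟨1, (SigmaFusion.cj_one _).symm⟩, fun {M N} h => ?_, fun {M N P} h h' => ?_⟩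
    · obtain ⟨g, e⟩ := h
      exact ⟨g⁻¹, by rw [e, SigmaFusion.cj_cj, inv_mul_cancel, SigmaFusion.cj_one]⟩
    · obtain ⟨g, e⟩ := h
      obtain ⟨g', e'⟩ := h'
      exact ⟨g' * g, by rw [e', e, SigmaFusion.cj_cj]⟩
  let ι := Quotient (⟨_, hsetoid⟩ : Setoid {M : Subgroup G // IsCoatom M})
  haveI : Fintype ι := Fintype.ofFinite ι
  let rep : ι → {M : Subgroup G // IsCoatom M} := Quotient.out
  have hcoverM : ∀ M : Subgroup G, IsCoatom M → ∃ i, ∃ g : G, M = cj g (rep i).1 := fun M hM => by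
    refine ⟨Quotient.mk _ ⟨M, hM⟩, ?_⟩
    exact Quotient.mk_out (s := (⟨_, hsetoid⟩ : Setoid {M : Subgroup G // IsCoatom M})) ⟨M, hM⟩
  have hne' : ∀ i j, i ≠ j → ∀ g : G, (rep j).1 ≠ cj g (rep i).1 := fun i j hij g e => by
    refine hij ?_
    rw [← Quotient.out_eq i, ← Quotient.out_eq j]
    exact Quotient.sound ⟨g, e⟩
  -- every non-identity element lies in a conjugate of some core
  have hcover : ∀ g : G, g ≠ 1 → ∃ i, ∃ u : G, u * g * u⁻¹ ∈ Cfsg.sigmaCore (rep i).1 := by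
    intro g hg
    obtain ⟨M, hM, a, ⟨ha, ha1⟩, r, hr, y, hy⟩ := (Cfsg.Agent.S1379.result hG).2.1 hall g hg
    rw [DadeSets.supportR_of_le (centralizer_le hG hall hM ha ha1), Subgroup.mem_bot] at hr
    subst hr
    obtain ⟨i, u, e⟩ := hcoverM M hM
    rw [e, SupportCount.sigmaCore_cj hG (rep i).2, SetLike.mem_coe, SigmaTools.mem_cj] at ha
    refine ⟨i, u⁻¹ * y⁻¹, ?_⟩
    rwa [hy, show u⁻¹ * y⁻¹ * (y * (a * 1) * y⁻¹) * (u⁻¹ * y⁻¹)⁻¹ = u⁻¹ * a * u by group]
  haveI : Nontrivial G := hG.2.1.toNontrivial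
  have hι : 2 ≤ Fintype.card ι := by
    obtain ⟨g₀, hg₀⟩ := exists_ne (1 : G)
    obtain ⟨i, -⟩ := hcover g₀ hg₀
    by_contra hlt
    have hsub : ∀ j, j = i := fun j => Fintype.card_le_one_iff.mp (by omega) j i
    set M := (rep i).1 with hMdef
    have hM := (rep i).2
    have h1 : ({1}ᶜ : Set G) ⊆ Cfsg.tildeOf M ((Cfsg.sigmaCore M : Set G) \ {1}) := fun g hg => by
      obtain ⟨j, u, hu⟩ := hcover g hg
      rw [hsub j] at hu
      exact ⟨u * g * u⁻¹, ⟨hu, fun e => hg (conj_eq_one_iff.mp e)⟩, 1, one_mem _, u⁻¹, by group⟩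
    have h2 := Set.ncard_le_ncard h1
    rw [Cfsg.Agent.S1377.result hG M hM, Set.ncard_compl, Set.ncard_singleton] at h2
    have h3 := M.card_mul_index
    have h4 : 1 < M.index := Nat.one_lt_iff_ne_zero_and_ne_one.mpr
      ⟨Subgroup.index_ne_zero_of_finite, fun e => hM.1 (Subgroup.index_eq_one.mp e)⟩
    have h5 := Subgroup.card_le_of_le (SigmaTools.sigmaCore_le M)
    have h6 : (Nat.card (Cfsg.sigmaCore M) - 1) * M.index + M.index = Nat.card (Cfsg.sigmaCore M) * M.index := by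
      rw [← Nat.succ_mul]; congr 1; have := Nat.card_pos (α := Cfsg.sigmaCore M); omega
    have h7 := Nat.mul_le_mul_right M.index h5
    omega
  refine Cfsg.Agent.S1526.result hG.1 hι (fun i => (rep i).1) (fun i => Cfsg.sigmaCore (rep i).1)
    (fun i => TypeOneFacts.core_lt hG (rep i).2) (fun i => SigmaCore.sigmaCore_ne_bot hG (rep i).2)
    (fun i x hx h hh => (Subgroup.mem_normalizer_iff.mp (SigmaTools.le_normalizer_sigmaCore _ hx) h).mp hh)
    (fun i h hh h1 => TypeOneMain.centralizer_le hG (rep i).2 (hall _ (rep i).2) hh h1) (fun i j hij => ?_)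
    (fun i => ⟨ti_core hG hall (rep i).2, normalizer_core hG (rep i).2⟩) hcover
  refine Nat.coprime_of_dvd fun t ht h1 h2 => ?_
  haveI := Fact.mk ht
  exact SupportCosets.disjoint hG (rep i).2 (rep j).2 (hne' i j hij) ht (SigmaTools.mem_sigma_of_card h1)
    (SigmaTools.mem_sigma_of_card h2)

end CfsgLib.OddOrder.TypeOneAll
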