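import Cfsg.Agent.Lib.OddOrder.TypeOneClass
import Cfsg.Agent.Lib.OddOrder.SupportCount
import Cfsg.Agent.Lib.OddOrder.SupportCosets
import Cfsg.Agent.S1376
import Cfsg.Agent.S1379
import Mathlib

set_option autoImplicit false
set_option linter.style.haveILetI false
set_option linter.unusedSectionVars false

/-!
The maximal subgroups supporting another one.
-/

namespace CfsgLib.OddOrder.TypeOneSupports

open SigmaFusion (cj)
open SigmaCentralizer (Over)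

variable {G : Type*} [Group G] [Finite G] {S T : Subgroup G} {a x c g : G}

theorem mem_centralizer_conj {z : G} :
    z ∈ Subgroup.centralizer ({c * x * c⁻¹} : Set G) ↔ c⁻¹ * z * c ∈ Subgroup.centralizer ({x} : Set G) := by
  rw [Subgroup.mem_centralizer_singleton_iff, Subgroup.mem_centralizer_singleton_iff]
  constructor
  · intro h
    calc c⁻¹ * z * c * x = c⁻¹ * (z * (c * x * c⁻¹)) * c := by group
      _ = c⁻¹ * (c * x * c⁻¹ * z) * c := by rw [h]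
      _ = x * (c⁻¹ * z * c) := by group
  · intro h
    calc z * (c * x * c⁻¹) = c * (c⁻¹ * z * c * x) * c⁻¹ := by group
      _ = c * (x * (c⁻¹ * z * c)) * c⁻¹ := by rw [h]
      _ = c * x * c⁻¹ * z := by group

theorem centralizer_le_cj {H : Subgroup G} :
    Subgroup.centralizer ({c * x * c⁻¹} : Set G) ≤ cj c H ↔ Subgroup.centralizer ({x} : Set G) ≤ H := by
  constructor
  · intro h z hz
    have := SigmaTools.mem_cj.mp (h (mem_centralizer_conj.mpr (show c⁻¹ * (c * z * c⁻¹) * c ∈ _ by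
      rwa [show c⁻¹ * (c * z * c⁻¹) * c = z by group])))
    rwa [show c⁻¹ * (c * z * c⁻¹) * c = z by group] at this
  · intro h z hz
    exact SigmaTools.mem_cj.mpr (h (mem_centralizer_conj.mp hz))

theorem conj_mem_core (hG : Cfsg.IsMinSimpleOddOrder G) (hS : IsCoatom S) (ha : a ∈ Cfsg.sigmaCore S) (c : G) :
    c * a * c⁻¹ ∈ Cfsg.sigmaCore (cj c S) := by
  rw [SupportCount.sigmaCore_cj hG hS, SigmaTools.mem_cj, show c⁻¹ * (c * a * c⁻¹) * c = a by group]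
  exact ha

theorem A1_eq (hG : Cfsg.IsMinSimpleOddOrder G) (hS : IsCoatom S) :
    Cfsg.typeA1 S = (Cfsg.sigmaCore S : Set G) \ {1} := by
  obtain ⟨K, U, h⟩ := FittingStructure.exists_decomp hG hS
  rw [Cfsg.typeA1, DadeSets.typeCore_eq hG hS h]

theorem mem_A1 (hG : Cfsg.IsMinSimpleOddOrder G) (hS : IsCoatom S) {a : G} :
    a ∈ Cfsg.typeA1 S ↔ a ∈ Cfsg.sigmaCore S ∧ a ≠ 1 := by
  rw [A1_eq hG hS]; rfl

/-- An element of `A₁(S) ∩ A(T)` has its centraliser in `T` only. -/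
theorem key (hG : Cfsg.IsMinSimpleOddOrder G) (hS : IsCoatom S) (hT : IsCoatom T) (hnc : ∀ g : G, T ≠ cj g S)
    (ha : a ∈ Cfsg.sigmaCore S) (ha1 : a ≠ 1) (hA : a ∈ Cfsg.typeA T) :
    ¬ Subgroup.centralizer ({a} : Set G) ≤ S ∧ Subgroup.centralizer ({a} : Set G) ≤ T := by
  obtain ⟨K, U, h⟩ := FittingStructure.exists_decomp hG hT
  obtain ⟨⟨⟨-, y, hy, hy1, hay⟩, haU⟩, -⟩ := DadeSets.typeA_sub hG hT h hA
  obtain ⟨h1, h2⟩ := TypeOneFacts.unique_of_hat hG hT h haU ha1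
    (fun t ht hd => SupportCosets.disjoint hG hS hT hnc ht (SupportCosets.sigma_number ha t ht hd)) hy hy1 hay
  exact ⟨fun hle => hnc 1 (by rw [SigmaFusion.cj_one]; exact (h2 S hS hle).symm), h1⟩

/-- The elements of `S_σ` whose centraliser leaves `S` for `T` are in `A(T)`. -/
theorem mem_typeA (hG : Cfsg.IsMinSimpleOddOrder G) (hS : IsCoatom S) (hT : IsCoatom T)
    (ha : a ∈ Cfsg.sigmaCore S) (ha1 : a ≠ 1) (hnle : ¬ Subgroup.centralizer ({a} : Set G) ≤ S)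
    (hle : Subgroup.centralizer ({a} : Set G) ≤ T) :
    a ∈ Cfsg.typeA T ∧ Cfsg.kappa S = ∅ ∧ (Cfsg.kappa T).Nonempty := by
  obtain ⟨N, hov⟩ := SigmaCentralizer.exists_over hG hS ha ha1 hnle
  obtain rfl : T = N := hov.unique T hT hle
  exact ⟨(TypeOneFacts.over_typeA hG hS ha ha1 hnle hov).2.1,
    (Cfsg.Agent.S1376.result hG S hS a ha ha1 hnle T hT hle (TypeOneFacts.over_kappa hG hov ha1)).1,
    TypeOneFacts.over_kappa hG hov ha1⟩

theorem nc_cj (hnc : ∀ g : G, T ≠ cj g S) (c : G) : ∀ g : G, T ≠ cj g (cj c S) := fun g e =>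
  hnc (g * c) (by rw [e, SigmaFusion.cj_cj])

theorem supports_iff (hG : Cfsg.IsMinSimpleOddOrder G) (hS : IsCoatom S) (hT : IsCoatom T)
    (hnc : ∀ g : G, T ≠ cj g S) :
    Cfsg.Supports T S ↔ (Cfsg.typeA1 S ∩ Cfsg.typeA T).Nonempty := by
  obtain ⟨K, U, h⟩ := FittingStructure.exists_decomp hG hS
  constructor
  · rintro ⟨-, a, ha, hnle, hle⟩
    have hS' : a ∈ Cfsg.sigmaCore S := by_contra fun h' => hnle (DadeSets.centralizer_le hG hS h ha h')
    have ha1 := (DadeSets.A0_sub hG hS h ha).2.2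
    exact ⟨a, (mem_A1 hG hS).mpr ⟨hS', ha1⟩, (mem_typeA hG hS hT hS' ha1 hnle hle).1⟩
  · rintro ⟨a, ha, hA⟩
    obtain ⟨hS', ha1⟩ := (mem_A1 hG hS).mp ha
    obtain ⟨h1, h2⟩ := key hG hS hT hnc hS' ha1 hA
    exact ⟨hT, a, Or.inl (DadeSets.core_sub hG hS h hS' ha1), h1, h2⟩

/-- Some conjugate of `T` supports `S`. -/
theorem exists_supports_iff (hG : Cfsg.IsMinSimpleOddOrder G) (hS : IsCoatom S) (hT : IsCoatom T)
    (hnc : ∀ g : G, T ≠ cj g S) :
    (∃ g : G, Cfsg.Supports (cj g T) S) ↔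
      ∃ a c : G, a ∈ Cfsg.sigmaCore S ∧ a ≠ 1 ∧ c * a * c⁻¹ ∈ Cfsg.typeA T := by
  obtain ⟨K, U, h⟩ := FittingStructure.exists_decomp hG hS
  constructor
  · rintro ⟨g, -, a, ha, hnle, hle⟩
    have hS' : a ∈ Cfsg.sigmaCore S := by_contra fun h' => hnle (DadeSets.centralizer_le hG hS h ha h')
    have ha1 := (DadeSets.A0_sub hG hS h ha).2.2
    refine ⟨a, g⁻¹, hS', ha1, (mem_typeA hG (SigmaFusion.isCoatom_cj hS g⁻¹) hT (conj_mem_core hG hS hS' g⁻¹)
      (fun e => ha1 (conj_eq_one_iff.mp e)) (fun e => hnle (centralizer_le_cj.mp e)) ?_).1⟩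
    have h1 : T = cj g⁻¹ (cj g T) := by rw [SigmaFusion.cj_cj, inv_mul_cancel, SigmaFusion.cj_one]
    rw [h1]
    exact centralizer_le_cj.mpr hle
  · rintro ⟨a, c, hS', ha1, hA⟩
    obtain ⟨h1, h2⟩ := key hG (SigmaFusion.isCoatom_cj hS c) hT (nc_cj hnc c) (conj_mem_core hG hS hS' c)
      (fun e => ha1 (conj_eq_one_iff.mp e)) hA
    refine ⟨c⁻¹, SigmaFusion.isCoatom_cj hT _, a, Or.inl (DadeSets.core_sub hG hS h hS' ha1),
      fun e => h1 (centralizer_le_cj.mpr e), ?_⟩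
    have h3 : a = c⁻¹ * (c * a * c⁻¹) * c⁻¹⁻¹ := by group
    rw [h3]
    exact centralizer_le_cj.mpr h2

/-- The two coset sets meet exactly when some conjugate of `T` supports `S`. -/
theorem tilde_iff (hG : Cfsg.IsMinSimpleOddOrder G) (hS : IsCoatom S) (hT : IsCoatom T) (hnc : ∀ g : G, T ≠ cj g S) :
    (∃ g : G, Cfsg.Supports (cj g T) S) ↔
      (Cfsg.tildeOf S (Cfsg.typeA1 S) ∩ Cfsg.tildeOf T (Cfsg.typeA T)).Nonempty := by
  rw [exists_supports_iff hG hS hT hnc]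
  constructor
  · rintro ⟨a, c, hS', ha1, hA⟩
    exact ⟨a, ⟨a, (mem_A1 hG hS).mpr ⟨hS', ha1⟩, 1, one_mem _, 1, by group⟩,
      ⟨c * a * c⁻¹, hA, 1, one_mem _, c⁻¹, by group⟩⟩
  rintro ⟨g₀, ⟨a, ha, r, hr, y, hy⟩, ⟨b, hb, s, hs, y', hy'⟩⟩
  obtain ⟨haS, ha1⟩ := (mem_A1 hG hS).mp ha
  obtain ⟨K', U', h'⟩ := FittingStructure.exists_decomp hG hT
  have hbT : b ∉ Cfsg.sigmaCore T := fun hbT => by
    have hd := (Cfsg.Agent.S1379.result hG).1 S T hS hT hnc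
    refine Set.eq_empty_iff_forall_notMem.mp hd g₀ ⟨⟨a, ⟨haS, ha1⟩, r, hr, y, hy⟩,
      ⟨b, ⟨hbT, (DadeSets.typeA_sub hG hT h' hb).2⟩, s, hs, y', hy'⟩⟩
  rw [DadeSets.supportR_of_le (DadeSets.centralizer_le hG hT h' (Or.inl hb) hbT), Subgroup.mem_bot] at hs
  subst hs
  obtain ⟨⟨⟨-, w, hw, hw1, hbw⟩, hbU⟩, -⟩ := DadeSets.typeA_sub hG hT h' hb
  set d := y'⁻¹ * y with hd
  have hbd : b = d * (a * r) * d⁻¹ := by
    rw [mul_one] at hy'
    calc b = y'⁻¹ * (y' * b * y'⁻¹) * y' := by group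
      _ = y'⁻¹ * g₀ * y' := by rw [← hy']
      _ = _ := by rw [hy, hd]; group
  have hcop : (orderOf a).Coprime (orderOf r) := Nat.coprime_of_dvd fun t ht d1 d2 =>
    SupportCosets.support_number hG hS haS ha1 hr t ht d2 (SupportCosets.sigma_number haS t ht d1)
  obtain ⟨n, h1, h2⟩ := Nat.chineseRemainder hcop 1 0
  have han : d * a * d⁻¹ = b ^ n := by
    rw [hbd, conj_pow, (SupportCosets.support_commute hG hS haS ha1 hr).mul_pow,
      show a ^ n = a ^ 1 from pow_eq_pow_iff_modEq.mpr h1, pow_one,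
      show r ^ n = 1 from orderOf_dvd_iff_pow_eq_one.mp (Nat.modEq_zero_iff_dvd.mp h2), mul_one]
  have ho : orderOf (d * a * d⁻¹) = orderOf a := MulEquiv.orderOf_eq (MulAut.conj d) a
  have hne : d * a * d⁻¹ ≠ 1 := fun e => ha1 (conj_eq_one_iff.mp e)
  obtain ⟨hC, hu⟩ := TypeOneFacts.unique_of_hat hG hT h' (han ▸ (U' ⊔ Cfsg.sigmaCore T).pow_mem hbU n) hne
    (fun t ht hd => SupportCosets.disjoint hG hS hT hnc ht (SupportCosets.sigma_number haS t ht (ho ▸ hd))) hw hw1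
    (by rw [han]; exact (show Commute b w from hbw).pow_left n)
  refine ⟨a, d, haS, ha1, (mem_typeA hG (SigmaFusion.isCoatom_cj hS d) hT (conj_mem_core hG hS haS d) hne
    (fun e => hnc d (hu _ (SigmaFusion.isCoatom_cj hS d) e).symm) hC).1⟩

/-- Support in both directions is impossible. -/
theorem not_both (hG : Cfsg.IsMinSimpleOddOrder G) (hS : IsCoatom S) (hT : IsCoatom T) (hnc : ∀ g : G, T ≠ cj g S) :
    Cfsg.tildeOf S (Cfsg.typeA1 S) ∩ Cfsg.tildeOf T (Cfsg.typeA T) = ∅ ∨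
      Cfsg.tildeOf T (Cfsg.typeA1 T) ∩ Cfsg.tildeOf S (Cfsg.typeA S) = ∅ := by
  have hnc' : ∀ g : G, S ≠ cj g T := fun g e =>
    hnc g⁻¹ (by rw [e, SigmaFusion.cj_cj, inv_mul_cancel, SigmaFusion.cj_one])
  by_contra hne
  push Not at hne
  obtain ⟨a, c, ha, ha1, hA⟩ := (exists_supports_iff hG hS hT hnc).mp
    ((tilde_iff hG hS hT hnc).mpr hne.1)
  obtain ⟨b, d, hb, hb1, hB⟩ := (exists_supports_iff hG hT hS hnc').mp
    ((tilde_iff hG hT hS hnc').mpr hne.2)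
  have hSc := SigmaFusion.isCoatom_cj hS c
  have hTd := SigmaFusion.isCoatom_cj hT d
  obtain ⟨h1, h2⟩ := key hG hSc hT (nc_cj hnc c) (conj_mem_core hG hS ha c) (fun e => ha1 (conj_eq_one_iff.mp e)) hA
  obtain ⟨h3, h4⟩ := key hG hTd hS (nc_cj hnc' d) (conj_mem_core hG hT hb d) (fun e => hb1 (conj_eq_one_iff.mp e)) hB
  obtain ⟨-, hκ, -⟩ := mem_typeA hG hSc hT (conj_mem_core hG hS ha c) (fun e => ha1 (conj_eq_one_iff.mp e)) h1 h2
  obtain ⟨-, -, t, ht⟩ := mem_typeA hG hTd hS (conj_mem_core hG hT hb d) (fun e => hb1 (conj_eq_one_iff.mp e)) h3 h4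
  exact Set.notMem_empty t (hκ ▸ SigmaNeighbour.kappa_cj hG hS ht c)

end CfsgLib.OddOrder.TypeOneSupports
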