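import Cfsg.Agent.Lib.OddOrder.FittingNonTI
import Cfsg.Agent.Lib.OddOrder.CyclicPlane
import Cfsg.Agent.Lib.OddOrder.NarrowAction
import Cfsg.Agent.Lib.OddOrder.NarrowMaximal
import Cfsg.Agent.Lib.OddOrder.TypeP
import Cfsg.Agent.S1412
import Cfsg.Agent.S1373

/-!
Bender–Glauberman 15.7: the case `K ≠ 1`, `U = 1` of a Fitting subgroup that is not TI.
-/

set_option autoImplicit false

namespace CfsgLib.OddOrder.FittingTypeV

open scoped commutatorElement
open FittingNonTI (NT line)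
open StarPartner (Dstar)

variable {G : Type*} [Group G] [Finite G] {M N K U : Subgroup G} {g y : G} {p : ℕ}

omit [Finite G] in
/-- Commutators of powers, for a central commutator. -/
theorem comm_pow {a b : G} (ha : Commute ⁅a, b⁆ a) (hb : Commute ⁅a, b⁆ b) (c d : ℕ) :
    ⁅a ^ c, b ^ d⁆ = ⁅a, b⁆ ^ (c * d) := by
  set z := ⁅a, b⁆ with hz
  have h0 : a * b = z * b * a := by rw [hz, commutatorElement_def]; group
  have h1 : ∀ c : ℕ, a ^ c * b = z ^ c * b * a ^ c := by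
    intro c
    induction c with
    | zero => simp
    | succ c ih =>
      calc a ^ (c + 1) * b = a * (a ^ c * b) := by rw [pow_succ', mul_assoc]
        _ = a * z ^ c * (b * a ^ c) := by rw [ih]; group
        _ = z ^ c * (a * b) * a ^ c := by rw [(ha.pow_left c).eq.symm]; group
        _ = _ := by rw [h0, pow_succ z, pow_succ' a]; group
  have h2 : ∀ d : ℕ, a ^ c * b ^ d = z ^ (c * d) * b ^ d * a ^ c := by
    intro d
    induction d with
    | zero => simp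
    | succ d ih =>
      calc a ^ c * b ^ (d + 1) = a ^ c * b ^ d * b := by rw [pow_succ, mul_assoc]
        _ = z ^ (c * d) * b ^ d * (a ^ c * b) := by rw [ih, mul_assoc]
        _ = z ^ (c * d) * (b ^ d * z ^ c) * (b * a ^ c) := by rw [h1]; group
        _ = z ^ (c * d) * (z ^ c * b ^ d) * (b * a ^ c) := by rw [((hb.pow_left c).pow_right d).eq.symm]
        _ = _ := by rw [Nat.mul_succ, pow_add, pow_succ b]; group
  rw [commutatorElement_def, h2 d]
  group

/-- The commutator subgroup of `M_σ` is a `p`-group. -/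
theorem derived_le (hG : Cfsg.IsMinSimpleOddOrder G) (h : NT M N g y p) [hp : Fact p.Prime]
    (hab : ¬ IsMulCommutative (Cfsg.sigmaCore M)) {T : Sylow p G} (hT : (T : Subgroup G) ≤ Cfsg.sigmaCore M)
    (hmem : ∀ a ∈ Cfsg.sigmaCore M, (∀ t : ℕ, t.Prime → t ∣ orderOf a → t = p) → a ∈ (T : Subgroup G)) :
    ⁅Cfsg.sigmaCore M, Cfsg.sigmaCore M⁆ ≤ (T : Subgroup G) := by
  haveI := h.nilpotent
  set L := Cfsg.sigmaCore M with hL
  set R := Cfsg.piCoreOf {t : ℕ | t ≠ p} L with hR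
  have hRc : IsCyclic R := by
    refine h.cyclic hG hab (Subgroup.map_subtype_le _) fun hd => ?_
    rw [hR, Cfsg.piCoreOf, Subgroup.card_map_of_injective L.subtype_injective] at hd
    exact SigmaBasics.mem_of_dvd_piCore (π := {t : ℕ | t ≠ p}) h.prime hd rfl
  refine Subgroup.commutator_le.mpr fun a ha b hb => ?_
  obtain ⟨a₁, a₂, ha₁, ha₂, rfl, -, ha₁p, ha₂p⟩ := SigmaCover.exists_parts ({p} : Set ℕ) a
  obtain ⟨b₁, b₂, hb₁, hb₂, rfl, -, hb₁p, hb₂p⟩ := SigmaCover.exists_parts ({p} : Set ℕ) b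
  have ha₁L := L.zpowers_le.mpr ha ha₁
  have ha₂L := L.zpowers_le.mpr ha ha₂
  have hb₁L := L.zpowers_le.mpr hb hb₁
  have hb₂L := L.zpowers_le.mpr hb hb₂
  have ha₁T := hmem a₁ ha₁L fun t ht hd => ha₁p t ht hd
  have hb₁T := hmem b₁ hb₁L fun t ht hd => hb₁p t ht hd
  have hcT : ∀ u v : G, u ∈ L → v ∈ L → (∀ t : ℕ, t.Prime → t ∣ orderOf u → t ∉ ({p} : Set ℕ)) →
      (∀ t : ℕ, t.Prime → t ∣ orderOf v → t ∈ ({p} : Set ℕ)) → Commute u v := fun u v hu hv h1 h2 =>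
    Basic.commute_of_mem_nilpotent hu hv (Nat.coprime_of_dvd fun t ht d1 d2 => h1 t ht d1 (h2 t ht d2))
  have hab₂ : Commute a₂ b₂ := by
    haveI := hRc
    letI := IsCyclic.commGroup (α := R)
    exact congrArg Subtype.val (mul_comm
      (⟨a₂, FittingStructure.mem_piCoreOf_iff.mpr ⟨ha₂L, fun t ht hd e => ha₂p t ht hd e⟩⟩ : R)
      ⟨b₂, FittingStructure.mem_piCoreOf_iff.mpr ⟨hb₂L, fun t ht hd e => hb₂p t ht hd e⟩⟩)
  have c1 : Commute a₂ (b₁ * b₂) := (hcT a₂ b₁ ha₂L hb₁L ha₂p hb₁p).mul_right hab₂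
  have c2 : Commute b₂ a₁ := hcT b₂ a₁ hb₂L ha₁L hb₂p ha₁p
  have e : ⁅a₁ * a₂, b₁ * b₂⁆ = ⁅a₁, b₁⁆ := by
    simp only [commutatorElement_def]
    calc a₁ * a₂ * (b₁ * b₂) * (a₁ * a₂)⁻¹ * (b₁ * b₂)⁻¹
        = a₁ * (a₂ * (b₁ * b₂)) * a₂⁻¹ * a₁⁻¹ * (b₁ * b₂)⁻¹ := by group
      _ = a₁ * b₁ * (b₂ * a₁⁻¹) * b₂⁻¹ * b₁⁻¹ := by rw [c1.eq]; group
      _ = a₁ * b₁ * (a₁⁻¹ * b₂) * b₂⁻¹ * b₁⁻¹ := by rw [c2.inv_right.eq]
      _ = _ := by group
  rw [e]
  exact SigmaComplement.derived_le_self _ (Subgroup.commutator_mem_commutator ha₁T hb₁T)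

/-- Elements of `T` central in `T` are central in `M_σ`. -/
theorem central (h : NT M N g y p) [hp : Fact p.Prime] {T : Sylow p G} (hT : (T : Subgroup G) ≤ Cfsg.sigmaCore M)
    (hmem : ∀ a ∈ Cfsg.sigmaCore M, (∀ t : ℕ, t.Prime → t ∣ orderOf a → t = p) → a ∈ (T : Subgroup G))
    {x : G} (hx : x ∈ (T : Subgroup G)) (hxT : ∀ a ∈ (T : Subgroup G), a * x = x * a) :
    x ∈ Subgroup.centralizer (Cfsg.sigmaCore M : Set G) := by
  haveI := h.nilpotent
  refine Subgroup.mem_centralizer_iff.mpr fun a ha => ?_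
  obtain ⟨b, c, hb, hc, rfl, -, hbp, hcp⟩ := SigmaCover.exists_parts ({p} : Set ℕ) a
  have hbσ := (Cfsg.sigmaCore M).zpowers_le.mpr ha hb
  have hcσ := (Cfsg.sigmaCore M).zpowers_le.mpr ha hc
  have h1 : Commute b x := hxT b (hmem b hbσ fun t ht hd => hbp t ht hd)
  have h2 : Commute c x := Basic.commute_of_mem_nilpotent hcσ (hT hx) (Nat.coprime_of_dvd fun t ht d1 d2 => by
    obtain ⟨j, hj⟩ := T.isPGroup'.exists_card_eq
    exact hcp t ht d1 ((Nat.prime_dvd_prime_iff_eq ht hp.out).mp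
      (ht.dvd_of_dvd_pow (hj ▸ d2.trans (Subgroup.orderOf_dvd_natCard _ hx)))))
  exact (h1.mul_left h2).eq

/-- A cyclic fixed-point-free group on `T / Z` for `T` of order `p ^ 3`. -/
theorem card_dvd_cube [hp : Fact p.Prime] {T Z K : Subgroup G} (hodd : Odd (Nat.card K)) [IsCyclic K]
    (hT : Nat.card T = p ^ 3) (hexp : ∀ a ∈ T, a ^ p = 1) (hTn : ¬ IsMulCommutative T) (hZT : Z ≤ T)
    (hZ : Nat.card Z = p) (hZc : ∀ z ∈ Z, ∀ a ∈ T, Commute z a) (hKT : K ≤ Subgroup.normalizer (T : Set G))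
    (hcop : (Nat.card K).Coprime p) (hfix : ∀ k ∈ K, k ≠ 1 → T ⊓ Subgroup.centralizer ({k} : Set G) = Z) :
    Nat.card K ∣ p - 1 ∨ Nat.card K ∣ p + 1 := by
  set Z' := Z.subgroupOf T with hZ'
  haveI : Z'.Normal := (Subgroup.normal_subgroupOf_iff_le_normalizer hZT).mpr fun a ha =>
    Subgroup.centralizer_le_normalizer _ (Subgroup.mem_centralizer_iff.mpr fun z hz => (hZc z hz a ha).eq)
  have hZ'c : Nat.card Z' = p := by rw [hZ', Nat.card_congr (Subgroup.subgroupOfEquivOfLe hZT).toEquiv, hZ]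
  have hcard : Nat.card (T ⧸ Z') = p ^ 2 := by
    have h1 := Subgroup.card_eq_card_quotient_mul_card_subgroup Z'
    rw [hT, hZ'c] at h1
    refine Nat.eq_of_mul_eq_mul_right hp.out.pos ?_
    rw [← h1]; ring
  letI : CommGroup (T ⧸ Z') := { (inferInstance : Group (T ⧸ Z')) with
    mul_comm := IsPGroup.commutative_of_card_eq_prime_sq hcard }
  have hV : ∀ v : T ⧸ Z', v ^ p = 1 := by
    intro v
    obtain ⟨a, rfl⟩ := QuotientGroup.mk_surjective v
    rw [← QuotientGroup.mk_pow, show a ^ p = 1 from Subtype.ext (hexp a a.2), QuotientGroup.mk_one]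
  set θ := Coprime.conjHom hKT with hθ
  have hfixZ : ∀ k ∈ K, ∀ z ∈ Z, Commute k z := fun k hk z hz => by
    by_cases hk1 : k = 1
    · rw [hk1]; exact Commute.one_left z
    · exact (Subgroup.mem_centralizer_singleton_iff.mp ((hfix k hk hk1).ge hz).2).symm
  have hθZ : ∀ k : K, Z'.map (θ k : T ≃* T).toMonoidHom = Z' := fun k => by
    refine Subgroup.eq_of_le_of_card_ge ?_ (le_of_eq (Subgroup.card_map_of_injective (f := (θ k : T ≃* T).toMonoidHom) (θ k : T ≃* T).injective).symm)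
    rintro _ ⟨z, hz, rfl⟩
    show ((θ k z : T) : G) ∈ Z
    rw [hθ, Coprime.conjHom_apply, (hfixZ k k.2 (z : G) hz).eq, mul_inv_cancel_right]
    exact hz
  let ρ : K →* MulAut (T ⧸ Z') := MonoidHom.mk' (fun k => QuotientGroup.congr Z' Z' (θ k) (hθZ k)) fun a b =>
    MulEquiv.ext fun v => by
      obtain ⟨x, rfl⟩ := QuotientGroup.mk_surjective v
      rw [MulAut.mul_apply]
      erw [QuotientGroup.congr_mk, QuotientGroup.congr_mk]
      rw [map_mul]
      rfl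
  have hρ : ∀ (k : K) (x : T), ρ k (x : T ⧸ Z') = ((θ k x : T) : T ⧸ Z') := fun k x =>
    QuotientGroup.congr_mk Z' Z' (θ k) (hθZ k) x
  have hfpf : ∀ k : K, k ≠ 1 → ∀ v, ρ k v = v → v = 1 := by
    intro k hk v hv
    obtain ⟨x, rfl⟩ := QuotientGroup.mk_surjective v
    rw [hρ, eq_comm, QuotientGroup.eq] at hv
    set z : G := (x : G)⁻¹ * ((k : G) * x * (k : G)⁻¹) with hzdef
    have hz : z ∈ Z := hv
    have hkz := hfixZ k k.2 z hz
    have hpow : ∀ n : ℕ, (k : G) ^ n * x * ((k : G) ^ n)⁻¹ = x * z ^ n := by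
      intro n
      induction n with
      | zero => simp
      | succ n ih =>
        calc (k : G) ^ (n + 1) * x * ((k : G) ^ (n + 1))⁻¹
            = k * ((k : G) ^ n * x * ((k : G) ^ n)⁻¹) * (k : G)⁻¹ := by rw [pow_succ']; group
          _ = (k : G) * x * (k : G)⁻¹ * ((k : G) * z ^ n * (k : G)⁻¹) := by rw [ih]; group
          _ = x * z * z ^ n := by
            rw [(hkz.pow_right n).eq, mul_inv_cancel_right, hzdef]; group
          _ = _ := by rw [pow_succ', mul_assoc]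
    have hz1 : z = 1 := by
      have h1 := hpow (orderOf (k : G))
      rw [pow_orderOf_eq_one, one_mul, inv_one, mul_one, left_eq_mul] at h1
      have h2 : z ^ p = 1 := hexp z (hZT hz)
      exact orderOf_eq_one_iff.mp (Nat.eq_one_of_dvd_coprimes
        (hcop.coprime_dvd_left (Subgroup.orderOf_dvd_natCard K k.2))
        (orderOf_dvd_of_pow_eq_one h1) (orderOf_dvd_of_pow_eq_one h2))
    rw [QuotientGroup.eq_one_iff]
    refine (hfix k k.2 fun e => hk (Subtype.ext e)).le ⟨x.2, Subgroup.mem_centralizer_singleton_iff.mpr ?_⟩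
    have h1 := hpow 1
    rw [pow_one, hz1, pow_one, mul_one, mul_inv_eq_iff_eq_mul] at h1
    exact h1.symm
  refine CyclicPlane.card_dvd hV hcard hodd ρ hfpf fun k c hc => ?_
  obtain ⟨a, b, hne⟩ : ∃ a b : T, ⁅(a : G), (b : G)⁆ ≠ 1 := by
    by_contra hall
    push Not at hall
    exact hTn ⟨⟨fun a b => Subtype.ext (commutatorElement_eq_one_iff_mul_comm.mp (hall a b))⟩⟩
  have hcommZ : ∀ a b : T, ⁅(a : G), (b : G)⁆ ∈ Z := fun a b => by
    have h1 : ((⁅a, b⁆ : T) : T ⧸ Z') = 1 := by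
      rw [show ((⁅a, b⁆ : T) : T ⧸ Z') = ⁅(a : T ⧸ Z'), (b : T ⧸ Z')⁆ from map_commutatorElement (QuotientGroup.mk' Z') a b]
      exact commutatorElement_eq_one_iff_mul_comm.mpr (mul_comm _ _)
    have h2 := Subgroup.mem_subgroupOf.mp ((QuotientGroup.eq_one_iff (N := Z') (⁅a, b⁆ : T)).mp h1)
    rwa [show ((⁅a, b⁆ : T) : G) = ⁅(a : G), (b : G)⁆ from map_commutatorElement T.subtype a b] at h2
  have key : ∀ x : T, ∃ z ∈ Z, (k : G) * x * (k : G)⁻¹ = (x : G) ^ c * z := fun x => by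
    have h1 := hc (x : T ⧸ Z')
    rw [hρ, ← QuotientGroup.mk_pow, eq_comm, QuotientGroup.eq] at h1
    refine ⟨_, h1, ?_⟩
    show (k : G) * x * (k : G)⁻¹ = (x : G) ^ c * ((((x : T) ^ c)⁻¹ * θ k x : T) : G)
    rw [Subgroup.coe_mul, Subgroup.coe_inv, SubgroupClass.coe_pow, hθ, Coprime.conjHom_apply, mul_inv_cancel_left]
  set w := ⁅(a : G), (b : G)⁆ with hw
  have hwc : w ^ (c * c) = w := by
    obtain ⟨z₁, hz₁, e₁⟩ := key a
    obtain ⟨z₂, hz₂, e₂⟩ := key b
    have hwZ := hcommZ a b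
    have hk : (k : G) * w * (k : G)⁻¹ = w := by
      rw [(hfixZ k k.2 w hwZ).eq, mul_inv_cancel_right]
    have hconj : (k : G) * w * (k : G)⁻¹ = ⁅(a : G) ^ c * z₁, (b : G) ^ c * z₂⁆ := by
      rw [← e₁, ← e₂, hw, ← MulAut.conj_apply, map_commutatorElement]
      rfl
    rw [hk] at hconj
    have c1 : Commute z₁ ((b : G) ^ c * z₂) :=
      ((hZc z₁ hz₁ b b.2).pow_right c).mul_right (hZc z₁ hz₁ z₂ (hZT hz₂))
    have c2 : Commute z₂ ((a : G) ^ c) := (hZc z₂ hz₂ a a.2).pow_right c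
    have e : ⁅(a : G) ^ c * z₁, (b : G) ^ c * z₂⁆ = ⁅(a : G) ^ c, (b : G) ^ c⁆ := by
      simp only [commutatorElement_def]
      calc (a : G) ^ c * z₁ * ((b : G) ^ c * z₂) * ((a : G) ^ c * z₁)⁻¹ * ((b : G) ^ c * z₂)⁻¹
          = (a : G) ^ c * (z₁ * ((b : G) ^ c * z₂)) * z₁⁻¹ * ((a : G) ^ c)⁻¹ * ((b : G) ^ c * z₂)⁻¹ := by group
        _ = (a : G) ^ c * (b : G) ^ c * (z₂ * ((a : G) ^ c)⁻¹) * z₂⁻¹ * ((b : G) ^ c)⁻¹ := by rw [c1.eq]; group
        _ = (a : G) ^ c * (b : G) ^ c * (((a : G) ^ c)⁻¹ * z₂) * z₂⁻¹ * ((b : G) ^ c)⁻¹ := by rw [c2.inv_right.eq]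
        _ = _ := by group
    rw [e, comm_pow (hZc w hwZ a a.2) (hZc w hwZ b b.2)] at hconj
    exact hconj.symm
  have hc2 : ∀ v : T ⧸ Z', v ^ (c * c) = v := by
    have hmod : c * c ≡ 1 [MOD p] := by
      have hwo : orderOf w = p := orderOf_eq_prime (hexp _ (hZT (hcommZ a b))) hne
      rw [← hwo, ← pow_eq_pow_iff_modEq, pow_one]
      exact hwc
    intro v
    conv_rhs => rw [← pow_one v]
    exact pow_eq_pow_iff_modEq.mpr (hmod.of_dvd (orderOf_dvd_of_pow_eq_one (hV v)))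
  have hk2 : k ^ 2 = 1 := by
    by_contra hk2
    obtain ⟨v, hv⟩ : ∃ v : T ⧸ Z', v ≠ 1 := by
      haveI : Nontrivial (T ⧸ Z') := Finite.one_lt_card_iff_nontrivial.mp (by
        rw [hcard]; exact Nat.one_lt_pow two_ne_zero hp.out.one_lt)
      exact exists_ne 1
    refine hv (hfpf _ hk2 v ?_)
    rw [pow_two, map_mul, MulAut.mul_apply, hc, hc, ← pow_mul, hc2]
  exact orderOf_eq_one_iff.mp (Nat.eq_one_of_dvd_coprimes (Nat.coprime_two_right.mpr hodd)
    (orderOf_dvd_natCard k) (orderOf_dvd_of_pow_eq_one hk2))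

/-- BG 15.7: `K ≠ 1`, `U = 1`. -/
theorem main (hG : Cfsg.IsMinSimpleOddOrder G) (hKU : Cfsg.IsSigmaDecomposition M K U) (hK : K ≠ ⊥) (hU : U = ⊥)
    (h : NT M N g y p) :
    ¬ IsMulCommutative (Cfsg.sigmaCore M) ∧
      (Nat.card K ∣ p - 1 ∨ Nat.card K ∣ p + 1 ∧
        ∃ T : Sylow p G, (T : Subgroup G) ≤ Cfsg.sigmaCore M ∧ Nat.card (T : Subgroup G) = p ^ 3) := by
  haveI := Fact.mk h.prime
  haveI := h.nilpotent
  have hM := h.coatom
  have hKM := SigmaDecomp.K_le hKU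
  have hder := TypeP.derived_bot hG hM hKU hK hU
  have hDder : Dstar M K ≤ ⁅Cfsg.sigmaCore M, Cfsg.sigmaCore M⁆ := by
    have := (Cfsg.Agent.S1365.result hG M hM K U hKU hK).2
    rwa [hder] at this
  have hDne : Dstar M K ≠ ⊥ := (StarFitting.main hG hM hKU hK).2.1
  have hab : ¬ IsMulCommutative (Cfsg.sigmaCore M) := fun hab => hDne (le_bot_iff.mp
    (hDder.trans (Subgroup.commutator_self_eq_bot_iff.mpr hab).le))
  refine ⟨hab, ?_⟩
  obtain ⟨T, hT, -, hmem⟩ := h.exists_sylow hG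
  have hDT : Dstar M K ≤ (T : Subgroup G) := hDder.trans (derived_le hG h hab hT hmem)
  have hDp : Nat.card ↥(Dstar M K) = p := by
    obtain ⟨j, hj⟩ := (T.isPGroup'.to_le hDT).exists_card_eq
    have hq := Cfsg.Agent.S1373.result hG M hM K U hKU hK hU
    exact ((Nat.prime_dvd_prime_iff_eq hq h.prime).mp (hq.dvd_of_dvd_pow hj.dvd))
  obtain ⟨B, -, hBσ, hBe, hBc, hyB, hmax⟩ := h.plane hG
  have hpσ : p ∣ Nat.card (Cfsg.sigmaCore M) := h.order ▸ Subgroup.orderOf_dvd_natCard _ h.core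
  set Λ := line M p with hΛ
  have hΛc : Nat.card Λ = p := h.line_card hG hab h.prime hpσ
  have hfix := (SigmaDecomp.str hG hM hKU hK).fix
  have hKn : K ≤ Subgroup.normalizer (Λ : Set G) := hKM.trans (FittingNonTI.line_normal M p)
  by_cases hΛD : Λ = Dstar M K
  swap
  · refine Or.inl (FittingNonTI.card_dvd_sub_one h.prime hΛc hKn (le_bot_iff.mp fun k hk => ?_))
    by_contra hk1
    rw [Subgroup.mem_bot] at hk1
    refine hΛD (Subgroup.eq_of_le_of_card_ge (fun z hz => (hfix k hk.1 hk1).le ⟨hz.1,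
      Subgroup.mem_centralizer_singleton_iff.mpr (Subgroup.mem_centralizer_iff.mp hk.2 z hz)⟩) ?_)
    rw [hΛc, hDp]
  have hKT : K ≤ Subgroup.normalizer ((T : Subgroup G) : Set G) := fun k hk =>
    NormalizerFusion.mem_normalizer_of_conj fun a ha => hmem _
      ((Subgroup.mem_normalizer_iff.mp (SigmaTools.le_normalizer_sigmaCore M (hKM hk)) a).mp (hT ha))
      fun t ht hd => by
        rw [show orderOf (k * a * k⁻¹) = orderOf a from MulEquiv.orderOf_eq (MulAut.conj k) a] at hd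
        obtain ⟨j, hj⟩ := T.isPGroup'.exists_card_eq
        exact (Nat.prime_dvd_prime_iff_eq ht h.prime).mp
          (ht.dvd_of_dvd_pow (hj ▸ hd.trans (Subgroup.orderOf_dvd_natCard _ ha)))
  have hp2 : p ≠ 2 := hmax.ne_two hG
  have hKcop : (Nat.card K).Coprime p :=
    (SigmaDecomp.coprime_K_core hKU).coprime_dvd_right hpσ
  have hfixT : ∀ k ∈ K, k ≠ 1 → (T : Subgroup G) ⊓ Subgroup.centralizer ({k} : Set G) = Λ := fun k hk hk1 => by
    refine le_antisymm ((inf_le_inf_right _ hT).trans ((hfix k hk hk1).le.trans hΛD.ge)) (le_inf ?_ ?_)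
    · exact hΛD.le.trans hDT
    · exact hΛD.le.trans (inf_le_right.trans (Subgroup.centralizer_le (Set.singleton_subset_iff.mpr hk)))
  have hyT := hmem y h.core fun t ht hd => by
    rw [h.order] at hd
    exact (Nat.prime_dvd_prime_iff_eq ht h.prime).mp hd
  have hyΛ : y ∉ Λ := fun hy => hab ((h.le_centralizer_iff hG).mp fun a ha =>
    Subgroup.mem_centralizer_singleton_iff.mpr (Subgroup.mem_centralizer_iff.mp hy.2.1 a ha))
  by_cases hr : Cfsg.PRankLE p 2 (T : Subgroup G)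
  swap
  · left
    have hBT : B ≤ (T : Subgroup G) := fun b hb => hmem b (hBσ hb) fun t ht hd =>
      (Nat.prime_dvd_prime_iff_eq ht h.prime).mp (hd.trans (orderOf_dvd_of_pow_eq_one (hBe.2 b hb)))
    have hnar : Cfsg.IsNarrow p (T : Subgroup G) := by
      refine NarrowMaximal.isNarrow_of_maximal hp2 T.isPGroup' (E := B.subgroupOf T)
        (Fusion.Thompson.isEA_subgroupOf hBe _) (by
          rw [Nat.card_congr (Subgroup.subgroupOfEquivOfLe hBT).toEquiv, hBc]) fun C hC hle => ?_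
      have h1 := hmax.max (C.map (T : Subgroup G).subtype) (Fusion.Thompson.isEA_map _ hC) fun b hb =>
        ⟨⟨b, hBT hb⟩, hle hb, rfl⟩
      rw [← h1, Subgroup.subgroupOf, Subgroup.comap_map_eq_self_of_injective (T : Subgroup G).subtype_injective]
    have hfaith : K ⊓ Subgroup.centralizer ((T : Subgroup G) : Set G) = ⊥ := le_bot_iff.mp fun k hk => by
      by_contra hk1
      rw [Subgroup.mem_bot] at hk1
      exact hyΛ ((hfixT k hk.1 hk1).le ⟨hyT,
        Subgroup.mem_centralizer_singleton_iff.mpr (Subgroup.mem_centralizer_iff.mp hk.2 y hyT)⟩)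
    haveI := hKU.cyclic
    have hKs : Group.IsSolvable K := hG.2.2.2 K fun e => hM.1 (top_le_iff.mp (e ▸ hKM))
    have hd := (NarrowAction.detect hp2 T.isPGroup' hnar hKT hKs (hG.1.of_dvd_nat K.card_subgroup_dvd_card) hfaith).2 hr
    rw [← IsCyclic.exponent_eq_card (α := K)]
    exact Monoid.exponent_dvd_of_forall_pow_eq_one fun a =>
      hd a (hKcop.coprime_dvd_left (orderOf_dvd_natCard a))
  obtain ⟨P₁, P₂, hsup, hcomm, hP₁n, hP₁c, hexp, hP₂c, hcl⟩ := (Cfsg.Agent.S1412.result hG p T hr).resolve_left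
    (h.sylow_nonabelian hG hab T)
  -- the centre of `T`
  set Z := Cfsg.sigmaCore M ⊓ Subgroup.centralizer (Cfsg.sigmaCore M : Set G) ⊓ (T : Subgroup G) with hZ
  have hP₂Z : P₂ ≤ Z := fun x hx => by
    have hxT : x ∈ (T : Subgroup G) := hsup ▸ Subgroup.mem_sup_right hx
    refine ⟨⟨hT hxT, central h hT hmem hxT fun a ha => ?_⟩, hxT⟩
    rw [← hsup] at ha
    refine (Subgroup.mem_centralizer_singleton_iff.mp ((?_ : P₁ ⊔ P₂ ≤ Subgroup.centralizer ({x} : Set G)) ha))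
    refine sup_le (fun b hb => Subgroup.mem_centralizer_singleton_iff.mpr (hcomm b hb x hx)) fun b hb => ?_
    letI := IsCyclic.commGroup (α := P₂)
    exact Subgroup.mem_centralizer_singleton_iff.mpr (congrArg Subtype.val (mul_comm (⟨b, hb⟩ : P₂) ⟨x, hx⟩))
  haveI : IsCyclic Z := by
    haveI : IsMulCommutative Z :=
      ⟨⟨fun a b => Subtype.ext (Subgroup.mem_centralizer_iff.mp b.2.1.2 a a.2.1.1)⟩⟩
    have hr1 : Cfsg.PRankLE p 1 Z := by
      intro A hAc hAe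
      have h1 := Fusion.Thompson.isEA_map Z.subtype (p := p) (A := A) ⟨hAc, hAe⟩
      have h2 : A.map Z.subtype ≤ Λ := by
        rintro _ ⟨a, ha, rfl⟩
        exact ⟨a.2.1.1, a.2.1.2, h1.2 _ ⟨a, ha, rfl⟩⟩
      rw [← Subgroup.card_map_of_injective Z.subtype_injective, pow_one]
      exact (Subgroup.card_le_of_le h2).trans hΛc.le
    exact SigmaComplement.isCyclic_of_rank_one hG.1 le_rfl (T.isPGroup'.to_le inf_le_right) hr1
  have hP₂Λ : P₂ ≤ Λ := by
    obtain ⟨k, hk, hk1⟩ := (Subgroup.bot_or_exists_ne_one K).resolve_left hK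
    obtain ⟨d, hd, hd1⟩ := (Subgroup.bot_or_exists_ne_one (Dstar M K)).resolve_left hDne
    have hkZ : k ∈ Subgroup.normalizer (Z : Set G) := by
      refine Subgroup.inf_normalizer_le_normalizer_inf ⟨Subgroup.inf_normalizer_le_normalizer_inf
        ⟨SigmaTools.le_normalizer_sigmaCore M (hKM hk), ?_⟩, hKT hk⟩
      exact CoreStructure.le_normalizer_centralizer (SigmaTools.le_normalizer_sigmaCore M) (hKM hk)
    have hdZ : d ∈ Z := ⟨⟨hd.1, ((hΛD.ge hd : d ∈ Λ)).2.1⟩, hDT hd⟩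
    have hC := StarFitting.centralizes_cyclic (p := p) (T.isPGroup'.to_le inf_le_right) hkZ
      ((SigmaDecomp.coprime_K_core hKU).coprime_dvd_left (Subgroup.orderOf_dvd_natCard _ hk) |>.coprime_dvd_right
        (Subgroup.card_dvd_of_le (inf_le_left.trans inf_le_left))) hdZ hd1 (Subgroup.mem_centralizer_iff.mp hd.2 k hk)
    exact fun x hx => hΛD.ge ((hfix k hk hk1).le ⟨(hP₂Z hx).1.1, hC (hP₂Z hx)⟩)
  have hTP₁ : (T : Subgroup G) = P₁ := by
    refine le_antisymm (hsup ▸ sup_le le_rfl fun x hx => ?_) (hsup ▸ le_sup_left)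
    exact (hcl.le (Subgroup.subset_closure ⟨hx, (hP₂Λ hx).2.2⟩)).1
  have hTc : Nat.card (T : Subgroup G) = p ^ 3 := by rw [hTP₁, hP₁c]
  haveI := hKU.cyclic
  rcases card_dvd_cube (T := (T : Subgroup G)) (Z := Λ) (K := K) (hG.1.of_dvd_nat K.card_subgroup_dvd_card) hTc
      (fun a ha => by
        rw [hTP₁] at ha
        have := Monoid.pow_exponent_eq_one (⟨a, ha⟩ : P₁)
        rw [hexp] at this
        exact congrArg Subtype.val this)
      (h.sylow_nonabelian hG hab T) (hΛD.le.trans hDT) hΛc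
      (fun z hz a ha => (Subgroup.mem_centralizer_iff.mp hz.2.1 a (hT ha)).symm) hKT hKcop hfixT with h1 | h1
  · exact Or.inl h1
  · exact Or.inr ⟨h1, T, hT, hTc⟩

end CfsgLib.OddOrder.FittingTypeV
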