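import Cfsg.Agent.Lib.OddOrder.FittingTI
import Cfsg.Agent.S1418
import Cfsg.Agent.S1419

/-!
Bender–Glauberman 15.7, second part: the structure of `M_σ` when `F(M)` is not a TI-subgroup.
-/

set_option autoImplicit false

namespace CfsgLib.OddOrder.FittingNonTI

open SigmaFusion (cj)
open SigmaCentralizer (Over)

variable {G : Type*} [Group G] [Finite G] {M N : Subgroup G} {g y : G} {p : ℕ}

/-- An element of prime order of `F(M) ∩ F(M)^g` and the maximal subgroup over its centraliser. -/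
structure NT (M N : Subgroup G) (g y : G) (p : ℕ) : Prop where
  coatom : IsCoatom M
  out : g ∉ M
  mem : y ∈ Cfsg.fittingOf M ⊓ cj g (Cfsg.fittingOf M)
  order : orderOf y = p
  prime : p.Prime
  sigma : p ∈ Cfsg.sigma M
  core : y ∈ Cfsg.sigmaCore M
  nilpotent : Group.IsNilpotent (Cfsg.sigmaCore M)
  nbr : Over M N y

theorem exists_nt (hG : Cfsg.IsMinSimpleOddOrder G) (hM : IsCoatom M) (hg : g ∉ M)
    (hX : Cfsg.fittingOf M ⊓ cj g (Cfsg.fittingOf M) ≠ ⊥) : ∃ (p : ℕ) (y : G) (N : Subgroup G), NT M N g y p := by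
  obtain ⟨p, hp, y, hy, hyo⟩ := FittingTI.exists_elem hX
  haveI := Fact.mk hp
  have hys := (FittingTI.le_core hG hM hg hy).1
  have hy1 : y ≠ 1 := fun e => hp.ne_one (by rw [← hyo, e, orderOf_one])
  obtain ⟨N, hov⟩ := SigmaCentralizer.exists_over hG hM hys hy1 (FittingTI.not_centralizer_le hG hM hg hy hyo)
  exact ⟨p, y, N, hM, hg, hy, hyo, hp, FittingTI.sigma_of_mem hG hM hg hy hyo, hys,
    FittingTI.nilpotent_core hG hM hg hX, hov⟩

/-- `p'`-elements of `M_σ` commute with `y`. -/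
theorem NT.commute (h : NT M N g y p) {a : G} (ha : a ∈ Cfsg.sigmaCore M) (hc : ¬ p ∣ orderOf a) :
    Commute a y := by
  haveI := h.nilpotent
  refine Basic.commute_of_mem_nilpotent ha h.core ?_
  rw [h.order, Nat.coprime_comm, h.prime.coprime_iff_not_dvd]
  exact hc

theorem NT.le_inf (h : NT M N g y p) {H : Subgroup G} (hH : H ≤ Cfsg.sigmaCore M)
    (hC : H ≤ Subgroup.centralizer ({y} : Set G)) : H ≤ M ⊓ N :=
  _root_.le_inf (hH.trans (SigmaTools.sigmaCore_le M)) (hC.trans h.nbr.le)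

theorem NT.not_sigma (hG : Cfsg.IsMinSimpleOddOrder G) (h : NT M N g y p) {H : Subgroup G} (hH : H ≤ M ⊓ N)
    {t : ℕ} (ht : t.Prime) (hd : t ∣ Nat.card H) : t ∉ Cfsg.sigma N := fun hs => by
  haveI := Fact.mk ht
  exact SigmaComplement.not_dvd_card hG h.nbr.coatom h.nbr.compl hs (hd.trans (Subgroup.card_dvd_of_le hH))

theorem NT.abelian (hG : Cfsg.IsMinSimpleOddOrder G) (h : NT M N g y p) {H : Subgroup G}
    (hH : H ≤ Cfsg.sigmaCore M) (hC : H ≤ Subgroup.centralizer ({y} : Set G)) : IsMulCommutative H := by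
  haveI := h.nilpotent
  have hn : Group.IsNilpotent H := Group.nilpotent_of_mulEquiv (Subgroup.subgroupOfEquivOfLe hH)
  exact SigmaDecomp.abelian_of_nilpotent hG h.nbr.coatom ((h.le_inf hH hC).trans inf_le_right) hn
    fun t ht hd => h.not_sigma hG (h.le_inf hH hC) ht hd

theorem NT.ea_card_le (hG : Cfsg.IsMinSimpleOddOrder G) (h : NT M N g y p) {r : ℕ} [hr : Fact r.Prime]
    {A : Subgroup G} (hA : A ≤ Cfsg.sigmaCore M) (hC : A ≤ Subgroup.centralizer ({y} : Set G))
    (hAe : Cfsg.IsElementaryAbelian r A) : Nat.card A ≤ r ^ 2 := by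
  by_cases hA1 : A = ⊥
  · rw [hA1, Subgroup.card_bot]; exact Nat.one_le_pow _ _ hr.out.pos
  have hAp : IsPGroup r A := fun a => ⟨1, by rw [pow_one]; exact Subtype.ext (hAe.2 a a.2)⟩
  have hd : r ∣ Nat.card A := hAp.card_eq_or_dvd.resolve_left fun e => hA1 (Subgroup.eq_bot_of_card_eq _ e)
  refine RankTwo.card_le_sq (by_contra fun hr2 => ?_) hAe ((h.le_inf hA hC).trans inf_le_right)
  exact h.not_sigma hG (h.le_inf hA hC) hr.out hd
    (SigmaBasics.mem_sigma_of_alpha hG h.nbr.coatom ⟨hr.out, hr2⟩)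

/-- The plane of `N` through `y`. -/
theorem NT.plane (hG : Cfsg.IsMinSimpleOddOrder G) (h : NT M N g y p) :
    ∃ B : Subgroup G, B ≤ M ⊓ N ∧ B ≤ Cfsg.sigmaCore M ∧ Cfsg.IsElementaryAbelian p B ∧ Nat.card B = p ^ 2 ∧
      y ∈ B ∧ A2Transitive.MaxPlane p B := by
  haveI := Fact.mk h.prime
  have hτ := h.nbr.tau2 p h.prime (h.order ▸ dvd_rfl)
  obtain ⟨B, hB, hBe, hBc⟩ := TauTwoAbelian.exists_plane h.nbr.compl hτ
  have hy := ((Cfsg.Agent.S1418.result hG N h.nbr.coatom (M ⊓ N) h.nbr.compl p hτ B ⟨hB, hBe, hBc⟩).1.2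
    (Subgroup.zpowers y) (Subgroup.zpowers_le.mpr h.nbr.mem) (by rw [Nat.card_zpowers, h.order]))
    (Subgroup.mem_zpowers y)
  obtain ⟨A₀, hexc⟩ := TauTwoStructure.exists_exc hG h.nbr.coatom hτ.2.1 (hB.trans inf_le_right) hBe hBc
  exact ⟨B, hB, SigmaTools.pGroup_le_sigmaCore hG h.coatom h.sigma (hB.trans inf_le_left)
    (IsPGroup.of_card (n := 2) hBc), hBe, hBc, hy, hexc.maxPlane hG⟩

theorem NT.le_centralizer_iff (hG : Cfsg.IsMinSimpleOddOrder G) (h : NT M N g y p) :
    Cfsg.sigmaCore M ≤ Subgroup.centralizer ({y} : Set G) ↔ IsMulCommutative (Cfsg.sigmaCore M) := by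
  refine ⟨fun hC => h.abelian hG le_rfl hC, fun hc a ha => Subgroup.mem_centralizer_singleton_iff.mpr ?_⟩
  exact Subtype.ext_iff.mp (hc.is_comm.comm (⟨a, ha⟩ : Cfsg.sigmaCore M) ⟨y, h.core⟩)

/-- The abelian case: rank exactly two. -/
theorem NT.rank_two (hG : Cfsg.IsMinSimpleOddOrder G) (h : NT M N g y p)
    (hab : IsMulCommutative (Cfsg.sigmaCore M)) :
    Cfsg.RankLE 2 (Cfsg.sigmaCore M) ∧ ¬ Cfsg.RankLE 1 (Cfsg.sigmaCore M) := by
  have hC := (h.le_centralizer_iff hG).mpr hab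
  refine ⟨fun r hr => ?_, fun hR => ?_⟩
  · haveI := Fact.mk hr
    intro A hAc hAe
    have h1 := Fusion.Thompson.isEA_map (Cfsg.sigmaCore M).subtype (p := r) (A := A) ⟨hAc, hAe⟩
    have h2 := h.ea_card_le hG (Subgroup.map_subtype_le _) ((Subgroup.map_subtype_le _).trans hC) h1
    rwa [Subgroup.card_map_of_injective (Cfsg.sigmaCore M).subtype_injective] at h2
  · haveI := Fact.mk h.prime
    obtain ⟨B, -, hBσ, hBe, hBc, -, -⟩ := h.plane hG
    exact UniqueTools.not_pRankLE_of_isEA (k := 1) hBe hBc.ge hBσ (hR p h.prime)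

/-- A Sylow `p`-subgroup of `G` in `M_σ`. -/
theorem NT.exists_sylow (hG : Cfsg.IsMinSimpleOddOrder G) (h : NT M N g y p) [hp : Fact p.Prime] :
    ∃ T : Sylow p G, (T : Subgroup G) ≤ Cfsg.sigmaCore M ∧
      Cfsg.sigmaCore M ≤ Subgroup.normalizer ((T : Subgroup G) : Set G) ∧
      ∀ a ∈ Cfsg.sigmaCore M, (∀ t : ℕ, t.Prime → t ∣ orderOf a → t = p) → a ∈ (T : Subgroup G) := by
  haveI := h.nilpotent
  obtain ⟨T, hTM, -⟩ := SigmaFusion.exists_sylow_sigma h.sigma
  have hT := SigmaTools.pGroup_le_sigmaCore hG h.coatom h.sigma hTM T.isPGroup'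
  have hi : ¬ p ∣ ((T : Subgroup G).subgroupOf (Cfsg.sigmaCore M)).index := fun hd =>
    T.not_dvd_index (hd.trans (Dvd.intro _ (Subgroup.relIndex_mul_index hT)))
  let T' : Sylow p (Cfsg.sigmaCore M) := T.subtype hT
  haveI hn : ((T : Subgroup G).subgroupOf (Cfsg.sigmaCore M)).Normal := by
    have : (T' : Subgroup (Cfsg.sigmaCore M)).Normal := inferInstance
    simpa [T'] using this
  refine ⟨T, hT, (Subgroup.normal_subgroupOf_iff_le_normalizer hT).mp hn, fun a ha hpr => ?_⟩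
  have := SigmaCore.le_of_coprime_index (N := (T : Subgroup G).subgroupOf (Cfsg.sigmaCore M))
    (K := Subgroup.zpowers (⟨a, ha⟩ : Cfsg.sigmaCore M)) (Nat.coprime_of_dvd fun t ht h1 h2 => by
      rw [Nat.card_zpowers, Subgroup.orderOf_mk] at h1
      exact hi (hpr t ht h1 ▸ h2))
  exact this (Subgroup.mem_zpowers _)

theorem NT.sylow_nonabelian (hG : Cfsg.IsMinSimpleOddOrder G) (h : NT M N g y p) [hp : Fact p.Prime]
    (hab : ¬ IsMulCommutative (Cfsg.sigmaCore M)) (S : Sylow p G) : ¬ IsMulCommutative (S : Subgroup G) := by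
  intro hS
  obtain ⟨T, hT, -, hmem⟩ := h.exists_sylow hG
  have hTc : IsMulCommutative (T : Subgroup G) := by
    refine ⟨⟨fun a b => ?_⟩⟩
    apply (S.equiv T).symm.injective
    rw [map_mul, map_mul]
    exact hS.is_comm.comm _ _
  refine hab ((h.le_centralizer_iff hG).mp fun a ha => ?_)
  obtain ⟨b, c, hb, hc, rfl, -, hbp, hcp⟩ := SigmaCover.exists_parts ({p} : Set ℕ) a
  have hbσ := (Cfsg.sigmaCore M).zpowers_le.mpr ha hb
  have hcσ := (Cfsg.sigmaCore M).zpowers_le.mpr ha hc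
  refine mul_mem (Subgroup.mem_centralizer_singleton_iff.mpr ?_)
    (Subgroup.mem_centralizer_singleton_iff.mpr (h.commute hcσ fun hd => hcp p h.prime hd rfl).eq)
  have hyT := hmem y h.core fun t ht hd => by
    rw [h.order] at hd
    exact (Nat.prime_dvd_prime_iff_eq ht h.prime).mp hd
  exact Subtype.ext_iff.mp (hTc.is_comm.comm
    (⟨b, hmem b hbσ fun t ht hd => hbp t ht hd⟩ : (T : Subgroup G)) ⟨y, hyT⟩)

theorem NT.tau2_N (hG : Cfsg.IsMinSimpleOddOrder G) (h : NT M N g y p)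
    (hab : ¬ IsMulCommutative (Cfsg.sigmaCore M)) : Cfsg.tau2 N = {p} := by
  haveI := Fact.mk h.prime
  have hτ := h.nbr.tau2 p h.prime (h.order ▸ dvd_rfl)
  obtain ⟨B, hB, hBe, hBc⟩ := TauTwoAbelian.exists_plane h.nbr.compl hτ
  exact (Cfsg.Agent.S1419.result hG N h.nbr.coatom (M ⊓ N) h.nbr.compl p hτ (h.sylow_nonabelian hG hab) B
    ⟨hB, hBe, hBc⟩).1

/-- In the nonabelian case the `p'`-subgroups of `M_σ` are cyclic. -/
theorem NT.cyclic (hG : Cfsg.IsMinSimpleOddOrder G) (h : NT M N g y p)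
    (hab : ¬ IsMulCommutative (Cfsg.sigmaCore M)) {H : Subgroup G} (hH : H ≤ Cfsg.sigmaCore M)
    (hp' : ¬ p ∣ Nat.card H) : IsCyclic H := by
  have hC : H ≤ Subgroup.centralizer ({y} : Set G) := fun a ha => Subgroup.mem_centralizer_singleton_iff.mpr
    (h.commute (hH ha) fun hd => hp' (hd.trans (Subgroup.orderOf_dvd_natCard _ ha))).eq
  have hc := h.abelian hG hH hC
  haveI : IsZGroup H := by
    refine ⟨fun r hr R => ?_⟩
    haveI := Fact.mk hr
    rcases R.isPGroup'.card_eq_or_dvd with h1 | h1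
    · exact @isCyclic_of_subsingleton _ _ (Nat.card_eq_one_iff_unique.mp h1).1
    have hd : r ∣ Nat.card H := h1.trans (Subgroup.card_subgroup_dvd_card _)
    have hrp : r ≠ p := fun e => hp' (e ▸ hd)
    have hns := h.not_sigma hG (h.le_inf hH hC) hr hd
    have hr1 : Cfsg.PRankLE r 1 N := by_contra fun hr1 => hrp (by
      have := StarNormalizer.tau2_of hG h.nbr.coatom hns hr1
      rw [h.tau2_N hG hab] at this
      exact this)
    haveI := SigmaComplement.isCyclic_of_rank_one hG.1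
      ((Subgroup.map_subtype_le (R : Subgroup H)).trans ((h.le_inf hH hC).trans inf_le_right))
      (R.isPGroup'.map H.subtype) hr1
    exact isCyclic_of_surjective ((R : Subgroup H).equivMapOfInjective H.subtype H.subtype_injective).symm
      (MulEquiv.surjective _)
  letI : CommGroup H := { (inferInstance : Group H) with mul_comm := hc.1.comm }
  haveI : Group.IsNilpotent H := CommGroup.isNilpotent (G := H)
  infer_instance

/-- The elements of order dividing `r` of the centre of `M_σ`. -/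
def line (M : Subgroup G) (r : ℕ) : Subgroup G where
  carrier := {x | x ∈ Cfsg.sigmaCore M ∧ x ∈ Subgroup.centralizer (Cfsg.sigmaCore M : Set G) ∧ x ^ r = 1}
  one_mem' := ⟨one_mem _, one_mem _, one_pow r⟩
  mul_mem' := fun {a b} ha hb => ⟨mul_mem ha.1 hb.1, mul_mem ha.2.1 hb.2.1, by
    rw [Commute.mul_pow (Subgroup.mem_centralizer_iff.mp hb.2.1 a ha.1) r, ha.2.2, hb.2.2, one_mul]⟩
  inv_mem' := fun {a} ha => ⟨inv_mem ha.1, inv_mem ha.2.1, by rw [inv_pow, ha.2.2, inv_one]⟩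

omit [Finite G] in
theorem line_le (M : Subgroup G) (r : ℕ) : line M r ≤ Cfsg.sigmaCore M := fun _ h => h.1

omit [Finite G] in
theorem line_ea (M : Subgroup G) (r : ℕ) : Cfsg.IsElementaryAbelian r (line M r) :=
  ⟨⟨⟨fun a b => Subtype.ext (Subgroup.mem_centralizer_iff.mp b.2.2.1 a a.2.1)⟩⟩, fun _ h => h.2.2⟩

theorem line_normal (M : Subgroup G) (r : ℕ) : M ≤ Subgroup.normalizer (line M r : Set G) := fun m hm => by
  refine NormalizerFusion.mem_normalizer_of_conj fun x hx => ⟨?_, ?_, ?_⟩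
  · exact (Subgroup.mem_normalizer_iff.mp (SigmaTools.le_normalizer_sigmaCore M hm) x).mp hx.1
  · exact (Subgroup.mem_normalizer_iff.mp
      (CoreStructure.le_normalizer_centralizer (SigmaTools.le_normalizer_sigmaCore M) hm) x).mp hx.2.1
  · rw [conj_pow, hx.2.2, mul_one, mul_inv_cancel]

/-- In the nonabelian case each prime of `M_σ` gives a normal line. -/
theorem NT.line_card (hG : Cfsg.IsMinSimpleOddOrder G) (h : NT M N g y p)
    (hab : ¬ IsMulCommutative (Cfsg.sigmaCore M)) {r : ℕ} (hr : r.Prime) (hd : r ∣ Nat.card (Cfsg.sigmaCore M)) :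
    Nat.card (line M r) = r := by
  haveI := Fact.mk hr
  haveI := h.nilpotent
  haveI := Fact.mk h.prime
  set L := Cfsg.sigmaCore M with hL
  have hne : line M r ≠ ⊥ := by
    obtain ⟨S⟩ : Nonempty (Sylow r L) := inferInstance
    haveI : (S : Subgroup L).Normal := inferInstance
    have hS1 : (S : Subgroup L) ≠ ⊥ := Sylow.ne_bot_of_dvd_card S hd
    have h2 := Solvable.FrattiniFitting.inf_center_ne_bot (S : Subgroup L) hS1
    obtain ⟨z, hz⟩ := exists_prime_orderOf_dvd_card' (G := ↥((S : Subgroup L) ⊓ Subgroup.center L)) r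
      (((S.isPGroup'.to_le inf_le_left).card_eq_or_dvd).resolve_left fun e => h2 (Subgroup.eq_bot_of_card_eq _ e))
    intro hb
    have hm : ((z : L) : G) ∈ line M r := ⟨(z : L).2, Subgroup.mem_centralizer_iff.mpr fun a ha =>
      congrArg Subtype.val (Subgroup.mem_center_iff.mp z.2.2 ⟨a, ha⟩), by
        rw [← Subgroup.coe_pow, ← Subgroup.coe_pow, orderOf_dvd_iff_pow_eq_one.mp hz.dvd]; rfl⟩
    rw [hb, Subgroup.mem_bot] at hm
    rw [show z = 1 from Subtype.ext (Subtype.ext hm), orderOf_one] at hz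
    exact hr.ne_one hz.symm
  have hLp : IsPGroup r (line M r) := fun a => ⟨1, by rw [pow_one]; exact Subtype.ext a.2.2.2⟩
  obtain ⟨j, hj⟩ := hLp.exists_card_eq
  have hj0 : j ≠ 0 := fun e => hne (Subgroup.eq_bot_of_card_eq _ (by rw [hj, e, pow_zero]))
  suffices hlt : Nat.card (line M r) < r ^ 2 by
    rw [hj] at hlt ⊢
    have := (Nat.pow_lt_pow_iff_right hr.one_lt).mp hlt
    rw [show j = 1 by omega, pow_one]
  by_cases hrp : r = p
  · subst hrp
    have hy1 : y ∉ line M r := fun hy => hab ((h.le_centralizer_iff hG).mp fun a ha =>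
      Subgroup.mem_centralizer_singleton_iff.mpr (Subgroup.mem_centralizer_iff.mp hy.2.1 a ha))
    have hyC : line M r ≤ Subgroup.centralizer ({y} : Set G) := fun x hx =>
      Subgroup.mem_centralizer_singleton_iff.mpr (Subgroup.mem_centralizer_iff.mp hx.2.1 y h.core).symm
    have he := Replacement.isEA_sup (line_ea M r) (Replacement.isEA_zpowers (x := y) (p := r)
      (h.order ▸ pow_orderOf_eq_one y)) (by rwa [SigmaTools.centralizer_zpowers])
    refine lt_of_lt_of_le (Set.ncard_lt_ncard (SetLike.coe_ssubset_coe.mpr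
      (lt_of_le_of_ne le_sup_left fun e => hy1 (e.ge (Subgroup.mem_sup_right (Subgroup.mem_zpowers y))))))
      (h.ea_card_le hG (sup_le (line_le M r) (Subgroup.zpowers_le.mpr h.core)) (sup_le hyC (by
        rw [Subgroup.zpowers_le]; exact Subgroup.mem_centralizer_singleton_iff.mpr rfl)) he)
  · have hnd : ¬ p ∣ Nat.card (line M r) := fun hd' => hrp
      ((Nat.prime_dvd_prime_iff_eq h.prime hr).mp (h.prime.dvd_of_dvd_pow (hj ▸ hd'))).symm
    haveI := h.cyclic hG hab (line_le M r) hnd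
    have h3 : Monoid.exponent (line M r) ∣ r :=
      Monoid.exponent_dvd_of_forall_pow_eq_one fun a => Subtype.ext a.2.2.2
    rw [IsCyclic.exponent_eq_card] at h3
    exact lt_of_le_of_lt (Nat.le_of_dvd hr.pos h3) (by nlinarith [hr.one_lt])

omit [Finite G] in
/-- A faithful group of operators of a subgroup of prime order. -/
theorem card_dvd_sub_one [Finite G] {A L : Subgroup G} {r : ℕ} (hr : r.Prime) (hL : Nat.card L = r)
    (hA : A ≤ Subgroup.normalizer (L : Set G)) (hfree : A ⊓ Subgroup.centralizer (L : Set G) = ⊥) :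
    Nat.card A ∣ r - 1 := by
  haveI := Fact.mk hr
  haveI : IsCyclic L := isCyclic_of_prime_card hL
  have hf : Function.Injective (Coprime.conjHom hA) := (injective_iff_map_eq_one _).mpr fun a ha => by
    refine Subtype.ext (Subgroup.mem_bot.mp (hfree.le ⟨a.2, Subgroup.mem_centralizer_iff.mpr fun l hl => ?_⟩))
    have h1 := congrArg (fun φ : MulAut L => ((φ ⟨l, hl⟩ : L) : G)) ha
    simp only [Coprime.conjHom_apply, MulAut.one_apply] at h1
    exact (mul_inv_eq_iff_eq_mul.mp h1).symm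
  have := Subgroup.card_dvd_of_injective _ hf
  rwa [IsCyclic.card_mulAut, hL, Nat.totient_prime hr] at this

end CfsgLib.OddOrder.FittingNonTI
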