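import Cfsg.Agent.Lib.Coprime.Action
import Cfsg.Agent.Lib.Coprime.SchurZassenhaus
import Cfsg.Agent.Lib.Solvable.FrattiniFitting
import Mathlib

set_option autoImplicit false

/-!
A `p'`-group `L` normalised by a `p`-group `E`, both acting on a `p`-group `T`: if `L` centralises `C_T(E)` and either
`p` is odd or `TE` has class at most two, then `L` centralises `T`.
-/

namespace CfsgLib.OddOrder.FixedPointsFix

open scoped commutatorElement

/-- A group of class two in which `z ↦ z ^ h` halves. -/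
structure Half (U : Type*) [Group U] (h : ℕ) : Prop where
  central : ∀ a b c : U, Commute ⁅a, b⁆ c
  half : ∀ z : U, z ^ (2 * h) = z

variable {U : Type*} [Group U] {h : ℕ}

theorem Half.comm_left (H : Half U h) (a b c : U) : ⁅a * b, c⁆ = ⁅a, c⁆ * ⁅b, c⁆ := by
  calc ⁅a * b, c⁆ = (a * ⁅b, c⁆ * a⁻¹) * ⁅a, c⁆ := by simp only [commutatorElement_def]; group
    _ = ⁅b, c⁆ * ⁅a, c⁆ := by rw [← (H.central b c a).eq, mul_inv_cancel_right]
    _ = _ := (H.central b c _).eq

theorem Half.comm_right (H : Half U h) (a b c : U) : ⁅a, b * c⁆ = ⁅a, b⁆ * ⁅a, c⁆ := by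
  rw [← commutatorElement_inv (b * c) a, H.comm_left, mul_inv_rev, commutatorElement_inv, commutatorElement_inv,
    (H.central a c _).eq]

theorem Half.comm_central_left (H : Half U h) (a b c : U) (n : ℕ) : ⁅⁅a, b⁆ ^ n, c⁆ = 1 :=
  commutatorElement_eq_one_iff_commute.mpr ((H.central a b c).pow_left n)

theorem Half.comm_central_right (H : Half U h) (a b c : U) (n : ℕ) : ⁅c, ⁅a, b⁆ ^ n⁆ = 1 :=
  commutatorElement_eq_one_iff_commute.mpr ((H.central a b c).pow_left n).symm

/-- `U` with the averaged product. -/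
structure Avg {U : Type*} [Group U] {h : ℕ} (H : Half U h) where
  val : U

variable {H : Half U h}

theorem Avg.ext' {a b : Avg H} (e : a.val = b.val) : a = b := by
  cases a; cases b; simp_all

noncomputable instance : CommGroup (Avg H) where
  mul a b := ⟨a.val * b.val * ⁅b.val, a.val⁆ ^ h⟩
  one := ⟨1⟩
  inv a := ⟨a.val⁻¹⟩
  mul_assoc a b c := by
    apply Avg.ext'
    show a.val * b.val * ⁅b.val, a.val⁆ ^ h * c.val * ⁅c.val, a.val * b.val * ⁅b.val, a.val⁆ ^ h⁆ ^ h =
      a.val * (b.val * c.val * ⁅c.val, b.val⁆ ^ h) * ⁅b.val * c.val * ⁅c.val, b.val⁆ ^ h, a.val⁆ ^ h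
    rw [H.comm_right c.val (a.val * b.val), H.comm_right c.val a.val b.val, H.comm_central_right, mul_one,
      H.comm_left (b.val * c.val), H.comm_left b.val c.val a.val, H.comm_central_left, mul_one,
      (H.central c.val a.val _).mul_pow, (H.central b.val a.val _).mul_pow]
    have e1 : Commute (⁅b.val, a.val⁆ ^ h) c.val := (H.central _ _ _).pow_left h
    have e2 : ∀ y, Commute (⁅c.val, b.val⁆ ^ h) y := fun y => (H.central _ _ _).pow_left h
    simp only [mul_assoc]
    congr 2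
    rw [← mul_assoc (⁅b.val, a.val⁆ ^ h) c.val, e1.eq, mul_assoc]
    congr 1
    calc ⁅b.val, a.val⁆ ^ h * (⁅c.val, a.val⁆ ^ h * ⁅c.val, b.val⁆ ^ h)
        = ⁅b.val, a.val⁆ ^ h * ⁅c.val, a.val⁆ ^ h * ⁅c.val, b.val⁆ ^ h := (mul_assoc _ _ _).symm
      _ = ⁅c.val, b.val⁆ ^ h * (⁅b.val, a.val⁆ ^ h * ⁅c.val, a.val⁆ ^ h) := ((e2 _).symm).eq
  one_mul a := by
    apply Avg.ext'
    show 1 * a.val * ⁅a.val, 1⁆ ^ h = a.val
    simp
  mul_one a := by
    apply Avg.ext'
    show a.val * 1 * ⁅1, a.val⁆ ^ h = a.val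
    simp
  inv_mul_cancel a := by
    apply Avg.ext'
    show a.val⁻¹ * a.val * ⁅a.val, a.val⁻¹⁆ ^ h = 1
    simp [commutatorElement_def]
  mul_comm a b := by
    apply Avg.ext'
    show a.val * b.val * ⁅b.val, a.val⁆ ^ h = b.val * a.val * ⁅a.val, b.val⁆ ^ h
    have e : b.val * a.val = a.val * b.val * ⁅b.val, a.val⁆ := by
      rw [← (H.central b.val a.val _).eq, commutatorElement_def]; group
    rw [e, mul_assoc (a.val * b.val) ⁅b.val, a.val⁆]
    congr 1
    rw [← commutatorElement_inv b.val a.val, inv_pow, eq_mul_inv_iff_mul_eq, ← pow_add, ← two_mul]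
    exact H.half _

theorem Avg.mul_val (a b : Avg H) : (a * b).val = a.val * b.val * ⁅b.val, a.val⁆ ^ h := rfl

theorem Avg.pow_val (a : Avg H) (n : ℕ) : (a ^ n).val = a.val ^ n := by
  induction n with
  | zero => rw [pow_zero, pow_zero]; rfl
  | succ n ih =>
    rw [pow_succ, Avg.mul_val, ih, pow_succ,
      commutatorElement_eq_one_iff_commute.mpr ((Commute.refl a.val).pow_right n), one_pow, mul_one]

/-- A group endomorphism respects the averaged product. -/
noncomputable def Avg.map (f : U →* U) : Avg H →* Avg H where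
  toFun a := ⟨f a.val⟩
  map_one' := Avg.ext' (map_one f)
  map_mul' a b := Avg.ext' (by
    show f (a.val * b.val * ⁅b.val, a.val⁆ ^ h) = f a.val * f b.val * ⁅f b.val, f a.val⁆ ^ h
    rw [map_mul, map_mul, map_pow, map_commutatorElement])

theorem Avg.map_val (f : U →* U) (a : Avg H) : (Avg.map f a).val = f a.val := rfl

variable {G : Type*} [Group G] [Finite G] {p : ℕ} [hp : Fact p.Prime]

theorem commute_of_fixed {T L E : Subgroup G} (hTp : IsPGroup p T) (hp2 : p ≠ 2) (hL : (Nat.card L).Coprime p)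
    (hET : E ≤ Subgroup.normalizer (T : Set G)) (hLT : L ≤ Subgroup.normalizer (T : Set G))
    (hEL : E ≤ Subgroup.normalizer (L : Set G)) (hcent : ∀ a ∈ T, ∀ b ∈ T, ∀ c ∈ T, Commute ⁅a, b⁆ c)
    {Z : Subgroup G} (hZ : Z = T ⊓ Subgroup.centralizer (L : Set G)) (hTT : ⁅T, T⁆ ≤ Z)
    (hfix : ∀ t ∈ T, (∀ e ∈ E, Commute e t) → t ∈ Z) {v : G} (hv : v ∈ T) (hve : ∀ e ∈ E, e * v * e⁻¹ * v⁻¹ ∈ Z) :
    v ∈ Z := by
  classical
  obtain ⟨k, hk⟩ := hTp.exists_card_eq
  obtain ⟨h, hh⟩ : ∃ h, p ^ k + 1 = 2 * h := by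
    obtain ⟨j, hj⟩ := (hp.out.odd_of_ne_two hp2).pow (n := k)
    exact ⟨j + 1, by omega⟩
  have H : Half T h := ⟨fun a b c => Subtype.ext (by
      simpa [commutatorElement_def] using (hcent a a.2 b b.2 c c.2).eq), fun z => by
    rw [← hh, pow_succ, ← hk, pow_card_eq_one', one_mul]⟩
  letI : Fintype L := Fintype.ofFinite L
  have hZT : Z ≤ T := hZ ▸ inf_le_left
  let ci : ∀ g : G, g ∈ Subgroup.normalizer (T : Set G) → T →* T := fun g hg => (T.normalizerMonoidHom ⟨g, hg⟩).toMonoidHom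
  have hci : ∀ (g : G) (hg : g ∈ Subgroup.normalizer (T : Set G)) (t : T), ((ci g hg t : T) : G) = g * t * g⁻¹ :=
    fun g hg t => rfl
  let act : L → Avg H →* Avg H := fun l => Avg.map (ci l (hLT l.2))
  let N : Avg H → Avg H := fun a => ∏ l : L, act l a
  have hNmem : ∀ a, ((N a).val : G) ∈ Z := by
    intro a
    rw [hZ]
    refine Subgroup.mem_inf.mpr ⟨(N a).val.2, Subgroup.mem_centralizer_iff.mpr fun m hm => ?_⟩
    have e : Avg.map (ci m (hLT hm)) (N a) = N a := by
      simp only [N]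
      rw [map_prod]
      refine Fintype.prod_equiv (Equiv.mulLeft (⟨m, hm⟩ : L)) _ _ fun l => Avg.ext' (Subtype.ext ?_)
      show m * ((l : G) * a.val * (l : G)⁻¹) * m⁻¹ = (m * l) * a.val * (m * l)⁻¹
      group
    have e2 := congrArg (fun y : Avg H => (y.val : G)) e
    simp only [Avg.map_val, hci] at e2
    exact mul_inv_eq_iff_eq_mul.mp e2
  set n := Fintype.card L
  let F : Avg H → Avg H := fun a => a ^ n * (N a)⁻¹
  have hFmul : ∀ a b, F (a * b) = F a * F b := fun a b => by
    simp only [F, N, map_mul, Finset.prod_mul_distrib, mul_pow, mul_inv]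
    exact mul_mul_mul_comm _ _ _ _
  have hFZ : ∀ a : Avg H, (a.val : G) ∈ Z → F a = 1 := by
    intro a ha
    have e : ∀ l : L, act l a = a := fun l => Avg.ext' (Subtype.ext (by
      show (l : G) * a.val * (l : G)⁻¹ = a.val
      have h1 := (hZ ▸ ha : (a.val : G) ∈ T ⊓ Subgroup.centralizer (L : Set G)).2
      rw [Subgroup.mem_centralizer_iff.mp h1 l l.2, mul_inv_cancel_right]))
    simp only [F, N, e, Finset.prod_const, Finset.card_univ]
    exact mul_inv_cancel _
  set a : Avg H := ⟨⟨v, hv⟩⟩ with hadef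
  have hFe : ∀ e ∈ E, Commute e ((F a).val : G) := by
    intro e he
    have hequiv : Avg.map (ci e (hET he)) (F a) = F (Avg.map (ci e (hET he)) a) := by
      simp only [F, N, map_mul, map_pow, map_inv, map_prod]
      congr 2
      refine Fintype.prod_equiv
        { toFun := fun l : L => ⟨e * l * e⁻¹, (Subgroup.mem_normalizer_iff.mp (hEL he) l).mp l.2⟩
          invFun := fun l : L => ⟨e⁻¹ * l * e, by
            simpa using (Subgroup.mem_normalizer_iff.mp (hEL (inv_mem he)) l).mp l.2⟩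
          left_inv := fun l => Subtype.ext (by simp [mul_assoc])
          right_inv := fun l => Subtype.ext (by simp [mul_assoc]) } _ _ fun l => Avg.ext' (Subtype.ext ?_)
      show e * ((l : G) * a.val * (l : G)⁻¹) * e⁻¹ =
        (e * l * e⁻¹) * (e * a.val * e⁻¹) * (e * l * e⁻¹)⁻¹
      group
    have hdiff : ((Avg.map (ci e (hET he)) a * a⁻¹).val : G) ∈ Z := by
      rw [Avg.mul_val, Subgroup.coe_mul, Subgroup.coe_mul, SubmonoidClass.coe_pow]
      refine mul_mem (hve e he) (pow_mem ?_ h)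
      have e3 : ∀ s t : T, ((⁅s, t⁆ : T) : G) ∈ Z := fun s t => hTT (by
        simpa [commutatorElement_def] using Subgroup.commutator_mem_commutator s.2 t.2)
      exact e3 _ _
    have : Avg.map (ci e (hET he)) (F a) = F a := by
      rw [hequiv]
      calc F (Avg.map (ci e (hET he)) a) = F (Avg.map (ci e (hET he)) a * a⁻¹ * a) := by rw [inv_mul_cancel_right]
        _ = F (Avg.map (ci e (hET he)) a * a⁻¹) * F a := hFmul _ _
        _ = F a := by rw [hFZ _ hdiff, one_mul]
    have e2 := congrArg (fun y : Avg H => (y.val : G)) this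
    simp only [Avg.map_val, hci] at e2
    exact mul_inv_eq_iff_eq_mul.mp e2
  have hy : ((F a).val : G) ∈ Z := hfix _ (F a).val.2 hFe
  have hvn : (v : G) ^ n ∈ Z := by
    have h1 : a ^ n = F a * N a := by simp only [F, inv_mul_cancel_right]
    have h2 := congrArg (fun y : Avg H => (y.val : G)) h1
    simp only [Avg.pow_val, Avg.mul_val, Subgroup.coe_mul, SubmonoidClass.coe_pow] at h2
    rw [show v ^ n = ((a.val : T) : G) ^ n from rfl, h2]
    refine mul_mem (mul_mem hy (hNmem a)) (pow_mem (hTT ?_) h)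
    simpa [commutatorElement_def] using Subgroup.commutator_mem_commutator (N a).val.2 (F a).val.2
  obtain ⟨j, hj⟩ := exists_pow_eq_self_of_coprime (n := n) (x := v) (by
    rw [show n = Nat.card L from Nat.card_eq_fintype_card.symm]
    exact ((hL.pow_right k).coprime_dvd_right (hk ▸ Subgroup.orderOf_dvd_natCard T hv)))
  rw [← hj]
  exact pow_mem hvn j

/-- `L` centralises `T` when it centralises `C_T(E)`. -/
theorem main {T L E : Subgroup G} (hTp : IsPGroup p T) (hEp : IsPGroup p E) (hL : (Nat.card L).Coprime p)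
    (hET : E ≤ Subgroup.normalizer (T : Set G)) (hLT : L ≤ Subgroup.normalizer (T : Set G))
    (hEL : E ≤ Subgroup.normalizer (L : Set G))
    (hfix : T ⊓ Subgroup.centralizer (E : Set G) ≤ Subgroup.centralizer (L : Set G))
    (hcase : p ≠ 2 ∨ ∀ a ∈ E ⊔ T, ∀ b ∈ E ⊔ T, ∀ c ∈ E ⊔ T, Commute ⁅a, b⁆ c) :
    T ≤ Subgroup.centralizer (L : Set G) := by
  classical
  have hcop : ∀ {S : Subgroup G}, IsPGroup p S → ∀ {M : Subgroup G}, M ≤ L →
      (Nat.card M).Coprime (Nat.card S) := by
    intro S hS M hM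
    obtain ⟨j, hj⟩ := hS.exists_card_eq
    rw [hj]; exact (hL.coprime_dvd_left (Subgroup.card_dvd_of_le hM)).pow_right j
  rcases hcase with hp2 | hclass
  · -- `p` odd
    by_contra hne
    obtain ⟨U, ⟨hUT, hEU, hLU, hUnc⟩, hmin⟩ := (wellFounded_lt (α := Subgroup G)).has_min
      {W : Subgroup G | W ≤ T ∧ E ≤ Subgroup.normalizer (W : Set G) ∧ L ≤ Subgroup.normalizer (W : Set G) ∧
        ¬ W ≤ Subgroup.centralizer (L : Set G)} ⟨T, le_rfl, hET, hLT, hne⟩
    have hUp := hTp.to_le hUT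
    have hUsolv : Group.IsSolvable U := IsNilpotent.to_isSolvable (h := hUp.isNilpotent)
    have hmin' : ∀ W : Subgroup G, W ≤ U → W ≠ U → E ≤ Subgroup.normalizer (W : Set G) →
        L ≤ Subgroup.normalizer (W : Set G) → W ≤ Subgroup.centralizer (L : Set G) := by
      intro W hWU hWne h1 h2
      by_contra h3
      exact hmin W ⟨hWU.trans hUT, h1, h2, h3⟩ (lt_of_le_of_ne hWU hWne)
    have hUb : U ≠ ⊥ := fun h => hUnc (h.le.trans bot_le)
    have hnorm : ∀ {A X Y : Subgroup G}, A ≤ Subgroup.normalizer (X : Set G) →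
        A ≤ Subgroup.normalizer (Y : Set G) → A ≤ Subgroup.normalizer ((⁅X, Y⁆ : Subgroup G) : Set G) :=
      fun {A X Y} hX hY a ha => Subgroup.mem_normalizer_iff_map_conj_eq.mpr (by
        rw [Subgroup.map_commutator, Subgroup.mem_normalizer_iff_map_conj_eq.mp (hX ha),
          Subgroup.mem_normalizer_iff_map_conj_eq.mp (hY ha)])
    have hUL : ⁅U, L⁆ = U := by
      by_contra hne'
      have hD : ⁅U, L⁆ ≤ U := Subgroup.le_normalizer_iff_commutator_le_left.mp hLU
      have hc : ⁅⁅U, L⁆, L⁆ = ⊥ := Subgroup.commutator_eq_bot_iff_le_centralizer.mpr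
        (hmin' _ hD hne' (hnorm hEU hEL) (hnorm hLU Subgroup.le_normalizer))
      rw [Coprime.commutator_commutator_self hLU (hcop hUp le_rfl) (Or.inr hUsolv)] at hc
      exact hUnc (Subgroup.commutator_eq_bot_iff_le_centralizer.mp hc)
    have hder : ⁅U, U⁆ < U := Coprime.commutator_self_lt hUsolv hUb
    set D := ⁅U, U⁆ with hD
    have hDL : D ≤ Subgroup.centralizer (L : Set G) := hmin' D hder.le hder.ne (hnorm hEU hEU) (hnorm hLU hLU)
    have hUD : U ≤ Subgroup.centralizer (D : Set G) := by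
      have h1 : ⁅⁅L, D⁆, U⁆ = ⊥ := by
        rw [Subgroup.commutator_eq_bot_iff_le_centralizer.mpr (Subgroup.le_centralizer_iff.mp hDL),
          Subgroup.commutator_bot_left]
      have h2 : ⁅⁅D, U⁆, L⁆ = ⊥ := eq_bot_iff.mpr ((Subgroup.commutator_mono
        (Subgroup.le_normalizer_iff_commutator_le_left.mp (hnorm Subgroup.le_normalizer Subgroup.le_normalizer)) le_rfl).trans
        (Subgroup.commutator_eq_bot_iff_le_centralizer.mpr hDL).le)
      have h3 := Subgroup.commutator_commutator_eq_bot_of_rotate h1 h2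
      rw [hUL] at h3
      exact Subgroup.commutator_eq_bot_iff_le_centralizer.mp h3
    have hcent : ∀ a ∈ U, ∀ b ∈ U, ∀ c ∈ U, Commute ⁅a, b⁆ c := fun a ha b hb c hc =>
      Subgroup.mem_centralizer_iff.mp (hUD hc) _ (Subgroup.commutator_mem_commutator ha hb)
    set Z := U ⊓ Subgroup.centralizer (L : Set G) with hZ
    have hTT : ⁅U, U⁆ ≤ Z := le_inf hder.le hDL
    have hZU : Z ≤ U := inf_le_left
    have hEC : E ≤ Subgroup.normalizer (Subgroup.centralizer (L : Set G) : Set G) := by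
      refine Subgroup.le_normalizer_iff.mpr fun a ha c hc => Subgroup.mem_centralizer_iff.mpr fun y hy => ?_
      have h : a⁻¹ * y * a ∈ L := by simpa using (Subgroup.mem_normalizer_iff.mp (hEL (inv_mem ha)) y).mp hy
      have h2 := Subgroup.mem_centralizer_iff.mp hc _ h
      calc y * (a * c * a⁻¹) = a * ((a⁻¹ * y * a) * c) * a⁻¹ := by group
        _ = a * (c * (a⁻¹ * y * a)) * a⁻¹ := by rw [h2]
        _ = _ := by group
    have hEZ : E ≤ Subgroup.normalizer (Z : Set G) :=
      (le_inf hEU hEC).trans Subgroup.inf_normalizer_le_normalizer_inf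
    have hUZ : U ≤ Subgroup.normalizer (Z : Set G) :=
      Subgroup.le_normalizer_iff_commutator_le_left.mpr ((Subgroup.commutator_mono hZU le_rfl).trans hTT)
    -- a fixed point of `E` modulo `Z`
    set S := E ⊔ U with hS
    have hSp : IsPGroup p S := IsPGroup.to_sup_of_normal_right' hEp hUp hEU
    haveI : (Z.subgroupOf S).Normal :=
      Subgroup.normal_subgroupOf_of_le_normalizer (sup_le hEZ hUZ)
    haveI : (U.subgroupOf S).Normal :=
      Subgroup.normal_subgroupOf_of_le_normalizer (sup_le hEU Subgroup.le_normalizer)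
    set f := QuotientGroup.mk' (Z.subgroupOf S) with hf
    haveI : ((U.subgroupOf S).map f).Normal :=
      (inferInstance : (U.subgroupOf S).Normal).map f (QuotientGroup.mk'_surjective _)
    haveI : Group.IsNilpotent (S ⧸ Z.subgroupOf S) := (hSp.to_quotient _).isNilpotent
    have hne2 : (U.subgroupOf S).map f ≠ ⊥ := by
      intro h0
      refine hUnc fun u hu => ?_
      have h1 : f ⟨u, Subgroup.mem_sup_right hu⟩ ∈ (U.subgroupOf S).map f :=
        Subgroup.mem_map_of_mem f (Subgroup.mem_subgroupOf.mpr hu)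
      rw [h0, Subgroup.mem_bot] at h1
      exact (Subgroup.mem_subgroupOf.mp ((QuotientGroup.eq_one_iff _).mp h1)).2
    obtain ⟨w, ⟨⟨v, hv, rfl⟩, hwc⟩, hw1⟩ :=
      (Subgroup.bot_or_exists_ne_one _).resolve_left (Solvable.FrattiniFitting.inf_center_ne_bot _ hne2)
    refine hw1 ((QuotientGroup.eq_one_iff v).mpr ?_)
    refine commute_of_fixed hUp hp2 hL hEU hLU hEL hcent hZ hTT
      (fun t ht hte => ⟨ht, hfix ⟨hUT ht, Subgroup.mem_centralizer_iff.mpr fun e he => (hte e he).eq⟩⟩) hv fun e he => ?_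
    have h1 : f ⟨e, Subgroup.mem_sup_left he⟩ * f v = f v * f ⟨e, Subgroup.mem_sup_left he⟩ :=
      Subgroup.mem_center_iff.mp hwc _
    have h2 : f (⟨e, Subgroup.mem_sup_left he⟩ * v * ⟨e, Subgroup.mem_sup_left he⟩⁻¹ * v⁻¹) = 1 := by
      rw [map_mul, map_mul, map_mul, map_inv, map_inv, h1]; group
    exact Subgroup.mem_subgroupOf.mp ((QuotientGroup.eq_one_iff _).mp h2)
  · -- class two
    have hquad : ∀ t ∈ T, ∀ a ∈ E, ∀ b ∈ E, ⁅a, ⁅b, t⁆⁆ = 1 := fun t ht a ha b hb =>
      commutatorElement_eq_one_iff_commute.mpr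
        (hclass b (Subgroup.mem_sup_left hb) t (Subgroup.mem_sup_right ht) a (Subgroup.mem_sup_left ha)).symm
    have hTE : ∀ t ∈ T, ∀ b ∈ E, ∀ l ∈ L, Commute l ⁅b, t⁆ := by
      intro t ht b hb l hl
      have h1 : ⁅b, t⁆ ∈ T := by
        rw [commutatorElement_def]; exact mul_mem ((Subgroup.mem_normalizer_iff.mp (hET hb) t).mp ht) (inv_mem ht)
      exact Subgroup.mem_centralizer_iff.mp (hfix ⟨h1, Subgroup.mem_centralizer_iff.mpr fun a ha =>
        (commutatorElement_eq_one_iff_commute.mp (hquad t ht a ha b hb)).eq⟩) l hl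
    set C := T ⊓ Subgroup.centralizer (L : Set G) with hC
    set K := ⁅L, E⁆ with hK
    have hKL : K ≤ L := Subgroup.le_normalizer_iff_commutator_le_left.mp hEL
    -- `[L, E]` stabilises `T ⊇ C_T(L)`
    have hgen : ∀ l ∈ L, ∀ e ∈ E, ⁅l, e⁆ ∈ Subgroup.centralizer (T : Set G) := by
      intro l hl e he
      set m := ⁅l, e⁆ with hm
      have hmL : m ∈ L := hKL (Subgroup.commutator_mem_commutator hl he)
      refine Subgroup.mem_centralizer_iff.mpr fun s hs => ?_
      have key : ∀ s ∈ T, ⁅m, s⁆ ∈ C := by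
        intro s hs
        set t := l⁻¹ * s * l with ht
        have htT : t ∈ T := by
          rw [ht]; simpa using (Subgroup.mem_normalizer_iff.mp (hLT (inv_mem hl)) s).mp hs
        have h1 : ⁅e, s⁆ ∈ T ∧ m * ⁅e, s⁆ = ⁅e, s⁆ * m := ⟨by
          rw [commutatorElement_def]
          exact mul_mem ((Subgroup.mem_normalizer_iff.mp (hET he) s).mp hs) (inv_mem hs), (hTE s hs e he m hmL).eq⟩
        have h2 : l * ⁅e, t⁆ * l⁻¹ = ⁅e, t⁆ := by rw [(hTE t htT e he l hl).eq, mul_inv_cancel_right]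
        have h3 : ⁅m, s⁆ = ⁅e, s⁆⁻¹ * ⁅e, t⁆ := by
          have e1 : l * ⁅e, t⁆ * l⁻¹ = m * ⁅e, s⁆ * m⁻¹ * ⁅m, s⁆ := by
            rw [hm, ht]; simp only [commutatorElement_def]; group
          rw [h2, h1.2, mul_inv_cancel_right] at e1
          rw [e1, inv_mul_cancel_left]
        rw [h3]
        refine C.mul_mem (C.inv_mem ⟨h1.1, Subgroup.mem_centralizer_iff.mpr fun y hy => (hTE s hs e he y hy).eq⟩)
          ⟨?_, Subgroup.mem_centralizer_iff.mpr fun y hy => (hTE t htT e he y hy).eq⟩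
        rw [commutatorElement_def]
        exact T.mul_mem ((Subgroup.mem_normalizer_iff.mp (hET he) t).mp htT) (T.inv_mem htT)
      exact ((Coprime.commute_of_stabilizes (N := C) ((hcop (hTp.to_le inf_le_left) le_rfl).coprime_dvd_left
        (Subgroup.orderOf_dvd_natCard L hmL))
        (Subgroup.mem_centralizer_iff.mpr fun y hy => (Subgroup.mem_centralizer_iff.mp hy.2 m hmL).symm)
        (key s hs)).eq).symm
    intro t ht
    refine Subgroup.mem_centralizer_iff.mpr fun l hl => ?_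
    set s := l * t * l⁻¹ with hs
    have hsT : s ∈ T := (Subgroup.mem_normalizer_iff.mp (hLT hl) t).mp ht
    have hfixe : ∀ e ∈ E, Commute e (s * t⁻¹) := by
      intro e he
      set c := ⁅e, t⁆ with hc
      have hctT : c * t ∈ T := by
        refine mul_mem ?_ ht
        rw [hc, commutatorElement_def]; exact mul_mem ((Subgroup.mem_normalizer_iff.mp (hET he) t).mp ht) (inv_mem ht)
      have h4 : ⁅l, e⁆⁻¹ * (l * (c * t) * l⁻¹) * ⁅l, e⁆ = l * (c * t) * l⁻¹ := by
        have hm := Subgroup.mem_centralizer_iff.mp (hgen l hl e he) _ ((Subgroup.mem_normalizer_iff.mp (hLT hl) _).mp hctT)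
        rw [mul_assoc, hm, inv_mul_cancel_left]
      have h5 : e * s * e⁻¹ = c * s := by
        calc e * s * e⁻¹ = ⁅l, e⁆⁻¹ * (l * (c * t) * l⁻¹) * ⁅l, e⁆ := by
              rw [hs, hc]; simp only [commutatorElement_def]; group
          _ = l * (c * t) * l⁻¹ := h4
          _ = l * c * l⁻¹ * s := by rw [hs]; group
          _ = c * s := by rw [(hTE t ht e he l hl).eq, mul_inv_cancel_right]
      show e * (s * t⁻¹) = s * t⁻¹ * e
      calc e * (s * t⁻¹) = (e * s * e⁻¹) * (e * t⁻¹ * e⁻¹) * e := by group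
        _ = (c * s) * (e * t⁻¹ * e⁻¹) * e := by rw [h5]
        _ = (s * c) * (e * t⁻¹ * e⁻¹) * e := by
          rw [(hclass e (Subgroup.mem_sup_left he) t (Subgroup.mem_sup_right ht) s (Subgroup.mem_sup_right hsT)).eq]
        _ = s * (c * t⁻¹ * c⁻¹) * e := by rw [hc, commutatorElement_def]; group
        _ = _ := by
          rw [(hclass e (Subgroup.mem_sup_left he) t (Subgroup.mem_sup_right ht) t⁻¹
            (Subgroup.mem_sup_right (inv_mem ht))).eq, mul_inv_cancel_right]
    have hmem : s * t⁻¹ ∈ C := ⟨T.mul_mem hsT (T.inv_mem ht),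
      hfix ⟨T.mul_mem hsT (T.inv_mem ht), Subgroup.mem_centralizer_iff.mpr fun e he => (hfixe e he).eq⟩⟩
    exact (Coprime.commute_of_stabilizes (N := C) ((hcop (hTp.to_le inf_le_left) le_rfl).coprime_dvd_left
      (Subgroup.orderOf_dvd_natCard L hl))
      (Subgroup.mem_centralizer_iff.mpr fun y hy => (Subgroup.mem_centralizer_iff.mp hy.2 l hl).symm)
      hmem).eq

end CfsgLib.OddOrder.FixedPointsFix
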