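import Cfsg.Agent.Lib.Coprime.Abelian
import Mathlib

set_option autoImplicit false
set_option linter.style.haveILetI false
set_option linter.unusedSectionVars false

/-!
A group `R` acting without fixed points on `K`, with both acting on an elementary abelian group `V` on which `K` has
no fixed points: `V` is free as an `R`-module (BG 3.10).
-/

namespace CfsgLib.OddOrder.FrobeniusFormula

open scoped Classical

section Core

variable {H : Type*} [Group H] [Finite H] {l : ℕ} [hl : Fact l.Prime]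
  {V : Type*} [AddCommGroup V] [Module (ZMod l) V] [Finite V]
  (ρ : H →* Module.End (ZMod l) V) (K R : Subgroup H) (L : Type*) [Field L] [Finite L] [Algebra (ZMod l) L]

/-- `V` with coefficients extended to `L`. -/
abbrev W : Type _ := L →ₗ[ZMod l] V

/-- The action of `H` on the extension. -/
def act (h : H) : Module.End (ZMod l) (W (l := l) (V := V) L) where
  toFun φ := (ρ h).comp φ
  map_add' a b := LinearMap.comp_add _ _ _
  map_smul' c a := LinearMap.comp_smul _ _ _

/-- Multiplication by scalars of `L`. -/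
def scal (c : L) : Module.End (ZMod l) (W (l := l) (V := V) L) where
  toFun φ := φ.comp (LinearMap.mulLeft (ZMod l) c)
  map_add' a b := LinearMap.add_comp _ _ _
  map_smul' d a := LinearMap.smul_comp _ _ _

theorem act_apply (h : H) (φ : W (l := l) (V := V) L) (t : L) : act ρ L h φ t = ρ h (φ t) := rfl

theorem scal_apply (c : L) (φ : W (l := l) (V := V) L) (t : L) : scal L c φ t = φ (c * t) := rfl

theorem act_mul (a b : H) : act ρ L (a * b) = act ρ L a * act ρ L b :=
  LinearMap.ext fun φ => LinearMap.ext fun t => by simp [act_apply, map_mul]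

theorem act_one : act ρ L (1 : H) = (1 : Module.End (ZMod l) (W (l := l) (V := V) L)) :=
  LinearMap.ext fun φ => LinearMap.ext fun t => by simp [act_apply]

theorem scal_mul (a b : L) : (scal L (a * b) : Module.End (ZMod l) (W (l := l) (V := V) L)) = scal L a * scal L b :=
  LinearMap.ext fun φ => LinearMap.ext fun t => by simp [scal_apply, mul_left_comm, mul_assoc]

theorem scal_one : (scal L (1 : L) : Module.End (ZMod l) (W (l := l) (V := V) L)) = 1 :=
  LinearMap.ext fun φ => LinearMap.ext fun t => by simp [scal_apply]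

theorem scal_add (a b : L) : (scal L (a + b) : Module.End (ZMod l) (W (l := l) (V := V) L)) = scal L a + scal L b :=
  LinearMap.ext fun φ => LinearMap.ext fun t => by simp [scal_apply, add_mul]

theorem scal_sum {ι : Type*} (s : Finset ι) (f : ι → L) :
    (scal L (∑ i ∈ s, f i) : Module.End (ZMod l) (W (l := l) (V := V) L)) = ∑ i ∈ s, scal L (f i) :=
  LinearMap.ext fun φ => LinearMap.ext fun t => by simp [scal_apply, Finset.sum_mul]

theorem scal_comm (c : L) (h : H) :
    scal L c * act ρ L h = act ρ L h * (scal L c : Module.End (ZMod l) (W (l := l) (V := V) L)) :=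
  LinearMap.ext fun φ => LinearMap.ext fun t => by simp [scal_apply, act_apply]

variable [Fintype K] [Fintype R]

/-- The projection onto the `χ`-eigenspace. -/
noncomputable def proj (χ : K →* Lˣ) : Module.End (ZMod l) (W (l := l) (V := V) L) :=
  scal L (Nat.card K : L)⁻¹ * ∑ k : K, scal L ((χ k : Lˣ)⁻¹ : Lˣ) * act ρ L (k : H)

theorem act_proj (χ : K →* Lˣ) (j : K) : act ρ L (j : H) * proj ρ K L χ = scal L (χ j : L) * proj ρ K L χ := by
  rw [proj, ← mul_assoc, ← scal_comm, mul_assoc, ← mul_assoc (scal (l := l) (V := V) L ((χ j : Lˣ) : L)), ← scal_mul,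
    mul_comm ((χ j : Lˣ) : L), scal_mul, mul_assoc (scal (l := l) (V := V) L (Nat.card K : L)⁻¹)]
  congr 1
  rw [Finset.mul_sum, Finset.mul_sum]
  refine Fintype.sum_equiv (Equiv.mulLeft j) _ _ fun k => ?_
  rw [← mul_assoc, ← scal_comm, mul_assoc, ← act_mul, ← mul_assoc, ← scal_mul]
  congr 2
  · simp [mul_comm]

theorem proj_act (χ : K →* Lˣ) (h : H) (hh : ∀ k : K, ρ (h * (k : H)) = ρ ((k : H) * h)) :
    act ρ L h * proj ρ K L χ = proj ρ K L χ * act ρ L h := by
  simp only [proj, ← mul_assoc, ← scal_comm]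
  rw [mul_assoc, mul_assoc, Finset.mul_sum, Finset.sum_mul]
  congr 1
  refine Finset.sum_congr rfl fun k _ => ?_
  rw [← mul_assoc, ← scal_comm, mul_assoc, mul_assoc, ← act_mul, ← act_mul,
    show act ρ L (h * (k : H)) = act ρ L ((k : H) * h) from
      LinearMap.ext fun φ => LinearMap.ext fun t => by rw [act_apply, act_apply, hh k]]

theorem scal_proj (χ : K →* Lˣ) (c : L) :
    scal L c * proj ρ K L χ = proj ρ K L χ * scal L c := by
  simp only [proj, ← mul_assoc, ← scal_mul]
  rw [mul_comm c, scal_mul, mul_assoc, mul_assoc, Finset.mul_sum, Finset.sum_mul]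
  congr 1
  refine Finset.sum_congr rfl fun k _ => ?_
  rw [mul_assoc, ← scal_comm, ← mul_assoc, ← mul_assoc, ← scal_mul, ← scal_mul, mul_comm]

theorem sum_ne_one {χ : K →* Lˣ} (h : χ ≠ 1) : ∑ k : K, (χ k : L) = 0 := by
  obtain ⟨j, hj⟩ : ∃ j, χ j ≠ 1 := by
    by_contra hc
    push Not at hc
    exact h (MonoidHom.ext hc)
  have h1 : (χ j : L) * ∑ k : K, (χ k : L) = ∑ k : K, (χ k : L) := by
    rw [Finset.mul_sum]
    exact Fintype.sum_equiv (Equiv.mulLeft j) _ _ fun k => by simp
  have h2 : ((χ j : L) - 1) * ∑ k : K, (χ k : L) = 0 := by rw [sub_mul, h1, one_mul, sub_self]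
  exact (mul_eq_zero.mp h2).resolve_left (sub_ne_zero.mpr fun e => hj (Units.ext e))

theorem proj_mul (χ χ' : K →* Lˣ) (hK : (Nat.card K : L) ≠ 0) :
    proj ρ K L χ * proj ρ K L χ' = if χ = χ' then proj ρ K L χ' else 0 := by
  have h1 : proj ρ K L χ * proj ρ K L χ' =
      scal L ((Nat.card K : L)⁻¹ * ∑ k : K, ((χ k : Lˣ)⁻¹ : Lˣ) * (χ' k : L)) * proj ρ K L χ' := by
    rw [proj, mul_assoc, Finset.sum_mul, Finset.mul_sum, Finset.mul_sum, scal_sum, Finset.sum_mul]
    refine Finset.sum_congr rfl fun k _ => ?_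
    rw [scal_mul, scal_mul, mul_assoc, mul_assoc, mul_assoc, act_proj]
  rw [h1]
  split_ifs with h
  · subst h
    rw [Finset.sum_congr rfl (fun k _ => Units.inv_mul (χ k)), Finset.sum_const, Finset.card_univ, nsmul_eq_mul,
      mul_one, ← Nat.card_eq_fintype_card, inv_mul_cancel₀ hK, scal_one, one_mul]
  · have h2 : χ⁻¹ * χ' ≠ 1 := fun e => h (inv_mul_eq_one.mp e)
    rw [show ∑ k : K, ((χ k : Lˣ)⁻¹ : Lˣ) * (χ' k : L) = ∑ k : K, ((χ⁻¹ * χ') k : L) from
      Finset.sum_congr rfl fun k _ => by simp, sum_ne_one K L h2, mul_zero,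
      show (scal L (0 : L) : Module.End (ZMod l) (W (l := l) (V := V) L)) = 0 from
        LinearMap.ext fun φ => LinearMap.ext fun t => by simp [scal_apply], zero_mul]

end Core

section Partition

variable {H : Type*} [Group H] [Finite H] {l : ℕ} [hl : Fact l.Prime]
  {V : Type*} [AddCommGroup V] [Module (ZMod l) V] [Finite V]

/-- A partition of unity permuted freely by `R` makes `V` free. -/
theorem card_of_partition {R : Subgroup H} [Fintype R] (σ : H →* Module.End (ZMod l) V)
    (P : Module.End (ZMod l) V) (hsum : ∑ r : R, σ r * P * σ (r : H)⁻¹ = 1)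
    (hPP : P * P = P) (horth : ∀ r : R, r ≠ 1 → P * σ r * P = 0) :
    Nat.card V = Nat.card (LinearMap.range P) ^ Nat.card R ∧
      Nat.card {v : V // ∀ r ∈ R, σ r v = v} = Nat.card (LinearMap.range P) := by
  have hcomp : ∀ a b : H, ∀ v : V, σ (a * b) v = σ a (σ b v) := fun a b v => by rw [map_mul]; rfl
  have hone : ∀ v : V, σ 1 v = v := fun v => by rw [map_one]; rfl
  have happ : ∀ v : V, ∑ r : R, σ r (P (σ (r : H)⁻¹ v)) = v := fun v => by
    have := LinearMap.congr_fun hsum v
    simpa [LinearMap.sum_apply] using this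
  have hP : ∀ w : LinearMap.range P, P w = w := fun w => by
    obtain ⟨v, hv⟩ := w.2
    rw [← hv]
    exact LinearMap.congr_fun hPP v
  have hdiag : ∀ r r' : R, ∀ w : LinearMap.range P,
      P (σ (r : H)⁻¹ (σ r' w)) = if r = r' then (w : V) else 0 := fun r r' w => by
    rw [← hcomp]
    split_ifs with h
    · subst h; rw [inv_mul_cancel, hone, hP]
    · have h1 : r⁻¹ * r' ≠ 1 := fun e => h (inv_mul_eq_one.mp e)
      conv_lhs => rw [← hP w]
      exact LinearMap.congr_fun (horth _ h1) w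
  constructor
  · rw [show Nat.card (LinearMap.range P) ^ Nat.card R = Nat.card (R → LinearMap.range P) by rw [Nat.card_fun]]
    refine Nat.card_congr
      { toFun := fun v r => ⟨P (σ (r : H)⁻¹ v), LinearMap.mem_range_self P _⟩
        invFun := fun f => ∑ r : R, σ r (f r)
        left_inv := happ
        right_inv := fun f => funext fun r => Subtype.ext ?_ }
    show P (σ (r : H)⁻¹ (∑ r' : R, σ r' (f r'))) = f r
    simp [map_sum, hdiag]
  · refine Nat.card_congr
      { toFun := fun v => ⟨P v, LinearMap.mem_range_self P _⟩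
        invFun := fun w => ⟨∑ r : R, σ r w, fun s hs => by
          rw [map_sum]
          refine Fintype.sum_equiv (Equiv.mulLeft (⟨s, hs⟩ : R)) _ _ fun r => ?_
          rw [← hcomp]; rfl⟩
        left_inv := fun v => Subtype.ext ?_
        right_inv := fun w => Subtype.ext ?_ }
    · show ∑ r : R, σ r (P v) = v
      conv_rhs => rw [← happ v]
      refine Finset.sum_congr rfl fun r _ => ?_
      rw [v.2 _ (inv_mem r.2)]
    · show P (∑ r : R, σ r w) = w
      rw [map_sum, Finset.sum_eq_single_of_mem (1 : R) (Finset.mem_univ _)]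
      · rw [OneMemClass.coe_one, hone, hP]
      · intro r _ hr
        have := hdiag 1 r w
        rwa [OneMemClass.coe_one, inv_one, hone, if_neg (Ne.symm hr)] at this

end Partition

section Free

variable {H : Type*} [Group H] [Finite H] {l : ℕ} [hl : Fact l.Prime]
  {V : Type*} [AddCommGroup V] [Module (ZMod l) V] [Finite V]
  (ρ : H →* Module.End (ZMod l) V) (K R : Subgroup H) (L : Type*) [Field L] [Finite L] [Algebra (ZMod l) L]

/-- The action of `H` on the extension, as a homomorphism. -/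
def actHom : H →* Module.End (ZMod l) (W (l := l) (V := V) L) where
  toFun := act ρ L
  map_one' := act_one ρ L
  map_mul' := act_mul ρ L

theorem finite_W : Finite (W (l := l) (V := V) L) := Finite.of_injective _ DFunLike.coe_injective

theorem natCast_ne_zero {n : ℕ} (h : ¬ l ∣ n) : (n : L) ≠ 0 := fun e => h <| by
  rw [← map_natCast (algebraMap (ZMod l) L)] at e
  exact (ZMod.natCast_eq_zero_iff n l).mp ((map_eq_zero_iff _ (algebraMap (ZMod l) L).injective).mp e)

variable {K R}

/-- Conjugation of `K` by an element of `R`. -/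
def cjK (hKR : R ≤ Subgroup.normalizer (K : Set H)) (r : R) : K →* K where
  toFun k := ⟨r * k * (r : H)⁻¹, (Subgroup.mem_normalizer_iff.mp (hKR r.2) k).mp k.2⟩
  map_one' := Subtype.ext (by simp)
  map_mul' a b := Subtype.ext (by simp [mul_assoc])

/-- `R` permutes the characters of `K`. -/
abbrev charAct (hKR : R ≤ Subgroup.normalizer (K : Set H)) : MulAction R (K →* Lˣ) where
  smul r χ := χ.comp (cjK hKR r⁻¹)
  one_smul χ := MonoidHom.ext fun k => congrArg χ (Subtype.ext (by simp [cjK]))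
  mul_smul a b χ := MonoidHom.ext fun k => congrArg χ (Subtype.ext (by simp [cjK, mul_assoc]))

theorem act_conj_proj [Fintype K] (hKR : R ≤ Subgroup.normalizer (K : Set H)) (r : R) (χ : K →* Lˣ) :
    act ρ L (r : H) * proj ρ K L χ * act ρ L (r : H)⁻¹ = proj ρ K L (χ.comp (cjK hKR r⁻¹)) := by
  rw [proj, proj, ← mul_assoc, ← scal_comm, mul_assoc, mul_assoc, Finset.sum_mul, Finset.mul_sum]
  congr 1
  let e : K ≃ K := Equiv.ofBijective (cjK hKR r) (Finite.injective_iff_bijective.mp fun a b h =>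
    Subtype.ext (mul_left_cancel (mul_right_cancel (congrArg Subtype.val h))))
  refine Fintype.sum_equiv e _ _ fun k => ?_
  rw [mul_assoc, ← mul_assoc (act ρ L (r : H)), ← scal_comm, mul_assoc, ← act_mul, ← act_mul]
  congr 2
  · show _ = (((χ (cjK hKR r⁻¹ (cjK hKR r k)))⁻¹ : Lˣ) : L)
    congr 3
    exact Subtype.ext (by simp [cjK, mul_assoc])
  · show _ = (r : H) * k * (r : H)⁻¹
    group

theorem sum_proj [Fintype K] [Fintype (K →* Lˣ)] [HasEnoughRootsOfUnity L (Monoid.exponent (Abelianization K))]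
    (hK : (Nat.card K : L) ≠ 0) (hder : ∀ k : K, k ∈ _root_.commutator K → ρ (k : H) = 1) :
    ∑ χ : K →* Lˣ, proj ρ K L χ = 1 := by
  haveI : Finite (Abelianization K) := inferInstance
  have hcount : Nat.card (K →* Lˣ) = Nat.card (Abelianization K) := by
    rw [Nat.card_congr (Abelianization.lift (A := Lˣ) (G := K)),
      Nat.card_congr (CommGroup.monoidHom_mulEquiv_of_hasEnoughRootsOfUnity (Abelianization K) L).some.toEquiv]
  have hcard : Nat.card K = Nat.card (K →* Lˣ) * Nat.card (_root_.commutator K) := by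
    rw [hcount]; exact Subgroup.card_eq_card_quotient_mul_card_subgroup _
  have hin : ∀ k : K, k ∈ _root_.commutator K → ∑ χ : K →* Lˣ, ((χ k)⁻¹ : Lˣ).val = (Nat.card (K →* Lˣ) : L) := by
    intro k hk
    rw [Finset.sum_congr rfl (fun χ _ => by
      rw [MonoidHom.mem_ker.mp (Abelianization.commutator_subset_ker χ hk), inv_one, Units.val_one]),
      Finset.sum_const, Finset.card_univ, nsmul_eq_mul, mul_one, Nat.card_eq_fintype_card]
  have hout : ∀ k : K, k ∉ _root_.commutator K → ∑ χ : K →* Lˣ, ((χ k)⁻¹ : Lˣ).val = 0 := by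
    intro k hk
    obtain ⟨ψ, hψ⟩ := CommGroup.exists_apply_ne_one_of_hasEnoughRootsOfUnity (Abelianization K) L
      (a := Abelianization.of k) (fun e => hk (by
        rw [← MonoidHom.mem_ker, Abelianization.ker_of] at e
        exact e))
    set χ₀ := ψ.comp Abelianization.of with hχ₀
    have h1 : ((χ₀ k)⁻¹ : Lˣ).val * ∑ χ : K →* Lˣ, ((χ k)⁻¹ : Lˣ).val = ∑ χ : K →* Lˣ, ((χ k)⁻¹ : Lˣ).val := by
      rw [Finset.mul_sum]
      refine Fintype.sum_equiv (Equiv.mulLeft χ₀) _ _ fun χ => ?_
      simp [mul_comm]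
    have h2 : (((χ₀ k)⁻¹ : Lˣ).val - 1) * ∑ χ : K →* Lˣ, ((χ k)⁻¹ : Lˣ).val = 0 := by
      rw [sub_mul, h1, one_mul, sub_self]
    exact (mul_eq_zero.mp h2).resolve_left (sub_ne_zero.mpr fun e => hψ (inv_eq_one.mp (Units.ext e)))
  simp only [proj]
  rw [← Finset.mul_sum, Finset.sum_comm]
  simp only [← Finset.sum_mul, ← scal_sum]
  have hterm : ∀ k : K, scal L (∑ χ : K →* Lˣ, ((χ k)⁻¹ : Lˣ).val) * act ρ L (k : H) =
      scal (l := l) (V := V) L (if k ∈ _root_.commutator K then (Nat.card (K →* Lˣ) : L) else 0) := by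
    intro k
    split_ifs with hk
    · rw [hin k hk, show act ρ L (k : H) = 1 from LinearMap.ext fun φ => LinearMap.ext fun t => by
        rw [act_apply, hder k hk]; rfl, mul_one]
    · rw [hout k hk, show (scal L (0 : L) : Module.End (ZMod l) (W (l := l) (V := V) L)) = 0 from
        LinearMap.ext fun φ => LinearMap.ext fun t => by simp [scal_apply], zero_mul]
  rw [Finset.sum_congr rfl (fun k _ => hterm k), ← scal_sum, ← scal_mul, ← Finset.sum_filter, Finset.sum_const,
    nsmul_eq_mul, ← Nat.cast_mul, show (Finset.univ.filter fun k => k ∈ _root_.commutator K).card *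
      Nat.card (K →* Lˣ) = Nat.card K by
        rw [hcard, mul_comm]
        congr 1
        rw [Nat.card_eq_fintype_card, Fintype.card_subtype], inv_mul_cancel₀ hK, scal_one]

theorem proj_one [Fintype K] (hfix : ∀ v : V, (∀ k ∈ K, ρ k v = v) → v = 0) :
    proj ρ K L (1 : K →* Lˣ) = 0 := by
  refine LinearMap.ext fun φ => LinearMap.ext fun t => ?_
  show proj ρ K L 1 φ t = 0
  refine hfix _ fun k hk => ?_
  have h := LinearMap.congr_fun (LinearMap.congr_fun (act_proj ρ K L 1 ⟨k, hk⟩) φ) t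
  simpa [scal_apply, act_apply] using h

/-- A free partition of unity of the extension, with one-dimensional pieces if the fixed points are small. -/
theorem partition [Fintype K] [Fintype R] [HasEnoughRootsOfUnity L (Monoid.exponent (Abelianization K))]
    (hKR : R ≤ Subgroup.normalizer (K : Set H)) (hfpf : ∀ r ∈ R, r ≠ 1 → ∀ k ∈ K, Commute r k → k = 1)
    (hK : ¬ l ∣ Nat.card K) (hder : ∀ k : K, k ∈ _root_.commutator K → ρ (k : H) = 1)
    (hfix : ∀ v : V, (∀ k ∈ K, ρ k v = v) → v = 0) :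
    ∃ P : Module.End (ZMod l) (W (l := l) (V := V) L),
      (∑ r : R, actHom ρ L r * P * actHom ρ L (r : H)⁻¹ = 1) ∧ P * P = P ∧
      (∀ r : R, r ≠ 1 → P * actHom ρ L r * P = 0) ∧
      ∀ χ : K →* Lˣ, χ ≠ 1 → ∃ r : R,
        Nat.card (LinearMap.range (proj ρ K L χ)) ≤ Nat.card (LinearMap.range P) ∧
        P * proj ρ K L (χ.comp (cjK hKR r⁻¹)) = proj ρ K L (χ.comp (cjK hKR r⁻¹)) := by
  letI := charAct L hKR
  haveI := finite_W (l := l) (V := V) L
  haveI : Fintype (K →* Lˣ) := Fintype.ofFinite _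
  have hK' := natCast_ne_zero L (l := l) hK
  have hsmul : ∀ (r : R) (χ : K →* Lˣ), r • χ = χ.comp (cjK hKR r⁻¹) := fun _ _ => rfl
  have hfree : ∀ (r : R) (χ : K →* Lˣ), r • χ = χ → r ≠ 1 → χ = 1 := by
    intro r χ hr hr1
    have hinj : Function.Injective fun k : K => k⁻¹ * cjK hKR r⁻¹ k := by
      intro a b h
      have h' : (a : H)⁻¹ * ((r : H)⁻¹ * a * r) = (b : H)⁻¹ * ((r : H)⁻¹ * b * r) := by
        simpa [cjK] using congrArg Subtype.val h
      have hc : Commute (r : H)⁻¹ ((b : H) * (a : H)⁻¹) := by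
        show (r : H)⁻¹ * (b * (a : H)⁻¹) = b * (a : H)⁻¹ * (r : H)⁻¹
        calc (r : H)⁻¹ * (b * (a : H)⁻¹) = (b : H) * ((b : H)⁻¹ * ((r : H)⁻¹ * b * r)) * ((r : H)⁻¹ * (a : H)⁻¹) := by
              group
          _ = (b : H) * ((a : H)⁻¹ * ((r : H)⁻¹ * a * r)) * ((r : H)⁻¹ * (a : H)⁻¹) := by rw [h']
          _ = _ := by group
      have := hfpf _ (inv_mem r.2) (fun e => hr1 (Subtype.ext (inv_eq_one.mp e))) _
        (mul_mem b.2 (inv_mem a.2)) hc
      exact (Subtype.ext (mul_inv_eq_one.mp this)).symm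
    refine MonoidHom.ext fun k => ?_
    obtain ⟨a, rfl⟩ := (Finite.injective_iff_surjective.mp hinj) k
    rw [map_mul, map_inv, MonoidHom.one_apply]
    have h1 : χ (cjK hKR r⁻¹ a) = χ a := DFunLike.congr_fun ((hsmul r χ).symm.trans hr) a
    rw [h1, inv_mul_cancel]
  set T : Finset (K →* Lˣ) :=
    Finset.univ.filter fun χ => χ ≠ 1 ∧ (Quotient.mk (MulAction.orbitRel R (K →* Lˣ)) χ).out = χ with hT
  have hTne : ∀ χ ∈ T, χ ≠ 1 := fun χ h => (Finset.mem_filter.mp h).2.1
  have hone : ∀ r : R, r • (1 : K →* Lˣ) = 1 := fun r => MonoidHom.ext fun k => rfl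
  have hne : ∀ (r : R) (χ : K →* Lˣ), χ ≠ 1 → r • χ ≠ 1 := fun r χ h e =>
    h (by rw [← inv_smul_smul r χ, e, hone])
  have hmem : ∀ χ : K →* Lˣ, χ ≠ 1 → ∃ r : R, r • χ ∈ T := by
    intro χ h
    set χ' := (Quotient.mk (MulAction.orbitRel R (K →* Lˣ)) χ).out with hχ'
    obtain ⟨r, hr⟩ : χ' ∈ MulAction.orbit R χ :=
      MulAction.orbitRel_apply.mp (Quotient.exact (Quotient.out_eq _))
    refine ⟨r, Finset.mem_filter.mpr ⟨Finset.mem_univ _, hne r χ h, ?_⟩⟩
    rw [Quotient.sound (MulAction.orbitRel_apply.mpr (MulAction.mem_orbit χ r)), ← hχ']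
    exact hr.symm
  have huniq : ∀ (r : R) (χ : K →* Lˣ), χ ∈ T → r • χ ∈ T → r = 1 := by
    intro r χ h h'
    by_contra hr
    refine hTne χ h (hfree r χ ?_ hr)
    have e := (Finset.mem_filter.mp h').2.2
    rw [Quotient.sound (MulAction.orbitRel_apply.mpr (MulAction.mem_orbit χ r)), (Finset.mem_filter.mp h).2.2] at e
    exact e.symm
  set P := ∑ χ ∈ T, proj ρ K L χ with hP
  have hconj : ∀ (r : R) (χ : K →* Lˣ),
      actHom ρ L r * proj ρ K L χ * actHom ρ L (r : H)⁻¹ = proj ρ K L (r • χ) := fun r χ =>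
    act_conj_proj ρ L hKR r χ
  have hPproj : ∀ χ ∈ T, P * proj ρ K L χ = proj ρ K L χ := fun χ h => by
    rw [hP, Finset.sum_mul, Finset.sum_eq_single_of_mem χ h fun χ' _ hne' => by
      rw [proj_mul ρ K L _ _ hK', if_neg hne'], proj_mul ρ K L _ _ hK', if_pos rfl]
  refine ⟨P, ?_, ?_, ?_, fun χ h => ?_⟩
  · rw [← sum_proj ρ L hK' hder, ← Finset.sum_erase _ (proj_one ρ L hfix),
      Finset.sum_congr rfl (fun r _ => by rw [hP, Finset.mul_sum, Finset.sum_mul,
        Finset.sum_congr rfl fun χ _ => hconj r χ]), ← Finset.sum_product' (s := Finset.univ) (t := T)]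
    refine Finset.sum_bij (fun x _ => x.1 • x.2) (fun x hx => ?_) (fun x hx y hy e => ?_) (fun χ hχ => ?_)
      fun x _ => rfl
    · exact Finset.mem_erase.mpr ⟨hne _ _ (hTne _ (Finset.mem_product.mp hx).2), Finset.mem_univ _⟩
    · obtain ⟨r, χ⟩ := x
      obtain ⟨r', χ'⟩ := y
      have h1 := huniq (r'⁻¹ * r) χ (Finset.mem_product.mp hx).2 (by
        rw [mul_smul, show r • χ = r' • χ' from e, inv_smul_smul]; exact (Finset.mem_product.mp hy).2)
      rw [inv_mul_eq_one] at h1
      subst h1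
      rw [Prod.mk.injEq]
      exact ⟨rfl, MulAction.injective r' e⟩
    · obtain ⟨r, hr⟩ := hmem χ (Finset.mem_erase.mp hχ).1
      exact ⟨(r⁻¹, r • χ), Finset.mem_product.mpr ⟨Finset.mem_univ _, hr⟩, inv_smul_smul r χ⟩
  · conv_lhs => arg 2; rw [hP]
    rw [Finset.mul_sum]
    exact Finset.sum_congr rfl hPproj
  · intro r hr
    conv_lhs => arg 2; rw [hP]
    rw [Finset.mul_sum]
    refine Finset.sum_eq_zero fun χ hχ => ?_
    have h1 : actHom ρ L r * proj ρ K L χ = proj ρ K L (r • χ) * actHom ρ L r := by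
      rw [← hconj, mul_assoc, ← map_mul, inv_mul_cancel, map_one, mul_one]
    rw [mul_assoc, h1, ← mul_assoc, hP, Finset.sum_mul, Finset.sum_eq_zero fun χ' hχ' => by
      rw [proj_mul ρ K L _ _ hK', if_neg]
      intro e
      exact hr (huniq r χ hχ (e ▸ hχ'))]
    rw [zero_mul]
  · obtain ⟨r, hr⟩ := hmem χ h
    refine ⟨r, ?_, hPproj _ hr⟩
    refine Nat.card_le_card_of_injective (fun φ => ⟨actHom ρ L r (φ : W (l := l) (V := V) L), ?_⟩) fun a b e => ?_
    · obtain ⟨ψ, hψ⟩ := φ.2
      rw [← hψ]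
      refine ⟨proj ρ K L (r • χ) (actHom ρ L r ψ), ?_⟩
      rw [← Module.End.mul_apply P, hPproj _ hr, ← hconj, ← Module.End.mul_apply, mul_assoc, ← map_mul,
        inv_mul_cancel, map_one, mul_one, Module.End.mul_apply]
    · have := congrArg (actHom ρ L (r : H)⁻¹) (congrArg Subtype.val e)
      simp only [← Module.End.mul_apply, ← map_mul, inv_mul_cancel, map_one, Module.End.one_apply] at this
      exact Subtype.ext this

end Free

section Results

variable {H : Type*} [Group H] [Finite H] {l : ℕ} [hl : Fact l.Prime]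
  {V : Type*} [AddCommGroup V] [Module (ZMod l) V] [Finite V]
  (ρ : H →* Module.End (ZMod l) V) {K R : Subgroup H}

/-- A finite field with enough roots of unity. -/
theorem exists_field (hK : ¬ l ∣ Nat.card K) :
    ∃ f : ℕ, f ≠ 0 ∧ HasEnoughRootsOfUnity (GaloisField l f) (Monoid.exponent (Abelianization K)) := by
  set n := Nat.card K with hn
  haveI : NeZero n := ⟨Nat.card_pos.ne'⟩
  have hcop : l.Coprime n := hl.out.coprime_iff_not_dvd.mpr hK
  set f := orderOf (ZMod.unitOfCoprime l hcop) with hf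
  have hf0 : f ≠ 0 := (orderOf_pos _).ne'
  have hdiv : n ∣ l ^ f - 1 := by
    have h1 : ((l : ZMod n)) ^ f = 1 := by
      have := congrArg Units.val (pow_orderOf_eq_one (ZMod.unitOfCoprime l hcop))
      rwa [Units.val_pow_eq_pow_val, ZMod.coe_unitOfCoprime, Units.val_one] at this
    rw [← ZMod.natCast_eq_zero_iff, Nat.cast_sub (Nat.one_le_pow _ _ hl.out.pos), Nat.cast_pow, h1, Nat.cast_one,
      sub_self]
  set e := Monoid.exponent (Abelianization K) with he
  have hed : e ∣ Nat.card (GaloisField l f)ˣ := by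
    rw [Nat.card_units, GaloisField.card l f hf0]
    refine (Monoid.exponent_dvd_of_forall_pow_eq_one fun a => ?_).trans hdiv
    obtain ⟨k, rfl⟩ := QuotientGroup.mk'_surjective _ a
    exact ((QuotientGroup.mk' (_root_.commutator K)).map_pow k n).symm.trans
      ((congrArg _ (hn ▸ pow_card_eq_one')).trans (map_one _))
  haveI : NeZero e := ⟨(Monoid.exponent_ne_zero_of_finite)⟩
  obtain ⟨g, hg⟩ := IsCyclic.exists_generator (α := (GaloisField l f)ˣ)
  have hgo : orderOf g = Nat.card (GaloisField l f)ˣ := orderOf_eq_card_of_forall_mem_zpowers hg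
  obtain ⟨c, hc⟩ := hed
  have hζ : orderOf (g ^ c) = e := by
    have hc0 : c ≠ 0 := fun h => Nat.card_pos.ne' (hc.trans (by rw [h, mul_zero]) : Nat.card (GaloisField l f)ˣ = 0)
    rw [orderOf_pow' g hc0, hgo, hc, Nat.gcd_mul_left_left, Nat.mul_div_cancel _ (Nat.pos_of_ne_zero hc0)]
  refine ⟨f, hf0, ⟨⟨((g ^ c : (GaloisField l f)ˣ) : GaloisField l f), ?_⟩, inferInstance⟩⟩
  exact IsPrimitiveRoot.coe_units_iff.mpr (hζ ▸ IsPrimitiveRoot.orderOf (g ^ c))

/-- **`V` is free over `R`.** -/
theorem card_fixed_pow (hKR : R ≤ Subgroup.normalizer (K : Set H))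
    (hfpf : ∀ r ∈ R, r ≠ 1 → ∀ k ∈ K, Commute r k → k = 1)
    (hK : ¬ l ∣ Nat.card K) (hder : ∀ k : K, k ∈ _root_.commutator K → ρ (k : H) = 1)
    (hfix : ∀ v : V, (∀ k ∈ K, ρ k v = v) → v = 0) :
    Nat.card V = Nat.card {v : V // ∀ r ∈ R, ρ r v = v} ^ Nat.card R := by
  obtain ⟨f, hf, hroots⟩ := exists_field hK
  haveI := hroots
  letI : Fintype K := Fintype.ofFinite K
  letI : Fintype R := Fintype.ofFinite R
  set L := GaloisField l f with hL
  haveI := finite_W (l := l) (V := V) L
  obtain ⟨P, h1, h2, h3, -⟩ := partition ρ L hKR hfpf hK hder hfix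
  obtain ⟨hW, hC⟩ := card_of_partition (actHom ρ L) P h1 h2 h3
  let b := Module.finBasis (ZMod l) L
  have hWc : Nat.card (W (l := l) (V := V) L) = Nat.card V ^ Module.finrank (ZMod l) L := by
    rw [Nat.card_congr (b.constr (ZMod l) (M' := V)).toEquiv.symm, Nat.card_fun, Nat.card_fin]
  have hCc : Nat.card {φ : W (l := l) (V := V) L // ∀ r ∈ R, actHom ρ L r φ = φ} =
      Nat.card {v : V // ∀ r ∈ R, ρ r v = v} ^ Module.finrank (ZMod l) L := by
    rw [show Nat.card {v : V // ∀ r ∈ R, ρ r v = v} ^ Module.finrank (ZMod l) L =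
      Nat.card (Fin (Module.finrank (ZMod l) L) → {v : V // ∀ r ∈ R, ρ r v = v}) by rw [Nat.card_fun, Nat.card_fin]]
    refine Nat.card_congr
      { toFun := fun φ i => ⟨φ.1 (b i), fun r hr => LinearMap.congr_fun (φ.2 r hr) (b i)⟩
        invFun := fun g => ⟨b.constr (ZMod l) fun i => (g i).1, fun r hr => b.ext fun i => ?_⟩
        left_inv := fun φ => Subtype.ext (b.ext fun i => by simp)
        right_inv := fun g => funext fun i => Subtype.ext (by simp) }
    show ρ r ((b.constr (ZMod l) fun i => (g i).1) (b i)) = (b.constr (ZMod l) fun i => (g i).1) (b i)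
    rw [Module.Basis.constr_basis]
    exact (g i).2 r hr
  rw [← hC, hWc, hCc, ← pow_mul, mul_comm, pow_mul] at hW
  exact Nat.pow_left_injective Module.finrank_pos.ne' hW

/-- With at most `l` fixed points the elements commuting with `K` act commutatively. -/
theorem commute_of_small (hKR : R ≤ Subgroup.normalizer (K : Set H))
    (hfpf : ∀ r ∈ R, r ≠ 1 → ∀ k ∈ K, Commute r k → k = 1)
    (hK : ¬ l ∣ Nat.card K) (hder : ∀ k : K, k ∈ _root_.commutator K → ρ (k : H) = 1)
    (hfix : ∀ v : V, (∀ k ∈ K, ρ k v = v) → v = 0)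
    (hsmall : Nat.card {v : V // ∀ r ∈ R, ρ r v = v} ≤ l) {a b : H} (ha : ∀ k : K, ρ (a * (k : H)) = ρ ((k : H) * a))
    (hb : ∀ k : K, ρ (b * (k : H)) = ρ ((k : H) * b)) : ρ (a * b) = ρ (b * a) := by
  obtain ⟨f, hf, hroots⟩ := exists_field hK
  haveI := hroots
  letI : Fintype K := Fintype.ofFinite K
  letI : Fintype R := Fintype.ofFinite R
  set L := GaloisField l f with hL
  haveI := finite_W (l := l) (V := V) L
  haveI : Fintype (K →* Lˣ) := Fintype.ofFinite _
  obtain ⟨P, h1, h2, h3, h4⟩ := partition ρ L hKR hfpf hK hder hfix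
  obtain ⟨-, hC⟩ := card_of_partition (actHom ρ L) P h1 h2 h3
  let β := Module.finBasis (ZMod l) L
  have hPle : Nat.card (LinearMap.range P) ≤ Nat.card L := by
    rw [← hC, Nat.card_congr β.equivFun.toEquiv, Nat.card_fun, Nat.card_fin, Nat.card_zmod]
    refine le_trans ?_ (Nat.pow_le_pow_left hsmall _)
    rw [show Nat.card {v : V // ∀ r ∈ R, ρ r v = v} ^ Module.finrank (ZMod l) L =
      Nat.card (Fin (Module.finrank (ZMod l) L) → {v : V // ∀ r ∈ R, ρ r v = v}) by rw [Nat.card_fun, Nat.card_fin]]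
    refine Nat.card_le_card_of_injective
      (fun φ i => ⟨φ.1 (β i), fun r hr => LinearMap.congr_fun (φ.2 r hr) (β i)⟩) fun φ ψ e =>
      Subtype.ext (β.ext fun i => congrArg Subtype.val (congrFun e i))
  have hpiece : ∀ χ : K →* Lˣ, (act ρ L a * act ρ L b) * proj ρ K L χ =
      (act ρ L b * act ρ L a) * proj ρ K L χ := by
    intro χ
    by_cases hχ : χ = 1
    · rw [hχ, proj_one ρ L hfix, mul_zero, mul_zero]
    obtain ⟨r, hr, -⟩ := h4 χ hχ
    have hle := hr.trans hPle
    refine LinearMap.ext fun φ => ?_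
    simp only [Module.End.mul_apply]
    set ψ := proj ρ K L χ φ with hψ
    by_cases h0 : ψ = 0
    · simp [h0]
    have hsc : ∀ c : L, scal L c ψ ∈ LinearMap.range (proj ρ K L χ) := fun c =>
      ⟨scal L c φ, (LinearMap.congr_fun (scal_proj ρ K L χ c) φ).symm⟩
    have hinj : Function.Injective fun c : L => (⟨scal L c ψ, hsc c⟩ : LinearMap.range (proj ρ K L χ)) := by
      intro c d e
      by_contra hne
      refine h0 ?_
      have e' : scal L c ψ = scal L d ψ := congrArg Subtype.val e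
      have h5 : scal L (c - d) ψ = 0 := LinearMap.ext fun t => by
        simp only [scal_apply, sub_mul, map_sub, LinearMap.zero_apply]
        exact sub_eq_zero.mpr (LinearMap.congr_fun e' t)
      refine LinearMap.ext fun t => ?_
      have := LinearMap.congr_fun h5 ((c - d)⁻¹ * t)
      rwa [scal_apply, ← mul_assoc, mul_inv_cancel₀ (sub_ne_zero.mpr hne), one_mul] at this
    have hsurj := (hinj.bijective_of_nat_card_le hle).2
    have hmul : ∀ x : H, (∀ k : K, ρ (x * (k : H)) = ρ ((k : H) * x)) → ∃ c : L, act ρ L x ψ = scal L c ψ := fun x hx => by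
      obtain ⟨c, hc⟩ := hsurj ⟨act ρ L x ψ, act ρ L x φ, (LinearMap.congr_fun (proj_act ρ K L χ x hx) φ).symm⟩
      exact ⟨c, (congrArg Subtype.val hc).symm⟩
    obtain ⟨c, hc⟩ := hmul a ha
    obtain ⟨d, hd⟩ := hmul b hb
    rw [hd, hc, ← Module.End.mul_apply (act ρ L a), ← scal_comm, Module.End.mul_apply, hc,
      ← Module.End.mul_apply (act ρ L b), ← scal_comm, Module.End.mul_apply, hd]
    exact LinearMap.ext fun t => by simp [scal_apply, mul_left_comm]
  have hall : act ρ L (a * b) = act ρ L (b * a) := by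
    rw [act_mul, act_mul, ← mul_one (act ρ L a * act ρ L b), ← mul_one (act ρ L b * act ρ L a),
      ← sum_proj ρ L (natCast_ne_zero L hK) hder, Finset.mul_sum, Finset.mul_sum]
    exact Finset.sum_congr rfl fun χ _ => hpiece χ
  refine LinearMap.ext fun v => ?_
  let φ : W (l := l) (V := V) L := β.constr (ZMod l) fun _ => v
  have := LinearMap.congr_fun (LinearMap.congr_fun hall φ) (β ⟨0, Module.finrank_pos⟩)
  simpa [act_apply, φ] using this

end Results

end CfsgLib.OddOrder.FrobeniusFormula
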