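import Cfsg.Agent.Lib.OddOrder.SigmaFusion
import Cfsg.Agent.Lib.Coprime.Generation
import Mathlib

set_option autoImplicit false

/-!
An elementary abelian `q`-group `Q` acting on an elementary abelian `p`-group `V`, together with a `p`-group `P` and an
element `x` of odd prime order, when `|C_V(x)| ≤ p` and `C_P(x) = 1`: the hyperplanes with non-trivial fixed points
lead to a contradiction.
-/

namespace CfsgLib.OddOrder.HyperplaneOrbits

open scoped commutatorElement Pointwise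
open SigmaFusion (cj cj_cj cj_one)

theorem dvd_sub_one {p q : ℕ} (hp : p.Prime) (hq : q.Prime) {i n : ℤ} (hn : ∃ k : ℕ, n = (q : ℤ) ^ k)
    (h1 : i ^ n.toNat ≡ 1 [ZMOD p]) (h2 : ¬ i ≡ 1 [ZMOD p]) : q ∣ p - 1 := by
  haveI := Fact.mk hp
  obtain ⟨k, rfl⟩ := hn
  have hk : ((q : ℤ) ^ k).toNat = q ^ k := by exact_mod_cast Int.toNat_natCast (q ^ k)
  rw [hk] at h1
  have e1 : (i : ZMod p) ^ q ^ k = 1 := by
    have := (ZMod.intCast_eq_intCast_iff _ _ p).mpr h1
    push_cast at this; exact this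
  have e2 : (i : ZMod p) ≠ 1 := fun h => h2 ((ZMod.intCast_eq_intCast_iff _ _ p).mp (by push_cast; exact h))
  have hu : IsUnit (i : ZMod p) := IsUnit.of_pow_eq_one e1 (pow_ne_zero _ hq.ne_zero)
  set u := hu.unit with hu'
  have hu1 : u ^ q ^ k = 1 := Units.ext (by simpa [hu'] using e1)
  have hu2 : u ≠ 1 := fun h => e2 (by simpa [hu'] using congrArg Units.val h)
  obtain ⟨j, -, hj⟩ := (Nat.dvd_prime_pow hq).mp (orderOf_dvd_of_pow_eq_one hu1)
  have hj0 : j ≠ 0 := fun h => hu2 (orderOf_eq_one_iff.mp (by rw [hj, h, pow_zero]))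
  exact (dvd_pow_self q hj0).trans (hj ▸ ZMod.orderOf_units_dvd_card_sub_one u)

variable {G : Type*} [Group G] [Finite G] {p q r : ℕ}

/-- The hyperplanes of `Q` with a fixed point on `V`. -/
def Hyp (Q V B : Subgroup G) : Prop :=
  B ≤ Q ∧ B ≠ Q ∧ (∃ a ∈ Q, B ⊔ Subgroup.zpowers a = Q) ∧ V ⊓ Subgroup.centralizer (B : Set G) ≠ ⊥

variable {Q V P B B' : Subgroup G} {x : G}

theorem cj_centralizer_mem {g v : G} (hv : v ∈ Subgroup.centralizer (B : Set G)) :
    g * v * g⁻¹ ∈ Subgroup.centralizer (cj g B : Set G) := by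
  refine Subgroup.mem_centralizer_iff.mpr ?_
  rintro _ ⟨b, hb, rfl⟩
  have h := Subgroup.mem_centralizer_iff.mp hv b hb
  show g * b * g⁻¹ * (g * v * g⁻¹) = g * v * g⁻¹ * (g * b * g⁻¹)
  calc g * b * g⁻¹ * (g * v * g⁻¹) = g * (b * v) * g⁻¹ := by group
    _ = g * (v * b) * g⁻¹ := by rw [h]
    _ = _ := by group

theorem Hyp.cj_mem {g : G} (hgQ : g ∈ Subgroup.normalizer (Q : Set G)) (hgV : g ∈ Subgroup.normalizer (V : Set G))
    (hB : Hyp Q V B) : Hyp Q V (cj g B) := by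
  obtain ⟨hBQ, hne, ⟨a, ha, hsup⟩, hC⟩ := hB
  have hQ : cj g Q = Q := SigmaFusion.cj_eq_self hgQ
  refine ⟨hQ ▸ Subgroup.map_mono hBQ, fun h => hne ?_, ⟨g * a * g⁻¹, (Subgroup.mem_normalizer_iff.mp hgQ a).mp ha, ?_⟩, ?_⟩
  · exact Subgroup.map_injective (f := (MulAut.conj g).toMonoidHom) (MulAut.conj g).injective (h.trans hQ.symm)
  · conv_rhs => rw [← hQ, ← hsup]
    rw [cj, cj, Subgroup.map_sup, MonoidHom.map_zpowers]
    rfl
  · obtain ⟨v, hv, hv1⟩ := (Subgroup.bot_or_exists_ne_one _).resolve_left hC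
    intro hb
    have hm : g * v * g⁻¹ ∈ V ⊓ Subgroup.centralizer (cj g B : Set G) :=
      ⟨(Subgroup.mem_normalizer_iff.mp hgV v).mp hv.1, cj_centralizer_mem hv.2⟩
    rw [hb, Subgroup.mem_bot] at hm
    exact hv1 (by simpa using hm)

theorem Hyp.card_le [hq : Fact q.Prime] (hQe : Cfsg.IsElementaryAbelian q Q) (hB : Hyp Q V B) :
    Nat.card Q ≤ Nat.card B * q := by
  haveI := hQe.1
  obtain ⟨hBQ, -, ⟨a, ha, hsup⟩, -⟩ := hB
  have h1 := Fusion.Thompson.card_sup_mul_card_inf (N := B) (K := Subgroup.zpowers a)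
    (Subgroup.zpowers_le.mpr (Subgroup.centralizer_le_normalizer _
      (Subgroup.centralizer_le hBQ (Q.le_centralizer ha))))
  rw [hsup] at h1
  have h2 : Nat.card (Subgroup.zpowers a) ≤ q := by
    rw [Nat.card_zpowers]; exact orderOf_le_of_pow_eq_one hq.out.pos (hQe.2 a ha)
  exact ((Nat.le_mul_of_pos_right _ Nat.card_pos).trans h1.le).trans (Nat.mul_le_mul_left _ h2)

theorem Hyp.sup_eq [hq : Fact q.Prime] (hQe : Cfsg.IsElementaryAbelian q Q) (hB : Hyp Q V B) {k : G}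
    (hk : k ∈ Q) (hkB : k ∉ B) : B ⊔ Subgroup.zpowers k = Q := by
  refine Subgroup.eq_of_le_of_card_ge (sup_le hB.1 (Subgroup.zpowers_le.mpr hk)) ?_
  have hp' := Fusion.Thompson.isPGroup_isEA hQe
  obtain ⟨j, hj⟩ := (hp'.to_le (sup_le hB.1 (Subgroup.zpowers_le.mpr hk))).exists_card_eq
  obtain ⟨i, hi⟩ := (hp'.to_le hB.1).exists_card_eq
  have hlt : Nat.card B < Nat.card ↥(B ⊔ Subgroup.zpowers k) := Set.ncard_lt_ncard (SetLike.coe_ssubset_coe.mpr
    (lt_of_le_of_ne le_sup_left fun h => hkB (h.ge (Subgroup.mem_sup_right (Subgroup.mem_zpowers k)))))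
  refine (hB.card_le hQe).trans ?_
  rw [hi, hj] at hlt
  rw [hi, hj, ← pow_succ]
  exact Nat.pow_le_pow_right hq.out.pos ((Nat.pow_lt_pow_iff_right hq.out.one_lt).mp hlt)

theorem Hyp.eq_of_le [hq : Fact q.Prime] (hQe : Cfsg.IsElementaryAbelian q Q) (hB : Hyp Q V B) (hB' : Hyp Q V B')
    (h : B' ≤ B) : B' = B := by
  by_contra hne
  obtain ⟨k, hk, hkB'⟩ := SetLike.exists_of_lt (lt_of_le_of_ne h hne)
  exact hB.2.1 (le_antisymm hB.1 ((hB'.sup_eq hQe (hB.1 hk) hkB').ge.trans (sup_le h (Subgroup.zpowers_le.mpr hk))))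

theorem Hyp.sup_distinct [hq : Fact q.Prime] (hQe : Cfsg.IsElementaryAbelian q Q) (hB : Hyp Q V B)
    (hB' : Hyp Q V B') (h : B' ≠ B) : B ⊔ B' = Q := by
  obtain ⟨k, hk, hkB⟩ := SetLike.not_le_iff_exists.mp fun hle => h (hB.eq_of_le hQe hB' hle)
  exact le_antisymm (sup_le hB.1 hB'.1)
    ((hB.sup_eq hQe (hB'.1 hk) hkB).ge.trans (sup_le_sup_left (Subgroup.zpowers_le.mpr hk) _))

/-- Congruence of a conjugation action on a cyclic quotient. -/
theorem exists_exponent [hq : Fact q.Prime] (hQe : Cfsg.IsElementaryAbelian q Q) (hB : Hyp Q V B) {g : G}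
    (hgQ : g ∈ Subgroup.normalizer (Q : Set G)) (hgB : g ∈ Subgroup.normalizer (B : Set G)) :
    ∃ i : ℤ, ∀ k ∈ Q, g * k * g⁻¹ * (k ^ i)⁻¹ ∈ B := by
  haveI := hQe.1
  obtain ⟨k₀, hk₀, hk₀B⟩ := SetLike.not_le_iff_exists.mp fun hle : Q ≤ B => hB.2.1 (le_antisymm hB.1 hle)
  have hsup := hB.sup_eq hQe hk₀ hk₀B
  have hdec : ∀ k ∈ Q, ∃ b ∈ B, ∃ n : ℤ, k = b * k₀ ^ n := by
    intro k hk
    have hk' : k ∈ B ⊔ Subgroup.zpowers k₀ := hsup.ge hk
    rw [← SetLike.mem_coe, Subgroup.coe_mul_of_right_le_normalizer_left B (Subgroup.zpowers k₀)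
      (Subgroup.zpowers_le.mpr (Subgroup.centralizer_le_normalizer _
        (Subgroup.centralizer_le hB.1 (Q.le_centralizer hk₀))))] at hk'
    obtain ⟨b, hb, c, hc, rfl⟩ := Set.mem_mul.mp hk'
    obtain ⟨n, rfl⟩ := Subgroup.mem_zpowers_iff.mp hc
    exact ⟨b, hb, n, rfl⟩
  obtain ⟨b₀, hb₀, i, hi⟩ := hdec _ ((Subgroup.mem_normalizer_iff.mp hgQ k₀).mp hk₀)
  refine ⟨i, fun k hk => ?_⟩
  obtain ⟨b, hb, n, rfl⟩ := hdec k hk
  have hcQ : ∀ {u v : G}, u ∈ Q → v ∈ Q → Commute u v := fun hu hv =>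
    congrArg Subtype.val (mul_comm' (⟨_, hu⟩ : Q) ⟨_, hv⟩)
  have e1 : g * (b * k₀ ^ n) * g⁻¹ = (g * b * g⁻¹) * b₀ ^ n * k₀ ^ (i * n) := by
    calc g * (b * k₀ ^ n) * g⁻¹ = (g * b * g⁻¹) * (g * k₀ * g⁻¹) ^ n := by rw [conj_zpow]; group
      _ = _ := by rw [hi, (hcQ (hB.1 hb₀) (zpow_mem hk₀ i)).mul_zpow, ← zpow_mul]; simp only [mul_assoc]
  have e2 : (b * k₀ ^ n) ^ i = b ^ i * k₀ ^ (i * n) := by
    rw [(hcQ (hB.1 hb) (zpow_mem hk₀ n)).mul_zpow, ← zpow_mul, mul_comm n i]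
  rw [e1, e2, mul_inv_rev, show g * b * g⁻¹ * b₀ ^ n * k₀ ^ (i * n) * ((k₀ ^ (i * n))⁻¹ * (b ^ i)⁻¹) =
    g * b * g⁻¹ * b₀ ^ n * (b ^ i)⁻¹ by group]
  exact mul_mem (mul_mem ((Subgroup.mem_normalizer_iff.mp hgB b).mp hb) (zpow_mem hb₀ n)) (inv_mem (zpow_mem hb i))

variable [hp : Fact p.Prime] [hq : Fact q.Prime] [hr : Fact r.Prime]

theorem main (hp2 : p ≠ 2) (hr2 : r ≠ 2) (hpq : p ≠ q) (hpr : p ≠ r)
    (hVe : Cfsg.IsElementaryAbelian p V) (hQe : Cfsg.IsElementaryAbelian q Q) (hPp : IsPGroup p P)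
    (hxr : x ^ r = 1) (hQV : Q ≤ Subgroup.normalizer (V : Set G)) (hPV : P ≤ Subgroup.normalizer (V : Set G))
    (hxV : x ∈ Subgroup.normalizer (V : Set G)) (hPQ : P ≤ Subgroup.normalizer (Q : Set G))
    (hxQ : x ∈ Subgroup.normalizer (Q : Set G)) (hxP : x ∈ Subgroup.normalizer (P : Set G))
    (hVQ : V ⊓ Subgroup.centralizer (Q : Set G) = ⊥) (hfaith : Q ⊓ Subgroup.centralizer (V : Set G) = ⊥)
    (hPc : ¬ P ≤ Subgroup.centralizer (Q : Set G))
    (hPx : P ⊓ Subgroup.centralizer ({x} : Set G) = ⊥)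
    (hVx : Nat.card ↥(V ⊓ Subgroup.centralizer ({x} : Set G)) ≤ p) : False := by
  classical
  haveI := hVe.1
  haveI := hQe.1
  letI : CommGroup V := { (inferInstance : Group V) with mul_comm := mul_comm' }
  letI : ∀ H : Subgroup G, Fintype H := fun H => Fintype.ofFinite H
  have hVp := Fusion.Thompson.isPGroup_isEA hVe
  have hQp := Fusion.Thompson.isPGroup_isEA hQe
  -- the hyperplanes detect `Q`
  have hdet : ∀ k ∈ Q, (∀ B : Subgroup G, Hyp Q V B → k ∈ B) → k = 1 := by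
    intro k hk hall
    have hcop : (Nat.card Q).Coprime (Nat.card V) := by
      obtain ⟨a, ha⟩ := hQp.exists_card_eq
      obtain ⟨b, hb⟩ := hVp.exists_card_eq
      rw [ha, hb]; exact ((Nat.coprime_primes hq.out hp.out).mpr hpq.symm).pow a b
    have hkV : k ∈ Subgroup.centralizer (V : Set G) := by
      have hle : V ≤ Subgroup.centralizer ({k} : Set G) := by
        rw [← Coprime.iSup_centralizer_of_cyclic_quotient (A := Q) hQV hcop]
        refine iSup₂_le fun B hB => ?_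
        intro v hv
        by_cases hv1 : v = 1
        · subst hv1; exact one_mem _
        have hne : V ⊓ Subgroup.centralizer (B : Set G) ≠ ⊥ := fun h => hv1 (by
          rw [h] at hv; exact Subgroup.mem_bot.mp hv)
        have hBQ : B ≠ Q := fun h => hne (h ▸ hVQ)
        exact Subgroup.mem_centralizer_singleton_iff.mpr
          (Subgroup.mem_centralizer_iff.mp hv.2 k (hall B ⟨hB.1, hBQ, hB.2, hne⟩)).symm
      exact Subgroup.mem_centralizer_iff.mpr fun v hv => Subgroup.mem_centralizer_singleton_iff.mp (hle hv)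
    exact Subgroup.mem_bot.mp (hfaith ▸ ⟨hk, hkV⟩)
  -- the product maps
  let cf : ∀ (g : G), g ∈ Subgroup.normalizer (V : Set G) → V →* V := fun g hg =>
    { toFun := fun v => ⟨g * v * g⁻¹, (Subgroup.mem_normalizer_iff.mp hg v).mp v.2⟩
      map_one' := by ext; simp
      map_mul' := fun a b => by ext; simp [mul_assoc] }
  let phi : V → V := fun v => ∏ i ∈ Finset.range r, cf (x ^ i) (pow_mem hxV i) v
  let e : ∀ B : Subgroup G, B ≤ Q → V →* V := fun B hB => ∏ b : B, cf (b : G) (hQV (hB b.2))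
  have he : ∀ (B : Subgroup G) (hB : B ≤ Q) (v : V), e B hB v = ∏ b : B, cf (b : G) (hQV (hB b.2)) v := fun B hB v =>
    MonoidHom.finsetProd_apply _ _ v
  have hphiC : ∀ v : V, (phi v : G) ∈ V ⊓ Subgroup.centralizer ({x} : Set G) := by
    intro v
    refine Subgroup.mem_inf.mpr ⟨(phi v).2, Subgroup.mem_centralizer_singleton_iff.mpr ?_⟩
    have hfix : cf x hxV (phi v) = phi v := by
      simp only [phi]
      rw [map_prod]
      have e1 : ∀ i, cf x hxV (cf (x ^ i) (pow_mem hxV i) v) = cf (x ^ (i + 1)) (pow_mem hxV (i + 1)) v :=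
        fun i => by ext; simp [cf, pow_succ', mul_assoc]
      simp only [e1]
      have h3 := Finset.prod_range_succ' (fun i => cf (x ^ i) (pow_mem hxV i) v) r
      rw [Finset.prod_range_succ (fun i => cf (x ^ i) (pow_mem hxV i) v) r] at h3
      have e2 : cf (x ^ r) (pow_mem hxV r) v = cf (x ^ 0) (pow_mem hxV 0) v := by ext; simp [cf, hxr]
      rw [e2] at h3
      exact (mul_right_cancel h3).symm
    exact (mul_inv_eq_iff_eq_mul.mp (congrArg Subtype.val hfix : x * (phi v : G) * x⁻¹ = phi v)).symm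
  have he_self : ∀ (B : Subgroup G) (hB : B ≤ Q) (v : V), (v : G) ∈ Subgroup.centralizer (B : Set G) →
      e B hB v = v ^ Nat.card B := by
    intro B hB v hv
    rw [he B hB v, Finset.prod_congr rfl fun (b : B) _ => show cf (b : G) (hQV (hB b.2)) v = v from Subtype.ext (by
      show (b : G) * v * (b : G)⁻¹ = v
      rw [Subgroup.mem_centralizer_iff.mp hv b b.2, mul_inv_cancel_right]), Finset.prod_const, Finset.card_univ,
      Nat.card_eq_fintype_card]
  have he_other : ∀ (B : Subgroup G) (hB : B ≤ Q) (B' : Subgroup G), B' ≤ Q → B ⊔ B' = Q → ∀ v : V,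
      (v : G) ∈ Subgroup.centralizer (B' : Set G) → e B hB v = 1 := by
    intro B hB B' hB' hsup v hv
    have hmem : ∀ c ∈ Q, c ∈ Subgroup.centralizer ({(e B hB v : G)} : Set G) := by
      refine fun c hc => (sup_le ?_ ?_ : B ⊔ B' ≤ Subgroup.centralizer ({(e B hB v : G)} : Set G)) (hsup.ge hc)
      · intro c hc
        have hfix : cf c (hQV (hB hc)) (e B hB v) = e B hB v := by
          rw [he B hB v, map_prod]
          refine Fintype.prod_equiv (Equiv.mulLeft (⟨c, hc⟩ : B)) _ _ fun b => ?_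
          ext; simp [cf, mul_assoc]
        exact Subgroup.mem_centralizer_singleton_iff.mpr
          (mul_inv_eq_iff_eq_mul.mp (congrArg Subtype.val hfix : c * (e B hB v : G) * c⁻¹ = e B hB v))
      · intro c hc
        have hfix : cf c (hQV (hB' hc)) (e B hB v) = e B hB v := by
          rw [he B hB v, map_prod]
          refine Finset.prod_congr rfl fun b _ => ?_
          ext
          simp only [cf, MonoidHom.coe_mk, OneHom.coe_mk]
          have h1 : c * (b : G) = b * c := congrArg Subtype.val (mul_comm' (⟨c, hB' hc⟩ : Q) ⟨b, hB b.2⟩)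
          calc c * ((b : G) * v * (b : G)⁻¹) * c⁻¹ = (c * b) * v * (c * b)⁻¹ := by group
            _ = (b * c) * v * ((b : G) * c)⁻¹ := by rw [h1]
            _ = (b : G) * (c * v * c⁻¹) * (b : G)⁻¹ := by group
            _ = _ := by rw [Subgroup.mem_centralizer_iff.mp hv c hc, mul_inv_cancel_right]
        exact Subgroup.mem_centralizer_singleton_iff.mpr
          (mul_inv_eq_iff_eq_mul.mp (congrArg Subtype.val hfix : c * (e B hB v : G) * c⁻¹ = e B hB v))
    have : (e B hB v : G) ∈ V ⊓ Subgroup.centralizer (Q : Set G) := Subgroup.mem_inf.mpr ⟨(e B hB v).2,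
      Subgroup.mem_centralizer_iff.mpr fun c hc => Subgroup.mem_centralizer_singleton_iff.mp (hmem c hc)⟩
    rw [hVQ, Subgroup.mem_bot] at this
    exact Subtype.ext this
  have hcopB : ∀ B : Subgroup G, B ≤ Q → ∀ v : V, v ^ Nat.card B = 1 → v = 1 := by
    intro B hB v hv
    obtain ⟨a, ha⟩ := (hQp.to_le hB).exists_card_eq
    obtain ⟨b, hb⟩ := hVp.exists_card_eq
    refine orderOf_eq_one_iff.mp (Nat.eq_one_of_dvd_coprimes ?_ (orderOf_dvd_of_pow_eq_one hv)
      (orderOf_dvd_natCard v))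
    rw [ha, hb]; exact ((Nat.coprime_primes hq.out hp.out).mpr hpq.symm).pow a b
  -- moved hyperplanes
  have hxi : ∀ i, ¬ r ∣ i → ∀ B : Subgroup G, cj (x ^ i) B = B → cj x B = B := by
    intro i hi B hB
    obtain ⟨j, hj⟩ := exists_pow_eq_self_of_coprime (n := i) (x := x)
      (((hr.out.coprime_iff_not_dvd).mpr hi).symm.coprime_dvd_right (orderOf_dvd_of_pow_eq_one hxr))
    rw [← hj]
    refine SigmaFusion.cj_eq_self (pow_mem ?_ j)
    exact Subgroup.mem_normalizer_iff_map_conj_eq.mpr hB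
  have hphi : ∀ B (hB : Hyp Q V B) (B' : Subgroup G) (_ : Hyp Q V B'), (∀ i, cj (x ^ i) B ≠ B') →
      ∀ v : V, (v : G) ∈ Subgroup.centralizer (B : Set G) → ∀ hle : B' ≤ Q, e B' hle (phi v) = 1 := by
    intro B hB B' hB' hne v hv hle
    simp only [phi]
    rw [map_prod]
    refine Finset.prod_eq_one fun i _ => ?_
    have hBi := hB.cj_mem (pow_mem hxQ i) (pow_mem hxV i)
    exact he_other B' hle (cj (x ^ i) B) hBi.1 (hB'.sup_distinct hQe hBi (hne i)) _ (cj_centralizer_mem hv)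
  have hphi_self : ∀ B (hB : Hyp Q V B), cj x B ≠ B → ∀ v : V, (v : G) ∈ Subgroup.centralizer (B : Set G) →
      e B hB.1 (phi v) = v ^ Nat.card B := by
    intro B hB hmv v hv
    simp only [phi]
    rw [map_prod, Finset.prod_eq_single 0]
    · rw [show cf (x ^ 0) (pow_mem hxV 0) v = v from Subtype.ext (by simp [cf])]
      exact he_self B hB.1 v hv
    · intro i hi hi0
      have hBi := hB.cj_mem (pow_mem hxQ i) (pow_mem hxV i)
      refine he_other B hB.1 (cj (x ^ i) B) hBi.1 (hB.sup_distinct hQe hBi fun h => hmv ?_) _ (cj_centralizer_mem hv)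
      exact hxi i (fun hd => hi0 (Nat.eq_zero_of_dvd_of_lt hd (Finset.mem_range.mp hi))) B h
    · intro h; exact absurd (Finset.mem_range.mpr hr.out.pos) h
  have hinj : ∀ B (_ : Hyp Q V B), cj x B ≠ B → ∀ v : V, (v : G) ∈ Subgroup.centralizer (B : Set G) →
      phi v = 1 → v = 1 := fun B hB hmv v hv h =>
    hcopB B hB.1 v (by rw [← hphi_self B hB hmv v hv, h, map_one])
  have hphimul : ∀ u v : V, phi (u * v) = phi u * phi v := fun u v => by
    simp only [phi, map_mul, Finset.prod_mul_distrib]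
  -- the fixed-point line
  have hline : ∀ B, Hyp Q V B → cj x B ≠ B →
      Nat.card ↥(V ⊓ Subgroup.centralizer (B : Set G)) = p ∧
      ∀ y ∈ V ⊓ Subgroup.centralizer ({x} : Set G), ∃ v : V, (v : G) ∈ Subgroup.centralizer (B : Set G) ∧ (phi v : G) = y := by
    intro B hB hmv
    set W := V ⊓ Subgroup.centralizer (B : Set G) with hW
    set C := V ⊓ Subgroup.centralizer ({x} : Set G) with hC
    let g : W → C := fun w => ⟨phi ⟨w, w.2.1⟩, hphiC _⟩
    have hg : Function.Injective g := by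
      intro a b hab
      have hab' : (phi ⟨a, a.2.1⟩ : G) = phi ⟨b, b.2.1⟩ := congrArg (fun z : C => (z : G)) hab
      have h : phi ⟨a, a.2.1⟩ = phi ⟨b, b.2.1⟩ := Subtype.ext hab'
      have h2 : phi (⟨a, a.2.1⟩ * (⟨b, b.2.1⟩ : V)⁻¹) * phi ⟨b, b.2.1⟩ = phi ⟨b, b.2.1⟩ := by
        rw [← hphimul, inv_mul_cancel_right]; exact h
      have h3 := hinj B hB hmv _ (show ((⟨a, a.2.1⟩ * (⟨b, b.2.1⟩ : V)⁻¹ : V) : G) ∈ _ from
        mul_mem a.2.2 (inv_mem b.2.2)) (mul_eq_right.mp h2)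
      have h4 := mul_inv_eq_one.mp h3
      exact Subtype.ext (congrArg (fun z : V => (z : G)) h4)
    obtain ⟨j, hj⟩ := (hVp.to_le (inf_le_left : W ≤ V)).exists_card_eq
    have hj0 : j ≠ 0 := fun h => hB.2.2.2 (Subgroup.eq_bot_of_card_eq _ (by rw [← hW, hj, h, pow_zero]))
    have hle : Nat.card W ≤ Nat.card C := Nat.card_le_card_of_injective g hg
    have hWp : Nat.card W = p := by
      rw [hj] at hle ⊢
      have h1 : p ^ j ≤ p ^ 1 := by rw [pow_one]; exact hle.trans hVx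
      rw [show j = 1 by have := (Nat.pow_le_pow_iff_right hp.out.one_lt).mp h1; omega, pow_one]
    refine ⟨hWp, fun y hy => ?_⟩
    have hbij : Function.Bijective g := (Nat.bijective_iff_injective_and_card g).mpr
      ⟨hg, le_antisymm hle (hVx.trans hWp.ge)⟩
    obtain ⟨w, hw⟩ := hbij.2 ⟨y, hy⟩
    exact ⟨⟨w, w.2.1⟩, w.2.2, congrArg Subtype.val hw⟩
  have hone : ∀ B B', Hyp Q V B → cj x B ≠ B → Hyp Q V B' → cj x B' ≠ B' → ∃ i, cj (x ^ i) B = B' := by
    intro B B' hB hmv hB' hmv'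
    by_contra hn
    push Not at hn
    obtain ⟨v', hv'C, hv'1⟩ := (Subgroup.bot_or_exists_ne_one _).resolve_left hB'.2.2.2
    obtain ⟨v, hv, hvy⟩ := (hline B hB hmv).2 _ (hphiC ⟨v', hv'C.1⟩)
    refine hv'1 (congrArg Subtype.val (hcopB B' hB'.1 ⟨v', hv'C.1⟩ ?_))
    rw [← hphi_self B' hB' hmv' _ hv'C.2, show phi ⟨v', hv'C.1⟩ = phi v from Subtype.ext hvy.symm]
    exact hphi B hB B' hB' hn v hv hB'.1
  -- the action on subgroups
  let inst : MulAction G (Subgroup G) := MulAction.compHom _ (MulAut.conj (G := G))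
  have hsmul : ∀ (g : G) (H : Subgroup G), g • H = cj g H := fun g H => rfl
  have hcop : (Nat.card (Subgroup.zpowers x)).Coprime (Nat.card P) := by
    obtain ⟨a, ha⟩ := hPp.exists_card_eq
    rw [ha, Nat.card_zpowers]
    exact ((((Nat.coprime_primes hp.out hr.out).mpr hpr).pow_left a).coprime_dvd_right
      (orderOf_dvd_of_pow_eq_one hxr)).symm
  have hfixed : ∀ B a, a ∈ P → cj x B = B → cj x (cj a B) = cj a B → cj a B = B := by
    intro B a ha h1 h2
    have hf : ∀ H : Subgroup G, cj x H = H → ∀ z ∈ Subgroup.zpowers x, z • H = H := fun H hH z hz => by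
      rw [hsmul]
      exact SigmaFusion.cj_eq_self ((Subgroup.zpowers_le.mpr (Subgroup.mem_normalizer_iff_map_conj_eq.mpr hH) :
        Subgroup.zpowers x ≤ _) hz)
    obtain ⟨c, hc, hce⟩ := Coprime.exists_centralizer_smul_eq (A := Subgroup.zpowers x) (K := P)
      (Subgroup.zpowers_le.mpr hxP) hcop (Or.inl (Coprime.isSolvable_zpowers x)) (x := B) (y := cj a B)
      (hf B h1) (hf _ h2) ha rfl
    have hc1 : c ∈ P ⊓ Subgroup.centralizer ({x} : Set G) := Subgroup.mem_inf.mpr ⟨hc.1,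
      Subgroup.mem_centralizer_singleton_iff.mpr (Subgroup.mem_centralizer_iff.mp hc.2 x (Subgroup.mem_zpowers x)).symm⟩
    rw [hPx, Subgroup.mem_bot] at hc1
    rw [← hce, hc1, one_smul]
  -- every hyperplane is fixed by `P`
  have hPfix : ∀ B, Hyp Q V B → ∀ a ∈ P, cj a B = B := by
    by_contra hn
    push Not at hn
    obtain ⟨B₀, hB₀, a₀, ha₀, hne₀⟩ := hn
    set O : Set (Subgroup G) := (fun a => cj a B₀) '' (P : Set G) with hO
    have hOH : ∀ D ∈ O, Hyp Q V D := by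
      rintro _ ⟨a, ha, rfl⟩; exact hB₀.cj_mem (hPQ ha) (hPV ha)
    have hOP : ∀ D ∈ O, ∀ a ∈ P, cj a D ∈ O := by
      rintro _ ⟨b, hb, rfl⟩ a ha; exact ⟨a * b, mul_mem ha hb, (cj_cj a b B₀).symm⟩
    have hB₀O : B₀ ∈ O := ⟨1, one_mem _, cj_one B₀⟩
    have hone' : ∀ D₁ ∈ O, ∀ D₂ ∈ O, cj x D₁ = D₁ → cj x D₂ = D₂ → D₁ = D₂ := by
      rintro _ ⟨a, ha, rfl⟩ _ ⟨b, hb, rfl⟩ h1 h2
      have e : cj (b * a⁻¹) (cj a B₀) = cj b B₀ := by rw [cj_cj, inv_mul_cancel_right]
      simp only at h1 h2 ⊢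
      rw [← e] at h2 ⊢
      exact (hfixed _ _ (mul_mem hb (inv_mem ha)) h1 h2).symm
    obtain ⟨B₁, hB₁O, hB₁⟩ : ∃ B₁ ∈ O, cj x B₁ ≠ B₁ := by
      by_contra h
      push Not at h
      exact hne₀ (hone' _ (hOP B₀ hB₀O a₀ ha₀) _ hB₀O (h _ (hOP B₀ hB₀O a₀ ha₀)) (h _ hB₀O))
    set X : Finset (Subgroup G) := (Finset.range r).image fun i => cj (x ^ i) B₁ with hX
    have hXcard : X.card = r := by
      rw [hX, Finset.card_image_of_injOn, Finset.card_range]
      intro i hi j hj hij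
      simp only [Finset.coe_range, Set.mem_Iio] at hi hj
      by_contra hij'
      wlog hlt : i < j generalizing i j with hsym
      · exact hsym hij.symm hj hi (Ne.symm hij') (by omega)
      refine hB₁ (hxi (j - i) (fun hd => absurd (Nat.le_of_dvd (by omega) hd) (by omega)) B₁ ?_)
      have e1 : cj (x ^ i) (cj (x ^ (j - i)) B₁) = cj (x ^ i) B₁ := by
        rw [cj_cj, ← pow_add, Nat.add_sub_cancel' hlt.le]; exact hij.symm
      exact Subgroup.map_injective (f := (MulAut.conj (x ^ i)).toMonoidHom) (MulAut.conj _).injective e1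
    have hmem : ∀ D, Hyp Q V D → cj x D ≠ D → D ∈ X := by
      intro D hD hDm
      obtain ⟨i, hi⟩ := hone B₁ D (hOH _ hB₁O) hB₁ hD hDm
      refine Finset.mem_image.mpr ⟨i % r, Finset.mem_range.mpr (Nat.mod_lt _ hr.out.pos), ?_⟩
      rw [← hi]
      congr 1
      conv_rhs => rw [← Nat.mod_add_div i r, pow_add, pow_mul, hxr, one_pow, mul_one]
    have hxO : ∀ D ∈ O, cj x D ∈ O := by
      by_contra hcon
      push Not at hcon
      obtain ⟨D₀, hD₀, hD₀x⟩ := hcon
      -- no orbit element is fixed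
      have hnofix : ∀ D ∈ O, cj x D ≠ D := by
        rintro D hD hDx
        obtain ⟨b, hb, rfl⟩ := hD₀
        obtain ⟨c, hc, rfl⟩ := hD
        refine hD₀x ?_
        rw [show cj x (cj b B₀) = cj (x * (b * c⁻¹) * x⁻¹) (cj x (cj c B₀)) by
          rw [cj_cj, cj_cj, cj_cj]; congr 1; group, hDx]
        exact hOP _ ⟨c, hc, rfl⟩ _ ((Subgroup.mem_normalizer_iff.mp hxP _).mp (mul_mem hb (inv_mem hc)))
      -- so the whole orbit consists of powers of one element
      have hsingle : ∀ D ∈ O, D = B₁ := by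
        intro D hD
        obtain ⟨i, hi, hDi⟩ := Finset.mem_image.mp (hmem D (hOH D hD) (hnofix D hD))
        by_contra hne
        have hri : ¬ r ∣ i := fun hd => hne (by
          rw [← hDi, Nat.eq_zero_of_dvd_of_lt hd (Finset.mem_range.mp hi), pow_zero, cj_one])
        -- `x ^ i` maps `O` into itself
        have hstep : ∀ E ∈ O, cj (x ^ i) E ∈ O := by
          rintro E ⟨c, hc, rfl⟩
          obtain ⟨b, hb, hbe⟩ := hB₁O
          have : cj (x ^ i) (cj c B₀) = cj (x ^ i * (c * b⁻¹) * (x ^ i)⁻¹) D := by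
            rw [← hDi, ← hbe, cj_cj, cj_cj, cj_cj]; congr 1; group
          rw [this]
          exact hOP D hD _ ((Subgroup.mem_normalizer_iff.mp (pow_mem hxP i) _).mp (mul_mem hc (inv_mem hb)))
        obtain ⟨j, hj⟩ := exists_pow_eq_self_of_coprime (n := i) (x := x)
          (((hr.out.coprime_iff_not_dvd).mpr hri).symm.coprime_dvd_right (orderOf_dvd_of_pow_eq_one hxr))
        have hiter : ∀ (n : ℕ) (E : Subgroup G), E ∈ O → cj ((x ^ i) ^ n) E ∈ O := by
          intro n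
          induction n with
          | zero => intro E hE; rw [pow_zero, cj_one]; exact hE
          | succ n ih => intro E hE; rw [pow_succ, ← cj_cj]; exact ih _ (hstep E hE)
        have := hiter j D₀ hD₀
        rw [hj] at this
        exact hD₀x this
      exact hne₀ ((hsingle _ (hOP B₀ hB₀O a₀ ha₀)).trans (hsingle _ hB₀O).symm)
    have hXO : ∀ D ∈ X, D ∈ O := by
      intro D hD
      obtain ⟨i, -, rfl⟩ := Finset.mem_image.mp hD
      clear hD
      induction i with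
      | zero => rw [pow_zero, cj_one]; exact hB₁O
      | succ i ih => rw [pow_succ', ← cj_cj]; exact hxO _ ih
    obtain ⟨k, hk⟩ : ∃ k : ℕ, O.ncard = p ^ k := by
      let act : MulAction P (Subgroup G) := MulAction.compHom _ P.subtype
      obtain ⟨k, hk⟩ := hPp.card_orbit B₀
      refine ⟨k, ?_⟩
      rw [← hk, ← Nat.card_coe_set_eq]
      refine Nat.card_congr (Equiv.setCongr ?_)
      ext D
      constructor
      · rintro ⟨a, ha, rfl⟩; exact ⟨⟨a, ha⟩, rfl⟩
      · rintro ⟨⟨a, ha⟩, rfl⟩; exact ⟨a, ha, rfl⟩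
    have hfix_sub : (O \ (X : Set (Subgroup G))).ncard ≤ 1 := by
      refine (Set.ncard_le_one (Set.toFinite _)).mpr fun D hD D' hD' => hone' D hD.1 D' hD'.1 ?_ ?_
      · by_contra h; exact hD.2 (Finset.mem_coe.mpr (hmem D (hOH D hD.1) h))
      · by_contra h; exact hD'.2 (Finset.mem_coe.mpr (hmem D' (hOH D' hD'.1) h))
    have hsum := Set.ncard_sdiff_add_ncard_of_subset (s := (X : Set (Subgroup G))) (t := O)
      (fun D hD => hXO D (Finset.mem_coe.mp hD)) (Set.toFinite _)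
    rw [Set.ncard_coe_finset, hXcard, hk] at hsum
    rcases Nat.le_one_iff_eq_zero_or_eq_one.mp hfix_sub with h | h
    · rw [h, zero_add] at hsum
      exact hpr ((Nat.prime_dvd_prime_iff_eq hp.out hr.out).mp (hsum ▸ dvd_pow_self p (fun h0 => by
        rw [h0, pow_zero] at hsum; exact hr.out.one_lt.ne' hsum)))
    · rw [h] at hsum
      have hodd : Odd (p ^ k) := (hp.out.odd_of_ne_two hp2).pow
      rw [← hsum] at hodd
      exact (Nat.not_even_iff_odd.mpr hodd) (Odd.add_odd odd_one (hr.out.odd_of_ne_two hr2))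
  have hPN : ∀ B, Hyp Q V B → P ≤ Subgroup.normalizer (B : Set G) := fun B hB a ha =>
    Subgroup.mem_normalizer_iff_map_conj_eq.mpr (hPfix B hB a ha)
  -- some hyperplane is moved by `x`
  by_cases hmv : ∀ B, Hyp Q V B → cj x B = B
  · refine hPc ?_
    have hsurj : ∀ c ∈ P, ∃ a ∈ P, c = a * x * a⁻¹ * x⁻¹ := by
      let g : P → P := fun a => ⟨a * x * (a : G)⁻¹ * x⁻¹, by
        rw [show (a : G) * x * (a : G)⁻¹ * x⁻¹ = a * (x * (a : G)⁻¹ * x⁻¹) by group]
        exact mul_mem a.2 ((Subgroup.mem_normalizer_iff.mp hxP _).mp (inv_mem a.2))⟩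
      have hg : Function.Injective g := fun a b hab => by
        have h : (a : G) * x * (a : G)⁻¹ = b * x * (b : G)⁻¹ := mul_right_cancel (congrArg Subtype.val hab)
        have hm : (b : G)⁻¹ * a ∈ P ⊓ Subgroup.centralizer ({x} : Set G) := by
          refine Subgroup.mem_inf.mpr ⟨mul_mem (inv_mem b.2) a.2, Subgroup.mem_centralizer_singleton_iff.mpr ?_⟩
          calc (b : G)⁻¹ * a * x = (b : G)⁻¹ * (a * x * (a : G)⁻¹) * a := by group
            _ = (b : G)⁻¹ * (b * x * (b : G)⁻¹) * a := by rw [h]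
            _ = _ := by group
        rw [hPx, Subgroup.mem_bot, inv_mul_eq_one] at hm
        exact Subtype.ext hm.symm
      intro c hc
      obtain ⟨a, ha⟩ := (Finite.injective_iff_surjective.mp hg) ⟨c, hc⟩
      exact ⟨a, a.2, (congrArg Subtype.val ha).symm⟩
    intro c hc
    refine Subgroup.mem_centralizer_iff.mpr fun k hk => ?_
    obtain ⟨a, ha, rfl⟩ := hsurj c hc
    set c := a * x * a⁻¹ * x⁻¹ with hcdef
    have hck : c * k * c⁻¹ * k⁻¹ ∈ Q :=
      mul_mem ((Subgroup.mem_normalizer_iff.mp (hPQ hc) k).mp hk) (inv_mem hk)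
    have h1 := hdet _ hck fun B hB => by
      have hxB : x ∈ Subgroup.normalizer (B : Set G) := Subgroup.mem_normalizer_iff_map_conj_eq.mpr (hmv B hB)
      obtain ⟨i, hi⟩ := exists_exponent hQe hB (hPQ ha) (hPN B hB ha)
      obtain ⟨j, hj⟩ := exists_exponent hQe hB hxQ hxB
      have hcQ : ∀ {u v : G}, u ∈ Q → v ∈ Q → u * v = v * u := fun hu hv =>
        congrArg Subtype.val (mul_comm' (⟨_, hu⟩ : Q) ⟨_, hv⟩)
      -- `a x` and `x a` agree modulo `B`
      have hcomm : ∀ u ∈ Q, (a * x) * u * (a * x)⁻¹ * ((x * a) * u * (x * a)⁻¹)⁻¹ ∈ B := by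
        intro u hu
        have e1 : ∀ (g h : G) (m n : ℤ), (∀ k ∈ Q, g * k * g⁻¹ * (k ^ m)⁻¹ ∈ B) →
            (∀ k ∈ Q, h * k * h⁻¹ * (k ^ n)⁻¹ ∈ B) → h ∈ Subgroup.normalizer (Q : Set G) →
            (g * h) * u * (g * h)⁻¹ * (u ^ (n * m))⁻¹ ∈ B := by
          intro g h m n hg hh hhQ
          have hb := hg _ ((Subgroup.mem_normalizer_iff.mp hhQ u).mp hu)
          have hb' := zpow_mem (hh u hu) m
          have hc' : (h * u * h⁻¹ * (u ^ n)⁻¹) ^ m = (h * u * h⁻¹) ^ m * (u ^ (n * m))⁻¹ := by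
            have : Commute (h * u * h⁻¹) (u ^ n)⁻¹ :=
              hcQ ((Subgroup.mem_normalizer_iff.mp hhQ u).mp hu) (inv_mem (zpow_mem hu n))
            rw [this.mul_zpow, inv_zpow, ← zpow_mul]
          rw [hc'] at hb'
          have := mul_mem hb hb'
          rw [mul_inv_rev]
          convert this using 1
          group
        have h1 := e1 a x i j hi hj hxQ
        have h2 := e1 x a j i hj hi (hPQ ha)
        rw [mul_comm i j] at h2
        have := mul_mem h1 (inv_mem h2)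
        convert this using 1
        group
      have h := hcomm _ ((Subgroup.mem_normalizer_iff.mp (inv_mem (mul_mem hxQ (hPQ ha))) k).mp hk)
      convert h using 1
      simp only [hcdef]; group
    exact (mul_inv_eq_iff_eq_mul.mp (mul_inv_eq_one.mp h1)).symm
  push Not at hmv
  obtain ⟨B, hB, hBm⟩ := hmv
  have hWp := (hline B hB hBm).1
  set W := V ⊓ Subgroup.centralizer (B : Set G) with hW
  -- `q ∣ p - 1`
  have hqp : q ∣ p - 1 := by
    have hQW : Q ≤ Subgroup.normalizer (W : Set G) :=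
      (le_inf hQV ((Q.le_centralizer.trans (Subgroup.centralizer_le hB.1)).trans Subgroup.le_normalizer)).trans
        Subgroup.inf_normalizer_le_normalizer_inf
    obtain ⟨w, hw, hw1⟩ := (Subgroup.bot_or_exists_ne_one W).resolve_left hB.2.2.2
    have hwo : orderOf w = p := orderOf_eq_prime (hVe.2 w hw.1) hw1
    have hzw : Subgroup.zpowers w = W :=
      Subgroup.eq_of_le_of_card_ge (Subgroup.zpowers_le.mpr hw) (by rw [Nat.card_zpowers, hwo, hWp])
    obtain ⟨k, hk, hne⟩ : ∃ k ∈ Q, k * w * k⁻¹ ≠ w := by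
      by_contra h
      push Not at h
      have hm : w ∈ V ⊓ Subgroup.centralizer (Q : Set G) :=
        Subgroup.mem_inf.mpr ⟨hw.1, Subgroup.mem_centralizer_iff.mpr fun k hk => mul_inv_eq_iff_eq_mul.mp (h k hk)⟩
      rw [hVQ, Subgroup.mem_bot] at hm
      exact hw1 hm
    obtain ⟨i, hi⟩ := Subgroup.mem_zpowers_iff.mp (hzw.ge ((Subgroup.mem_normalizer_iff.mp (hQW hk) w).mp hw))
    have hpow : ∀ n : ℕ, k ^ n * w * (k ^ n)⁻¹ = w ^ (i ^ n) := by
      intro n
      induction n with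
      | zero => simp
      | succ n ih =>
        calc k ^ (n + 1) * w * (k ^ (n + 1))⁻¹ = k * (k ^ n * w * (k ^ n)⁻¹) * k⁻¹ := by rw [pow_succ']; group
          _ = (k * w * k⁻¹) ^ (i ^ n) := by rw [ih, conj_zpow]
          _ = _ := by rw [← hi, ← zpow_mul, ← pow_succ']
    refine dvd_sub_one hp.out hq.out (i := i) (n := q) ⟨1, by simp⟩ ?_ ?_
    · have h := hpow q
      rw [hQe.2 k hk, one_mul, inv_one, mul_one] at h
      have : w ^ ((i : ℤ) ^ q) = w ^ (1 : ℤ) := by rw [zpow_one]; exact h.symm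
      simpa [hwo] using zpow_eq_zpow_iff_modEq.mp this
    · intro h
      refine hne ?_
      rw [← hi, ← zpow_one w, ← zpow_mul, one_mul]
      exact zpow_eq_zpow_iff_modEq.mpr (by rw [hwo]; exact h)
  -- `p ∣ q - 1`
  have hpq' : p ∣ q - 1 := by
    obtain ⟨B', hB', a, ha, k, hk, hne⟩ : ∃ B', Hyp Q V B' ∧ ∃ a ∈ P, ∃ k ∈ Q, a * k * a⁻¹ * k⁻¹ ∉ B' := by
      by_contra h
      push Not at h
      refine hPc fun a ha => Subgroup.mem_centralizer_iff.mpr fun k hk => ?_
      exact (mul_inv_eq_iff_eq_mul.mp (mul_inv_eq_one.mp (hdet _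
        (mul_mem ((Subgroup.mem_normalizer_iff.mp (hPQ ha) k).mp hk) (inv_mem hk)) fun B hB => h B hB a ha k hk))).symm
    obtain ⟨i, hi⟩ := exists_exponent hQe hB' (hPQ ha) (hPN B' hB' ha)
    have hkB : k ∉ B' := fun h => hne (mul_mem
      ((Subgroup.mem_normalizer_iff.mp (hPN B' hB' ha) k).mp h) (inv_mem h))
    have hcQ : ∀ {u v : G}, u ∈ Q → v ∈ Q → u * v = v * u := fun hu hv =>
      congrArg Subtype.val (mul_comm' (⟨_, hu⟩ : Q) ⟨_, hv⟩)
    have hpow : ∀ n : ℕ, a ^ n * k * (a ^ n)⁻¹ * (k ^ (i ^ n))⁻¹ ∈ B' := by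
      intro n
      induction n with
      | zero => simp
      | succ n ih =>
        have h1 := (Subgroup.mem_normalizer_iff.mp (hPN B' hB' ha) _).mp ih
        have h2 := hi _ (zpow_mem hk (i ^ n))
        have h3 := mul_mem h1 h2
        rw [show k ^ (i ^ (n + 1)) = (k ^ (i ^ n)) ^ i by rw [← zpow_mul, pow_succ]]
        convert h3 using 1
        group
    have hord : ∀ m : ℤ, k ^ m ∈ B' → (q : ℤ) ∣ m := by
      intro m hm
      by_contra hnd
      refine hkB ?_
      obtain ⟨u, v, huv⟩ := (Int.isCoprime_iff_gcd_eq_one.mpr (by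
        rw [Int.gcd_eq_natAbs, Int.natAbs_natCast]
        exact (hq.out.coprime_iff_not_dvd.mpr fun h => hnd (Int.natCast_dvd.mpr h)).symm) : IsCoprime m (q : ℤ))
      have hkq : k ^ ((q : ℕ) : ℤ) = 1 := by rw [zpow_natCast]; exact hQe.2 k hk
      have : k = (k ^ m) ^ u := by
        conv_lhs => rw [← zpow_one k, ← huv, zpow_add, mul_comm u m, mul_comm v (q : ℤ), zpow_mul, zpow_mul, hkq,
          one_zpow, mul_one]
      rw [this]; exact zpow_mem hm u
    obtain ⟨j, hj⟩ := IsPGroup.iff_orderOf.mp hPp ⟨a, ha⟩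
    rw [Subgroup.orderOf_mk] at hj
    refine dvd_sub_one hq.out hp.out (i := i) (n := (p : ℤ) ^ j) ⟨j, rfl⟩ ?_ ?_
    · have h := hpow (p ^ j)
      rw [← hj, pow_orderOf_eq_one, one_mul, inv_one, mul_one, hj] at h
      have h' : k ^ (1 - i ^ (p ^ j)) ∈ B' := by rw [zpow_sub, zpow_one]; exact h
      have hd := hord _ h'
      rw [show ((p : ℤ) ^ j).toNat = p ^ j by exact_mod_cast Int.toNat_natCast (p ^ j)]
      exact Int.modEq_iff_dvd.mpr hd
    · intro h
      obtain ⟨c, hc⟩ := Int.modEq_iff_dvd.mp h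
      refine hne ?_
      have hkq : k ^ ((q : ℕ) : ℤ) = 1 := by rw [zpow_natCast]; exact hQe.2 k hk
      have hki : k ^ i = k := by
        rw [show i = 1 - (q : ℤ) * c by omega, zpow_sub, zpow_one, zpow_mul, hkq, one_zpow, inv_one, mul_one]
      simpa [hki] using hi k hk
  have h1 := Nat.le_of_dvd (by have := hp.out.two_le; omega) hqp
  have h2 := Nat.le_of_dvd (by have := hq.out.two_le; omega) hpq'
  have := hp.out.two_le
  omega

end CfsgLib.OddOrder.HyperplaneOrbits
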