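import Cfsg.Agent.Lib.OddOrder.UniqueTools
import Mathlib

set_option autoImplicit false
set_option linter.style.haveILetI false
set_option linter.unusedSectionVars false

/-!
Coprime actions on abelian `p`-groups: invariant cyclic subgroups of maximal order, and commuting fixed point
free automorphisms of order `r`.
-/

namespace CfsgLib.OddOrder.InvariantCyclic

variable {W : Type*} [CommGroup W] [Finite W] {p : ℕ} [hp : Fact p.Prime]

/-- A cyclic subgroup of maximal order is a retract. -/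
theorem exists_retraction (hW : IsPGroup p W) {y : W} (hy : orderOf y = Monoid.exponent W) :
    ∃ π : W →* W, (∀ x, π x ∈ Subgroup.zpowers y) ∧ π y = y := by
  obtain ⟨D, hD⟩ := Set.Finite.exists_maximal (Set.toFinite {D : Subgroup W | Disjoint D (Subgroup.zpowers y)})
    ⟨⊥, disjoint_bot_left⟩
  have hsup : D ⊔ Subgroup.zpowers y = ⊤ := by
    set N := D ⊔ Subgroup.zpowers y with hN
    by_contra hne
    obtain ⟨x₀, -, hx₀⟩ := SetLike.exists_of_lt (lt_top_iff_ne_top.mpr hne)
    obtain ⟨k, hk⟩ := hW x₀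
    have hex : ∃ k, x₀ ^ p ^ k ∈ N := ⟨k, hk ▸ one_mem _⟩
    classical
    obtain ⟨j, hj⟩ : ∃ j, Nat.find hex = j + 1 := Nat.exists_eq_succ_of_ne_zero fun e => by
      have := Nat.find_spec hex
      rw [e, pow_zero, pow_one] at this
      exact hx₀ this
    set x := x₀ ^ p ^ j with hx
    have hxN : x ∉ N := Nat.find_min hex (by omega)
    have hxp : x ^ p ∈ N := by
      have := Nat.find_spec hex
      rwa [hj, pow_succ, pow_mul] at this
    obtain ⟨d, hd, z, hz, hdz⟩ := Subgroup.mem_sup.mp hxp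
    obtain ⟨i, rfl⟩ := Subgroup.mem_zpowers_iff.mp hz
    obtain ⟨a, ha⟩ : ∃ a, Monoid.exponent W = p ^ a := by
      obtain ⟨a, ha⟩ := (hW.to_subgroup (Subgroup.zpowers y)).exists_card_eq
      exact ⟨a, by rw [← hy, ← Nat.card_zpowers, ha]⟩
    have ha0 : a ≠ 0 := fun e => hxN (by
      have h1 := Monoid.pow_exponent_eq_one x
      rw [ha, e, pow_zero, pow_one] at h1
      rw [h1]; exact one_mem _)
    obtain ⟨b, rfl⟩ := Nat.exists_eq_succ_of_ne_zero ha0
    have hip : (p : ℤ) ∣ i := by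
      have h1 : d ^ p ^ b * y ^ (i * (p ^ b : ℕ)) = 1 := by
        rw [zpow_mul, zpow_natCast, ← mul_pow, hdz, ← pow_mul, ← pow_succ', ← ha]
        exact Monoid.pow_exponent_eq_one x
      have h2 : y ^ (i * (p ^ b : ℕ)) = 1 := by
        refine Subgroup.mem_bot.mp (disjoint_iff_inf_le.mp hD.1 ⟨?_, Subgroup.zpow_mem _ (Subgroup.mem_zpowers y) _⟩)
        rw [eq_inv_of_mul_eq_one_right h1]
        exact D.inv_mem (D.pow_mem hd _)
      rw [← orderOf_dvd_iff_zpow_eq_one, hy, ha] at h2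
      push_cast at h2
      rw [pow_succ', ] at h2
      exact (mul_dvd_mul_iff_right (pow_ne_zero b (by exact_mod_cast hp.out.ne_zero))).mp h2
    obtain ⟨c, rfl⟩ := hip
    set x' := x * y ^ (-c) with hx'
    have hx'N : x' ∉ N := fun h => hxN (by
      have := mul_mem h (Subgroup.mem_sup_right (Subgroup.zpow_mem _ (Subgroup.mem_zpowers y) c) : y ^ c ∈ N)
      simpa [hx', mul_assoc] using this)
    have hx'p : x' ^ p = d := by
      rw [hx', mul_pow, ← zpow_natCast (y ^ (-c)), ← zpow_mul, ← hdz, mul_assoc, ← zpow_add]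
      have : (p : ℤ) * c + -c * (p : ℤ) = 0 := by ring
      rw [this, zpow_zero, mul_one]
    refine hx'N (Subgroup.mem_sup_left ?_)
    have hD' : Disjoint (D ⊔ Subgroup.zpowers x') (Subgroup.zpowers y) := by
      rw [disjoint_iff_inf_le]
      rintro w ⟨hw, hwy⟩
      obtain ⟨d₀, hd₀, s, hs, rfl⟩ := Subgroup.mem_sup.mp hw
      obtain ⟨m, rfl⟩ := Subgroup.mem_zpowers_iff.mp hs
      by_cases hm : (p : ℤ) ∣ m
      · obtain ⟨m', rfl⟩ := hm
        refine disjoint_iff_inf_le.mp hD.1 ⟨mul_mem hd₀ ?_, hwy⟩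
        rw [zpow_mul, zpow_natCast, hx'p]
        exact zpow_mem hd m'
      · exfalso
        have hcop : IsCoprime (p : ℤ) m := (Nat.prime_iff_prime_int.mp hp.out).coprime_iff_not_dvd.mpr hm
        obtain ⟨u, v, huv⟩ := hcop
        have hxm : x' ^ m ∈ N := by
          have := mul_mem (inv_mem (Subgroup.mem_sup_left hd₀ : d₀ ∈ N)) (Subgroup.mem_sup_right hwy : d₀ * x' ^ m ∈ N)
          rwa [inv_mul_cancel_left] at this
        refine hx'N ?_
        rw [show x' = (x' ^ p) ^ u * (x' ^ m) ^ v by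
          rw [← zpow_natCast, ← zpow_mul, ← zpow_mul, ← zpow_add, mul_comm (p : ℤ), mul_comm m, huv, zpow_one]]
        exact mul_mem (zpow_mem (hx'p ▸ Subgroup.mem_sup_left hd) u) (zpow_mem hxm v)
    exact (hD.2 hD' le_sup_left) (Subgroup.mem_sup_right (Subgroup.mem_zpowers x'))
  let f : Subgroup.zpowers y × D →* W := (Subgroup.zpowers y).subtype.coprod D.subtype
  have hf : Function.Bijective f := by
    refine ⟨(injective_iff_map_eq_one f).mpr ?_, fun w => ?_⟩
    · rintro ⟨⟨u, hu⟩, ⟨d, hd⟩⟩ h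
      have h' : u * d = 1 := h
      have hu1 : u = 1 := Subgroup.mem_bot.mp (disjoint_iff_inf_le.mp hD.1
        ⟨by rw [eq_inv_of_mul_eq_one_left h']; exact D.inv_mem hd, hu⟩)
      subst hu1
      rw [one_mul] at h'
      subst h'
      rfl
    · obtain ⟨d, hd, z, hz, e⟩ := Subgroup.mem_sup.mp (hsup.ge (Subgroup.mem_top w))
      exact ⟨⟨⟨z, hz⟩, ⟨d, hd⟩⟩, (mul_comm z d).trans e⟩
  let e := MulEquiv.ofBijective f hf
  refine ⟨(Subgroup.zpowers y).subtype.comp ((MonoidHom.fst _ _).comp e.symm.toMonoidHom), fun x => ?_, ?_⟩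
  · exact ((e.symm x).1).2
  · have : e.symm y = (⟨y, Subgroup.mem_zpowers y⟩, 1) := by
      rw [MulEquiv.symm_apply_eq]
      simp [e, f]
    show (((e.symm y).1 : Subgroup.zpowers y) : W) = y
    rw [this]

/-- An invariant cyclic subgroup of maximal order over an invariant line. -/
theorem exists_invariant_cyclic (hp2 : p ≠ 2) (hW : IsPGroup p W) {H : Type*} [Group H] [Finite H] (ρ : H →* MulAut W)
    (hcop : (Nat.card H).Coprime p) {F : Subgroup W} (hF : Nat.card F = p) (hFinv : ∀ h, ∀ f ∈ F, ρ h f ∈ F)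
    {y : W} (hy : orderOf y = Monoid.exponent W) (hyF : y ^ (orderOf y / p) ∈ F) (hy1 : y ≠ 1) :
    ∃ X : Subgroup W, IsCyclic X ∧ (∀ h, ∀ x ∈ X, ρ h x ∈ X) ∧ (∃ x ∈ X, orderOf x = Monoid.exponent W) ∧
      ∀ z ∈ X, z ^ p = 1 → z ∈ F := by
  classical
  haveI := Fintype.ofFinite H
  obtain ⟨π, hπy, hπ1⟩ := exists_retraction hW hy
  obtain ⟨k, hk⟩ := IsPGroup.iff_orderOf.mp hW y
  have hk0 : k ≠ 0 := fun e => hy1 (orderOf_eq_one_iff.mp (by rw [hk, e, pow_zero]))
  set f₀ := y ^ (orderOf y / p) with hf₀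
  have hf₀o : orderOf f₀ = p := orderOf_pow_orderOf_div (orderOf_pos y).ne' (hk ▸ dvd_pow_self p hk0)
  have hFeq : Subgroup.zpowers f₀ = F := Subgroup.eq_of_le_of_card_ge (Subgroup.zpowers_le.mpr hyF)
    (by rw [Nat.card_zpowers, hf₀o, hF])
  have hFy : F ≤ Subgroup.zpowers y := hFeq ▸ Subgroup.zpowers_le.mpr (Subgroup.npow_mem_zpowers y _)
  have hπF : ∀ z, z ^ p = 1 → π z ∈ F := fun z hz => by
    rw [← hFeq]
    by_cases h1 : π z = 1
    · rw [h1]; exact one_mem _
    have ho : orderOf (π z) = p := orderOf_eq_prime (by rw [← map_pow, hz, map_one]) h1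
    have hc : IsCyclic (Subgroup.zpowers y) := inferInstance
    have heq : Subgroup.zpowers (π z) = Subgroup.zpowers f₀ := by
      refine SetLike.coe_injective ?_
      have key : ∀ K : Subgroup W, K ≤ Subgroup.zpowers y → Nat.card K = p →
          K.subgroupOf (Subgroup.zpowers y) = (powMonoidHom p : Subgroup.zpowers y →* Subgroup.zpowers y).ker := by
        intro K hK hKc
        refine Subgroup.eq_of_le_of_card_ge (fun a ha => ?_) ?_
        · refine MonoidHom.mem_ker.mpr (Subtype.ext ?_)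
          have := pow_card_eq_one' (x := (⟨(a : W), ha⟩ : K))
          rw [hKc] at this
          simpa using congrArg Subtype.val this
        · rw [Nat.card_congr (Subgroup.subgroupOfEquivOfLe hK).toEquiv, hKc,
            IsCyclic.card_powMonoidHom_ker, Nat.card_zpowers, hk]
          exact Nat.le_of_dvd hp.out.pos (Nat.gcd_dvd_right _ _)
      have := (key _ (Subgroup.zpowers_le.mpr (hπy z)) (by rw [Nat.card_zpowers, ho])).trans
        (key _ (Subgroup.zpowers_le.mpr (Subgroup.npow_mem_zpowers y _)) (by rw [Nat.card_zpowers, hf₀o])).symm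
      rw [Subgroup.subgroupOf_inj, inf_eq_left.mpr (Subgroup.zpowers_le.mpr (hπy z)),
        inf_eq_left.mpr (Subgroup.zpowers_le.mpr (Subgroup.npow_mem_zpowers y _))] at this
      rw [this]
    exact heq ▸ Subgroup.mem_zpowers _
  have hπid : ∀ f ∈ F, π f = f := fun f hf => by
    obtain ⟨i, rfl⟩ := Subgroup.mem_zpowers_iff.mp (hFy hf)
    rw [map_zpow, hπ1]
  let e : W →* W := ∏ h : H, (ρ h).toMonoidHom.comp (π.comp (ρ h⁻¹).toMonoidHom)
  have he : ∀ w, e w = ∏ h : H, ρ h (π (ρ h⁻¹ w)) := fun w => MonoidHom.finsetProd_apply _ _ w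
  have hequi : ∀ g w, e (ρ g w) = ρ g (e w) := by
    intro g w
    rw [he, he, map_prod]
    refine Fintype.prod_equiv (Equiv.mulLeft g⁻¹) _ _ fun h => ?_
    show ρ h (π (ρ h⁻¹ (ρ g w))) = ρ g (ρ (g⁻¹ * h) (π (ρ (g⁻¹ * h)⁻¹ w)))
    simp only [← MulAut.mul_apply, ← map_mul, mul_inv_rev, inv_inv, mul_inv_cancel_left]
  have heF : ∀ f ∈ F, e f = f ^ Nat.card H := fun f hf => by
    rw [he, Nat.card_eq_fintype_card, ← Finset.card_univ, ← Finset.prod_const]
    refine Finset.prod_congr rfl fun h _ => ?_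
    rw [hπid _ (hFinv _ f hf), ← MulAut.mul_apply, ← map_mul, mul_inv_cancel, map_one, MulAut.one_apply]
  have hetors : ∀ z, z ^ p = 1 → e z ∈ F := fun z hz => by
    rw [he]
    exact Subgroup.prod_mem _ fun h _ => hFinv h _ (hπF _ (by rw [← map_pow, hz, map_one]))
  -- iterate
  let it : ℕ → W →* W := fun n => Nat.rec (MonoidHom.id W) (fun _ g => e.comp g) n
  have hex : ∃ n, ∀ m, Nat.card (it n).range ≤ Nat.card (it m).range :=
    ⟨Function.argmin (fun n => Nat.card (it n).range), fun m => Function.argmin_le (fun n => Nat.card (it n).range) m⟩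
  obtain ⟨n, hn⟩ := hex
  set X := (it n).range with hX
  have hitF : ∀ m : ℕ, ∀ f ∈ F, it m f = f ^ (Nat.card H) ^ m := by
    intro m
    induction m with
    | zero => intro f _; simp [it]
    | succ m ih =>
      intro f hf
      show e (it m f) = _
      rw [ih f hf, heF _ (pow_mem hf _), ← pow_mul, ← pow_succ]
  have hFX : F ≤ X := fun f hf => by
    have hc : ((Nat.card H) ^ n).Coprime (Nat.card F) := by rw [hF]; exact hcop.pow_left n
    refine ⟨((powCoprime hc.symm).symm ⟨f, hf⟩ : F), ?_⟩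
    have h1 := congrArg Subtype.val ((powCoprime hc.symm).apply_symm_apply ⟨f, hf⟩)
    rw [hitF n _ ((powCoprime hc.symm).symm ⟨f, hf⟩).2]
    simpa using h1
  have hitρ : ∀ m : ℕ, ∀ g w, it m (ρ g w) = ρ g (it m w) := by
    intro m
    induction m with
    | zero => intro g w; simp [it]
    | succ m ih => intro g w; show e (it m (ρ g w)) = ρ g (e (it m w)); rw [ih, hequi]
  have hmapX : X.map e = X := by
    have h1 : X.map e = (it (n + 1)).range := by rw [hX, MonoidHom.map_range]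
    refine Subgroup.eq_of_le_of_card_ge ?_ (h1 ▸ hn (n + 1))
    rintro _ ⟨w, ⟨v, rfl⟩, rfl⟩
    have hcomm : ∀ m : ℕ, ∀ v, e (it m v) = it m (e v) := by
      intro m
      induction m with
      | zero => intro v; simp [it]
      | succ m ih => intro v; show e (e (it m v)) = e (it m (e v)); rw [ih]
    exact ⟨e v, (hcomm n v).symm⟩
  have hinj : ∀ z ∈ X, e z = 1 → z = 1 := by
    have hs : Function.Surjective (fun z : X => (⟨e z, hmapX.le ⟨z, z.2, rfl⟩⟩ : X)) := fun z => by
      obtain ⟨w, hw, hwz⟩ := hmapX.ge z.2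
      exact ⟨⟨w, hw⟩, Subtype.ext hwz⟩
    intro z hz hz1
    have h2 := (Finite.injective_iff_surjective.mpr hs) (a₁ := (⟨z, hz⟩ : X)) (a₂ := 1)
      (Subtype.ext (by simpa using hz1))
    exact congrArg Subtype.val h2
  have htors : ∀ z ∈ X, z ^ p = 1 → z ∈ F := fun z hz hzp => by
    obtain ⟨w, hw, rfl⟩ := hmapX.ge hz
    exact hetors w (hinj _ (pow_mem hw p) (by rw [map_pow, hzp]))
  refine ⟨X, ?_, fun h x hx => ?_, ⟨it n y, ⟨y, rfl⟩, ?_⟩, htors⟩
  · by_contra hnc
    obtain ⟨A, hA, hAe, hA2⟩ := UniqueTools.exists_isEA_sq hp2 (hW.to_subgroup X) hnc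
    have hle : A ≤ F := fun z hz => htors z (hA hz) (hAe.2 z hz)
    have h2 := hA2.trans ((Subgroup.card_le_of_le hle).trans hF.le)
    have h4 : p ^ 1 < p ^ 2 := Nat.pow_lt_pow_right hp.out.one_lt one_lt_two
    rw [pow_one] at h4
    omega
  · obtain ⟨v, rfl⟩ := hx
    exact ⟨ρ h v, hitρ n h v⟩
  · refine Nat.dvd_antisymm (Monoid.order_dvd_exponent _) ?_
    obtain ⟨j, hj⟩ := IsPGroup.iff_orderOf.mp hW (it n y)
    rw [← hy, hk, hj]
    refine pow_dvd_pow p ?_
    by_contra hlt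
    have h1 : (it n y) ^ (orderOf y / p) = 1 := by
      refine orderOf_dvd_iff_pow_eq_one.mp ?_
      rw [hj, hk, show p ^ k / p = p ^ (k - 1) by
        obtain ⟨k', rfl⟩ := Nat.exists_eq_succ_of_ne_zero hk0
        rw [pow_succ, Nat.mul_div_cancel _ hp.out.pos]; simp]
      exact pow_dvd_pow p (by omega)
    rw [← map_pow, ← hf₀, hitF n _ hyF, ← orderOf_dvd_iff_pow_eq_one, hf₀o] at h1
    exact hp.out.ne_one (Nat.eq_one_of_dvd_coprimes (hcop.pow_left n) h1 dvd_rfl)

/-- Two commuting automorphisms of order dividing `r` cannot generate a fixed point free group of order `r ^ 2`. -/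
theorem no_free_pair {r : ℕ} [hr : Fact r.Prime] {φ β : MulAut W} (hc : Commute φ β) (hφ : φ ^ r = 1)
    (hβ : β ^ r = 1) (hβf : ∀ v, β v = v → v = 1) (hf : ∀ i : ℕ, ∀ v, (φ * β ^ i) v = v → v = 1) (v : W) :
    v ^ r = 1 := by
  have key : ∀ s : MulAut W, s ^ r = 1 → (∀ w, s w = w → w = 1) → ∀ w, ∏ j ∈ Finset.range r, (s ^ j) w = 1 := by
    intro s hs hsf w
    refine hsf _ ?_
    rw [map_prod]
    have h1 : ∀ j, s ((s ^ j) w) = (s ^ (j + 1)) w := fun j => by rw [pow_succ']; rfl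
    simp only [h1]
    obtain ⟨r', hr'⟩ := Nat.exists_eq_succ_of_ne_zero hr.out.ne_zero
    rw [hr', Finset.prod_range_succ, Finset.prod_range_succ' (fun j => (s ^ j) w)]
    show _ * (s ^ (r'.succ)) w = _
    rw [← hr', hs, pow_zero]
  have hi : ∀ i : ℕ, (φ * β ^ i) ^ r = 1 := fun i => by
    rw [(hc.pow_right i).mul_pow, hφ, ← pow_mul, mul_comm, pow_mul, hβ, one_pow, one_mul]
  have h0 : ∏ i : ZMod r, ∏ j ∈ Finset.range r, ((φ * β ^ i.val) ^ j) v = 1 :=
    Finset.prod_eq_one fun i _ => key _ (hi _) (hf _) v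
  rw [Finset.prod_comm] at h0
  have h1 : ∀ j ∈ Finset.range r, ∏ i : ZMod r, ((φ * β ^ i.val) ^ j) v = if j = 0 then v ^ r else 1 := by
    intro j hj
    split_ifs with h
    · subst h
      simp [Finset.card_univ, ZMod.card]
    have hj0 : (j : ZMod r) ≠ 0 := by
      rw [Ne, ZMod.natCast_eq_zero_iff]
      exact fun hd => h (Nat.eq_zero_of_dvd_of_lt hd (Finset.mem_range.mp hj))
    have h2 : ∀ i : ZMod r, ((φ * β ^ i.val) ^ j) v = (φ ^ j) ((β ^ (i * (j : ZMod r)).val) v) := fun i => by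
      rw [(hc.pow_right _).mul_pow, ← pow_mul, MulAut.mul_apply]
      congr 2
      rw [pow_eq_pow_mod (i.val * j) hβ, ZMod.val_mul, ZMod.val_natCast, Nat.mul_mod_mod]
    simp only [h2]
    rw [← map_prod, show ∏ i : ZMod r, (β ^ (i * (j : ZMod r)).val) v = ∏ m : ZMod r, (β ^ m.val) v from
      Fintype.prod_equiv (Equiv.mulRight₀ (j : ZMod r) hj0) _ _ fun i => rfl]
    have h3 : ∏ m : ZMod r, (β ^ m.val) v = ∏ m ∈ Finset.range r, (β ^ m) v :=
      Finset.prod_bij (fun m _ => m.val) (fun m _ => Finset.mem_range.mpr (ZMod.val_lt m))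
        (fun a _ b _ e => ZMod.val_injective r e)
        (fun m hm => ⟨(m : ZMod r), Finset.mem_univ _, ZMod.val_natCast_of_lt (Finset.mem_range.mp hm)⟩)
        fun m _ => rfl
    rw [h3, key β hβ hβf, map_one]
  rw [Finset.prod_congr rfl h1, Finset.prod_ite_eq' (Finset.range r) 0] at h0
  simpa [hr.out.pos] using h0

end CfsgLib.OddOrder.InvariantCyclic
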