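import Cfsg.Agent.Lib.OddOrder.CyclicFix
import Cfsg.Agent.Lib.OddOrder.InvariantCyclic
import Mathlib

set_option autoImplicit false
set_option linter.style.haveILetI false
set_option linter.unusedSectionVars false

/-!
Invariant lines with no fixed points on `M_σ`, when the elements of prime order of `H` are fixed point free.
-/

namespace CfsgLib.OddOrder.InvariantLine

open scoped commutatorElement
open A2Transitive (MaxPlane)
open SigmaFusion (cj)
open Exceptional (Exc)

variable {G : Type*} [Group G] [Finite G] {p : ℕ} [hp : Fact p.Prime] {M E A A₀ : Subgroup G} {S : Sylow p G}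

/-- `N(A)' ≤ C(A)` when the Sylow `p`-subgroups are abelian. -/
theorem derived_le (hG : Cfsg.IsMinSimpleOddOrder G) (h : Exc p M A A₀) (hAS : A ≤ (S : Subgroup G))
    (hab : IsMulCommutative (S : Subgroup G)) :
    ⁅Subgroup.normalizer (A : Set G), Subgroup.normalizer (A : Set G)⁆ ≤ Subgroup.centralizer (A : Set G) := by
  have hA := h.maxPlane hG
  intro x hx
  set N := Subgroup.normalizer (A : Set G) with hN
  haveI : Group.IsSolvable N := hG.2.2.2 N (A2Transitive.max_ne_top hG hp.out hA.isPGroup hA.ne_bot)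
  haveI := hA.ea.1
  letI : CommGroup A := { mul_comm := fun a b => hA.ea.1.1.comm a b }
  obtain ⟨y, hy, rfl⟩ := (Subgroup.map_subtype_commutator N).ge hx
  obtain ⟨k, hk⟩ := RankTwo.exists_pow_trivial (Uniqueness.odd_of_le hG.1 N)
    (Q := A) (fun a => Subtype.ext (by simpa using hA.ea.2 a a.2)) (Or.inr hA.card) A.normalizerMonoidHom hy
  set ρ := A.normalizerMonoidHom with hρ
  have hSN : (S : Subgroup G) ≤ N :=
    (SylowCentral.sylow_le_centralizer hAS hab).trans (Subgroup.centralizer_le_normalizer _)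
  have hker : (S : Subgroup G).subgroupOf N ≤ ρ.ker := fun s hs => by
    refine MonoidHom.mem_ker.mpr (MulEquiv.ext fun a => Subtype.ext ?_)
    show (s : G) * a * (s : G)⁻¹ = a
    have e : (a : G) * (s : G) = (s : G) * a :=
      Subgroup.mem_centralizer_iff.mp (SylowCentral.sylow_le_centralizer hAS hab hs) a a.2
    rw [← e]
    group
  have hidx : ¬ p ∣ ρ.ker.index := fun hd => (S.subtype hSN).not_dvd_index
    (hd.trans (Subgroup.index_dvd_of_le (by rw [Sylow.coe_subtype]; exact hker)))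
  have hy1 : ρ y = 1 := by
    refine orderOf_eq_one_iff.mp (Nat.eq_one_of_dvd_coprimes
      (Nat.Coprime.pow_right k (hp.out.coprime_iff_not_dvd.mpr hidx).symm) ?_
      (orderOf_dvd_of_pow_eq_one (by rw [← map_pow, hk])))
    rw [Subgroup.index_ker]
    exact (Subgroup.orderOf_dvd_natCard ρ.range ⟨y, rfl⟩)
  refine Subgroup.mem_centralizer_iff.mpr fun a ha => ?_
  have h0 : ((ρ y ⟨a, ha⟩ : A) : G) = a := by rw [hy1]; rfl
  have h1 : (y : G) * a * (y : G)⁻¹ = a := h0
  calc a * (y : G) = ((y : G) * a * (y : G)⁻¹) * y := by rw [h1]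
    _ = (y : G) * a := by group

theorem not_le_centralizer_line (hA : MaxPlane p A) {B : Subgroup G} (hB : B ≤ A) (hB1 : B ≠ ⊥) (hBA : B ≠ A) :
    Nat.card B = p := by
  obtain ⟨k, hk, hk'⟩ := (Nat.dvd_prime_pow hp.out).mp (hA.card ▸ Subgroup.card_dvd_of_le hB)
  have hk0 : k ≠ 0 := fun e => hB1 (Subgroup.eq_bot_of_card_eq _ (by rw [hk', e, pow_zero]))
  have hk2 : k ≠ 2 := fun e => hBA (Subgroup.eq_of_le_of_card_ge hB (by rw [hA.card, hk', e]))
  rw [hk', show k = 1 by omega, pow_one]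

/-- An `r`-element of the complement fixes a line of `A`. -/
theorem exists_fixed_line {r : ℕ} [hr : Fact r.Prime] (hG : Cfsg.IsMinSimpleOddOrder G) (h : Exc p M A A₀)
    (hAS : A ≤ (S : Subgroup G)) (hab : IsMulCommutative (S : Subgroup G))
    (hr1 : Cfsg.PRankLE r 1 M) (hrp : r ≠ p) {t : G} (htM : t ∈ M)
    (htA : t ∈ Subgroup.normalizer (A : Set G)) (htC : t ∉ Subgroup.centralizer (A : Set G))
    (ht : ∃ k, orderOf t = r ^ k)
    (hfix : Cfsg.sigmaCore M ⊓ Subgroup.centralizer ({t ^ (orderOf t / r)} : Set G) = ⊥) :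
    ∃ B : Subgroup G, B ≤ A ∧ Nat.card B = p ∧ t ∈ Subgroup.normalizer (B : Set G) := by
  have hA := h.maxPlane hG
  obtain ⟨k, hk⟩ := ht
  have hk0 : k ≠ 0 := fun e => htC (by
    rw [e, pow_zero, orderOf_eq_one_iff] at hk
    rw [hk]; exact one_mem _)
  set y := t ^ (orderOf t / r) with hy
  have hyo : orderOf y = r := orderOf_pow_orderOf_div (orderOf_pos t).ne' (hk ▸ dvd_pow_self r hk0)
  have hyA : y ∈ Subgroup.normalizer (A : Set G) := pow_mem htA _
  have hty : Commute t y := Commute.self_pow t _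
  -- `y` has fixed points on `A`
  have hB1 : A ⊓ Subgroup.centralizer ({y} : Set G) ≠ ⊥ := by
    intro hbot
    have hle := FPFTools.centralizes_of_fpf hr.out (h.sigma_nilpotent hG) (show y ^ r = 1 by rw [← hyo, pow_orderOf_eq_one])
      (SigmaTools.le_normalizer_sigmaCore M (pow_mem htM _)) (h.le.trans (SigmaTools.le_normalizer_sigmaCore M))
      hyA hbot hfix h.coprime.symm (by
        haveI : Fact r.Prime := hr
        refine SigmaTools.coprime_sigmaCore fun hrs => ?_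
        have hyσ := SigmaTools.pGroup_le_sigmaCore hG h.coatom hrs (Subgroup.zpowers_le.mpr (pow_mem htM _))
          (IsPGroup.of_card (n := 1) (by rw [Nat.card_zpowers, hyo, pow_one]))
        have hmem : y ∈ Cfsg.sigmaCore M ⊓ Subgroup.centralizer ({y} : Set G) :=
          ⟨hyσ (Subgroup.mem_zpowers y), Subgroup.mem_centralizer_singleton_iff.mpr rfl⟩
        rw [hfix, Subgroup.mem_bot] at hmem
        exact hr.out.ne_one (by rw [← hyo, hmem, orderOf_one]))
    refine SigmaCore.sigmaCore_ne_bot hG h.coatom ?_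
    rw [← h.centralizer_sigma hG, left_eq_inf]
    exact Subgroup.le_centralizer_iff.mp hle
  by_cases hyC : y ∈ Subgroup.centralizer (A : Set G)
  swap
  · refine ⟨_, inf_le_left, not_le_centralizer_line hA inf_le_left hB1 fun e => hyC ?_,
      Subgroup.inf_normalizer_le_normalizer_inf ⟨htA, Subgroup.le_normalizer (Subgroup.mem_centralizer_singleton_iff.mpr hty.eq)⟩⟩
    exact Subgroup.mem_centralizer_iff.mpr fun a ha => Subgroup.mem_centralizer_singleton_iff.mp (e.ge ha).2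
  by_contra hnone
  push Not at hnone
  -- a maximal subgroup over `N(A)`
  obtain ⟨L, hL, hNL⟩ := Uniqueness.exists_coatom_normalizer (p := p) hG.2 hA.ne_bot hA.isPGroup
  have hpL : p ∈ Cfsg.sigma L :=
    SigmaTools.mem_sigma_of_sylow (S := S) h.dvd_card ((PlaneSylow.abelian_case hG hA hAS hab).2.1.trans hNL)
  have hAL : A ≤ L := Subgroup.le_normalizer.trans hNL
  have htL : Subgroup.zpowers t ≤ L := Subgroup.zpowers_le.mpr (hNL htA)
  have hTr : IsPGroup r (Subgroup.zpowers t) := IsPGroup.of_card (n := k) (by rw [Nat.card_zpowers, hk])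
  have hTA : Subgroup.zpowers t ≤ Subgroup.normalizer (A : Set G) := Subgroup.zpowers_le.mpr htA
  by_cases hrL : r ∈ Cfsg.sigma L
  · exact htC (CyclicFix.centralizes_of_not_beta hG hL hrp.symm (fun e => A2Centralize.not_ideal hA e.2)
      hA.isPGroup hTr ((SigmaTools.pGroup_le_sigmaCore hG hL hpL hAL hA.isPGroup).trans (SigmaCore.le_derived hG hL))
      ((SigmaTools.pGroup_le_sigmaCore hG hL hrL htL hTr).trans (SigmaCore.le_derived hG hL)) hTA
      (Subgroup.mem_zpowers t))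
  by_cases hrL1 : Cfsg.PRankLE r 1 L
  · refine htC (Subgroup.le_centralizer_iff.mp (CyclicFix.centralizes hG hL hrL hrL1 hpL hA.isPGroup hAL hTr
      htL hTA (Subgroup.npow_mem_zpowers t _) hyo fun a ha => ?_) (Subgroup.mem_zpowers t))
    exact Subgroup.mem_centralizer_singleton_iff.mpr (Subgroup.mem_centralizer_iff.mp hyC a ha)
  -- `L` is exceptional for `r`, so `L = N(A)`
  have hrL2 : Cfsg.PRankLE r 2 L := by
    by_contra hcon
    exact hrL (SigmaBasics.mem_sigma_of_alpha hG hL ⟨hr.out, hcon⟩)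
  obtain ⟨D, hDL, hDe, hD2⟩ := UniqueTools.exists_isEA_of_not_rankLE hrL1
  have hDc : Nat.card D = r ^ 2 := le_antisymm (RankTwo.card_le_sq hrL2 hDe hDL) hD2
  obtain ⟨D₀, hD⟩ := TauTwoStructure.exists_exc hG hL hrL hDL hDe hDc
  have hSL : (S : Subgroup G) ≤ L := Subgroup.le_normalizer.trans
    ((PlaneSylow.abelian_case hG hA hAS hab).2.1.trans hNL)
  haveI := hD.sigma_nilpotent hG
  have hLA : L ≤ Subgroup.normalizer (A : Set G) :=
    (PlaneMaximal.normalizer_sylow_eq hG hL hpL S hSL).ge.trans (PlaneSylow.abelian_case hG hA hAS hab).2.1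
  -- a plane of `L` commuting with `t`
  obtain ⟨T, hT⟩ := (hTr.of_equiv (Subgroup.subgroupOfEquivOfLe htL).symm).exists_le_sylow
  obtain ⟨hTab, -⟩ := (Cfsg.Agent.S1417.result hG L hL r ⟨hr.out, hrL, hrL2, hrL1⟩ D ⟨hDL, hDe, hDc⟩).2.1 T
  obtain ⟨D', hD'T, hD'e, hD'2⟩ := UniqueTools.exists_isEA_of_not_rankLE
    (fun h' => hrL1 (SigmaFusion.pRankLE_of_sylow T h'))
  have htT : (⟨t, htL (Subgroup.mem_zpowers t)⟩ : L) ∈ (T : Subgroup L) := hT (Subgroup.mem_zpowers t)
  obtain ⟨b, hbT, hbr, hbM⟩ : ∃ b : L, b ∈ (T : Subgroup L) ∧ b ^ r = 1 ∧ (b : G) ∉ M := by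
    by_contra hcon
    push Not at hcon
    refine UniqueTools.not_pRankLE_of_isEA (Fusion.Thompson.isEA_map L.subtype hD'e)
      (by rw [Subgroup.card_map_of_injective L.subtype_injective]; exact hD'2) ?_ hr1
    rintro _ ⟨b, hb, rfl⟩
    exact hcon b (hD'T hb) (hD'e.2 b hb)
  have hbA : (b : G) ∈ Subgroup.normalizer (A : Set G) := hLA b.2
  have htb : Commute t (b : G) :=
    congrArg Subtype.val (PlaneSylow.comm_of hTab (a := ⟨t, htL (Subgroup.mem_zpowers t)⟩) htT hbT).eq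
  have hbr' : (b : G) ^ r = 1 := by simpa using congrArg Subtype.val hbr
  -- subgroups of `A` invariant under `t`
  have hinv : ∀ c : G, Commute t c → A ⊓ Subgroup.centralizer ({c} : Set G) = ⊥ ∨
      c ∈ Subgroup.centralizer (A : Set G) := by
    intro c hc
    by_contra hcon
    push Not at hcon
    refine hnone _ inf_le_left (not_le_centralizer_line hA inf_le_left hcon.1 fun e => hcon.2 ?_)
      (Subgroup.inf_normalizer_le_normalizer_inf ⟨htA,
        Subgroup.le_normalizer (Subgroup.mem_centralizer_singleton_iff.mpr hc.eq)⟩)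
    exact Subgroup.mem_centralizer_iff.mpr fun a ha => Subgroup.mem_centralizer_singleton_iff.mp (e.ge ha).2
  -- the last power of `t` outside `C(A)`
  obtain ⟨t', ht'C, ht'r, ht't, ht'M⟩ : ∃ t' : G, t' ∉ Subgroup.centralizer (A : Set G) ∧
      t' ^ r ∈ Subgroup.centralizer (A : Set G) ∧ t' ∈ Subgroup.zpowers t ∧ t' ∈ M := by
    classical
    have hex : ∃ j, t ^ r ^ j ∈ Subgroup.centralizer (A : Set G) := ⟨k, by rw [← hk, pow_orderOf_eq_one]; exact one_mem _⟩
    obtain ⟨j, hj⟩ : ∃ j, Nat.find hex = j + 1 := Nat.exists_eq_succ_of_ne_zero fun e => by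
      have := Nat.find_spec hex
      rw [e, pow_zero, pow_one] at this
      exact htC this
    refine ⟨t ^ r ^ j, Nat.find_min hex (by omega), ?_, Subgroup.npow_mem_zpowers t _, pow_mem htM _⟩
    have := Nat.find_spec hex
    rwa [hj, pow_succ, pow_mul] at this
  have ht'c : Commute t t' := by
    obtain ⟨i, rfl⟩ := Subgroup.mem_zpowers_iff.mp ht't
    exact Commute.self_zpow t i
  have ht'b : Commute t' (b : G) := by
    obtain ⟨i, rfl⟩ := Subgroup.mem_zpowers_iff.mp ht't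
    exact htb.zpow_left i
  haveI := hA.ea.1
  letI : CommGroup A := { mul_comm := fun a b => hA.ea.1.1.comm a b }
  set N := Subgroup.normalizer (A : Set G) with hN
  have ht'N : t' ∈ N := (Subgroup.zpowers_le.mpr htA) ht't
  let nt : N := ⟨t', ht'N⟩
  let nb : N := ⟨b, hbA⟩
  have hρ : ∀ (g : N) (a : A), A.normalizerMonoidHom g a = a → (a : G) ∈ Subgroup.centralizer ({(g : G)} : Set G) := by
    intro g a e
    have e' : (g : G) * a * (g : G)⁻¹ = a := congrArg Subtype.val e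
    refine Subgroup.mem_centralizer_singleton_iff.mpr ?_
    calc (a : G) * g = ((g : G) * a * (g : G)⁻¹) * g := by rw [e']
      _ = (g : G) * a := by group
  have hone : ∀ g : N, (g : G) ∈ Subgroup.centralizer (A : Set G) → A.normalizerMonoidHom g = 1 := fun g hg =>
    MulEquiv.ext fun a => Subtype.ext (by
      show (g : G) * a * (g : G)⁻¹ = a
      rw [← Subgroup.mem_centralizer_iff.mp hg a a.2]; group)
  have hfree : ∀ g : N, Commute t (g : G) → (g : G) ∉ Subgroup.centralizer (A : Set G) →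
      ∀ a : A, A.normalizerMonoidHom g a = a → a = 1 := fun g hg hgC a ha => by
    have hmem : (a : G) ∈ A ⊓ Subgroup.centralizer ({(g : G)} : Set G) := ⟨a.2, hρ g a ha⟩
    rw [(hinv _ hg).resolve_right hgC, Subgroup.mem_bot] at hmem
    exact Subtype.ext hmem
  obtain ⟨a, ha, ha1⟩ := A.bot_or_exists_ne_one.resolve_left hA.ne_bot
  have hv := InvariantCyclic.no_free_pair (r := r) (φ := A.normalizerMonoidHom nt) (β := A.normalizerMonoidHom nb)
    ((show Commute nt nb from Subtype.ext ht'b.eq).map _)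
    (by rw [← map_pow]; exact hone _ (by simpa [nt] using ht'r))
    (by rw [← map_pow, show nb ^ r = 1 from Subtype.ext (by simpa [nb] using hbr'), map_one])
    (hfree nb htb fun e => hbM (h.centralizer_le e))
    (fun i v hv => by
      rw [← map_pow, ← map_mul] at hv
      refine hfree (nt * nb ^ i) (ht'c.mul_right (htb.pow_right i)) (fun e => ?_) v hv
      have hbi : (b : G) ^ i ∈ M := by
        have := mul_mem (inv_mem ht'M) (h.centralizer_le e)
        simpa [nt, nb] using this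
      rcases em (r ∣ i) with hd | hd
      · obtain ⟨c, rfl⟩ := hd
        simp [nt, nb, pow_mul, hbr'] at e
        exact ht'C e
      · refine hbM ?_
        obtain ⟨c, hc⟩ := Int.natCast_dvd_natCast.not.mpr hd |> fun hd' =>
          (Nat.prime_iff_prime_int.mp hr.out).coprime_iff_not_dvd.mpr hd'
        obtain ⟨d, hd'⟩ := hc
        rw [show (b : G) = ((b : G) ^ r) ^ c * ((b : G) ^ i) ^ d by
          rw [← zpow_natCast, ← zpow_natCast (b : G) i, ← zpow_mul, ← zpow_mul, ← zpow_add, mul_comm (r : ℤ),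
            mul_comm (i : ℤ), hd', zpow_one], hbr', one_zpow, one_mul]
        exact zpow_mem hbi d)
    ⟨a, ha⟩
  have hap : a ^ p = 1 := hA.ea.2 a ha
  have har : a ^ r = 1 := congrArg Subtype.val hv
  exact ha1 (orderOf_eq_one_iff.mp (Nat.eq_one_of_dvd_coprimes ((Nat.coprime_primes hr.out hp.out).mpr hrp)
    (orderOf_dvd_of_pow_eq_one har) (orderOf_dvd_of_pow_eq_one hap)))

theorem mem_normalizer_of_closed {B : Subgroup G} {h : G} (hsq : h ^ 2 ∈ Subgroup.normalizer (B : Set G))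
    (hodd : Odd (orderOf h)) : h ∈ Subgroup.normalizer (B : Set G) := by
  obtain ⟨j, hj⟩ := hodd
  have h4 : h * (h ^ 2) ^ j = 1 := by rw [← pow_mul, ← pow_succ', ← hj, pow_orderOf_eq_one]
  rw [eq_inv_of_mul_eq_one_left h4]
  exact inv_mem (pow_mem hsq j)

/-- Three fixed lines make every subgroup of the plane invariant. -/
theorem normalizes_all (hA : MaxPlane p A) {B₁ B₂ B₃ : Subgroup G} (h1 : B₁ ≤ A) (h1c : Nat.card B₁ = p)
    (h2 : B₂ ≤ A) (h2c : Nat.card B₂ = p) (h3 : B₃ ≤ A) (h3c : Nat.card B₃ = p) (h12 : B₁ ≠ B₂) (h31 : B₃ ≠ B₁)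
    (h32 : B₃ ≠ B₂) {t : G} (ht1 : t ∈ Subgroup.normalizer (B₁ : Set G)) (ht2 : t ∈ Subgroup.normalizer (B₂ : Set G))
    (ht3 : t ∈ Subgroup.normalizer (B₃ : Set G)) {B : Subgroup G} (hB : B ≤ A) :
    t ∈ Subgroup.normalizer (B : Set G) := by
  obtain ⟨c, hc, hc1⟩ := B₃.bot_or_exists_ne_one.resolve_left fun (e : B₃ = ⊥) => hp.out.ne_one (by
    rw [← h3c, e, Subgroup.card_bot])
  have hsup := FPFTools.sup_lines hA h1 h1c h2 h2c h12
  have hcom : ∀ {x y : G}, x ∈ A → y ∈ A → Commute x y := fun hx hy => PlaneSylow.comm_of hA.ea.1 hx hy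
  have hB2N : B₂ ≤ Subgroup.normalizer (B₁ : Set G) := fun x hx => Subgroup.centralizer_le_normalizer _
    (Subgroup.mem_centralizer_iff.mpr fun y hy => (hcom (h1 hy) (h2 hx)).eq)
  have hdisj : B₁ ⊓ B₂ = ⊥ := by
    by_contra hne
    have h' := not_le_centralizer_line hA (inf_le_left.trans h1) hne fun e => by
      have := Subgroup.card_le_of_le (e.ge.trans inf_le_left)
      rw [hA.card, h1c] at this
      exact absurd this (not_le.mpr (by nth_rw 1 [← pow_one p]; exact Nat.pow_lt_pow_right hp.out.one_lt one_lt_two))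
    exact h12 ((Subgroup.eq_of_le_of_card_ge inf_le_left (by rw [h', h1c])).symm.trans
      (Subgroup.eq_of_le_of_card_ge inf_le_right (by rw [h', h2c])))
  obtain ⟨u, hu, v, hv, huv⟩ := (Coprime.mem_sup_of_le_normalizer hB2N).mp (hsup.ge (h3 hc))
  obtain ⟨hcz, -⟩ := FPFTools.line_eq_zpowers h3c hc hc1
  have hu1 : u ≠ 1 := fun e => by
    rw [e, one_mul] at huv
    exact h32 (hcz.symm.trans (FPFTools.line_eq_zpowers h2c (huv ▸ hv) hc1).1)
  have hv1 : v ≠ 1 := fun e => by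
    rw [e, mul_one] at huv
    exact h31 (hcz.symm.trans (FPFTools.line_eq_zpowers h1c (huv ▸ hu) hc1).1)
  obtain ⟨k, hk⟩ := Subgroup.mem_zpowers_iff.mp (hcz.ge ((Subgroup.mem_normalizer_iff.mp ht3 c).mp hc))
  have key : t * u * t⁻¹ = u ^ k ∧ t * v * t⁻¹ = v ^ k := by
    have he : (t * u * t⁻¹) * (t * v * t⁻¹) = u ^ k * v ^ k := by
      rw [show (t * u * t⁻¹) * (t * v * t⁻¹) = t * (u * v) * t⁻¹ by group, huv, ← hk, ← huv,
        (hcom (h1 hu) (h2 hv)).mul_zpow]
    have hmem : (u ^ k)⁻¹ * (t * u * t⁻¹) ∈ B₁ ⊓ B₂ := by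
      refine ⟨B₁.mul_mem (B₁.inv_mem (B₁.zpow_mem hu k)) ((Subgroup.mem_normalizer_iff.mp ht1 u).mp hu), ?_⟩
      rw [show (u ^ k)⁻¹ * (t * u * t⁻¹) = v ^ k * (t * v * t⁻¹)⁻¹ by
        rw [inv_mul_eq_iff_eq_mul, ← mul_assoc, eq_mul_inv_iff_mul_eq, he]]
      exact B₂.mul_mem (B₂.zpow_mem hv k) (B₂.inv_mem ((Subgroup.mem_normalizer_iff.mp ht2 v).mp hv))
    rw [hdisj, Subgroup.mem_bot, inv_mul_eq_one] at hmem
    refine ⟨hmem.symm, ?_⟩
    rw [← hmem] at he
    exact mul_left_cancel he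
  refine NormalizerFusion.mem_normalizer_of_conj fun a ha => ?_
  obtain ⟨x, hx, y, hy, rfl⟩ := (Coprime.mem_sup_of_le_normalizer hB2N).mp (hsup.ge (hB ha))
  obtain ⟨i, rfl⟩ := Subgroup.mem_zpowers_iff.mp ((FPFTools.line_eq_zpowers h1c hu hu1).1.ge hx)
  obtain ⟨j, rfl⟩ := Subgroup.mem_zpowers_iff.mp ((FPFTools.line_eq_zpowers h2c hv hv1).1.ge hy)
  have hta : t * (u ^ i * v ^ j) * t⁻¹ = (u ^ i * v ^ j) ^ k := by
    have h5 : t * (u ^ i * v ^ j) * t⁻¹ = (t * u * t⁻¹) ^ i * (t * v * t⁻¹) ^ j := by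
      rw [conj_zpow, conj_zpow]; group
    rw [h5, key.1, key.2, (hcom (A.zpow_mem (h1 hu) i) (A.zpow_mem (h2 hv) j)).mul_zpow, ← zpow_mul, ← zpow_mul,
      ← zpow_mul, ← zpow_mul, mul_comm k, mul_comm k]
  rw [hta]
  exact B.zpow_mem ha k

/-- `H` fixes a line of `A`. -/
theorem exists_invariant_line {H : Subgroup G} (hG : Cfsg.IsMinSimpleOddOrder G) (h : Exc p M A A₀)
    (hAS : A ≤ (S : Subgroup G)) (hab : IsMulCommutative (S : Subgroup G)) (hHM : H ≤ M)
    (hHA : H ≤ Subgroup.normalizer (A : Set G))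
    (hH : ∀ r : ℕ, r.Prime → r ∣ Nat.card H → Cfsg.PRankLE r 1 M ∧ r ≠ p)
    (hfix : ∀ z ∈ H, (orderOf z).Prime → Cfsg.sigmaCore M ⊓ Subgroup.centralizer ({z} : Set G) = ⊥) :
    ∃ B : Subgroup G, B ≤ A ∧ Nat.card B = p ∧ H ≤ Subgroup.normalizer (B : Set G) := by
  have hA := h.maxPlane hG
  by_cases hall : ∀ t ∈ H, (∃ r k : ℕ, r.Prime ∧ orderOf t = r ^ k) →
      ∀ B : Subgroup G, B ≤ A → Nat.card B = p → t ∈ Subgroup.normalizer (B : Set G)
  · obtain ⟨a, ha, ha1⟩ := A.bot_or_exists_ne_one.resolve_left hA.ne_bot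
    set B := Subgroup.zpowers a with hB
    have hBA : B ≤ A := Subgroup.zpowers_le.mpr ha
    have hBc : Nat.card B = p := by rw [hB, Nat.card_zpowers, orderOf_eq_prime (hA.ea.2 a ha) ha1]
    refine ⟨B, hBA, hBc, ?_⟩
    have htop : (Subgroup.normalizer (B : Set G)).subgroupOf H = ⊤ := by
      refine Solvable.Cores.eq_top_of_sylow_le _ fun r hr => ?_
      haveI := Fact.mk hr
      obtain ⟨T⟩ : Nonempty (Sylow r H) := inferInstance
      refine ⟨T, fun z hz => ?_⟩
      obtain ⟨k, hk⟩ := IsPGroup.iff_orderOf.mp T.isPGroup' ⟨z, hz⟩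
      rw [Subgroup.orderOf_mk] at hk
      exact hall z z.2 ⟨r, k, hr, by rw [Subgroup.orderOf_coe, hk]⟩ B hBA hBc
    intro x hx
    exact (htop.ge (Subgroup.mem_top (⟨x, hx⟩ : H)) :)
  push Not at hall
  obtain ⟨t, htH, ⟨r, k, hr, hk⟩, B₄, hB₄, hB₄c, htB₄⟩ := hall
  haveI := Fact.mk hr
  have htC : t ∉ Subgroup.centralizer (A : Set G) := fun e => htB₄ (Subgroup.centralizer_le_normalizer _
    (Subgroup.centralizer_le (SetLike.coe_subset_coe.mpr hB₄) e))
  have hk0 : k ≠ 0 := fun e => htC (by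
    rw [e, pow_zero, orderOf_eq_one_iff] at hk
    rw [hk]; exact one_mem _)
  have hrd : r ∣ orderOf t := hk ▸ dvd_pow_self r hk0
  obtain ⟨hr1, hrp⟩ := hH r hr (hrd.trans (Subgroup.orderOf_dvd_natCard H htH))
  obtain ⟨B, hBA, hBc, htB⟩ := exists_fixed_line hG h hAS hab hr1 hrp (hHM htH) (hHA htH) htC ⟨k, hk⟩
    (hfix _ (pow_mem htH _) (by rw [orderOf_pow_orderOf_div (orderOf_pos t).ne' hrd]; exact hr))
  refine ⟨B, hBA, hBc, fun x hx => mem_normalizer_of_closed ?_ (hG.1.of_dvd_nat (orderOf_dvd_natCard x))⟩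
  have hxA := hHA hx
  have himg : ∀ g ∈ Subgroup.normalizer (A : Set G), ∀ B' : Subgroup G, B' ≤ A → t ∈ Subgroup.normalizer (B' : Set G) →
      cj g B' ≤ A ∧ t ∈ Subgroup.normalizer ((cj g B' : Subgroup G) : Set G) := by
    intro g hg B' hB' htB'
    refine ⟨(Subgroup.map_mono hB').trans (Subgroup.mem_normalizer_iff_map_conj_eq.mp hg).le, ?_⟩
    have hc : g⁻¹ * t * g * t⁻¹ ∈ Subgroup.centralizer (A : Set G) := by
      refine derived_le hG h hAS hab ?_
      have := Subgroup.commutator_mem_commutator (inv_mem hg) (hHA htH)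
      simpa [commutatorElement_def] using this
    rw [← SigmaTools.cj_normalizer]
    refine SigmaTools.mem_cj.mpr ?_
    rw [show g⁻¹ * t * g = (g⁻¹ * t * g * t⁻¹) * t by group]
    exact mul_mem (Subgroup.centralizer_le_normalizer _ (Subgroup.centralizer_le (SetLike.coe_subset_coe.mpr hB') hc)) htB'
  obtain ⟨h1, ht1⟩ := himg x hxA B hBA htB
  obtain ⟨h2, ht2⟩ := himg (x ^ 2) (pow_mem hxA 2) B hBA htB
  have hcard : ∀ g : G, Nat.card ↥(cj g B) = p := fun g => by
    rw [Subgroup.card_map_of_injective (MulAut.conj g).injective, hBc]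
  refine Subgroup.mem_normalizer_iff_map_conj_eq.mpr ?_
  show cj (x ^ 2) B = B
  by_cases e1 : cj x B = B
  · rw [sq, ← SigmaFusion.cj_cj, e1, e1]
  by_contra e2
  refine htB₄ (normalizes_all hA hBA hBc h1 (hcard x) h2 (hcard _) (Ne.symm e1) e2 (fun e3 => e1 ?_) htB ht1 ht2 hB₄)
  rw [sq, ← SigmaFusion.cj_cj] at e3
  exact Subgroup.map_injective (MulAut.conj x).injective e3

/-- A line of `A` invariant under `H` with no fixed points on `M_σ`. -/
theorem exists_free_line {H : Subgroup G} (hG : Cfsg.IsMinSimpleOddOrder G) (h : Exc p M A A₀)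
    (hAS : A ≤ (S : Subgroup G)) (hab : IsMulCommutative (S : Subgroup G)) (hHM : H ≤ M)
    (hHA : H ≤ Subgroup.normalizer (A : Set G))
    (hH : ∀ r : ℕ, r.Prime → r ∣ Nat.card H → Cfsg.PRankLE r 1 M ∧ r ≠ p)
    (hfix : ∀ z ∈ H, (orderOf z).Prime → Cfsg.sigmaCore M ⊓ Subgroup.centralizer ({z} : Set G) = ⊥) :
    ∃ B : Subgroup G, B ≤ A ∧ Nat.card B = p ∧ H ≤ Subgroup.normalizer (B : Set G) ∧
      Cfsg.sigmaCore M ⊓ Subgroup.centralizer (B : Set G) = ⊥ := by
  obtain ⟨B, hBA, hBc, hHB⟩ := exists_invariant_line hG h hAS hab hHM hHA hH hfix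
  by_cases hfree : Cfsg.sigmaCore M ⊓ Subgroup.centralizer (B : Set G) = ⊥
  · exact ⟨B, hBA, hBc, hHB, hfree⟩
  have hM := h.coatom
  have huniq : ∀ F : Subgroup G, F ≤ A → Cfsg.sigmaCore M ⊓ Subgroup.centralizer (F : Set G) ≠ ⊥ →
      ∀ L : Subgroup G, IsCoatom L → Subgroup.centralizer (F : Set G) ≤ L → L = M := by
    intro F hF hne L hL hCL
    by_contra hLM
    refine hne (le_bot_iff.mp ((inf_le_inf_left _ hCL).trans (TauTwoStructure.inter_eq_bot hG h hL hLM
      (fun a ha => hCL (Subgroup.mem_centralizer_iff.mpr fun b hb =>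
        (PlaneSylow.comm_of h.ea.1 (hF hb) ha).eq))).le))
  obtain ⟨g, hg, hgM⟩ := h.exists_g hG
  have hFA : cj g B ≤ A := (Subgroup.map_mono hBA).trans (Subgroup.mem_normalizer_iff_map_conj_eq.mp hg).le
  refine ⟨cj g B, hFA, by rw [Subgroup.card_map_of_injective (MulAut.conj g).injective, hBc], fun x hx => ?_, ?_⟩
  · rw [← SigmaTools.cj_normalizer]
    refine SigmaTools.mem_cj.mpr ?_
    have hc : g⁻¹ * x * g * x⁻¹ ∈ Subgroup.centralizer (A : Set G) := by
      refine derived_le hG h hAS hab ?_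
      have := Subgroup.commutator_mem_commutator (inv_mem hg) (hHA hx)
      simpa [commutatorElement_def] using this
    rw [show g⁻¹ * x * g = (g⁻¹ * x * g * x⁻¹) * x by group]
    exact mul_mem (Subgroup.centralizer_le_normalizer _ (Subgroup.centralizer_le (SetLike.coe_subset_coe.mpr hBA) hc)) (hHB hx)
  by_contra hne
  have htop : Subgroup.centralizer ((cj g B : Subgroup G) : Set G) ≠ ⊤ := fun e => by
    refine A2Transitive.max_ne_top hG hp.out (D := cj g B) ((h.maxPlane hG).isPGroup.to_le hFA) ?_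
      (top_le_iff.mp (e.ge.trans (Subgroup.centralizer_le_normalizer _)))
    intro e'
    rw [Subgroup.map_eq_bot_iff_of_injective _ (MulAut.conj g).injective] at e'
    exact hp.out.ne_one (by rw [← hBc, e', Subgroup.card_bot])
  obtain ⟨L, hL, hCL⟩ := (eq_top_or_exists_le_coatom _).resolve_left htop
  have hle : Subgroup.centralizer (B : Set G) ≤ cj g⁻¹ M := fun c hc => by
    refine SigmaTools.mem_cj.mpr ((huniq _ hFA hne L hL hCL) ▸ hCL ?_)
    refine Subgroup.mem_centralizer_iff.mpr ?_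
    rintro _ ⟨b, hb, rfl⟩
    show g * b * g⁻¹ * (g⁻¹⁻¹ * c * g⁻¹) = g⁻¹⁻¹ * c * g⁻¹ * (g * b * g⁻¹)
    rw [inv_inv, show g * b * g⁻¹ * (g * c * g⁻¹) = g * (b * c) * g⁻¹ by group,
      Subgroup.mem_centralizer_iff.mp hc b hb]
    group
  have hgN : g⁻¹ ∈ Subgroup.normalizer (M : Set G) := Subgroup.mem_normalizer_iff_map_conj_eq.mpr
    (huniq _ hBA hfree _ (SigmaFusion.isCoatom_cj hM g⁻¹) hle)
  rw [SigmaFusion.normalizer_eq_self hG.2 hM (SigmaCore.coatom_ne_bot hG hM)] at hgN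
  exact hgM (by simpa using inv_mem hgN)

end CfsgLib.OddOrder.InvariantLine
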