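import Cfsg.Agent.Lib.OddOrder.TauTwoAbelian
import Mathlib

set_option autoImplicit false
set_option linter.style.haveILetI false
set_option linter.unusedSectionVars false

/-!
Nonabelian `p`-subgroups lie in a unique maximal subgroup.
-/

namespace CfsgLib.OddOrder.NonabelianUnique

open scoped commutatorElement
open A2Transitive (MaxPlane)
open SigmaFusion (cj)

variable {G : Type*} [Group G] [Finite G] {p : ℕ} [hp : Fact p.Prime] {M L : Subgroup G}

theorem exists_plane_le (hp2 : p ≠ 2) {P : Subgroup G} (hP : IsPGroup p P) (hnc : ¬ IsCyclic P) :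
    ∃ A : Subgroup G, A ≤ P ∧ Cfsg.IsElementaryAbelian p A ∧ Nat.card A = p ^ 2 := by
  obtain ⟨A, hAP, hAe, hA2⟩ := UniqueTools.exists_isEA_sq hp2 hP hnc
  obtain ⟨k, hk⟩ := (Fusion.Thompson.isPGroup_isEA hAe).exists_card_eq
  have hk2 : 2 ≤ k := (Nat.pow_le_pow_iff_right hp.out.one_lt).mp (hk ▸ hA2)
  obtain ⟨K, hK⟩ := Sylow.exists_subgroup_card_pow_prime (G := A) p (n := 2) (hk ▸ pow_dvd_pow p hk2)
  refine ⟨K.map A.subtype, (Subgroup.map_subtype_le _).trans hAP, ?_,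
    by rw [Subgroup.card_map_of_injective A.subtype_injective, hK]⟩
  haveI := hAe.1
  exact ⟨inferInstance, fun b hb => hAe.2 b (Subgroup.map_subtype_le _ hb)⟩

theorem centralizer_le_of_noncyclic (hG : Cfsg.IsMinSimpleOddOrder G) (hM : IsCoatom M) (hp2 : p ≠ 2)
    {P : Subgroup G} (hP : IsPGroup p P) (hnc : ¬ IsCyclic P) (hPM : P ≤ M) :
    Subgroup.centralizer (P : Set G) ≤ M := by
  obtain ⟨A, hAP, hAe, hA2⟩ := exists_plane_le hp2 hP hnc
  exact (Subgroup.centralizer_le (SetLike.coe_subset_coe.mpr hAP)).trans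
    (PlaneMaximal.centralizer_le hG hM (hAP.trans hPM) hAe hA2)

/-- A maximal subgroup over a noncyclic `σ`-subgroup is not moved. -/
theorem eq_of_conj (hG : Cfsg.IsMinSimpleOddOrder G) (hM : IsCoatom M) (hp2 : p ≠ 2) (hps : p ∈ Cfsg.sigma M)
    {P : Subgroup G} (hP : IsPGroup p P) (hnc : ¬ IsCyclic P) (hPM : P ≤ M) {x : G} (hPx : P ≤ cj x M) :
    cj x M = M := by
  have h1 : P.map (MulAut.conj x⁻¹).toMonoidHom ≤ M := by
    refine (Subgroup.map_mono hPx).trans ?_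
    show cj x⁻¹ (cj x M) ≤ M
    rw [SigmaFusion.cj_cj, inv_mul_cancel, SigmaFusion.cj_one]
  have hP1 : P ≠ ⊥ := fun e => hnc (by subst e; infer_instance)
  obtain ⟨m, hm, c, hc, e⟩ := (SigmaFusion.main hG hM hps hP hP1 hPM).1 x⁻¹ h1
  have : x ∈ M := by
    have h2 : x⁻¹ ∈ M := e ▸ mul_mem hm (centralizer_le_of_noncyclic hG hM hp2 hP hnc hPM hc)
    simpa using inv_mem h2
  exact SigmaFusion.cj_eq_self (Subgroup.le_normalizer this)

/-- `M` is the only maximal subgroup over `N(Z)`. -/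
def UZ (M Z : Subgroup G) : Prop :=
  Subgroup.normalizer (Z : Set G) ≤ M ∧ ∀ L : Subgroup G, IsCoatom L → Subgroup.normalizer (Z : Set G) ≤ L → L = M

/-- An extraspecial-like subgroup: exponent `p`, nonabelian, commutators in `Ω₁(Z(S))`. -/
theorem exists_T (hG : Cfsg.IsMinSimpleOddOrder G) {S : Sylow p G} (hr : Cfsg.PRankLE p 2 (S : Subgroup G))
    (hna : ¬ IsMulCommutative (S : Subgroup G)) :
    ∃ T : Subgroup G, T ≤ (S : Subgroup G) ∧ PlaneSylow.zLine S ≤ T ∧ ¬ IsMulCommutative T ∧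
      (∀ x ∈ T, x ^ p = 1) ∧ ⁅T, T⁆ ≤ PlaneSylow.zLine S := by
  obtain hc | ⟨P₁, P₂, hsup, hcomm, hP₁na, h3, hexp, hcyc, -⟩ := Cfsg.Agent.S1412.result hG p S hr
  · exact absurd hc hna
  set Z := PlaneSylow.zLine S with hZ
  have hP₁S : P₁ ≤ (S : Subgroup G) := hsup ▸ le_sup_left
  have hP₂S : P₂ ≤ (S : Subgroup G) := hsup ▸ le_sup_right
  have hP₁p : ∀ x ∈ P₁, x ^ p = 1 := fun x hx => by
    have := Monoid.pow_exponent_eq_one (G := P₁) ⟨x, hx⟩
    rw [hexp] at this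
    exact congrArg Subtype.val this
  have hZS : Z ≤ (S : Subgroup G) := fun x hx => (PlaneSylow.mem_zLine.mp hx).1
  have hZc : ∀ z ∈ Z, ∀ s ∈ (S : Subgroup G), Commute s z := fun z hz s hs =>
    Subgroup.mem_centralizer_iff.mp (PlaneSylow.mem_zLine.mp hz).2.1 s hs
  have hP₁Z : P₁ ≤ Subgroup.normalizer (Z : Set G) :=
    hP₁S.trans (Subgroup.le_normalizer.trans (PlaneSylow.normalizer_le_normalizer_zLine S))
  set T := Z ⊔ P₁ with hT
  have hTmem : ∀ x ∈ T, ∃ z ∈ Z, ∃ v ∈ P₁, z * v = x := fun x hx => (Coprime.mem_sup_of_le_normalizer hP₁Z).mp hx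
  -- commutators of `P₁` are central in `S`
  have hder : ⁅P₁, P₁⁆ ≤ Z := by
    refine Subgroup.commutator_le.mpr fun a ha b hb => ?_
    have hmem : ⁅a, b⁆ ∈ P₁ := Subgroup.commutator_le_self P₁ (Subgroup.commutator_mem_commutator ha hb)
    have hcen : ∀ v ∈ P₁, Commute v ⁅a, b⁆ := by
      set C := Subgroup.center P₁ with hC
      have hp₁ : IsPGroup p P₁ := IsPGroup.of_card h3
      haveI : Nontrivial P₁ := Finite.one_lt_card_iff_nontrivial.mp (h3 ▸ Nat.one_lt_pow (by norm_num) hp.out.one_lt)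
      haveI := hp₁.center_nontrivial
      obtain ⟨i, hi⟩ := (hp₁.to_subgroup C).exists_card_eq
      have hi0 : i ≠ 0 := fun e => absurd (hi.trans (by rw [e, pow_zero])) (Finite.one_lt_card (α := C)).ne'
      have hidx := Subgroup.card_mul_index C
      rw [hi, h3] at hidx
      obtain ⟨j, hj⟩ := (hp₁.to_quotient C).exists_card_eq
      rw [Subgroup.index_eq_card, hj, ← pow_add] at hidx
      have hij : i + j = 3 := Nat.pow_right_injective hp.out.two_le hidx
      have hcomm' : ∀ x y : P₁ ⧸ C, x * y = y * x := by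
        rcases (show j = 0 ∨ j = 1 ∨ j = 2 by omega) with e | e | e
        · haveI : Subsingleton (P₁ ⧸ C) := Finite.card_le_one_iff_subsingleton.mp (by rw [hj, e, pow_zero])
          exact fun x y => Subsingleton.elim _ _
        · haveI : IsCyclic (P₁ ⧸ C) := isCyclic_of_prime_card (p := p) (by rw [hj, e, pow_one])
          letI := IsCyclic.commGroup (α := P₁ ⧸ C)
          exact fun x y => mul_comm x y
        · exact IsPGroup.commutative_of_card_eq_prime_sq (by rw [hj, e])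
      intro v hv
      have hmemC : ⁅(⟨a, ha⟩ : P₁), ⟨b, hb⟩⁆ ∈ C := by
        rw [← QuotientGroup.eq_one_iff]
        show QuotientGroup.mk' C ⁅(⟨a, ha⟩ : P₁), ⟨b, hb⟩⁆ = 1
        rw [map_commutatorElement, commutatorElement_eq_one_iff_mul_comm]
        exact hcomm' _ _
      exact congrArg Subtype.val (Subgroup.mem_center_iff.mp hmemC ⟨v, hv⟩)
    refine PlaneSylow.mem_zLine.mpr ⟨hP₁S hmem, Subgroup.mem_centralizer_iff.mpr fun s hs => ?_, hP₁p _ hmem⟩
    have hle : (S : Subgroup G) ≤ Subgroup.centralizer ({⁅a, b⁆} : Set G) := by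
      rw [← hsup]
      exact sup_le (fun v hv => Subgroup.mem_centralizer_singleton_iff.mpr (hcen v hv).eq)
        (fun w hw => Subgroup.mem_centralizer_singleton_iff.mpr (hcomm _ hmem w hw).symm)
    exact Subgroup.mem_centralizer_singleton_iff.mp (hle hs)
  refine ⟨T, sup_le hZS hP₁S, le_sup_left, fun hc => hP₁na ⟨⟨fun a b => Subtype.ext
    (PlaneSylow.comm_of hc (Subgroup.mem_sup_right a.2) (Subgroup.mem_sup_right b.2)).eq⟩⟩, fun x hx => ?_, ?_⟩
  · obtain ⟨z, hz, v, hv, rfl⟩ := hTmem x hx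
    rw [Commute.mul_pow (hZc z hz v (hP₁S hv)).symm, (PlaneSylow.mem_zLine.mp hz).2.2, hP₁p v hv, one_mul]
  · refine Subgroup.commutator_le.mpr fun a ha b hb => ?_
    obtain ⟨z, hz, v, hv, rfl⟩ := hTmem a ha
    obtain ⟨z', hz', v', hv', rfl⟩ := hTmem b hb
    have hS : ∀ {x}, x ∈ P₁ → x ∈ (S : Subgroup G) := fun hx => hP₁S hx
    have e1 : Commute z (z' * v') := (hZc z hz _ (mul_mem (hZS hz') (hS hv'))).symm
    have e2 : Commute v z' := hZc z' hz' v (hS hv)
    have he : ⁅z * v, z' * v'⁆ = ⁅v, v'⁆ := by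
      have e4 : Commute (v * v' * v⁻¹ * v'⁻¹) z' := hZc z' hz' _
        (mul_mem (mul_mem (mul_mem (hS hv) (hS hv')) (inv_mem (hS hv))) (inv_mem (hS hv')))
      rw [commutatorElement_def, commutatorElement_def]
      have h5 : z * v * (z' * v') * (z * v)⁻¹ * (z' * v')⁻¹ = z * (v * (z' * v') * v⁻¹) * z⁻¹ * (z' * v')⁻¹ := by group
      rw [h5]
      have h6 : Commute z (v * (z' * v') * v⁻¹) :=
        (hZc z hz _ (mul_mem (mul_mem (hS hv) (mul_mem (hZS hz') (hS hv'))) (inv_mem (hS hv)))).symm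
      rw [h6.eq, mul_inv_cancel_right, ← mul_assoc v z', e2.eq]
      calc z' * v * v' * v⁻¹ * (z' * v')⁻¹ = z' * (v * v' * v⁻¹ * v'⁻¹) * z'⁻¹ := by group
        _ = _ := by rw [← e4.eq, mul_inv_cancel_right]
    rw [he]
    exact hder (Subgroup.commutator_mem_commutator hv hv')

/-- Uniqueness of maximal subgroups over a nonabelian Sylow subgroup of rank two. -/
theorem eq_of_sylow (hG : Cfsg.IsMinSimpleOddOrder G) (hM : IsCoatom M) (hL : IsCoatom L) {S : Sylow p G}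
    (hSM : (S : Subgroup G) ≤ M) (hSL : (S : Subgroup G) ≤ L) (hr : Cfsg.PRankLE p 2 (S : Subgroup G))
    (hna : ¬ IsMulCommutative (S : Subgroup G)) (hMn : ¬ Group.IsNilpotent (Cfsg.sigmaCore M))
    (hLn : ¬ Group.IsNilpotent (Cfsg.sigmaCore L)) : M = L := by
  obtain ⟨T, hTS, hZT, hTna, hTp, hTd⟩ := exists_T hG hr hna
  set Z := PlaneSylow.zLine S with hZ
  have hrG : Cfsg.PRankLE p 2 G := SigmaFusion.pRankLE_of_sylow S hr
  have hZc : ∀ z ∈ Z, ∀ s ∈ (S : Subgroup G), Commute s z := fun z hz s hs =>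
    Subgroup.mem_centralizer_iff.mp (PlaneSylow.mem_zLine.mp hz).2.1 s hs
  -- the plane of an element outside `Z`
  have hplane : ∀ b ∈ T, b ∉ Z → MaxPlane p (Z ⊔ Subgroup.zpowers b) ∧ Nat.card Z = p := by
    intro b hb hbZ
    have hZe : Cfsg.IsElementaryAbelian p Z := ⟨⟨⟨fun x y => Subtype.ext
      (hZc y y.2 x (PlaneSylow.mem_zLine.mp x.2).1).eq⟩⟩, fun x hx => (PlaneSylow.mem_zLine.mp hx).2.2⟩
    have hAe : Cfsg.IsElementaryAbelian p (Z ⊔ Subgroup.zpowers b) :=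
      Replacement.isEA_sup hZe (Replacement.isEA_zpowers (hTp b hb)) (Subgroup.le_centralizer_iff.mp (Subgroup.zpowers_le.mpr
        (Subgroup.mem_centralizer_iff.mpr fun z hz => (hZc z hz b (hTS hb)).eq.symm)))
    have hle : ∀ B : Subgroup G, Cfsg.IsElementaryAbelian p B → Nat.card B ≤ p ^ 2 := fun B hB => hrG B hB.1 hB.2
    obtain ⟨i, hi⟩ := (Fusion.Thompson.isPGroup_isEA hZe).exists_card_eq
    obtain ⟨j, hj⟩ := (Fusion.Thompson.isPGroup_isEA hAe).exists_card_eq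
    have hlt : Nat.card Z < Nat.card ↥(Z ⊔ Subgroup.zpowers b) := Set.ncard_lt_ncard (SetLike.coe_ssubset_coe.mpr
      (lt_of_le_of_ne le_sup_left fun e => hbZ (e.ge (Subgroup.mem_sup_right (Subgroup.mem_zpowers b)))))
    rw [hi, hj] at hlt
    have hj2 := hle _ hAe
    rw [hj] at hj2
    have h1 := (Nat.pow_lt_pow_iff_right hp.out.one_lt).mp hlt
    have h2 := (Nat.pow_le_pow_iff_right hp.out.one_lt).mp hj2
    have hi0 : i ≠ 0 := by
      intro e
      have hbot : Z = ⊥ := Subgroup.eq_bot_of_card_eq _ (by rw [hi, e, pow_zero])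
      exact hTna (Subgroup.commutator_self_eq_bot_iff.mp (le_bot_iff.mp (hTd.trans hbot.le)))
    refine ⟨⟨hAe, by rw [hj, show j = 2 by omega], fun B hB hAB => ?_⟩, by rw [hi, show i = 1 by omega, pow_one]⟩
    exact (Subgroup.eq_of_le_of_card_ge hAB ((hle B hB).trans (by rw [hj, show j = 2 by omega]))).symm
  have hdich : ∀ N : Subgroup G, IsCoatom N → (S : Subgroup G) ≤ N → ¬ Group.IsNilpotent (Cfsg.sigmaCore N) →
      UZ N Z ∨ ∀ b ∈ T, b ∉ Z → Subgroup.centralizer ({b} : Set G) ≤ N := by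
    intro N hN hSN hNn
    by_cases hUZ : UZ N Z
    · exact Or.inl hUZ
    refine Or.inr fun b hb hbZ => ?_
    obtain ⟨hA, hZc'⟩ := hplane b hb hbZ
    set A := Z ⊔ Subgroup.zpowers b with hAd
    have hAS : A ≤ (S : Subgroup G) := sup_le (hZT.trans hTS) (Subgroup.zpowers_le.mpr (hTS hb))
    have hAN : A ≤ N := hAS.trans hSN
    obtain ⟨A₀, h₀, h₀c, hN₀, huniq⟩ : ∃ A₀ : Subgroup G, A₀ ≤ A ∧ Nat.card A₀ = p ∧ UZ N A₀ := by
      by_contra hcon
      refine hNn (PlaneMaximal.sigma_nilpotent hG hN hA hAN fun A₀ h₀ h₀c => ?_)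
      by_contra hne
      push Not at hne
      obtain ⟨L', hL', hNL'⟩ := Uniqueness.exists_coatom_normalizer (p := p) hG.2
        (fun (e : A₀ = ⊥) => hp.out.ne_one (by rw [← h₀c, e, Subgroup.card_bot]))
        (IsPGroup.of_card (n := 1) (by rw [h₀c, pow_one]))
      exact hcon ⟨A₀, h₀, h₀c, hne L' hL' hNL' ▸ hNL', fun L'' hL'' hle => hne L'' hL'' hle⟩
    have h₀Z : A₀ ≠ Z := fun e => hUZ (e ▸ ⟨hN₀, huniq⟩)
    obtain ⟨u, huS, huA, hin, hfix⟩ := PlaneSylow.exists_u hG hA hAS hna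
    have hb1 : b ≠ 1 := fun e => hbZ (e ▸ one_mem _)
    obtain ⟨i, hi⟩ := PlaneSylow.lines_conj hG hA hAS hna huS hin hfix h₀ h₀c h₀Z
      (B' := Subgroup.zpowers b) le_sup_right (by rw [Nat.card_zpowers, orderOf_eq_prime (hTp b hb) hb1])
      (fun e => hbZ (show b ∈ PlaneSylow.zLine S from e ▸ Subgroup.mem_zpowers b))
    rw [← SigmaTools.centralizer_zpowers, ← hi]
    refine (Subgroup.centralizer_le_normalizer _).trans ((SigmaTools.cj_normalizer _ A₀).ge.trans ?_)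
    exact (Subgroup.map_mono hN₀).trans
      (Subgroup.mem_normalizer_iff_map_conj_eq.mp (Subgroup.le_normalizer (hSN (pow_mem huS i)))).le
  -- one of them contains the centralisers outside `Z`
  suffices key : ∀ M L : Subgroup G, IsCoatom M → IsCoatom L → (S : Subgroup G) ≤ M →
      ¬ Group.IsNilpotent (Cfsg.sigmaCore M) → (∀ b ∈ T, b ∉ Z → Subgroup.centralizer ({b} : Set G) ≤ L) → M = L by
    rcases hdich L hL hSL hLn with hLU | hLN
    · rcases hdich M hM hSM hMn with hMU | hMN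
      · exact hLU.2 M hM hMU.1
      · exact (key L M hL hM hSL hLn hMN).symm
    · exact key M L hM hL hSM hMn hLN
  intro M L hM hL hSM hMn hLN
  obtain ⟨r, hrb⟩ : ∃ r, r ∈ Cfsg.beta M := by
    by_contra hcon
    push Not at hcon
    exact hMn (BetaCore.isNilpotent_of_le_derived hG hM (SigmaCore.le_derived hG hM) fun t _ _ => hcon t)
  haveI := Fact.mk hrb.1.1
  have hrp : r ≠ p := fun e => (e ▸ hrb.2).2.1 hrG
  obtain ⟨hαM, hMα, hαp⟩ := AlphaCentralizer.alphaCore_facts (M := M)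
  have hcop : (Nat.card (Cfsg.alphaCore M)).Coprime p :=
    (hp.out.coprime_iff_not_dvd.mpr fun h => (hαp p hp.out h).2 fun B hBc hBe => by
      have h' := Fusion.Thompson.isEA_map M.subtype (p := p) ⟨hBc, hBe⟩
      have := hrG _ h'.1 h'.2
      rwa [Subgroup.card_map_of_injective M.subtype_injective] at this).symm
  obtain ⟨R', hR'⟩ := Coprime.exists_invariant_sylow (hSM.trans hMα) (by
    obtain ⟨k, hk⟩ := S.isPGroup'.exists_card_eq
    rw [hk]; exact hcop.symm.pow_left k) (Or.inl (by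
      haveI := S.isPGroup'.isNilpotent
      infer_instance)) r
  set R := (R' : Subgroup (Cfsg.alphaCore M)).map (Cfsg.alphaCore M).subtype with hR
  obtain ⟨F, hFM, hFe, hF3⟩ := UniqueTools.exists_isEA_of_not_rankLE hrb.1.2
  obtain ⟨E, hER, hEe, hE3⟩ : ∃ E : Subgroup G, E ≤ R ∧ Cfsg.IsElementaryAbelian r E ∧ r ^ 3 ≤ Nat.card E := by
    have hr' : ¬ Cfsg.PRankLE r 2 (R' : Subgroup (Cfsg.alphaCore M)) := fun h =>
      UniqueTools.not_pRankLE_of_isEA hFe hF3
        (AlphaCentralizer.le_alphaCore hG hM hrb.1 (Fusion.Thompson.isPGroup_isEA hFe) hFM)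
        (SigmaFusion.pRankLE_of_sylow R' h)
    obtain ⟨E, hE, hEe, hE3⟩ := UniqueTools.exists_isEA_of_not_rankLE hr'
    exact ⟨E.map (Cfsg.alphaCore M).subtype, Subgroup.map_mono hE, Fusion.Thompson.isEA_map _ hEe,
      by rwa [Subgroup.card_map_of_injective (Cfsg.alphaCore M).subtype_injective]⟩
  suffices hRL : R ≤ L by
    obtain ⟨U, -, hU⟩ := UniquenessTheorem.rank_three hG hEe hE3
    rw [hU L ⟨hL, hER.trans hRL⟩, hU M ⟨hM, hER.trans ((Subgroup.map_subtype_le _).trans hαM)⟩]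
  have hRr : IsPGroup r R := R'.isPGroup'.map _
  have hTR : T ≤ Subgroup.normalizer (R : Set G) := hTS.trans hR'
  obtain ⟨b₀, hb₀, hb₀Z⟩ : ∃ b ∈ T, b ∉ Z := by
    by_contra hcon
    push Not at hcon
    exact hTna ⟨⟨fun x y => Subtype.ext (hZc y (hcon y y.2) x (hTS x.2)).eq⟩⟩
  obtain ⟨hA, hZcard⟩ := hplane b₀ hb₀ hb₀Z
  have hAT : Z ⊔ Subgroup.zpowers b₀ ≤ T := sup_le hZT (Subgroup.zpowers_le.mpr hb₀)
  refine FPFTools.le_of_lines hA (hAT.trans hTR) (A2Transitive.coprime_of_qGroup hrp hrb.1.1 hRr) fun B hB hBc => ?_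
  by_cases hBZ : B = Z
  swap
  · obtain ⟨b, hb, hb1⟩ := B.bot_or_exists_ne_one.resolve_left fun (e : B = ⊥) => hp.out.ne_one (by
      rw [← hBc, e, Subgroup.card_bot])
    have hBb := (FPFTools.line_eq_zpowers hBc hb hb1).1
    have hbZ : b ∉ Z := fun hbZ => hBZ (hBb.symm.trans
      (FPFTools.line_eq_zpowers (p := p) hZcard hbZ hb1).1)
    refine inf_le_right.trans ?_
    rw [← hBb, SigmaTools.centralizer_zpowers]
    exact hLN b (hAT (hB hb)) hbZ
  subst hBZ
  set D := R ⊓ Subgroup.centralizer (Z : Set G) with hD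
  set C := Subgroup.centralizer (Z : Set G) with hC
  have hTC : T ≤ C := fun t ht => Subgroup.mem_centralizer_iff.mpr fun z hz => (hZc z hz t (hTS ht)).eq.symm
  have hZC : Z ≤ C := hZT.trans hTC
  haveI : (Z.subgroupOf C).Normal :=
    (Subgroup.normal_subgroupOf_iff_le_normalizer hZC).mpr (Subgroup.centralizer_le_normalizer _)
  set π := QuotientGroup.mk' (Z.subgroupOf C) with hπ
  set A' := (T.subgroupOf C).map π with hA'
  set D' := (D.subgroupOf C).map π with hD'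
  have hDC : D ≤ C := inf_le_right
  have hTD : T ≤ Subgroup.normalizer (D : Set G) :=
    (le_inf hTR (hTC.trans Subgroup.le_normalizer)).trans Subgroup.inf_normalizer_le_normalizer_inf
  haveI hA'ab : IsMulCommutative A' := by
    refine Subgroup.commutator_self_eq_bot_iff.mp (le_bot_iff.mp ?_)
    rw [hA', ← Subgroup.map_commutator, Subgroup.map_le_iff_le_comap, MonoidHom.comap_bot, QuotientGroup.ker_mk']
    intro x hx
    have hmem : (x : G) ∈ (⁅T.subgroupOf C, T.subgroupOf C⁆).map C.subtype := ⟨x, hx, rfl⟩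
    rw [Subgroup.map_commutator, Subgroup.map_subgroupOf_eq_of_le hTC] at hmem
    exact hTd hmem
  have hA'nc : ¬ IsCyclic A' := by
    intro hc
    obtain ⟨⟨g, hg⟩, hgen⟩ := hc.exists_generator
    obtain ⟨g₀, hg₀, rfl⟩ := hg
    refine hTna ⟨⟨fun x y => Subtype.ext ?_⟩⟩
    have key : ∀ t ∈ T, ∃ i : ℤ, ∃ z ∈ Z, t = (g₀ : G) ^ i * z := by
      intro t ht
      obtain ⟨i, hi⟩ := hgen ⟨π ⟨t, hTC ht⟩, Subgroup.mem_map_of_mem _ (Subgroup.mem_subgroupOf.mpr ht)⟩
      have h1 : π g₀ ^ i = π ⟨t, hTC ht⟩ := congrArg Subtype.val hi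
      rw [← map_zpow] at h1
      have h2 := QuotientGroup.eq.mp h1
      exact ⟨i, ((g₀ : G) ^ i)⁻¹ * t, by simpa [Subgroup.mem_subgroupOf] using h2, by group⟩
    obtain ⟨i, z, hz, e⟩ := key x x.2
    obtain ⟨j, z', hz', e'⟩ := key y y.2
    show (x : G) * y = y * x
    rw [e, e']
    have hg₀S : (g₀ : G) ∈ (S : Subgroup G) := hTS hg₀
    have c1 : Commute ((g₀ : G) ^ i) z' := hZc z' hz' _ (zpow_mem hg₀S i)
    have c2 : Commute z ((g₀ : G) ^ j) := (hZc z hz _ (zpow_mem hg₀S j)).symm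
    have c3 : Commute z z' := hZc z' hz' z (hTS (hZT hz))
    exact ((((Commute.refl (g₀ : G)).zpow_zpow i j).mul_right c1).mul_left (c2.mul_right c3)).eq
  have hA'N : A' ≤ Subgroup.normalizer (D' : Set (C ⧸ Z.subgroupOf C)) := by
    refine (Subgroup.map_mono ?_).trans (Subgroup.le_normalizer_map π)
    intro t ht
    refine Subgroup.mem_normalizer_iff.mpr fun d => ?_
    rw [Subgroup.mem_subgroupOf, Subgroup.mem_subgroupOf]
    exact Subgroup.mem_normalizer_iff.mp (hTD ht) (d : G)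
  have hA'p : IsPGroup p A' := (((S.isPGroup'.to_le hTS).of_equiv (Subgroup.subgroupOfEquivOfLe hTC).symm)).map π
  have hD'r : IsPGroup r D' := (((hRr.to_le inf_le_left).of_equiv (Subgroup.subgroupOfEquivOfLe hDC).symm)).map π
  have hgen := Coprime.iSup_centralizer_singleton hA'nc hA'N (by
    obtain ⟨i, hi⟩ := hA'p.exists_card_eq
    obtain ⟨j, hj⟩ := hD'r.exists_card_eq
    rw [hi, hj]
    exact ((Nat.coprime_primes hp.out hrb.1.1).mpr hrp.symm).pow i j)
  have hbot : Disjoint D Z := by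
    obtain ⟨j, hj⟩ := (hRr.to_le (inf_le_left : D ≤ R)).exists_card_eq
    refine Subgroup.disjoint_of_coprime_natCard ?_
    rw [hj, hZcard]
    exact ((Nat.coprime_primes hrb.1.1 hp.out).mpr hrp).pow_left j
  intro d hd
  have hd' : π ⟨d, hDC hd⟩ ∈ D' := Subgroup.mem_map_of_mem _ hd
  have hle : D' ≤ ((L ⊓ D).subgroupOf C).map π := by
    rw [← hgen]
    refine iSup₂_le ?_
    rintro a ⟨⟨t, ht, rfl⟩, ha1⟩
    rintro _ ⟨⟨e, he, rfl⟩, hec⟩
    refine ⟨e, ⟨hLN t ht (fun htZ => ha1 ?_) ?_, he⟩, rfl⟩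
    · exact (QuotientGroup.eq_one_iff t).mpr htZ
    · have h1 : π ⁅e, t⁆ = 1 := by
        rw [map_commutatorElement, commutatorElement_eq_one_iff_mul_comm]
        exact Subgroup.mem_centralizer_singleton_iff.mp hec
      have h2 : ((⁅e, t⁆ : C) : G) ∈ Z :=
        Subgroup.mem_subgroupOf.mp ((QuotientGroup.eq_one_iff (⁅e, t⁆ : C)).mp h1)
      have h3 : ((⁅e, t⁆ : C) : G) = ⁅(e : G), (t : G)⁆ := map_commutatorElement C.subtype e t
      rw [h3] at h2
      have h4 : ⁅(e : G), (t : G)⁆ ∈ D :=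
        Subgroup.le_normalizer_iff_commutator_le_left.1 hTD (Subgroup.commutator_mem_commutator he ht)
      have h5 := disjoint_iff_inf_le.mp hbot ⟨h4, h2⟩
      rw [Subgroup.mem_bot, commutatorElement_eq_one_iff_mul_comm] at h5
      exact Subgroup.mem_centralizer_singleton_iff.mpr h5
  obtain ⟨e, he, hee⟩ := hle hd'
  have h6 := QuotientGroup.eq.mp hee
  replace he := Subgroup.mem_subgroupOf.mp he
  replace h6 := Subgroup.mem_subgroupOf.mp h6
  have h7 := disjoint_iff_inf_le.mp hbot ⟨Subgroup.mul_mem _ (Subgroup.inv_mem _ (show (e : G) ∈ D from he.2)) hd, (by simpa using h6)⟩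
  rw [Subgroup.mem_bot, inv_mul_eq_one] at h7
  exact h7 ▸ he.1

/-- **Nonabelian `p`-subgroups lie in a unique maximal subgroup.** -/
theorem main (hG : Cfsg.IsMinSimpleOddOrder G) {P : Subgroup G} (hP : IsPGroup p P) (hna : ¬ IsMulCommutative P) :
    Cfsg.InUniqueMaximal P := by
  have hnc : ¬ IsCyclic P := fun h => hna (by haveI := h; infer_instance)
  have hPtop : P ≠ ⊤ := fun e => by
    haveI : Group.IsNilpotent (⊤ : Subgroup G) := e ▸ hP.isNilpotent
    have : Group.IsNilpotent G := Group.nilpotent_of_mulEquiv Subgroup.topEquiv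
    exact hG.2.2.1 ⟨⟨hG.2.1.comm_iff_isSolvable.mpr inferInstance⟩⟩
  obtain ⟨M, hM, hPM⟩ := (eq_top_or_exists_le_coatom P).resolve_left hPtop
  have hσ : ∀ L : Subgroup G, IsCoatom L → P ≤ L → p ∈ Cfsg.sigma L := fun L hL hPL => by
    by_contra h
    exact hna (TauTwoAbelian.pGroup_abelian hG hL h hP hPL)
  have hps := hσ M hM hPM
  have hp2 : p ≠ 2 := fun h => Nat.not_even_iff_odd.mpr hG.1 (even_iff_two_dvd.mpr (h ▸ SigmaTools.sigma_dvd hps))
  refine ⟨M, ⟨hM, hPM⟩, fun L ⟨hL, hPL⟩ => ?_⟩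
  suffices hconj : ∃ x : G, L = cj x M by
    obtain ⟨x, rfl⟩ := hconj
    exact eq_of_conj hG hM hp2 hps hP hnc hPM hPL
  by_cases hpa : p ∈ Cfsg.alpha M
  · exact SigmaTools.exists_cj_of_alpha hG hM hL hpa (hσ L hL hPL)
  by_cases hMn : Group.IsNilpotent (Cfsg.sigmaCore M)
  · exact PlaneMaximal.exists_cj_of_nilpotent hG hM hps hL (hσ L hL hPL)
  by_cases hLn : Group.IsNilpotent (Cfsg.sigmaCore L)
  · obtain ⟨x, hx⟩ := PlaneMaximal.exists_cj_of_nilpotent hG hL (hσ L hL hPL) hM hps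
    exact ⟨x⁻¹, by rw [hx, SigmaFusion.cj_cj, inv_mul_cancel, SigmaFusion.cj_one]⟩
  obtain ⟨S, hSM, hNS⟩ := SigmaFusion.exists_sylow_sigma hps
  obtain ⟨S', hS'L, -⟩ := SigmaFusion.exists_sylow_sigma (hσ L hL hPL)
  obtain ⟨x, hx⟩ := MulAction.exists_smul_eq G S' S
  suffices h : ∃ y : G, cj x L = cj y M by
    obtain ⟨y, hy⟩ := h
    exact ⟨x⁻¹ * y, by rw [← SigmaFusion.cj_cj, ← hy, SigmaFusion.cj_cj, inv_mul_cancel, SigmaFusion.cj_one]⟩
  have hr2 : Cfsg.PRankLE p 2 M := by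
    by_contra h
    exact hpa ⟨hp.out, h⟩
  have hr : Cfsg.PRankLE p 2 (S : Subgroup G) := by
    by_contra h
    obtain ⟨E, hE, hEe, hE3⟩ := UniqueTools.exists_isEA_of_not_rankLE h
    exact UniqueTools.not_pRankLE_of_isEA hEe hE3 (hE.trans hSM) hr2
  have hna' : ¬ IsMulCommutative (S : Subgroup G) := fun hc => by
    obtain ⟨S₁, hS₁⟩ := hP.exists_le_sylow
    obtain ⟨g, hg⟩ := MulAction.exists_smul_eq G S₁ S
    refine hna ⟨⟨fun a b => Subtype.ext ?_⟩⟩
    have hmem : ∀ x ∈ P, g * x * g⁻¹ ∈ (S : Subgroup G) := fun x hx => by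
      rw [← hg, Sylow.coe_subgroup_smul]
      exact ⟨x, hS₁ hx, rfl⟩
    have := (PlaneSylow.comm_of hc (hmem a a.2) (hmem b b.2)).eq
    show (a : G) * b = b * a
    calc (a : G) * b = g⁻¹ * ((g * a * g⁻¹) * (g * b * g⁻¹)) * g := by group
      _ = g⁻¹ * ((g * b * g⁻¹) * (g * a * g⁻¹)) * g := by rw [this]
      _ = _ := by group
  have hSL : (S : Subgroup G) ≤ cj x L := by
    rw [← hx, Sylow.coe_subgroup_smul]
    exact Subgroup.map_mono hS'L
  by_cases hLn' : Group.IsNilpotent (Cfsg.sigmaCore (cj x L))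
  · obtain ⟨y, hy⟩ := PlaneMaximal.exists_cj_of_nilpotent hG (SigmaFusion.isCoatom_cj hL x)
      (SigmaTools.sigma_cj (hσ L hL hPL) x) hM hps
    exact ⟨y⁻¹, by rw [hy, SigmaFusion.cj_cj, inv_mul_cancel, SigmaFusion.cj_one]⟩
  have := eq_of_sylow hG hM (SigmaFusion.isCoatom_cj hL x) hSM hSL hr hna' hMn hLn'
  exact ⟨1, by rw [this, SigmaFusion.cj_one]⟩

end CfsgLib.OddOrder.NonabelianUnique
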