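import Cfsg.Agent.Lib.OddOrder.TauThree
import Cfsg.Agent.Lib.OddOrder.NonabelianUnique
import Cfsg.Agent.Lib.OddOrder.Replacement
import Cfsg.Agent.S1420
import Cfsg.Agent.S1427
import Mathlib

set_option autoImplicit false
set_option linter.style.haveILetI false
set_option linter.unusedSectionVars false

/-!
The Hall `κ(M)`-subgroups act on `M_σ` in a prime manner and have an abelian complement on which they act
without fixed points (BG 14.2).
-/

namespace CfsgLib.OddOrder.KappaHall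

open scoped commutatorElement
open SigmaFusion (cj)
open RankOneTools (isPGroup_of_card ne_bot_of_card line_of_orderOf)

variable {G : Type*} [Group G] [Finite G] {p r : ℕ} [hp : Fact p.Prime] [hrf : Fact r.Prime]
  {M E K U : Subgroup G}

omit hrf in
theorem rank_one_of_cyclic (h : ∀ P : Sylow p M, IsCyclic P) : Cfsg.PRankLE p 1 M := by
  obtain ⟨S⟩ : Nonempty (Sylow p M) := inferInstance
  haveI := h S
  refine SigmaFusion.pRankLE_of_sylow S fun A _ hAe => ?_
  rw [pow_one, ← IsCyclic.exponent_eq_card (α := A)]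
  exact Nat.le_of_dvd hp.out.pos (Monoid.exponent_dvd_of_forall_pow_eq_one fun a => Subtype.ext (hAe a a.2))

theorem kappa_rank_one (hk : p ∈ Cfsg.kappa M) : Cfsg.PRankLE p 1 M :=
  rank_one_of_cyclic fun P => (hk.2.2.2 P).1

/-- Every element of prime order in `κ(M)` has fixed points on `M_σ`. -/
theorem kappa_fix (hk : p ∈ Cfsg.kappa M) {f : G} (hfM : f ∈ M) (hf : orderOf f = p) :
    Cfsg.sigmaCore M ⊓ Subgroup.centralizer ({f} : Set G) ≠ ⊥ := by
  obtain ⟨P, hP⟩ := (isPGroup_of_card (r := p) (Y := Subgroup.zpowers (⟨f, hfM⟩ : M))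
    (by rw [Nat.card_zpowers, Subgroup.orderOf_mk, hf])).exists_le_sylow
  obtain ⟨hcyc, x, hxP, hx1, y, hy, hy1, hxy⟩ := hk.2.2.2 P
  have hxn : Nat.card (Subgroup.zpowers x) ≠ 1 := by rwa [Nat.card_zpowers, ne_eq, orderOf_eq_one_iff]
  obtain ⟨z, hz⟩ := exists_prime_orderOf_dvd_card' (G := Subgroup.zpowers x) p
    ((P.isPGroup'.to_le (Subgroup.zpowers_le.mpr hxP)).card_eq_or_dvd.resolve_left hxn)
  have hzo : orderOf ((z : M) : G) = p := by rw [Subgroup.orderOf_coe, Subgroup.orderOf_coe, hz]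
  haveI := hcyc
  have hzf : Commute (f : G) ((z : M) : G) := by
    have h1 := (inferInstance : IsMulCommutative (P : Subgroup M))
    exact congrArg Subtype.val (PlaneSylow.comm_of h1 (hP (Subgroup.mem_zpowers _))
      ((Subgroup.zpowers_le.mpr hxP) z.2)).eq
  have heq : Subgroup.zpowers f = Subgroup.zpowers ((z : M) : G) := by
    refine PrimeAction.eq_of_rank_one (kappa_rank_one hk) (line_of_orderOf hf) (line_of_orderOf hzo)
      (Subgroup.zpowers_le.mpr hfM) (Subgroup.zpowers_le.mpr (z : M).2) (Subgroup.zpowers_le.mpr ?_)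
    rw [SigmaTools.centralizer_zpowers]
    exact Subgroup.mem_centralizer_singleton_iff.mpr hzf.eq
  intro e
  refine hy1 (Subgroup.mem_bot.mp (e.le ⟨hy, Subgroup.mem_centralizer_singleton_iff.mpr ?_⟩))
  have hzx : ((z : M) : G) ∈ Subgroup.centralizer ({y} : Set G) := by
    have h1 : (x : G) ∈ Subgroup.centralizer ({y} : Set G) := Subgroup.mem_centralizer_singleton_iff.mpr hxy
    obtain ⟨i, hi⟩ := Subgroup.mem_zpowers_iff.mp z.2
    rw [← hi]
    simpa using zpow_mem h1 i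
  have hf' : f ∈ Subgroup.centralizer ({y} : Set G) :=
    Subgroup.zpowers_le.mpr hzx (heq.le (Subgroup.mem_zpowers f))
  exact (Subgroup.mem_centralizer_singleton_iff.mp hf').symm

/-- A rank one prime outside `σ(M)` with fixed points on `M_σ` lies in `κ(M)`. -/
theorem mem_kappa (hG : Cfsg.IsMinSimpleOddOrder G) (hps : p ∉ Cfsg.sigma M) (hr1 : Cfsg.PRankLE p 1 M) {f : G}
    (hfM : f ∈ M) (hf : orderOf f = p) (hfix : Cfsg.sigmaCore M ⊓ Subgroup.centralizer ({f} : Set G) ≠ ⊥) :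
    p ∈ Cfsg.kappa M := by
  refine ⟨hp.out, hf ▸ Subgroup.orderOf_dvd_natCard _ hfM, hps, fun P => ?_⟩
  haveI := SigmaComplement.isCyclic_of_rank_one hG.1 (Subgroup.map_subtype_le _) (P.isPGroup'.map M.subtype) hr1
  refine ⟨(Subgroup.equivMapOfInjective (P : Subgroup M) M.subtype M.subtype_injective).isCyclic.mpr ‹_›, ?_⟩
  obtain ⟨Q, hQ⟩ := (isPGroup_of_card (r := p) (Y := Subgroup.zpowers (⟨f, hfM⟩ : M))
    (by rw [Nat.card_zpowers, Subgroup.orderOf_mk, hf])).exists_le_sylow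
  obtain ⟨g, hg⟩ := MulAction.exists_smul_eq M Q P
  obtain ⟨y, hy, hy1⟩ := SetLike.exists_of_lt (bot_lt_iff_ne_bot.mpr hfix)
  refine ⟨g * ⟨f, hfM⟩ * g⁻¹, ?_, ?_, (g : G) * y * (g : G)⁻¹,
    (Subgroup.mem_normalizer_iff.mp (SigmaTools.le_normalizer_sigmaCore M g.2) y).mp hy.1, ?_, ?_⟩
  · rw [← hg]
    exact Solvable.Basic.conj_mem_conj_smul (hQ (Subgroup.mem_zpowers _))
  · rw [ne_eq, conj_eq_one_iff]
    exact fun e => hp.out.ne_one (by rw [← hf, show f = 1 from congrArg Subtype.val e, orderOf_one])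
  · rw [ne_eq, conj_eq_one_iff]
    exact fun e => hy1 (Subgroup.mem_bot.mpr e)
  · have hfy : f * y = y * f := (Subgroup.mem_centralizer_singleton_iff.mp hy.2).symm
    simp only [Subgroup.coe_mul, InvMemClass.coe_inv]
    rw [show (g : G) * f * (g : G)⁻¹ * ((g : G) * y * (g : G)⁻¹) = (g : G) * (f * y) * (g : G)⁻¹ by group,
      show (g : G) * y * (g : G)⁻¹ * ((g : G) * f * (g : G)⁻¹) = (g : G) * (y * f) * (g : G)⁻¹ by group, hfy]

omit hp hrf in
theorem le_of_sylows {H C : Subgroup G}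
    (h : ∀ u : ℕ, u.Prime → ∃ R : Sylow u H, (R : Subgroup H).map H.subtype ≤ C) : H ≤ C := by
  have := Solvable.Cores.eq_top_of_sylow_le (C.subgroupOf H) fun u hu => by
    obtain ⟨R, hR⟩ := h u hu
    exact ⟨R, fun x hx => Subgroup.mem_subgroupOf.mpr (hR ⟨x, hx, rfl⟩)⟩
  exact Subgroup.subgroupOf_eq_top.mp this

/-- An element of prime power order centralises what its elements of prime order fix. -/
theorem le_centralizer_of_pElem (hG : Cfsg.IsMinSimpleOddOrder G) (hM : IsCoatom M)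
    (hE : Cfsg.IsComplIn E (Cfsg.sigmaCore M) M) (hr1 : Cfsg.PRankLE r 1 M) {k : G} (hkE : k ∈ E)
    (hpk : IsPGroup r (Subgroup.zpowers k)) {D : Subgroup G}
    (hD : ∀ f ∈ Subgroup.zpowers k, orderOf f = r →
      Cfsg.sigmaCore M ⊓ Subgroup.centralizer ({f} : Set G) = D) :
    k ∈ Subgroup.centralizer (D : Set G) := by
  by_cases hk1 : k = 1
  · rw [hk1]; exact one_mem _
  have hkn : Nat.card (Subgroup.zpowers k) ≠ 1 := by rwa [Nat.card_zpowers, ne_eq, orderOf_eq_one_iff]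
  obtain ⟨f, hf⟩ := exists_prime_orderOf_dvd_card' (G := Subgroup.zpowers k) r
    (hpk.card_eq_or_dvd.resolve_left hkn)
  have hfo : orderOf (f : G) = r := by rw [Subgroup.orderOf_coe, hf]
  have hle : Subgroup.zpowers k ≤ E := Subgroup.zpowers_le.mpr hkE
  obtain ⟨S, hS⟩ := (hpk.of_equiv (Subgroup.subgroupOfEquivOfLe hle).symm).exists_le_sylow
  have hkS : k ∈ (S : Subgroup E).map E.subtype :=
    ⟨⟨k, hkE⟩, hS (Subgroup.mem_subgroupOf.mpr (Subgroup.mem_zpowers k)), rfl⟩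
  have hfS : (f : G) ∈ (S : Subgroup E).map E.subtype :=
    ⟨⟨f, hle f.2⟩, hS (Subgroup.mem_subgroupOf.mpr f.2), rfl⟩
  have hS1 : (S : Subgroup E) ≠ ⊥ := fun e => hk1 (by
    rw [e, Subgroup.map_bot, Subgroup.mem_bot] at hkS
    exact hkS)
  have hcyc : IsCyclic (S : Subgroup E) := by
    haveI := SigmaComplement.isCyclic_of_rank_one hG.1 ((Subgroup.map_subtype_le _).trans hE.1)
      (S.isPGroup'.map E.subtype) hr1
    exact (Subgroup.equivMapOfInjective (S : Subgroup E) E.subtype E.subtype_injective).isCyclic.mpr ‹_›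
  have hS27 := Cfsg.Agent.S1427.result hG M hM E hE r S hS1 hcyc
  have h1 := hS27 _ hfS fun e => hrf.out.ne_one (by rw [← hfo, e, orderOf_one])
  rw [hD f f.2 hfo] at h1
  exact Subgroup.mem_centralizer_iff.mpr fun d hd =>
    Subgroup.mem_centralizer_singleton_iff.mp ((hS27 k hkS hk1).ge.trans inf_le_right (h1.le hd))

omit hp hrf in
/-- Prime action extends from the elements of prime order to all elements. -/
theorem fix_all (hG : Cfsg.IsMinSimpleOddOrder G) (hM : IsCoatom M) (hE : Cfsg.IsComplIn E (Cfsg.sigmaCore M) M)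
    {H D : Subgroup G} (hH1 : H ≠ ⊥) (hHE : H ≤ E) (hr : ∀ t : ℕ, t.Prime → t ∣ Nat.card H → Cfsg.PRankLE t 1 M)
    (hD : ∀ f ∈ H, (orderOf f).Prime → Cfsg.sigmaCore M ⊓ Subgroup.centralizer ({f} : Set G) = D) :
    Cfsg.sigmaCore M ⊓ Subgroup.centralizer (H : Set G) = D ∧
      ∀ k ∈ H, k ≠ 1 → Cfsg.sigmaCore M ⊓ Subgroup.centralizer ({k} : Set G) = D := by
  have hHD : H ≤ Subgroup.centralizer (D : Set G) := le_of_sylows fun u hu => by
    haveI := Fact.mk hu
    obtain ⟨R⟩ : Nonempty (Sylow u H) := inferInstance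
    refine ⟨R, fun x hx => ?_⟩
    have hxH : x ∈ H := Subgroup.map_subtype_le _ hx
    by_cases hx1 : x = 1
    · rw [hx1]; exact one_mem _
    have hxp : IsPGroup u (Subgroup.zpowers x) := (R.isPGroup'.map H.subtype).to_le (Subgroup.zpowers_le.mpr hx)
    have hd : u ∣ Nat.card H := ((hxp.card_eq_or_dvd.resolve_left (by
      rwa [Nat.card_zpowers, orderOf_eq_one_iff])).trans
        (Subgroup.card_dvd_of_le (Subgroup.zpowers_le.mpr hxH)))
    exact le_centralizer_of_pElem hG hM hE (hr u hu hd) (hHE hxH) hxp fun f hf hfo =>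
      hD f (Subgroup.zpowers_le.mpr hxH hf) (hfo ▸ hu)
  obtain ⟨h₀, hh₀, hh₀1⟩ := SetLike.exists_of_lt (bot_lt_iff_ne_bot.mpr hH1)
  have hsub : ∀ k ∈ H, k ≠ 1 → Cfsg.sigmaCore M ⊓ Subgroup.centralizer ({k} : Set G) ≤ D ∧
      D ≤ Cfsg.sigmaCore M := fun k hk hk1 => by
    obtain ⟨q, hq, hd⟩ := Nat.exists_prime_and_dvd (mt orderOf_eq_one_iff.mp hk1)
    have hf : orderOf (k ^ (orderOf k / q)) = q := orderOf_pow_orderOf_div (orderOf_pos k).ne' hd
    rw [← hD _ (pow_mem hk _) (hf.symm ▸ hq)]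
    exact ⟨inf_le_inf_left _ (CN.centralizer_singleton_le_pow k _), inf_le_left⟩
  have hDV : D ≤ Cfsg.sigmaCore M := (hsub h₀ hh₀ fun e => hh₀1 (Subgroup.mem_bot.mpr e)).2
  have hDC : D ≤ Cfsg.sigmaCore M ⊓ Subgroup.centralizer (H : Set G) :=
    le_inf hDV (Subgroup.le_centralizer_iff.mp hHD)
  have hle : ∀ k ∈ H, Cfsg.sigmaCore M ⊓ Subgroup.centralizer (H : Set G) ≤
      Cfsg.sigmaCore M ⊓ Subgroup.centralizer ({k} : Set G) := fun k hk =>
    inf_le_inf_left _ (Subgroup.centralizer_le (Set.singleton_subset_iff.mpr hk))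
  refine ⟨le_antisymm ((hle h₀ hh₀).trans (hsub h₀ hh₀ fun e => hh₀1 (Subgroup.mem_bot.mpr e)).1) hDC,
    fun k hk hk1 => le_antisymm (hsub k hk hk1).1 (hDC.trans (hle k hk))⟩

/-- An element fixing every element of prime order of the abelian `E'` is central in `E`. -/
theorem central_of_derived (hab : IsMulCommutative ↥⁅E, E⁆) {f : G} (hfE : f ∈ E) (hf : orderOf f = r)
    (hrd : ¬ r ∣ Nat.card ↥⁅E, E⁆) (h : ∀ z ∈ ⁅E, E⁆, (orderOf z).Prime → Commute f z) :
    E ≤ Subgroup.centralizer ({f} : Set G) := by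
  have hdE := SigmaComplement.derived_le_self E
  have hkey : ∀ d ∈ ⁅E, E⁆, Commute f d := fun d hd => by
    by_contra hne
    have hz : ⁅f, d⁆ ∈ ⁅E, E⁆ := Subgroup.commutator_mem_commutator hfE (hdE hd)
    obtain ⟨t, ht, htd⟩ := Nat.exists_prime_and_dvd
      (mt orderOf_eq_one_iff.mp (mt commutatorElement_eq_one_iff_commute.mp hne))
    set j := orderOf ⁅f, d⁆ / t with hj
    have hw : orderOf (⁅f, d⁆ ^ j) = t := orderOf_pow_orderOf_div (orderOf_pos _).ne' htd
    have hfw : Commute f (⁅f, d⁆ ^ j) := h _ (pow_mem hz _) (hw.symm ▸ ht)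
    have hconj : MulAut.conj f (d ^ j) = ⁅f, d⁆ ^ j * d ^ j := by
      rw [map_pow, show MulAut.conj f d = ⁅f, d⁆ * d by simp [commutatorElement_def, mul_assoc],
        (PlaneSylow.comm_of hab hz hd).mul_pow]
    have hn : ∀ n : ℕ, MulAut.conj (f ^ n) (d ^ j) = (⁅f, d⁆ ^ j) ^ n * d ^ j := fun n => by
      induction n with
      | zero => simp
      | succ n ih =>
        rw [pow_succ', map_mul, MulAut.mul_apply, ih, map_mul, hconj, pow_succ, ← mul_assoc]
        congr 1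
        rw [MulAut.conj_apply, ((hfw.pow_right n)).eq]
        group
    have h1 := hn r
    rw [← hf, pow_orderOf_eq_one, map_one, MulAut.one_apply, right_eq_mul] at h1
    have h2 : t ∣ r := hw ▸ orderOf_dvd_of_pow_eq_one (hf ▸ h1)
    exact hrd ((Nat.prime_dvd_prime_iff_eq ht hrf.out).mp h2 ▸ hw ▸ Subgroup.orderOf_dvd_natCard _ (pow_mem hz _))
  intro g hg
  refine Subgroup.mem_centralizer_singleton_iff.mpr ?_
  have hc : ⁅g, f⁆ ∈ ⁅E, E⁆ := Subgroup.commutator_mem_commutator hg hfE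
  have h1 : (g * f * g⁻¹) ^ r = 1 := by
    rw [conj_pow, ← hf, pow_orderOf_eq_one, mul_one, mul_inv_cancel]
  rw [show g * f * g⁻¹ = ⁅g, f⁆ * f by simp [commutatorElement_def, mul_assoc],
    (hkey _ hc).symm.mul_pow, ← hf, pow_orderOf_eq_one, mul_one, hf] at h1
  have h2 : orderOf ⁅g, f⁆ = 1 := Nat.eq_one_of_dvd_coprimes (hrf.out.coprime_iff_not_dvd.mpr hrd)
    (orderOf_dvd_of_pow_eq_one h1) (Subgroup.orderOf_dvd_natCard _ hc)
  exact (commutatorElement_eq_one_iff_commute.mp (orderOf_eq_one_iff.mp h2)).eq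

/-- The primes outside `κ(M) ∪ σ(M)`. -/
abbrev rest (M : Subgroup G) : Set ℕ := {q | q.Prime ∧ q ∉ Cfsg.kappa M ∧ q ∉ Cfsg.sigma M}

/-- The factorisation `E = U K` of a complement of `M_σ`. -/
structure Str (M E K U : Subgroup G) : Prop where
  compl : Cfsg.IsComplIn E (Cfsg.sigmaCore M) M
  le : K ≤ E
  Ule : U ≤ E
  sup : U ⊔ K = E
  normal : E ≤ Subgroup.normalizer (U : Set G)
  comm : IsMulCommutative U
  hall : Cfsg.IsPiHallOf (rest M) U M
  fix : ∀ k ∈ K, k ≠ 1 → Cfsg.sigmaCore M ⊓ Subgroup.centralizer ({k} : Set G) =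
    Cfsg.sigmaCore M ⊓ Subgroup.centralizer (K : Set G)
  ne_bot : Cfsg.sigmaCore M ⊓ Subgroup.centralizer (K : Set G) ≠ ⊥
  free : ∀ k ∈ K, k ≠ 1 → U ⊓ Subgroup.centralizer ({k} : Set G) = ⊥
  norm : ∀ X : Subgroup G, X ≤ K → (Nat.card X).Prime → K ≤ Subgroup.normalizer (X : Set G)
  kappa : ∀ t : ℕ, t.Prime → t ∣ Nat.card K → t ∈ Cfsg.kappa M
  split : U = ⊥ ∨ IsCyclic K

theorem exists_prime_elem {H : Subgroup G} (hH : H ≠ ⊥) :
    ∃ f ∈ H, (orderOf f).Prime := by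
  obtain ⟨q, hq, hd⟩ := Nat.exists_prime_and_dvd (mt Subgroup.card_eq_one.mp hH)
  haveI := Fact.mk hq
  obtain ⟨f, hf⟩ := exists_prime_orderOf_dvd_card' (G := H) q hd
  exact ⟨f, f.2, by rw [Subgroup.orderOf_coe, hf]; exact hq⟩

omit hp hrf in
theorem dvd_card_of_hall {π : Set ℕ} {H : Subgroup G} (hH : Cfsg.IsPiHallOf π H M) {t : ℕ} (ht : t.Prime)
    (htπ : t ∈ π) (hd : t ∣ Nat.card M) : t ∣ Nat.card H := by
  rw [← Coprime.card_mul_relIndex_eq hH.1] at hd
  exact (ht.dvd_mul.mp hd).resolve_right (hH.2.2 t ht htπ)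

omit hp hrf in
theorem not_dvd_relIndex {π : Set ℕ} {H F : Subgroup G} (hH : Cfsg.IsPiHallOf π H M) (hHF : H ≤ F) (hFM : F ≤ M)
    {t : ℕ} (ht : t.Prime) (htπ : t ∈ π) : ¬ t ∣ H.relIndex F := fun hd =>
  hH.2.2 t ht htπ (hd.trans (Subgroup.relIndex_mul_relIndex H F M hHF hFM ▸ dvd_mul_right _ _))

/-- If a prime of `κ(M)` divides `|M'|`, then `K` is a complement of `M_σ`. -/
theorem of_tau3 (hG : Cfsg.IsMinSimpleOddOrder G) (hM : IsCoatom M) (hE : Cfsg.IsComplIn E (Cfsg.sigmaCore M) M)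
    (hK : Cfsg.IsPiHallOf (Cfsg.kappa M) K M) (hKE : K ≤ E) (hpk : p ∈ Cfsg.kappa M)
    (hd : p ∣ Nat.card ↥⁅M, M⁆) : Str M E K ⊥ := by
  obtain ⟨f₀, hf₀⟩ := exists_prime_orderOf_dvd_card' (G := K) p (dvd_card_of_hall hK hp.out hpk hpk.2.1)
  have hf₀o : orderOf (f₀ : G) = p := by rw [Subgroup.orderOf_coe, hf₀]
  set P := Subgroup.zpowers (f₀ : G) with hP
  have hPc : Nat.card P = p := line_of_orderOf hf₀o
  have hPE : P ≤ E := Subgroup.zpowers_le.mpr (hKE f₀.2)
  have hfixP : Cfsg.sigmaCore M ⊓ Subgroup.centralizer (P : Set G) ≠ ⊥ := by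
    rw [hP, SigmaTools.centralizer_zpowers]
    exact kappa_fix hpk (hK.1 f₀.2) hf₀o
  obtain ⟨L, hL, hNP⟩ := Uniqueness.exists_coatom_normalizer (p := p) hG.2 (ne_bot_of_card hPc) (isPGroup_of_card hPc)
  have h : TauThree.T3 p M P L :=
    ⟨hM, hpk.2.2.1, kappa_rank_one hpk, hd, hPc, hPE.trans hE.1, hfixP, hL, hNP⟩
  have hEh := ComplementHall.isHall hG hM hE
  have hrk : ∀ t : ℕ, t.Prime → t ∣ Nat.card E → Cfsg.PRankLE t 1 M := fun t ht htd => by
    haveI := Fact.mk ht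
    exact h.rank_one hG (hEh.2.1 t ht htd)
  have hκ : ∀ t : ℕ, t.Prime → t ∣ Nat.card E → t ∈ Cfsg.kappa M := fun t ht htd => by
    haveI := Fact.mk ht
    obtain ⟨f, hf⟩ := exists_prime_orderOf_dvd_card' (G := E) t htd
    have hfo : orderOf (f : G) = t := by rw [Subgroup.orderOf_coe, hf]
    refine mem_kappa hG (hEh.2.1 t ht htd) (hrk t ht htd) (hE.1 f.2) hfo ?_
    rw [(h.main hG hE hPE f.2 (hfo.symm ▸ ht)).1]
    exact hfixP
  have hEK : E = K := by
    refine le_antisymm (Subgroup.relIndex_eq_one.mp (Nat.eq_one_iff_not_exists_prime_dvd.mpr fun t ht htd => ?_)) hKE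
    exact not_dvd_relIndex hK hKE hE.1 ht
      (hκ t ht (htd.trans (Subgroup.relIndex_dvd_card K E))) htd
  subst hEK
  have hK1 : E ≠ ⊥ := fun e => ne_bot_of_card hPc (le_bot_iff.mp (e ▸ hPE))
  obtain ⟨hCK, hall⟩ := fix_all hG hM hE hK1 le_rfl hrk fun f hf hfo => (h.main hG hE hPE hf hfo).1
  refine ⟨hE, le_rfl, bot_le, bot_sup_eq E, ?_, inferInstance, ⟨bot_le, fun t ht htd => ?_, fun t ht htπ htd => ?_⟩,
    fun k hk hk1 => (hall k hk hk1).trans hCK.symm, hCK ▸ hfixP, fun k _ _ => bot_inf_eq _, ?_, hκ, Or.inl rfl⟩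
  · exact fun g _ => Subgroup.mem_normalizer_iff.mpr fun x => by simp [Subgroup.mem_bot, conj_eq_one_iff]
  · rw [Subgroup.card_bot] at htd
    exact absurd (Nat.dvd_one.mp htd) ht.ne_one
  · rw [Subgroup.relIndex_bot_left] at htd
    exact htπ.2.1 (hκ t ht (dvd_card_of_hall hEh ht htπ.2.2 htd))
  intro X hX hXp
  haveI := Fact.mk hXp
  have hXE : X ≤ E := hX
  have hrs : Nat.card X ∉ Cfsg.sigma M := hEh.2.1 _ hXp (Subgroup.card_dvd_of_le hXE)
  have hr1 := hrk _ hXp (Subgroup.card_dvd_of_le hXE)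
  by_cases hrd : Nat.card X ∣ Nat.card ↥⁅M, M⁆
  · exact (TauThree.derived_line hG hM hE hrs hr1 hrd rfl hXE).2.1
  obtain ⟨f, hfX, hfo, hfz⟩ := PrimeAction.exists_gen (Y := X) rfl
  have hcent : E ≤ Subgroup.centralizer ({f} : Set G) := by
    refine central_of_derived (PrimeAction.derived_abelian hG hM hE) (hXE hfX) hfo
      (fun e => hrd (e.trans (Subgroup.card_dvd_of_le (SigmaComplement.derived_le hE)))) fun z hz hzp => ?_
    haveI := Fact.mk hzp
    have hzE : z ∈ E := SigmaComplement.derived_le_self E hz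
    have hzs : orderOf z ∉ Cfsg.sigma M := hEh.2.1 _ hzp (Subgroup.orderOf_dvd_natCard _ hzE)
    set Z := Subgroup.zpowers z with hZ
    have hZc : Nat.card Z = orderOf z := Nat.card_zpowers z
    obtain ⟨L', hL', hNZ⟩ := Uniqueness.exists_coatom_normalizer (p := orderOf z) hG.2 (ne_bot_of_card hZc)
      (isPGroup_of_card hZc)
    have hfixZ : Cfsg.sigmaCore M ⊓ Subgroup.centralizer (Z : Set G) ≠ ⊥ := by
      rw [hZ, SigmaTools.centralizer_zpowers, (h.main hG hE hPE hzE hzp).1]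
      exact hfixP
    have hZ3 : TauThree.T3 (orderOf z) M Z L' :=
      ⟨hM, hzs, hrk _ hzp (Subgroup.orderOf_dvd_natCard _ hzE),
        Subgroup.orderOf_dvd_natCard _ (SigmaComplement.derived_le hE hz), hZc,
        Subgroup.zpowers_le.mpr (hE.1 hzE), hfixZ, hL', hNZ⟩
    exact ((Subgroup.mem_centralizer_singleton_iff.mp
      ((hZ3.main hG hE (Subgroup.zpowers_le.mpr hzE) (hXE hfX) (hfo.symm ▸ hXp)).2 (Subgroup.mem_zpowers z))).symm : _)
  refine fun g hg => Subgroup.centralizer_le_normalizer _ ?_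
  rw [← hfz, SigmaTools.centralizer_zpowers]
  exact hcent hg

omit hrf in
/-- A plane centralising a given line inside a noncyclic `p`-group. -/
theorem exists_plane_centralizing (hp2 : p ≠ 2) {T : Subgroup G} (hT : IsPGroup p T) (hnc : ¬ IsCyclic T) {u : G}
    (huT : u ∈ T) (hu : orderOf u = p) :
    ∃ B : Subgroup G, (B ≤ T ∧ B ≤ Subgroup.centralizer ({u} : Set G)) ∧ Cfsg.IsElementaryAbelian p B ∧
      Nat.card B = p ^ 2 := by
  obtain ⟨A, hAT, hAe, hAc⟩ := NonabelianUnique.exists_plane_le hp2 hT hnc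
  by_cases hAu : A ≤ Subgroup.centralizer ({u} : Set G)
  · exact ⟨A, ⟨hAT, hAu⟩, hAe, hAc⟩
  haveI : Nontrivial T := by
    by_contra h
    rw [not_nontrivial_iff_subsingleton] at h
    exact hnc inferInstance
  haveI := hT.center_nontrivial
  obtain ⟨z, hz⟩ := exists_prime_orderOf_dvd_card' (G := Subgroup.center T) p
    ((hT.to_subgroup (Subgroup.center T)).card_eq_or_dvd.resolve_left Finite.one_lt_card.ne')
  set w : G := ((z : T) : G) with hw
  have hwo : orderOf w = p := by rw [hw, Subgroup.orderOf_coe, Subgroup.orderOf_coe, hz]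
  have hwT : w ∈ T := (z : T).2
  have hwc : ∀ a ∈ T, Commute a w := fun a ha =>
    congrArg Subtype.val (Subgroup.mem_center_iff.mp z.2 ⟨a, ha⟩)
  have hea : ∀ {x : G}, orderOf x = p → Cfsg.IsElementaryAbelian p (Subgroup.zpowers x) := fun {x} hx =>
    ⟨inferInstance, fun a ha => by
      obtain ⟨i, rfl⟩ := Subgroup.mem_zpowers_iff.mp ha
      rw [← zpow_natCast, ← zpow_mul, mul_comm, zpow_mul, zpow_natCast, ← hx, pow_orderOf_eq_one, one_zpow]⟩
  have huw : Subgroup.zpowers u ≤ Subgroup.centralizer (Subgroup.zpowers w : Set G) := Subgroup.zpowers_le.mpr (by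
    rw [SigmaTools.centralizer_zpowers]
    exact Subgroup.mem_centralizer_singleton_iff.mpr (hwc u huT).eq)
  have hd : Disjoint (Subgroup.zpowers w) (Subgroup.zpowers u) := by
    rw [disjoint_iff]
    rcases (Nat.dvd_prime hp.out).mp ((line_of_orderOf hwo) ▸ Subgroup.card_dvd_of_le
      (inf_le_left : Subgroup.zpowers w ⊓ Subgroup.zpowers u ≤ Subgroup.zpowers w)) with h | h
    · exact Subgroup.eq_bot_of_card_eq _ h
    · refine absurd (fun a ha => ?_) hAu
      have h1 : Subgroup.zpowers u ≤ Subgroup.zpowers w :=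
        ((Subgroup.eq_of_le_of_card_ge inf_le_right ((line_of_orderOf hu).le.trans h.ge)).ge.trans inf_le_left)
      obtain ⟨i, hi⟩ := Subgroup.mem_zpowers_iff.mp (h1 (Subgroup.mem_zpowers u))
      rw [← hi]
      exact Subgroup.mem_centralizer_singleton_iff.mpr ((hwc a (hAT ha)).zpow_right i).eq
  refine ⟨Subgroup.zpowers w ⊔ Subgroup.zpowers u, ⟨sup_le (Subgroup.zpowers_le.mpr hwT) (Subgroup.zpowers_le.mpr huT),
    sup_le (Subgroup.zpowers_le.mpr (Subgroup.mem_centralizer_singleton_iff.mpr (hwc u huT).symm.eq))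
      (Subgroup.zpowers_le.mpr (Subgroup.mem_centralizer_singleton_iff.mpr rfl))⟩,
    Replacement.isEA_sup (hea hwo) (hea hu) (Subgroup.le_centralizer_iff.mp huw), ?_⟩
  rw [Coprime.card_sup_of_le_normalizer (huw.trans (Subgroup.centralizer_le_normalizer _)) hd,
    line_of_orderOf hwo, line_of_orderOf hu, sq]

/-- No element outside `κ(M) ∪ σ(M)` commutes with an element of `κ(M) ∩ τ₁(M)`. -/
theorem free_elem (hG : Cfsg.IsMinSimpleOddOrder G) (hM : IsCoatom M) {e u : G} (hpk : p ∈ Cfsg.kappa M)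
    (hpd : ¬ p ∣ Nat.card ↥⁅M, M⁆) (heM : e ∈ M) (he : orderOf e = p) (huM : u ∈ M) (hu : orderOf u = r)
    (hrs : r ∉ Cfsg.sigma M) (hrk : r ∉ Cfsg.kappa M) (hcomm : Commute e u) : False := by
  have hps := hpk.2.2.1
  have hpr1 := kappa_rank_one hpk
  have hfe := kappa_fix hpk heM he
  have hpa := TauThree.pa hG hM (TauThree.tau1_mem heM he hps hpd hpr1) heM he huM hu hrs hcomm
  have hfu : Cfsg.sigmaCore M ⊓ Subgroup.centralizer ({u} : Set G) ≠ ⊥ := fun e' =>
    hfe (le_bot_iff.mp (e'.le.trans' (le_inf inf_le_left hpa)))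
  have hr2 : ¬ Cfsg.PRankLE r 1 M := fun h => hrk (mem_kappa hG hrs h huM hu hfu)
  have hrτ : r ∈ Cfsg.tau2 M := ⟨hrf.out, hrs, (by
    by_contra h2
    exact hrs (SigmaBasics.mem_sigma_of_alpha hG hM ⟨hrf.out, h2⟩)), hr2⟩
  obtain ⟨F, hF⟩ := Coprime.exists_hall {t | t ∉ Cfsg.sigma M} (hG.2.2.2 M hM.1)
  have hFc := SylowCentral.isComplIn_of_hall hG hM hF
  obtain ⟨y, hy, hy1⟩ := SetLike.exists_of_lt (bot_lt_iff_ne_bot.mpr hfu)
  obtain ⟨hCu, huniq⟩ := (Cfsg.Agent.S1420.result hG M hM F hFc).2.2.2 u huM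
    (fun e' => hrf.out.ne_one (by rw [← hu, e', orderOf_one]))
    (fun s hs hd => by rw [hu] at hd; rw [(Nat.prime_dvd_prime_iff_eq hs hrf.out).mp hd]; exact hrτ)
    ⟨huM, y, hy.1, fun e' => hy1 (Subgroup.mem_bot.mpr e'),
      (Subgroup.mem_centralizer_singleton_iff.mp hy.2).symm⟩
  set P := Subgroup.zpowers e with hP
  have hPc : Nat.card P = p := line_of_orderOf he
  have hfixP : Cfsg.sigmaCore M ⊓ Subgroup.centralizer (P : Set G) ≠ ⊥ := by
    rwa [hP, SigmaTools.centralizer_zpowers]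
  obtain ⟨L, hL, hNP⟩ := Uniqueness.exists_coatom_normalizer (p := p) hG.2 (ne_bot_of_card hPc) (isPGroup_of_card hPc)
  have hpL := SigmaMutual.mem_sigma_of_fixed hG hM hps hpr1 hPc (Subgroup.zpowers_le.mpr heM) hfixP hL hNP
  have hCe : Subgroup.centralizer ({e} : Set G) ≤ L :=
    (SigmaTools.centralizer_zpowers e).ge.trans ((Subgroup.centralizer_le_normalizer _).trans hNP)
  have heL : e ∈ L := hCe (Subgroup.mem_centralizer_singleton_iff.mpr rfl)
  have huL : u ∈ L := hCe (Subgroup.mem_centralizer_singleton_iff.mpr hcomm.symm.eq)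
  have hne : L ≠ M := fun e' => hps (e' ▸ hpL)
  set R := Subgroup.zpowers u with hR
  have hRc : Nat.card R = r := line_of_orderOf hu
  -- no plane of `L` commutes with `u`
  have hnoB : ∀ B : Subgroup G, B ≤ L → B ≤ Subgroup.centralizer ({u} : Set G) → Cfsg.IsElementaryAbelian r B →
      Nat.card B = r ^ 2 → False := fun B hBL hBu hBe hBc => by
    obtain ⟨A₀, hexc⟩ := TauTwoStructure.exists_exc hG hM hrs (hBu.trans hCu) hBe hBc
    exact hfe (le_bot_iff.mp ((TauTwoStructure.inter_eq_bot hG hexc hL hne hBL).le.trans'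
      (inf_le_inf_left _ hCe)))
  by_cases hrL : Cfsg.PRankLE r 1 L
  · by_cases hrσ : r ∈ Cfsg.sigma L
    · obtain ⟨S, hSL, -⟩ := SigmaFusion.exists_sylow_sigma hrσ
      obtain ⟨A, hAM, hAe, hAc⟩ := UniqueTools.exists_isEA_of_not_rankLE hr2
      obtain ⟨T, hT⟩ := (Fusion.Thompson.isPGroup_isEA hAe).exists_le_sylow
      obtain ⟨g, hg⟩ := MulAction.exists_smul_eq G T S
      refine UniqueTools.not_pRankLE_of_isEA (Fusion.Thompson.isEA_map (MulAut.conj g).toMonoidHom hAe)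
        (by rwa [Subgroup.card_map_of_injective (MulAut.conj g).injective]) ((Subgroup.map_mono hT).trans ?_) hrL
      rintro - ⟨a, ha, rfl⟩
      exact hSL (hg ▸ Solvable.Basic.conj_mem_conj_smul ha)
    · obtain ⟨L', hL', hNR⟩ := Uniqueness.exists_coatom_normalizer (p := r) hG.2 (ne_bot_of_card hRc)
        (isPGroup_of_card hRc)
      have hr' := SigmaMutual.mem_sigma_of_fixed hG hL hrσ hrL hRc (Subgroup.zpowers_le.mpr huL) (fun e' => ?_) hL' hNR
      · exact hrs (huniq L' hL' ((SigmaTools.centralizer_zpowers u).ge.trans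
          ((Subgroup.centralizer_le_normalizer _).trans hNR)) ▸ hr')
      refine hp.out.ne_one ?_
      have : e ∈ Cfsg.sigmaCore L ⊓ Subgroup.centralizer (R : Set G) := ⟨SigmaTools.pGroup_le_sigmaCore hG hL hpL
        (Subgroup.zpowers_le.mpr heL) (isPGroup_of_card hPc) (Subgroup.mem_zpowers e), by
          rw [hR, SigmaTools.centralizer_zpowers]
          exact Subgroup.mem_centralizer_singleton_iff.mpr hcomm.eq⟩
      rw [e', Subgroup.mem_bot] at this
      rw [← he, this, orderOf_one]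
  · obtain ⟨A, hAL, hAe, hAc⟩ := UniqueTools.exists_isEA_of_not_rankLE hrL
    obtain ⟨T, hT⟩ := ((Fusion.Thompson.isPGroup_isEA hAe).of_equiv (Subgroup.subgroupOfEquivOfLe hAL).symm).exists_le_sylow
    obtain ⟨Q, hQ⟩ := (isPGroup_of_card (r := r) (Y := Subgroup.zpowers (⟨u, huL⟩ : L))
      (by rw [Nat.card_zpowers, Subgroup.orderOf_mk, hu])).exists_le_sylow
    have hr1Q : ¬ Cfsg.PRankLE r 1 (Q : Subgroup L) := fun h => hrL (SigmaFusion.pRankLE_of_sylow Q h)
    obtain ⟨B, hBQ, hBe, hB2⟩ := UniqueTools.exists_isEA_of_not_rankLE hr1Q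
    set Q₁ := (Q : Subgroup L).map L.subtype with hQ₁
    have hQ₁L : Q₁ ≤ L := Subgroup.map_subtype_le _
    have hQ₁p : IsPGroup r Q₁ := Q.isPGroup'.map _
    have huQ : u ∈ Q₁ := ⟨⟨u, huL⟩, hQ (Subgroup.mem_zpowers _), rfl⟩
    have hBQ₁ : B.map L.subtype ≤ Q₁ := Subgroup.map_mono hBQ
    have hnc : ¬ IsCyclic Q₁ := fun hc => by
      haveI := hc
      have hBc := Fusion.Thompson.isEA_map L.subtype hBe
      haveI : IsCyclic (B.map L.subtype : Subgroup G) :=
        (Subgroup.subgroupOfEquivOfLe hBQ₁).isCyclic.mp inferInstance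
      have h3 : Nat.card (B.map L.subtype : Subgroup G) ∣ r := by
        rw [← IsCyclic.exponent_eq_card]
        exact Monoid.exponent_dvd_of_forall_pow_eq_one fun a => Subtype.ext (hBc.2 a a.2)
      rw [Subgroup.card_map_of_injective L.subtype_injective] at h3
      have := hB2.trans (Nat.le_of_dvd hrf.out.pos h3)
      have := (Nat.pow_le_pow_iff_right hrf.out.one_lt).mp (this.trans (pow_one r).ge)
      omega
    obtain ⟨A', hA', hA'e, hA'c⟩ := exists_plane_centralizing (fun e' => Nat.not_even_iff_odd.mpr hG.1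
      (even_iff_two_dvd.mpr (e' ▸ hu ▸ orderOf_dvd_natCard u))) hQ₁p hnc huQ hu
    exact hnoB A' (hA'.1.trans hQ₁L) hA'.2 hA'e hA'c

/-- The remaining case: `κ(M) ⊆ τ₁(M)`. -/
theorem of_tau1 (hG : Cfsg.IsMinSimpleOddOrder G) (hM : IsCoatom M) (hE : Cfsg.IsComplIn E (Cfsg.sigmaCore M) M)
    (hK : Cfsg.IsPiHallOf (Cfsg.kappa M) K M) (hK1 : K ≠ ⊥) (hKE : K ≤ E)
    (h1 : ∀ t ∈ Cfsg.kappa M, ¬ t ∣ Nat.card ↥⁅M, M⁆) : ∃ U, Str M E K U := by
  have hEh := ComplementHall.isHall hG hM hE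
  have hrk : ∀ t : ℕ, t.Prime → t ∣ Nat.card K → Cfsg.PRankLE t 1 M := fun t ht hd => by
    haveI := Fact.mk ht
    exact kappa_rank_one (hK.2.1 t ht hd)
  have hτ : ∀ t : ℕ, t.Prime → t ∣ Nat.card K → t ∈ Cfsg.tau1 M := fun t ht hd =>
    ⟨ht, (hK.2.1 t ht hd).2.2.1, (hK.2.1 t ht hd).2.1, h1 t (hK.2.1 t ht hd), hrk t ht hd⟩
  haveI hKc : IsCyclic K := SigmaComplement.tau1_cyclic hG.1 hK.1 hτ
  have hKab : IsMulCommutative K := inferInstance
  obtain ⟨f₀, hf₀K, hf₀o⟩ := exists_prime_elem hK1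
  haveI := Fact.mk hf₀o
  have hkey : ∀ f ∈ K, (orderOf f).Prime → ∀ g ∈ K, (orderOf g).Prime →
      Cfsg.sigmaCore M ⊓ Subgroup.centralizer ({f} : Set G) ≤ Subgroup.centralizer ({g} : Set G) :=
    fun f hf hfo g hg hgo => by
      haveI := Fact.mk hfo
      haveI := Fact.mk hgo
      exact TauThree.pa hG hM (hτ _ hfo (Subgroup.orderOf_dvd_natCard _ hf)) (hK.1 hf) rfl (hK.1 hg) rfl
        (hτ _ hgo (Subgroup.orderOf_dvd_natCard _ hg)).2.1 (PlaneSylow.comm_of hKab hf hg)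
  obtain ⟨hCK, hall⟩ := fix_all hG hM hE hK1 hKE hrk fun f hf hfo =>
    le_antisymm (le_inf inf_le_left (hkey f hf hfo f₀ hf₀K hf₀o)) (le_inf inf_le_left (hkey f₀ hf₀K hf₀o f hf hfo))
  have hne : Cfsg.sigmaCore M ⊓ Subgroup.centralizer (K : Set G) ≠ ⊥ :=
    hCK ▸ kappa_fix (hK.2.1 _ hf₀o (Subgroup.orderOf_dvd_natCard _ hf₀K)) (hK.1 hf₀K) rfl
  have hdE := SigmaComplement.derived_le_self E
  obtain ⟨U, hU, hdU⟩ := Coprime.exists_hall_ge (rest M) (hG.2.2.2 E fun e => hM.1 (top_le_iff.mp (e ▸ hE.1))) hdE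
    fun t ht hd => ⟨ht, fun hk => h1 t hk (hd.trans (Subgroup.card_dvd_of_le (SigmaComplement.derived_le hE))),
      hEh.2.1 t ht (hd.trans (Subgroup.card_dvd_of_le hdE))⟩
  have hEU : E ≤ Subgroup.normalizer (U : Set G) :=
    Subgroup.le_normalizer_iff_commutator_le_right.2 ((Subgroup.commutator_mono le_rfl hU.1).trans hdU)
  have hUM : Cfsg.IsPiHallOf (rest M) U M := ⟨hU.1.trans hE.1, hU.2.1, fun t ht htπ hd => by
    rw [← Subgroup.relIndex_mul_relIndex U E M hU.1 hE.1] at hd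
    exact (ht.dvd_mul.mp hd).elim (hU.2.2 t ht htπ) (hEh.2.2 t ht htπ.2.2)⟩
  have hfree : ∀ k ∈ K, k ≠ 1 → U ⊓ Subgroup.centralizer ({k} : Set G) = ⊥ := fun k hk hk1 => by
    by_contra hne'
    obtain ⟨u, hu, huo⟩ := exists_prime_elem hne'
    obtain ⟨q, hq, hd⟩ := Nat.exists_prime_and_dvd (mt orderOf_eq_one_iff.mp hk1)
    haveI := Fact.mk hq
    haveI := Fact.mk huo
    have hf : orderOf (k ^ (orderOf k / q)) = q := orderOf_pow_orderOf_div (orderOf_pos k).ne' hd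
    have hqk : q ∈ Cfsg.kappa M := hK.2.1 q hq (hd.trans (Subgroup.orderOf_dvd_natCard _ hk))
    have hur := hUM.2.1 _ huo (Subgroup.orderOf_dvd_natCard _ hu.1)
    exact free_elem hG hM hqk (h1 q hqk) (pow_mem (hK.1 hk) _) hf (hUM.1 hu.1) rfl hur.2.2 hur.2.1
      ((show Commute k u from (Subgroup.mem_centralizer_singleton_iff.mp hu.2).symm).pow_left _)
  have hf₀1 : f₀ ≠ 1 := fun e => hf₀o.ne_one (e ▸ orderOf_one)
  have hcomm : IsMulCommutative U := by
    haveI := FPFTools.isNilpotent_of_fpf hf₀o (pow_orderOf_eq_one f₀) (hEU (hKE hf₀K)) (hfree f₀ hf₀K hf₀1)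
    exact TauTwoAbelian.nilpotent_abelian hG hM hUM.1 fun t ht hd => (hUM.2.1 t ht hd).2.2
  have hsup : U ⊔ K = E := by
    refine le_antisymm (sup_le hU.1 hKE)
      (Subgroup.relIndex_eq_one.mp (Nat.eq_one_iff_not_exists_prime_dvd.mpr fun t ht hd => ?_))
    by_cases htk : t ∈ Cfsg.kappa M
    · exact not_dvd_relIndex hK hKE hE.1 ht htk (hd.trans (Subgroup.relIndex_dvd_of_le_left E le_sup_right))
    · exact hU.2.2 t ht ⟨ht, htk, hEh.2.1 t ht (hd.trans (Subgroup.relIndex_dvd_card _ E))⟩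
        (hd.trans (Subgroup.relIndex_dvd_of_le_left E le_sup_left))
  exact ⟨U, hE, hKE, hU.1, hsup, hEU, hcomm, hUM, fun k hk hk1 => (hall k hk hk1).trans hCK.symm, hne, hfree,
    fun X hX _ => (K.le_centralizer.trans (Subgroup.centralizer_le (SetLike.coe_subset_coe.mpr hX))).trans
      (Subgroup.centralizer_le_normalizer _), hK.2.1, Or.inr hKc⟩

/-- A Hall `κ(M)`-subgroup inside a complement comes with a factorisation. -/
theorem exists_str (hG : Cfsg.IsMinSimpleOddOrder G) (hM : IsCoatom M) (hE : Cfsg.IsComplIn E (Cfsg.sigmaCore M) M)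
    (hK : Cfsg.IsPiHallOf (Cfsg.kappa M) K M) (hK1 : K ≠ ⊥) (hKE : K ≤ E) : ∃ U, Str M E K U := by
  by_cases h : ∃ t ∈ Cfsg.kappa M, t ∣ Nat.card ↥⁅M, M⁆
  · obtain ⟨t, htk, htd⟩ := h
    haveI := Fact.mk htk.1
    exact ⟨⊥, of_tau3 hG hM hE hK hKE htk htd⟩
  · exact of_tau1 hG hM hE hK hK1 hKE fun t htk htd => h ⟨t, htk, htd⟩

theorem exists_str' (hG : Cfsg.IsMinSimpleOddOrder G) (hM : IsCoatom M)
    (hK : Cfsg.IsPiHallOf (Cfsg.kappa M) K M) (hK1 : K ≠ ⊥) : ∃ E U, Str M E K U := by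
  obtain ⟨E, hE, hKE⟩ := Coprime.exists_hall_ge {t | t ∉ Cfsg.sigma M} (hG.2.2.2 M hM.1) hK.1
    fun t ht hd => (hK.2.1 t ht hd).2.2.1
  exact ⟨E, exists_str hG hM (SylowCentral.isComplIn_of_hall hG hM hE) hK hK1 hKE⟩

/-- The normalizer in `M` of a line of `K`. -/
theorem Str.inf_normalizer (h : Str M E K U) {X : Subgroup G} (hX : X ≤ K) (hXp : (Nat.card X).Prime) :
    M ⊓ Subgroup.normalizer (X : Set G) = K ⊔ (Cfsg.sigmaCore M ⊓ Subgroup.centralizer (K : Set G)) := by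
  haveI := Fact.mk hXp
  obtain ⟨f, hfX, hfo, hfz⟩ := PrimeAction.exists_gen (Y := X) rfl
  have hf1 : f ≠ 1 := fun e => hXp.ne_one (by rw [← hfo, e, orderOf_one])
  refine le_antisymm (fun m hm => ?_) (sup_le (le_inf (h.le.trans h.compl.1) (h.norm X hX hXp))
    (le_inf (inf_le_left.trans (SigmaTools.sigmaCore_le M)) (inf_le_right.trans
      ((Subgroup.centralizer_le (SetLike.coe_subset_coe.mpr hX)).trans (Subgroup.centralizer_le_normalizer _)))))
  obtain ⟨a, ha, b, hb, rfl⟩ := h.compl.2.2.2 m hm.1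
  have hfE : f ∈ E := h.le (hX hfX)
  have hbf : Commute b f := by
    have h1 : b * f * b⁻¹ ∈ E := by
      have h2 : a * b * f * (a * b)⁻¹ ∈ X := (Subgroup.mem_normalizer_iff.mp hm.2 f).mp hfX
      have h3 := mul_mem (mul_mem (inv_mem ha) (h.le (hX h2))) ha
      rwa [show a⁻¹ * (a * b * f * (a * b)⁻¹) * a = b * f * b⁻¹ by group] at h3
    have h4 : ⁅b, f⁆ ∈ E ⊓ Cfsg.sigmaCore M := by
      refine ⟨?_, ?_⟩
      · rw [commutatorElement_def]; exact E.mul_mem h1 (E.inv_mem hfE)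
      · rw [show ⁅b, f⁆ = b * (f * b⁻¹ * f⁻¹) by simp [commutatorElement_def, mul_assoc]]
        exact mul_mem hb ((Subgroup.mem_normalizer_iff.mp
          (SigmaTools.le_normalizer_sigmaCore M (h.compl.1 hfE)) _).mp ((Cfsg.sigmaCore M).inv_mem hb))
    rw [h.compl.2.2.1, Subgroup.mem_bot] at h4
    exact commutatorElement_eq_one_iff_commute.mp h4
  have hbD : b ∈ Cfsg.sigmaCore M ⊓ Subgroup.centralizer (K : Set G) :=
    (h.fix f (hX hfX) hf1).le ⟨hb, Subgroup.mem_centralizer_singleton_iff.mpr hbf.eq⟩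
  have haX : a ∈ Subgroup.normalizer (X : Set G) := by
    have h5 : b ∈ Subgroup.normalizer (X : Set G) := by
      refine Subgroup.centralizer_le_normalizer _ ?_
      rw [← hfz, SigmaTools.centralizer_zpowers]
      exact Subgroup.mem_centralizer_singleton_iff.mpr hbf.eq
    simpa using (Subgroup.normalizer (X : Set G)).mul_mem hm.2 ((Subgroup.normalizer (X : Set G)).inv_mem h5)
  refine Subgroup.mul_mem_sup ?_ hbD
  -- `a` lies in `K`
  have hKU : K ≤ Subgroup.normalizer (U : Set G) := h.le.trans h.normal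
  have ha' : a ∈ K ⊔ U := by rw [sup_comm, h.sup]; exact ha
  rw [← SetLike.mem_coe, Subgroup.coe_mul_of_left_le_normalizer_right K U hKU] at ha'
  obtain ⟨k, hk, u, hu, rfl⟩ := Set.mem_mul.mp ha'
  have huX : u ∈ Subgroup.normalizer (X : Set G) := by
    simpa using mul_mem (inv_mem (h.norm X hX hXp hk)) haX
  have h6 : ⁅u, f⁆ ∈ U ⊓ Subgroup.centralizer ({f} : Set G) := by
    refine ⟨?_, ?_⟩
    · rw [show ⁅u, f⁆ = u * (f * u⁻¹ * f⁻¹) by simp [commutatorElement_def, mul_assoc]]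
      exact mul_mem hu ((Subgroup.mem_normalizer_iff.mp (hKU (hX hfX)) _).mp (U.inv_mem hu))
    · have h7 : ⁅u, f⁆ ∈ X := by
        rw [commutatorElement_def]
        exact mul_mem ((Subgroup.mem_normalizer_iff.mp huX f).mp hfX) (inv_mem hfX)
      rw [← hfz] at h7
      refine Subgroup.zpowers_le.mpr ?_ h7
      exact Subgroup.mem_centralizer_singleton_iff.mpr rfl
  rw [h.free f (hX hfX) hf1, Subgroup.mem_bot] at h6
  have h8 : u ∈ U ⊓ Subgroup.centralizer ({f} : Set G) :=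
    ⟨hu, Subgroup.mem_centralizer_singleton_iff.mpr (commutatorElement_eq_one_iff_commute.mp h6).eq⟩
  rw [h.free f (hX hfX) hf1, Subgroup.mem_bot] at h8
  rw [h8, mul_one]
  exact hk

/-- A line of `K` is fixed by the normalizer of `K`. -/
theorem Str.inf_normalizer_K (h : Str M E K U) (hK1 : K ≠ ⊥) :
    M ⊓ Subgroup.normalizer (K : Set G) = K ⊔ (Cfsg.sigmaCore M ⊓ Subgroup.centralizer (K : Set G)) := by
  obtain ⟨f, hfK, hfo⟩ := exists_prime_elem hK1
  haveI := Fact.mk hfo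
  set X := Subgroup.zpowers f with hXdef
  have hX : X ≤ K := Subgroup.zpowers_le.mpr hfK
  have hXc : Nat.card X = orderOf f := Nat.card_zpowers f
  refine le_antisymm (fun m hm => ?_) (sup_le (le_inf (h.le.trans h.compl.1) Subgroup.le_normalizer)
    (le_inf (inf_le_left.trans (SigmaTools.sigmaCore_le M)) (inf_le_right.trans (Subgroup.centralizer_le_normalizer _))))
  rw [← h.inf_normalizer hX (hXc.symm ▸ hfo)]
  refine ⟨hm.1, Subgroup.mem_normalizer_iff_map_conj_eq.mpr ?_⟩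
  set X' := cj m X with hX'
  have hX'c : Nat.card X' = orderOf f := by rw [hX', Subgroup.card_map_of_injective (MulAut.conj m).injective, hXc]
  have hX'K : X' ≤ K := (Subgroup.map_mono hX).trans (Subgroup.mem_normalizer_iff_map_conj_eq.mp hm.2).le
  by_contra hne
  have hbot : X' ⊓ X = ⊥ := by
    rcases (Nat.dvd_prime hfo).mp (hX'c ▸ Subgroup.card_dvd_of_le (inf_le_left : X' ⊓ X ≤ X')) with h1 | h1
    · exact Subgroup.eq_bot_of_card_eq _ h1
    · exact absurd ((Subgroup.eq_of_le_of_card_ge inf_le_left (hX'c.le.trans h1.ge)).symm.trans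
        (Subgroup.eq_of_le_of_card_ge inf_le_right (hXc.le.trans h1.ge))) hne
  have hc : X' ≤ Subgroup.centralizer (X : Set G) := by
    refine Subgroup.commutator_eq_bot_iff_le_centralizer.mp (le_bot_iff.mp ?_)
    rw [← hbot]
    exact le_inf (Subgroup.le_normalizer_iff_commutator_le_left.1 (hX.trans (h.norm X' hX'K (hX'c.symm ▸ hfo))))
      (Subgroup.le_normalizer_iff_commutator_le_right.1 (hX'K.trans (h.norm X hX (hXc.symm ▸ hfo))))
  exact hne (PrimeAction.eq_of_rank_one (kappa_rank_one (h.kappa _ hfo (Subgroup.orderOf_dvd_natCard _ hfK))) hX'c hXc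
    ((hX'K.trans h.le).trans h.compl.1) ((hX.trans h.le).trans h.compl.1) hc)

end CfsgLib.OddOrder.KappaHall
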