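import Cfsg.Agent.Lib.OddOrder.NonabelianUnique
import Mathlib

set_option autoImplicit false
set_option linter.style.haveILetI false
set_option linter.unusedSectionVars false

/-!
Uniqueness for centralisers of subgroups of prime order in `M_σ'` or for primes in `β(M)`.
-/

namespace CfsgLib.OddOrder.SigmaUnique

open scoped commutatorElement
open SigmaFusion (cj)

variable {G : Type*} [Group G] [Finite G] {p : ℕ} [hp : Fact p.Prime] {M : Subgroup G}

theorem commutator_mem_center {H : Type*} [Group H] [Finite H] (h3 : Nat.card H = p ^ 3) (a b : H) :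
    ⁅a, b⁆ ∈ Subgroup.center H := by
  set C := Subgroup.center H with hC
  have hH : IsPGroup p H := IsPGroup.of_card h3
  haveI : Nontrivial H := Finite.one_lt_card_iff_nontrivial.mp (h3 ▸ Nat.one_lt_pow (by norm_num) hp.out.one_lt)
  haveI := hH.center_nontrivial
  obtain ⟨i, hi⟩ := (hH.to_subgroup C).exists_card_eq
  have hi0 : i ≠ 0 := fun e => absurd (hi.trans (by rw [e, pow_zero])) (Finite.one_lt_card (α := C)).ne'
  have hidx := Subgroup.card_mul_index C
  rw [hi, h3] at hidx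
  obtain ⟨j, hj⟩ := (hH.to_quotient C).exists_card_eq
  rw [Subgroup.index_eq_card, hj, ← pow_add] at hidx
  have hij : i + j = 3 := Nat.pow_right_injective hp.out.two_le hidx
  have hcomm' : ∀ x y : H ⧸ C, x * y = y * x := by
    rcases (show j = 0 ∨ j = 1 ∨ j = 2 by omega) with e | e | e
    · haveI : Subsingleton (H ⧸ C) := Finite.card_le_one_iff_subsingleton.mp (by rw [hj, e, pow_zero])
      exact fun x y => Subsingleton.elim _ _
    · haveI : IsCyclic (H ⧸ C) := isCyclic_of_prime_card (p := p) (by rw [hj, e, pow_one])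
      letI := IsCyclic.commGroup (α := H ⧸ C)
      exact fun x y => mul_comm x y
    · exact IsPGroup.commutative_of_card_eq_prime_sq (by rw [hj, e])
  rw [← QuotientGroup.eq_one_iff]
  show QuotientGroup.mk' C ⁅a, b⁆ = 1
  rw [map_commutatorElement, commutatorElement_eq_one_iff_mul_comm]
  exact hcomm' _ _

/-- In a `p`-group, the derived subgroup centralises a normal subgroup of order `p ^ 2`. -/
theorem derived_le_centralizer_sq {P U : Subgroup G} (hP : IsPGroup p P) (hUP : U ≤ P)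
    (hPU : P ≤ Subgroup.normalizer (U : Set G)) (hU : Nat.card U = p ^ 2) :
    ⁅P, P⁆ ≤ Subgroup.centralizer (U : Set G) := by
  set C := (Subgroup.centralizer (U : Set G)).subgroupOf P with hC
  haveI : C.Normal := Subgroup.normal_subgroupOf_of_le_normalizer
    (hPU.trans (WLine.normalizer_le_normalizer_centralizer U))
  have hidx : Nat.card (P ⧸ C) ≤ p := by
    rw [← Subgroup.index_eq_card]; exact UniqueTools.relIndex_centralizer_sq hP hUP hPU hU
  have hcomm : ∀ x y : P ⧸ C, x * y = y * x := by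
    obtain ⟨j, hj⟩ := (hP.to_quotient C).exists_card_eq
    have hj1 : j ≤ 1 := (Nat.pow_le_pow_iff_right hp.out.one_lt).mp (by rw [← hj, pow_one]; exact hidx)
    interval_cases j
    · haveI : Subsingleton (P ⧸ C) := Finite.card_le_one_iff_subsingleton.mp (by rw [hj, pow_zero])
      exact fun x y => Subsingleton.elim _ _
    · haveI : IsCyclic (P ⧸ C) := isCyclic_of_prime_card (p := p) (by rw [hj, pow_one])
      letI := IsCyclic.commGroup (α := P ⧸ C)
      exact fun x y => mul_comm x y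
  refine Subgroup.commutator_le.mpr fun a ha b hb => ?_
  have h : QuotientGroup.mk' C ⁅(⟨a, ha⟩ : P), ⟨b, hb⟩⁆ = 1 := by
    rw [map_commutatorElement, commutatorElement_eq_one_iff_mul_comm]
    exact hcomm _ _
  exact Subgroup.mem_subgroupOf.mp ((QuotientGroup.eq_one_iff (⁅(⟨a, ha⟩ : P), ⟨b, hb⟩⁆ : P)).mp h)

theorem card_succ_le {B : Subgroup G} (hB : Cfsg.IsElementaryAbelian p B) {k : ℕ} (h : p ^ k < Nat.card B) :
    p ^ (k + 1) ≤ Nat.card B := by
  obtain ⟨j, hj⟩ := (Fusion.Thompson.isPGroup_isEA hB).exists_card_eq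
  rw [hj] at h ⊢
  exact Nat.pow_le_pow_right hp.out.pos ((Nat.pow_lt_pow_iff_right hp.out.one_lt).mp h)

theorem card_lt_sup {A B : Subgroup G} (h : ¬ B ≤ A) : Nat.card A < Nat.card ↥(A ⊔ B) :=
  Set.ncard_lt_ncard (SetLike.coe_ssubset_coe.mpr
    (lt_of_le_of_ne le_sup_left fun e => h (e.symm ▸ le_sup_right)))

/-- The centraliser in a Sylow subgroup `S` of a suitable line contains a uniquely covered subgroup. -/
theorem exists_big (hG : Cfsg.IsMinSimpleOddOrder G) (hp2 : p ≠ 2) (S : Sylow p G) {X : Subgroup G}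
    (hXS : X ≤ (S : Subgroup G)) (hX : Nat.card X = p)
    (h : Cfsg.IsIdealPrime p G ∨ X ≤ ⁅(S : Subgroup G), (S : Subgroup G)⁆) :
    ∃ B : Subgroup G, B ≤ (S : Subgroup G) ∧ B ≤ Subgroup.centralizer (X : Set G) ∧ Cfsg.InUniqueMaximal B := by
  have hXe : Cfsg.IsElementaryAbelian p X := by
    haveI : IsCyclic X := isCyclic_of_prime_card (p := p) hX
    exact ⟨inferInstance, fun x hx => by
      have := pow_card_eq_one' (x := (⟨x, hx⟩ : X))
      rw [hX] at this
      exact congrArg Subtype.val this⟩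
  have hXX : X ≤ Subgroup.centralizer (X : Set G) := by
    haveI := hXe.1
    exact Subgroup.le_centralizer X
  have big : ∀ B : Subgroup G, B ≤ (S : Subgroup G) → B ≤ Subgroup.centralizer (X : Set G) →
      Cfsg.IsElementaryAbelian p B → p ^ 3 ≤ Nat.card B →
      ∃ B : Subgroup G, B ≤ (S : Subgroup G) ∧ B ≤ Subgroup.centralizer (X : Set G) ∧ Cfsg.InUniqueMaximal B :=
    fun B h1 h2 h3 h4 => ⟨B, h1, h2, UniquenessTheorem.rank_three hG h3 h4⟩
  by_cases hr : Cfsg.PRankLE p 2 (S : Subgroup G)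
  · have hXd := h.resolve_left fun hi => hi.2.1 (SigmaFusion.pRankLE_of_sylow S hr)
    have hX1 : X ≠ ⊥ := fun e => hp.out.ne_one (by rw [← hX, e, Subgroup.card_bot])
    have hna : ¬ IsMulCommutative (S : Subgroup G) := fun hc => hX1
      (le_bot_iff.mp (hXd.trans (Subgroup.commutator_self_eq_bot_iff.mpr hc).le))
    refine ⟨S, le_rfl, ?_, NonabelianUnique.main hG S.isPGroup' hna⟩
    obtain hc | ⟨P₁, P₂, hsup, hcomm, -, h3, -, hcyc, -⟩ := Cfsg.Agent.S1412.result hG p S hr
    · exact absurd hc hna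
    haveI := hcyc
    rw [Subgroup.le_centralizer_iff]
    refine hXd.trans ?_
    have hder : ⁅P₁, P₁⁆ ≤ Subgroup.centralizer ((S : Subgroup G) : Set G) := by
      refine Subgroup.commutator_le.mpr fun a ha b hb => ?_
      have hmem := commutator_mem_center h3 (⟨a, ha⟩ : P₁) ⟨b, hb⟩
      refine Subgroup.le_centralizer_iff.mp ?_ (Subgroup.mem_zpowers ⁅a, b⁆)
      rw [SigmaTools.centralizer_zpowers, ← hsup]
      refine sup_le (fun v hv => Subgroup.mem_centralizer_singleton_iff.mpr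
        (congrArg Subtype.val (Subgroup.mem_center_iff.mp hmem ⟨v, hv⟩)))
        (fun w hw => Subgroup.mem_centralizer_singleton_iff.mpr (hcomm _ ?_ w hw).symm)
      exact mul_mem (mul_mem (mul_mem ha hb) (inv_mem ha)) (inv_mem hb)
    have hP₁N : P₁ ≤ Subgroup.normalizer (P₂ : Set G) :=
      le_trans (fun v hv => Subgroup.mem_centralizer_iff.mpr fun w hw => (hcomm v hv w hw).symm)
        (Subgroup.centralizer_le_normalizer _)
    refine Subgroup.commutator_le.mpr fun x hx y hy => ?_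
    rw [← hsup, sup_comm] at hx hy
    obtain ⟨b, hb, a, ha, rfl⟩ := (Coprime.mem_sup_of_le_normalizer hP₁N).mp hx
    obtain ⟨d, hd, c, hc, rfl⟩ := (Coprime.mem_sup_of_le_normalizer hP₁N).mp hy
    have c1 : Commute b d := by
      letI := IsCyclic.commGroup (α := P₂)
      exact congrArg Subtype.val (mul_comm (⟨b, hb⟩ : P₂) ⟨d, hd⟩)
    have c2 : Commute c b := hcomm c hc b hb
    have c3 : Commute a d := hcomm a ha d hd
    have c4 : ∀ u ∈ P₁, Commute u b := fun u hu => hcomm u hu b hb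
    have c5 : ∀ u ∈ P₁, Commute u d := fun u hu => hcomm u hu d hd
    have he : ⁅b * a, d * c⁆ = ⁅a, c⁆ := by
      have e1 : Commute b (a * (d * c) * a⁻¹) :=
        ((c4 a ha).symm.mul_right (c1.mul_right c2.symm)).mul_right (c4 _ (inv_mem ha)).symm
      rw [commutatorElement_def, commutatorElement_def]
      calc b * a * (d * c) * (b * a)⁻¹ * (d * c)⁻¹ = b * (a * (d * c) * a⁻¹) * b⁻¹ * (d * c)⁻¹ := by group
        _ = a * (d * c) * a⁻¹ * (d * c)⁻¹ := by rw [e1.eq, mul_inv_cancel_right]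
        _ = (a * d) * c * a⁻¹ * (d * c)⁻¹ := by group
        _ = d * (a * c * a⁻¹ * c⁻¹) * d⁻¹ := by rw [c3.eq]; group
        _ = _ := by rw [← (c5 _ (mul_mem (mul_mem (mul_mem ha hc) (inv_mem ha)) (inv_mem hc))).eq, mul_inv_cancel_right]
    rw [he]
    exact hder (Subgroup.commutator_mem_commutator ha hc)
  obtain ⟨E, hES, hEe, hE3⟩ := UniqueTools.exists_isEA_of_not_rankLE hr
  rcases h with hi | hXd
  · obtain ⟨z, hzS, hzc, hz⟩ : ∃ z ∈ (S : Subgroup G),
        z ∈ Subgroup.centralizer ((S : Subgroup G) : Set G) ∧ orderOf z = p := by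
      haveI : Nontrivial (S : Subgroup G) := (Subgroup.nontrivial_iff_ne_bot _).mpr fun e => hp.out.ne_one
        (by rw [← hX, Subgroup.eq_bot_of_card_eq X (le_antisymm ((Subgroup.card_le_of_le hXS).trans
          (by rw [e, Subgroup.card_bot])) Nat.card_pos), Subgroup.card_bot])
      haveI := S.isPGroup'.center_nontrivial
      obtain ⟨z, hz⟩ := exists_prime_orderOf_dvd_card' (G := Subgroup.center (S : Subgroup G)) p
        ((S.isPGroup'.to_subgroup _).card_eq_or_dvd.resolve_left Finite.one_lt_card.ne')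
      exact ⟨((z : (S : Subgroup G)) : G), z.1.2, Subgroup.mem_centralizer_iff.mpr fun s hs =>
        congrArg Subtype.val (Subgroup.mem_center_iff.mp z.2 ⟨s, hs⟩), by rw [Subgroup.orderOf_coe, Subgroup.orderOf_coe, hz]⟩
    have hZc : (S : Subgroup G) ≤ Subgroup.centralizer (Subgroup.zpowers z : Set G) :=
      Subgroup.le_centralizer_iff.mp (Subgroup.zpowers_le.mpr hzc)
    by_cases hzX : z ∈ X
    · refine big E hES (hES.trans (hZc.trans ?_)) hEe hE3
      rw [Subgroup.eq_of_le_of_card_ge (Subgroup.zpowers_le.mpr hzX) (by rw [hX, Nat.card_zpowers, hz])]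
    have hAe : Cfsg.IsElementaryAbelian p (X ⊔ Subgroup.zpowers z) :=
      Replacement.isEA_sup hXe (Replacement.isEA_zpowers (by rw [← hz, pow_orderOf_eq_one])) (hXS.trans hZc)
    have hAS : X ⊔ Subgroup.zpowers z ≤ (S : Subgroup G) := sup_le hXS (Subgroup.zpowers_le.mpr hzS)
    have hA2 : p ^ 2 ≤ Nat.card ↥(X ⊔ Subgroup.zpowers z) := card_succ_le hAe (by
      rw [pow_one]
      exact hX.symm.le.trans_lt (card_lt_sup fun h => hzX (h (Subgroup.mem_zpowers z))))
    have hAX : ∀ B : Subgroup G, Cfsg.IsElementaryAbelian p B → X ≤ B → B ≤ Subgroup.centralizer (X : Set G) :=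
      fun B hB hXB => by
        haveI := hB.1
        exact B.le_centralizer.trans (Subgroup.centralizer_le (SetLike.coe_subset_coe.mpr hXB))
    rcases hA2.eq_or_lt with hA2 | hA2
    · obtain ⟨B, hBS, hBe, hAB⟩ := hi.2.2 S _ hAS hAe hA2.symm
      exact big B hBS (hAX B hBe (le_sup_left.trans hAB.le)) hBe (card_succ_le hBe
        (hA2.le.trans_lt (Set.ncard_lt_ncard (SetLike.coe_ssubset_coe.mpr hAB))))
    · exact big _ hAS (hAX _ hAe le_sup_left) hAe (card_succ_le hAe hA2)
  obtain ⟨W, -, hWn, hWe, hW3⟩ := SCN3.exists_normal_isEA (R := (S : Subgroup G)) hp2 S.isPGroup'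
    hr ⊥ (Fusion.Thompson.isEA_bot)
  haveI := hWn
  obtain ⟨U₀, -, hU₀n, hU₀e, hU₀c⟩ := Fusion.NormalRankTwo.exists_of_abelian S.isPGroup' (A := W) hWe.1
    (SCNTransitivity.not_isCyclic_of_card hWe (lt_of_lt_of_le
      (by simpa using Nat.pow_lt_pow_right hp.out.one_lt (show 1 < 3 by norm_num)) hW3))
  set U := U₀.map (S : Subgroup G).subtype with hU
  have hUS : U ≤ (S : Subgroup G) := Subgroup.map_subtype_le _
  have hUe : Cfsg.IsElementaryAbelian p U := Fusion.Thompson.isEA_map _ hU₀e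
  have hUc : Nat.card U = p ^ 2 := by
    rw [hU, Subgroup.card_map_of_injective (S : Subgroup G).subtype_injective, hU₀c]
  have hSU : (S : Subgroup G) ≤ Subgroup.normalizer (U : Set G) := by
    haveI := hU₀n
    have h := Subgroup.le_normalizer_map (H := U₀) (S : Subgroup G).subtype
    rwa [Subgroup.normalizer_eq_top (H := U₀), ← MonoidHom.range_eq_map, Subgroup.range_subtype] at h
  have hXU := hXd.trans (derived_le_centralizer_sq S.isPGroup' hUS hSU hUc)
  haveI := hUe.1
  by_cases hle : X ≤ U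
  · have hc2 := UniqueTools.card_centralizer_inf S.isPGroup' hUS hSU hUc hES hE3
    set E₁ := E ⊓ Subgroup.centralizer (U : Set G) with hE₁
    have hBe : Cfsg.IsElementaryAbelian p (U ⊔ E₁) := Replacement.isEA_sup hUe
      (Fusion.Thompson.isEA_le hEe inf_le_left) (Subgroup.le_centralizer_iff.mp inf_le_right)
    refine big (U ⊔ E₁) (sup_le hUS (inf_le_left.trans hES)) ((sup_le U.le_centralizer inf_le_right).trans
      (Subgroup.centralizer_le (SetLike.coe_subset_coe.mpr hle))) hBe (card_succ_le hBe ?_)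
    refine hUc.symm.le.trans_lt (card_lt_sup fun hEU => ?_)
    have hE₁U : E₁ = U := Subgroup.eq_of_le_of_card_ge hEU (hUc.le.trans hc2)
    have hEC : E ≤ Subgroup.centralizer (U : Set G) := by
      haveI := hEe.1
      exact E.le_centralizer.trans (Subgroup.centralizer_le (SetLike.coe_subset_coe.mpr (hE₁U ▸ inf_le_left)))
    have : E₁ = E := inf_eq_left.mpr hEC
    rw [← this, hE₁U, hUc] at hE3
    exact absurd hE3 (not_le.mpr (Nat.pow_lt_pow_right hp.out.one_lt (by norm_num)))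
  · have hBe : Cfsg.IsElementaryAbelian p (U ⊔ X) := Replacement.isEA_sup hUe hXe (Subgroup.le_centralizer_iff.mp hXU)
    exact big (U ⊔ X) (sup_le hUS hXS) (sup_le (Subgroup.le_centralizer_iff.mp hXU) hXX) hBe
      (card_succ_le hBe (hUc.symm.le.trans_lt (card_lt_sup hle)))

/-- In a group with a normal `p`-complement, `P ∩ H' ≤ P'`. -/
theorem inf_derived_le {H : Type*} [Group H] [Finite H] (h : Cfsg.HasNormalPComplement p H) (P : Sylow p H) :
    (P : Subgroup H) ⊓ _root_.commutator H ≤ ⁅(P : Subgroup H), (P : Subgroup H)⁆ := by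
  obtain ⟨P₀, N, hN, hc⟩ := h
  haveI := hN
  have hcard : Nat.card N * Nat.card P = Nat.card H := by
    rw [P.card_eq_multiplicity, ← P₀.card_eq_multiplicity]; exact hc.card_mul
  have hcop : (Nat.card N).Coprime (Nat.card P) := by
    rw [P.card_eq_multiplicity, ← P₀.card_eq_multiplicity, ← hc.index_eq_card]
    exact P₀.card_coprime_index.symm
  have hc' := Subgroup.isComplement'_of_coprime hcard hcop
  have hs : (P : Subgroup H).map (QuotientGroup.mk' N) = ⊤ := by
    rw [← Subgroup.map_top_of_surjective _ (QuotientGroup.mk'_surjective N), ← hc'.sup_eq_top, Subgroup.map_sup,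
      QuotientGroup.map_mk'_self, bot_sup_eq]
  rintro x ⟨hxP, hx⟩
  have : QuotientGroup.mk' N x ∈ (⁅(P : Subgroup H), (P : Subgroup H)⁆).map (QuotientGroup.mk' N) := by
    rw [Subgroup.map_commutator, hs, ← Subgroup.map_top_of_surjective _ (QuotientGroup.mk'_surjective N),
      ← Subgroup.map_commutator]
    exact Subgroup.mem_map_of_mem _ hx
  obtain ⟨y, hy, hyx⟩ := this
  have h1 : y⁻¹ * x ∈ N := QuotientGroup.eq.mp hyx
  have h2 : y⁻¹ * x ∈ (P : Subgroup H) := mul_mem (inv_mem (Subgroup.commutator_le_self _ hy)) hxP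
  have h3 := disjoint_iff_inf_le.mp hc'.disjoint ⟨h1, h2⟩
  rw [Subgroup.mem_bot, inv_mul_eq_one] at h3
  exact h3 ▸ hy

/-- **Uniqueness for `C(X)`.** -/
theorem main (hG : Cfsg.IsMinSimpleOddOrder G) (hM : IsCoatom M) (hps : p ∈ Cfsg.sigma M) {X : Subgroup G}
    (hXM : X ≤ M) (hX : Nat.card X = p) (P : Sylow p ↥(Cfsg.sigmaCore M))
    (h : p ∈ Cfsg.beta M ∨ X ≤ ⁅Cfsg.sigmaCore M, Cfsg.sigmaCore M⁆) :
    (Subgroup.centralizer (X : Set G) ≤ M ∧
      ∀ L : Subgroup G, IsCoatom L → Subgroup.centralizer (X : Set G) ≤ L → L = M) ∧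
    Cfsg.InUniqueMaximal ((P : Subgroup ↥(Cfsg.sigmaCore M)).map (Cfsg.sigmaCore M).subtype) ∧
      (P : Subgroup ↥(Cfsg.sigmaCore M)).map (Cfsg.sigmaCore M).subtype ≤ M := by
  set P₀ := (P : Subgroup (Cfsg.sigmaCore M)).map (Cfsg.sigmaCore M).subtype with hP₀
  have hKM : (Cfsg.sigmaCore M) ≤ M := SigmaTools.sigmaCore_le M
  have hP₀M : P₀ ≤ M := (Subgroup.map_subtype_le _).trans hKM
  have hp2 : p ≠ 2 := fun e => Nat.not_even_iff_odd.mpr hG.1 (even_iff_two_dvd.mpr (e ▸ SigmaTools.sigma_dvd hps))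
  obtain ⟨T, hT, hTP⟩ : ∃ T : Sylow p G, P₀ ≤ T ∧ Nat.card (T : Subgroup G) = Nat.card P₀ := by
    obtain ⟨T, hT⟩ := (P.isPGroup'.map (Cfsg.sigmaCore M).subtype).exists_le_sylow
    obtain ⟨S₀, hS₀M, -⟩ := SigmaFusion.exists_sylow_sigma hps
    have hS₀K := SigmaTools.pGroup_le_sigmaCore hG hM hps hS₀M S₀.isPGroup'
    refine ⟨T, hT, ?_⟩
    rw [hP₀, Subgroup.card_map_of_injective (Cfsg.sigmaCore M).subtype_injective, T.card_eq_multiplicity, ← S₀.card_eq_multiplicity,
      P.card_eq_multiplicity, ← (S₀.subtype hS₀K).card_eq_multiplicity, Sylow.coe_subtype,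
      Nat.card_congr (Subgroup.subgroupOfEquivOfLe hS₀K).toEquiv]
  have hTe : (T : Subgroup G) = P₀ := (Subgroup.eq_of_le_of_card_ge hT hTP.le).symm
  have hXp : IsPGroup p X := IsPGroup.of_card (n := 1) (by rw [hX, pow_one])
  have hXK : X ≤ (Cfsg.sigmaCore M) := SigmaTools.pGroup_le_sigmaCore hG hM hps hXM hXp
  obtain ⟨T', hT'⟩ := ((hXp.of_equiv (Subgroup.subgroupOfEquivOfLe hXK).symm)).exists_le_sylow
  obtain ⟨k, hk⟩ := MulAction.exists_smul_eq (Cfsg.sigmaCore M) T' P
  set X' := cj (k : G) X with hX'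
  have hX'c : Nat.card X' = p := by
    rw [hX', cj, Subgroup.card_map_of_injective (MulAut.conj (k : G)).injective, hX]
  have hX'P : X' ≤ P₀ := by
    rintro _ ⟨x, hx, rfl⟩
    refine ⟨k * ⟨x, hXK hx⟩ * k⁻¹, ?_, rfl⟩
    rw [← hk, Sylow.coe_subgroup_smul]
    exact ⟨⟨x, hXK hx⟩, hT' hx, rfl⟩
  have hk' : cj (k : G) (Cfsg.sigmaCore M) = (Cfsg.sigmaCore M) := SigmaFusion.cj_eq_self (Subgroup.le_normalizer k.2)
  obtain ⟨B, hBS, hBC, hB⟩ := exists_big hG hp2 T (hTe ▸ hX'P) hX'c (by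
    by_cases hb : p ∈ Cfsg.beta M
    · exact Or.inl hb.2
    refine Or.inr ?_
    have hd : X' ≤ ⁅(Cfsg.sigmaCore M), (Cfsg.sigmaCore M)⁆ := by
      refine (Subgroup.map_mono (h.resolve_left hb)).trans ?_
      rw [Subgroup.map_commutator]
      exact le_of_eq (congrArg₂ _ hk' hk')
    rw [hTe, hP₀, ← Subgroup.map_commutator]
    intro x hx
    obtain ⟨y, hy, rfl⟩ := (Subgroup.map_subtype_commutator (Cfsg.sigmaCore M)).ge (hd hx)
    obtain ⟨y', hy', e⟩ := hX'P hx
    refine ⟨y, inf_derived_le (NarrowMaximal.npc_of_le_derived hG hM hps.2.1 hb (SigmaCore.le_derived hG hM)) P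
      ⟨(Cfsg.sigmaCore M).subtype_injective e ▸ hy', hy⟩, rfl⟩)
  rw [hTe] at hBS
  have hBM := hBS.trans hP₀M
  refine ⟨?_, UniqueTools.unique_mono hB hBS (fun e => hM.1 (top_le_iff.mp (e ▸ hP₀M))), hP₀M⟩
  have hne : Subgroup.centralizer (X : Set G) ≠ ⊤ := fun e => by
    haveI : Group.IsNilpotent X := hXp.isNilpotent
    refine Uniqueness.normalizer_ne_top hG.2 (P := X) (fun e => hp.out.ne_one (by rw [← hX, e, Subgroup.card_bot]))
      inferInstance (top_le_iff.mp (e.ge.trans (Subgroup.centralizer_le_normalizer _)))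
  have huniq : ∀ L : Subgroup G, IsCoatom L → Subgroup.centralizer (X : Set G) ≤ L → L = M := by
    intro L hL hle
    obtain ⟨M₀, -, hu⟩ := hB
    have h1 : B ≤ cj (k : G) L := fun b hb => SigmaTools.mem_cj.mpr (hle (Subgroup.mem_centralizer_iff.mpr fun x hx => by
      have := Subgroup.mem_centralizer_iff.mp (hBC hb) ((k : G) * x * (k : G)⁻¹) ⟨x, hx, rfl⟩
      calc x * ((k : G)⁻¹ * b * k) = (k : G)⁻¹ * (((k : G) * x * (k : G)⁻¹) * b) * k := by group
        _ = (k : G)⁻¹ * (b * ((k : G) * x * (k : G)⁻¹)) * k := by rw [this]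
        _ = _ := by group))
    have h2 := (hu _ ⟨SigmaFusion.isCoatom_cj hL _, h1⟩).trans (hu M ⟨hM, hBM⟩).symm
    rw [← SigmaFusion.cj_one L, ← inv_mul_cancel (k : G), ← SigmaFusion.cj_cj, h2]
    exact SigmaFusion.cj_eq_self (Subgroup.le_normalizer (inv_mem (hKM k.2)))
  refine ⟨?_, huniq⟩
  obtain ⟨L, hL, hCL⟩ := (eq_top_or_exists_le_coatom _).resolve_left hne
  exact huniq L hL hCL ▸ hCL

end CfsgLib.OddOrder.SigmaUnique
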