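import Cfsg.Agent.Lib.OddOrder.KappaHall
import Cfsg.Agent.Lib.OddOrder.SigmaUnique
import Cfsg.Agent.S1423
import Cfsg.Agent.S1425
import Cfsg.Agent.S1426
import Mathlib

set_option autoImplicit false
set_option linter.style.haveILetI false
set_option linter.unusedSectionVars false

/-!
The fixed points `K*` of a Hall `κ(M)`-subgroup on `M_σ` (BG 14.2 (d)–(f)).
-/

namespace CfsgLib.OddOrder.KappaStar

open scoped commutatorElement
open SigmaFusion (cj)
open RankOneTools (isPGroup_of_card ne_bot_of_card line_of_orderOf)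
open KappaHall (Str)

variable {G : Type*} [Group G] [Finite G] {p r : ℕ} [hp : Fact p.Prime] [hrf : Fact r.Prime]
  {M E K U : Subgroup G}

omit hp hrf in
theorem star_le (h : Str M E K U) {f : G} (hf : f ∈ K) :
    Cfsg.sigmaCore M ⊓ Subgroup.centralizer (K : Set G) ≤ Subgroup.centralizer ({f} : Set G) :=
  inf_le_right.trans (Subgroup.centralizer_le (Set.singleton_subset_iff.mpr hf))

/-- The maximal subgroup over the normalizer of a line of `K`. -/
theorem exists_L (hG : Cfsg.IsMinSimpleOddOrder G) (hM : IsCoatom M) (h : Str M E K U) {f : G} (hf : f ∈ K)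
    (hfo : orderOf f = r) : ∃ L : Subgroup G, IsCoatom L ∧ r ∈ Cfsg.sigma L ∧ (∀ g : G, L ≠ cj g M) ∧
      Subgroup.normalizer (Subgroup.zpowers f : Set G) ≤ L ∧ Subgroup.centralizer ({f} : Set G) ≤ L := by
  set X := Subgroup.zpowers f with hX
  have hXc : Nat.card X = r := line_of_orderOf hfo
  obtain ⟨L, hL, hNX⟩ := Uniqueness.exists_coatom_normalizer (p := r) hG.2 (ne_bot_of_card hXc) (isPGroup_of_card hXc)
  have hk := h.kappa r hrf.out (hfo ▸ Subgroup.orderOf_dvd_natCard _ hf)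
  have hfM : f ∈ M := h.compl.1 (h.le hf)
  have hrL := SigmaMutual.mem_sigma_of_fixed hG hM hk.2.2.1 (KappaHall.kappa_rank_one hk) hXc
    (Subgroup.zpowers_le.mpr hfM) (by rw [hX, SigmaTools.centralizer_zpowers]; exact KappaHall.kappa_fix hk hfM hfo)
    hL hNX
  exact ⟨L, hL, hrL, SigmaMutual.nonconj_of_sigma hrL hk.2.2.1, hNX,
    (SigmaTools.centralizer_zpowers f).ge.trans ((Subgroup.centralizer_le_normalizer _).trans hNX)⟩

/-- Elements of prime order of `K*` have their centralisers in `M`. -/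
theorem centralizer_le (hG : Cfsg.IsMinSimpleOddOrder G) (hM : IsCoatom M) (h : Str M E K U) (hK1 : K ≠ ⊥) {y : G}
    (hy : y ∈ Cfsg.sigmaCore M ⊓ Subgroup.centralizer (K : Set G)) (hyo : orderOf y = p) :
    Subgroup.centralizer ({y} : Set G) ≤ M ∧ ∃ L : Subgroup G, IsCoatom L ∧
      Cfsg.sigmaCore M ⊓ Subgroup.centralizer (K : Set G) ≤ L ∧ Cfsg.PRankLE p 1 L := by
  obtain ⟨f, hfK, hfo⟩ := KappaHall.exists_prime_elem hK1
  haveI := Fact.mk hfo
  obtain ⟨L, hL, hrL, hnc, -, hCL⟩ := exists_L hG hM h hfK rfl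
  have hps : p ∈ Cfsg.sigma M := SigmaTools.mem_sigma_of_card (hyo ▸ Subgroup.orderOf_dvd_natCard _ hy.1)
  have hc := star_le h hfK hy
  obtain ⟨h1, h2⟩ := SigmaMutual.mutual_fix hG hM hL hnc hps hrL hyo rfl (SigmaTools.sigmaCore_le M hy.1)
    (hCL hc) (h.compl.1 (h.le hfK)) (hCL (Subgroup.mem_centralizer_singleton_iff.mpr rfl))
    (show Commute y f from Subgroup.mem_centralizer_singleton_iff.mp hc)
  exact ⟨(SigmaTools.centralizer_zpowers y).ge.trans ((Subgroup.centralizer_le_normalizer _).trans h2),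
    L, hL, (star_le h hfK).trans hCL, h1⟩

omit hp hrf in
/-- `K*` meets no other conjugate of `M`. -/
theorem ti (hG : Cfsg.IsMinSimpleOddOrder G) (hM : IsCoatom M) (h : Str M E K U) (hK1 : K ≠ ⊥) {g : G}
    (hg : g ∉ M) : (Cfsg.sigmaCore M ⊓ Subgroup.centralizer (K : Set G)) ⊓ cj g M = ⊥ := by
  by_contra hne
  obtain ⟨y, hy, hyo⟩ := KappaHall.exists_prime_elem hne
  haveI := Fact.mk hyo
  obtain ⟨hC, -⟩ := centralizer_le hG hM h hK1 hy.1 rfl
  have hYM : Subgroup.zpowers y ≤ M := Subgroup.zpowers_le.mpr (SigmaTools.sigmaCore_le M hy.1.1)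
  have hY := line_of_orderOf (y := y) rfl
  obtain ⟨m, hm, c, hc, e⟩ := (SigmaFusion.main hG hM
    (SigmaTools.mem_sigma_of_card (Subgroup.orderOf_dvd_natCard _ hy.1.1)) (isPGroup_of_card hY) (ne_bot_of_card hY)
    hYM).1 g⁻¹ (by
      refine (Subgroup.map_mono (Subgroup.zpowers_le.mpr hy.2)).trans ?_
      show cj g⁻¹ (cj g M) ≤ M
      rw [SigmaFusion.cj_cj, inv_mul_cancel, SigmaFusion.cj_one])
  rw [SigmaTools.centralizer_zpowers] at hc
  have : g⁻¹ ∈ M := e ▸ mul_mem hm (hC hc)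
  exact hg (by simpa using inv_mem this)

omit hp hrf in
/-- A `σ(M)`-subgroup meeting `K*` lies in `M_σ`. -/
theorem le_of_meet (hG : Cfsg.IsMinSimpleOddOrder G) (hM : IsCoatom M) (h : Str M E K U) (hK1 : K ≠ ⊥)
    {Y : Subgroup G} (hY : ∀ t : ℕ, t.Prime → t ∣ Nat.card Y → t ∈ Cfsg.sigma M)
    (hne : Y ⊓ (Cfsg.sigmaCore M ⊓ Subgroup.centralizer (K : Set G)) ≠ ⊥) : Y ≤ Cfsg.sigmaCore M := by
  obtain ⟨g, hg⟩ := Cfsg.Agent.S1425.result hG M hM Y (fun e => hne (by rw [e, bot_inf_eq])) hY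
  have hgM : g ∈ M := by
    by_contra hgn
    refine hne (le_bot_iff.mp ((ti hG hM h hK1 (g := g⁻¹) (fun e => hgn (by simpa using inv_mem e))).le.trans' ?_))
    refine fun y hy => ⟨hy.2, SigmaTools.mem_cj.mpr ?_⟩
    rw [inv_inv]
    exact SigmaTools.sigmaCore_le M (hg ⟨y, hy.1, rfl⟩)
  have h1 := Subgroup.mem_normalizer_iff_map_conj_eq.mp (SigmaTools.le_normalizer_sigmaCore M hgM)
  intro y hy
  have h2 : MulAut.conj g y ∈ cj g (Cfsg.sigmaCore M) := h1.ge (hg ⟨y, hy, rfl⟩)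
  exact (Subgroup.mem_map_iff_mem (MulAut.conj g).injective).mp h2

/-- Two lines of the same order in `K` coincide. -/
theorem line_unique (h : Str M E K U) {X X' : Subgroup G} (hX : Nat.card X = r) (hX' : Nat.card X' = r)
    (hXK : X ≤ K) (hX'K : X' ≤ K) : X' = X := by
  have hr1 := KappaHall.kappa_rank_one (h.kappa r hrf.out (hX ▸ Subgroup.card_dvd_of_le hXK))
  by_contra hne
  have hbot : X' ⊓ X = ⊥ := by
    rcases (Nat.dvd_prime hrf.out).mp (hX' ▸ Subgroup.card_dvd_of_le (inf_le_left : X' ⊓ X ≤ X')) with h1 | h1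
    · exact Subgroup.eq_bot_of_card_eq _ h1
    · exact absurd ((Subgroup.eq_of_le_of_card_ge inf_le_left (hX'.le.trans h1.ge)).symm.trans
        (Subgroup.eq_of_le_of_card_ge inf_le_right (hX.le.trans h1.ge))) hne
  have hc : X' ≤ Subgroup.centralizer (X : Set G) := by
    refine Subgroup.commutator_eq_bot_iff_le_centralizer.mp (le_bot_iff.mp ?_)
    rw [← hbot]
    exact le_inf (Subgroup.le_normalizer_iff_commutator_le_left.1 (hXK.trans (h.norm X' hX'K (hX'.symm ▸ hrf.out))))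
      (Subgroup.le_normalizer_iff_commutator_le_right.1 (hX'K.trans (h.norm X hXK (hX.symm ▸ hrf.out))))
  exact hne (PrimeAction.eq_of_rank_one hr1 hX' hX ((hX'K.trans h.le).trans h.compl.1)
    ((hXK.trans h.le).trans h.compl.1) hc)

omit hp hrf in
theorem ti_K (h : Str M E K U) {g : G} (hg : g ∈ M)
    (hgK : g ∉ K ⊔ (Cfsg.sigmaCore M ⊓ Subgroup.centralizer (K : Set G))) : K ⊓ cj g K = ⊥ := by
  by_contra hne
  obtain ⟨f, hf, hfo⟩ := KappaHall.exists_prime_elem hne
  haveI := Fact.mk hfo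
  have hX : Subgroup.zpowers f ≤ K := Subgroup.zpowers_le.mpr hf.1
  have hX' : cj g⁻¹ (Subgroup.zpowers f) ≤ K := by
    refine (Subgroup.map_mono (Subgroup.zpowers_le.mpr hf.2)).trans ?_
    show cj g⁻¹ (cj g K) ≤ K
    rw [SigmaFusion.cj_cj, inv_mul_cancel, SigmaFusion.cj_one]
  have heq := line_unique h (line_of_orderOf (y := f) rfl)
    (by rw [Subgroup.card_map_of_injective (MulAut.conj g⁻¹).injective, Nat.card_zpowers]) hX hX'
  refine hgK ((h.inf_normalizer hX ((Nat.card_zpowers f).symm ▸ hfo)).le ⟨hg, ?_⟩)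
  have := Subgroup.mem_normalizer_iff_map_conj_eq.mpr heq
  simpa using inv_mem this

/-- A cyclic Sylow subgroup of `M_σ` is not in the derived group of `M_σ`. -/
theorem not_le_derived (hG : Cfsg.IsMinSimpleOddOrder G) (hM : IsCoatom M) (ha : p ∉ Cfsg.alpha M)
    (S : Sylow p ↥(Cfsg.sigmaCore M)) (hd : p ∣ Nat.card (Cfsg.sigmaCore M)) (hcyc : IsCyclic (S : Subgroup ↥(Cfsg.sigmaCore M))) :
    ¬ (S : Subgroup ↥(Cfsg.sigmaCore M)).map (Cfsg.sigmaCore M).subtype ≤ ⁅Cfsg.sigmaCore M, Cfsg.sigmaCore M⁆ := by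
  intro hle
  set f := QuotientGroup.mk' (Cfsg.piCore (Cfsg.alpha M) M) with hf
  haveI := (SigmaBasics.quotient_facts hG hM).2.2
  set V₀ := Cfsg.piCore (Cfsg.sigma M) M with hV₀
  set φ : (Cfsg.sigmaCore M) →* (M ⧸ Cfsg.piCore (Cfsg.alpha M) M) := f.comp (Subgroup.inclusion (SigmaTools.sigmaCore_le M)) with hφ
  set W := φ.range with hW
  have hWle : W ≤ (_root_.commutator M).map f := by
    rintro _ ⟨v, rfl⟩
    refine ⟨Subgroup.inclusion (SigmaTools.sigmaCore_le M) v, SigmaCore.piCore_le_commutator hG hM ?_, rfl⟩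
    obtain ⟨w, hw, hwv⟩ := v.2
    rwa [show Subgroup.inclusion (SigmaTools.sigmaCore_le M) v = w from Subtype.ext hwv.symm]
  haveI : Group.IsNilpotent W :=
    Group.nilpotent_of_mulEquiv (Subgroup.subgroupOfEquivOfLe hWle)
  set ψ : (Cfsg.sigmaCore M) →* W := φ.rangeRestrict with hψ
  set P := S.mapSurjective (f := ψ) φ.rangeRestrict_surjective with hP
  haveI : IsCyclic (P : Subgroup W) := by
    haveI : IsCyclic (S : Subgroup (Cfsg.sigmaCore M)) := hcyc
    rw [hP, Sylow.coe_mapSurjective]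
    exact isCyclic_of_surjective _ (ψ.subgroupMap_surjective (S : Subgroup (Cfsg.sigmaCore M)))
  -- the Sylow subgroup of the nilpotent image is central
  have hPc : (P : Subgroup W) ≤ Subgroup.center W := by
    intro z hz
    rw [Subgroup.mem_center_iff]
    intro w
    have htop : Subgroup.centralizer ({z} : Set W) = ⊤ := by
      refine Solvable.Cores.eq_top_of_sylow_le _ fun t ht => ?_
      haveI := Fact.mk ht
      by_cases htp : t = p
      · subst htp
        exact ⟨P, fun w hw => Subgroup.mem_centralizer_singleton_iff.mpr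
          (congrArg Subtype.val (mul_comm' (⟨w, hw⟩ : (P : Subgroup W)) ⟨z, hz⟩))⟩
      · obtain ⟨T⟩ : Nonempty (Sylow t W) := inferInstance
        refine ⟨T, fun w hw => Subgroup.mem_centralizer_singleton_iff.mpr ?_⟩
        obtain ⟨i, hi⟩ := IsPGroup.iff_orderOf.mp T.isPGroup' ⟨w, hw⟩
        obtain ⟨j, hj⟩ := IsPGroup.iff_orderOf.mp P.isPGroup' ⟨z, hz⟩
        rw [Subgroup.orderOf_mk] at hi hj
        exact (Basic.commute_of_coprime_orderOf (hi ▸ hj ▸ ((Nat.coprime_primes ht hp.out).mpr htp).pow i j)).eq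
    exact (Subgroup.mem_centralizer_singleton_iff.mp (htop.ge (Subgroup.mem_top w)))
  have hburn : Subgroup.normalizer ((P : Subgroup W) : Set W) ≤ Subgroup.centralizer ((P : Subgroup W) : Set W) :=
    fun w _ => Subgroup.mem_centralizer_iff.mpr fun z hz => (Subgroup.mem_center_iff.mp (hPc hz) w).symm
  have hker : _root_.commutator W ≤ (MonoidHom.transferSylow P hburn).ker := by
    haveI : IsMulCommutative (P : Subgroup W) := inferInstance
    rw [_root_.commutator_def, Subgroup.commutator_le]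
    intro a _ b _
    rw [MonoidHom.mem_ker, map_commutatorElement]
    exact commutatorElement_eq_one_iff_commute.mpr (mul_comm' _ _)
  have hdis := (MonoidHom.ker_transferSylow_isComplement' P hburn).disjoint
  obtain ⟨x, hx⟩ := exists_prime_orderOf_dvd_card' (G := (S : Subgroup (Cfsg.sigmaCore M))) p
    (S.dvd_card_of_dvd_card hd)
  have hxc : (x : (Cfsg.sigmaCore M)) ∈ _root_.commutator (Cfsg.sigmaCore M) := by
    obtain ⟨y, hy, hyx⟩ := (Subgroup.map_subtype_commutator (Cfsg.sigmaCore M)).ge (hle ⟨x, x.2, rfl⟩)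
    exact (Cfsg.sigmaCore M).subtype_injective hyx ▸ hy
  have h1 : ψ (x : (Cfsg.sigmaCore M)) ∈ (P : Subgroup W) := by
    rw [hP, Sylow.coe_mapSurjective]; exact Subgroup.mem_map_of_mem ψ x.2
  have h2 : ψ (x : (Cfsg.sigmaCore M)) ∈ _root_.commutator W := by
    have h3 : (_root_.commutator (Cfsg.sigmaCore M)).map ψ = _root_.commutator W := by
      rw [_root_.commutator_def, Subgroup.map_commutator, Subgroup.map_top_of_surjective ψ φ.rangeRestrict_surjective,
        _root_.commutator_def]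
    exact h3 ▸ Subgroup.mem_map_of_mem ψ hxc
  have h4 : ψ (x : (Cfsg.sigmaCore M)) = 1 := Subgroup.disjoint_def.mp hdis (hker h2) h1
  have h5 : (Subgroup.inclusion (SigmaTools.sigmaCore_le M) (x : (Cfsg.sigmaCore M))) ∈ Cfsg.piCore (Cfsg.alpha M) M :=
    (QuotientGroup.eq_one_iff _).mp (congrArg Subtype.val h4)
  have h6 : orderOf (Subgroup.inclusion (SigmaTools.sigmaCore_le M) (x : (Cfsg.sigmaCore M))) = p := by
    rw [orderOf_injective _ (Subgroup.inclusion_injective _), Subgroup.orderOf_coe, hx]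
  exact ha (SigmaBasics.mem_of_dvd_piCore hp.out (h6 ▸ Subgroup.orderOf_dvd_natCard _ h5))

/-- For `p ∉ α(M)`, the Sylow subgroup of `K*` inside an `E`-invariant one lies in `(M_σ)'`. -/
theorem inf_le_derived (hG : Cfsg.IsMinSimpleOddOrder G) (hM : IsCoatom M) (h : Str M E K U) (hK1 : K ≠ ⊥)
    (hps : p ∈ Cfsg.sigma M) (ha : p ∉ Cfsg.alpha M) {Q : Subgroup G} (hQ : IsPGroup p Q)
    (hQV : Q ≤ Cfsg.sigmaCore M) (hEQ : E ≤ Subgroup.normalizer (Q : Set G)) :
    Q ⊓ Subgroup.centralizer (K : Set G) ≤ ⁅Cfsg.sigmaCore M, Cfsg.sigmaCore M⁆ := by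
  obtain ⟨f, hfK, hfo⟩ := KappaHall.exists_prime_elem hK1
  have hf1 : f ≠ 1 := fun e => hfo.ne_one (e ▸ orderOf_one)
  set H := M ⊓ Subgroup.normalizer (Q : Set G) with hH
  have hEH : E ≤ H := le_inf h.compl.1 hEQ
  have hQH : Q ≤ H := le_inf (hQV.trans (SigmaTools.sigmaCore_le M)) Subgroup.le_normalizer
  haveI : (Q.subgroupOf H).Normal := (Subgroup.normal_subgroupOf_iff_le_normalizer hQH).mpr inf_le_right
  haveI : Group.IsSolvable H := hG.2.2.2 H fun e => hM.1 (top_le_iff.mp (e ▸ inf_le_left))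
  have hr : Cfsg.PRankLE p 2 (Q.subgroupOf H) := fun A hAc hAe => by
    by_contra hc
    refine ha ⟨hp.out, fun h2 => hc ?_⟩
    have h3 := Fusion.Thompson.isEA_map (H.subtype.comp (Q.subgroupOf H).subtype) (p := p) ⟨hAc, hAe⟩
    have h4 := RankTwo.card_le_sq h2 h3 (by
      rintro _ ⟨a, -, rfl⟩
      exact (a : H).2.1)
    rwa [Subgroup.card_map_of_injective] at h4
    exact H.subtype_injective.comp (Q.subgroupOf H).subtype_injective
  have hp2 : p ≠ 2 := fun e => Nat.not_even_iff_odd.mpr hG.1 (even_iff_two_dvd.mpr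
    (e ▸ SigmaTools.sigma_dvd hps))
  have hact := (RankTwo.coreAct (Uniqueness.odd_of_le hG.1 H) hp2 (Q.subgroupOf H)
    (hQ.of_equiv (Subgroup.subgroupOfEquivOfLe hQH).symm) hr).1
  have hUQ : U ≤ Subgroup.centralizer (Q : Set G) := fun u hu => by
    -- `u` is a commutator with `f`
    have hfU : f ∈ Subgroup.normalizer (U : Set G) := h.normal (h.le hfK)
    have hmap : ∀ x : U, ⁅(x : G), f⁆ ∈ U := fun x => by
      rw [show ⁅(x : G), f⁆ = x * (f * (x : G)⁻¹ * f⁻¹) by simp [commutatorElement_def, mul_assoc]]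
      exact U.mul_mem x.2 ((Subgroup.mem_normalizer_iff.mp hfU _).mp (U.inv_mem x.2))
    have hinj : Function.Injective fun x : U => (⟨⁅(x : G), f⁆, hmap x⟩ : U) := by
      intro a b hab
      have e : ⁅(a : G), f⁆ = ⁅(b : G), f⁆ := congrArg Subtype.val hab
      simp only [commutatorElement_def, mul_left_inj] at e
      have hm : (b : G)⁻¹ * a ∈ U ⊓ Subgroup.centralizer ({f} : Set G) := by
        refine ⟨U.mul_mem (U.inv_mem b.2) a.2, Subgroup.mem_centralizer_singleton_iff.mpr ?_⟩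
        calc (b : G)⁻¹ * a * f = (b : G)⁻¹ * ((a : G) * f * (a : G)⁻¹) * a := by group
          _ = (b : G)⁻¹ * ((b : G) * f * (b : G)⁻¹) * a := by rw [e]
          _ = f * ((b : G)⁻¹ * a) := by group
      rw [h.free f hfK hf1, Subgroup.mem_bot] at hm
      exact Subtype.ext (by rw [← mul_inv_cancel_left (b : G) (a : G), hm, mul_one])
    obtain ⟨x, hx⟩ := (Finite.injective_iff_surjective.mp hinj) ⟨u, hu⟩
    have hxH : (x : G) ∈ H := hEH (h.Ule x.2)
    have hcop : (orderOf (⟨u, hEH (h.Ule hu)⟩ : H)).Coprime p := by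
      rw [Subgroup.orderOf_mk]
      refine Nat.Coprime.symm (hp.out.coprime_iff_not_dvd.mpr fun hd => ?_)
      exact SigmaComplement.not_dvd_card hG hM h.compl hps (hd.trans (Subgroup.orderOf_dvd_natCard _ (h.Ule hu)))
    have h1 := hact ⟨u, hEH (h.Ule hu)⟩ (by
      rw [show (⟨u, hEH (h.Ule hu)⟩ : H) = ⁅(⟨x, hxH⟩ : H), ⟨f, hEH (h.le hfK)⟩⁆ from
        Subtype.ext (congrArg Subtype.val hx).symm]
      exact Subgroup.commutator_mem_commutator (Subgroup.mem_top _) (Subgroup.mem_top _)) hcop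
    exact Subgroup.mem_centralizer_iff.mpr fun q hq => congrArg Subtype.val
      (Subgroup.mem_centralizer_iff.mp h1 ⟨q, hQH hq⟩ (Subgroup.mem_subgroupOf.mpr hq))
  refine fun y hy => (Cfsg.Agent.S1426.result hG M hM E h.compl).1 ⟨hQV hy.1, ?_⟩
  refine (Subgroup.le_centralizer_iff.mp (show E ≤ Subgroup.centralizer (Subgroup.zpowers y : Set G) from ?_))
    (Subgroup.mem_zpowers y)
  rw [← h.sup]
  exact sup_le (hUQ.trans (Subgroup.centralizer_le (SetLike.coe_subset_coe.mpr (Subgroup.zpowers_le.mpr hy.1))))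
    (Subgroup.le_centralizer_iff.mp (Subgroup.zpowers_le.mpr hy.2))

/-- Sylow subgroups of `M_σ` for primes dividing `|K*|`. -/
theorem sylow (hG : Cfsg.IsMinSimpleOddOrder G) (hM : IsCoatom M) (h : Str M E K U) (hK1 : K ≠ ⊥)
    (hd : p ∣ Nat.card ↥(Cfsg.sigmaCore M ⊓ Subgroup.centralizer (K : Set G))) (S : Sylow p ↥(Cfsg.sigmaCore M)) :
    Cfsg.InUniqueMaximal ((S : Subgroup ↥(Cfsg.sigmaCore M)).map (Cfsg.sigmaCore M).subtype) ∧
      ¬ (S : Subgroup ↥(Cfsg.sigmaCore M)).map (Cfsg.sigmaCore M).subtype ≤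
        Cfsg.sigmaCore M ⊓ Subgroup.centralizer (K : Set G) := by
  set D := (Cfsg.sigmaCore M) ⊓ Subgroup.centralizer (K : Set G) with hD
  have hVM : (Cfsg.sigmaCore M) ≤ M := SigmaTools.sigmaCore_le M
  have hdV : p ∣ Nat.card (Cfsg.sigmaCore M) := hd.trans (Subgroup.card_dvd_of_le inf_le_left)
  have hps : p ∈ Cfsg.sigma M := SigmaTools.mem_sigma_of_card hdV
  have hE := h.compl
  have hsol : Group.IsSolvable (Cfsg.sigmaCore M) := hG.2.2.2 _ fun e => hM.1 (top_le_iff.mp (e ▸ hVM))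
  have hEV : E ≤ Subgroup.normalizer ((Cfsg.sigmaCore M) : Set G) := hE.1.trans (SigmaTools.le_normalizer_sigmaCore M)
  have hcopE : (Nat.card E).Coprime (Nat.card (Cfsg.sigmaCore M)) := Nat.coprime_of_dvd fun t ht h1 h2 => by
    haveI := Fact.mk ht
    exact SigmaComplement.not_dvd_card hG hM hE (SigmaTools.mem_sigma_of_card h2) h1
  have hKV : K ≤ Subgroup.normalizer ((Cfsg.sigmaCore M) : Set G) := h.le.trans hEV
  have hcopK : (Nat.card K).Coprime (Nat.card (Cfsg.sigmaCore M)) := hcopE.coprime_dvd_left (Subgroup.card_dvd_of_le h.le)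
  obtain ⟨y, hy⟩ := exists_prime_orderOf_dvd_card' (G := D) p hd
  have hyo : orderOf (y : G) = p := by rw [Subgroup.orderOf_coe, hy]
  obtain ⟨-, L, hL, hDL, hL1⟩ := centralizer_le hG hM h hK1 y.2 hyo
  obtain ⟨Q, hEQ⟩ := Coprime.exists_invariant_sylow hEV hcopE (Or.inr hsol) p
  set Q₁ := (Q : Subgroup (Cfsg.sigmaCore M)).map (Cfsg.sigmaCore M).subtype with hQ₁
  set S₁ := (S : Subgroup (Cfsg.sigmaCore M)).map (Cfsg.sigmaCore M).subtype with hS₁
  refine ⟨?_, fun hSD => ?_⟩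
  · by_cases ha : p ∈ Cfsg.alpha M
    · obtain ⟨A, hAM, hAe, hA3⟩ := UniqueTools.exists_isEA_of_not_rankLE ha.2
      obtain ⟨T, hT⟩ := ((Fusion.Thompson.isPGroup_isEA hAe).of_equiv
        (Subgroup.subgroupOfEquivOfLe (SigmaTools.pGroup_le_sigmaCore hG hM hps hAM
          (Fusion.Thompson.isPGroup_isEA hAe))).symm).exists_le_sylow
      obtain ⟨v, hv⟩ := MulAction.exists_smul_eq (Cfsg.sigmaCore M) T S
      refine UniqueTools.unique_mono (UniqueTools.unique_map (MulAut.conj (v : G))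
        (UniquenessTheorem.rank_three hG hAe hA3)) ?_ fun e => hM.1 (top_le_iff.mp
          (e ▸ (Subgroup.map_subtype_le _).trans hVM))
      have hAV := SigmaTools.pGroup_le_sigmaCore hG hM hps hAM (Fusion.Thompson.isPGroup_isEA hAe)
      rintro _ ⟨a, ha', rfl⟩
      exact ⟨v * ⟨a, hAV ha'⟩ * v⁻¹,
        hv ▸ Solvable.Basic.conj_mem_conj_smul (hT (Subgroup.mem_subgroupOf.mpr ha')), rfl⟩
    · -- an element of `K*` in an `E`-invariant Sylow subgroup
      obtain ⟨P, hyP, hKP⟩ := Coprime.exists_le_invariant_sylow hKV hcopK (Or.inr hsol)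
        (U := Subgroup.zpowers (y : G)) (Subgroup.zpowers_le.mpr y.2.1) (isPGroup_of_card (line_of_orderOf hyo))
        (fun k hk => Subgroup.centralizer_le_normalizer _ (by
          rw [SigmaTools.centralizer_zpowers]
          exact Subgroup.mem_centralizer_singleton_iff.mpr (Subgroup.mem_centralizer_iff.mp y.2.2 k hk)))
      obtain ⟨c, hc, hcP⟩ := Coprime.exists_centralizer_conj_sylow hKV hcopK (Or.inr hsol) P Q hKP (h.le.trans hEQ)
      set y₁ := (c : G) * y * (c : G)⁻¹ with hy₁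
      have hy₁Q : y₁ ∈ Q₁ := by
        obtain ⟨w, hw, hwy⟩ := hyP (Subgroup.mem_zpowers (y : G))
        refine ⟨c * w * c⁻¹, hcP ▸ Solvable.Basic.conj_mem_conj_smul hw, ?_⟩
        rw [hy₁, ← hwy]; rfl
      have hy₁C : y₁ ∈ Subgroup.centralizer (K : Set G) := mul_mem (mul_mem hc y.2.2) (inv_mem hc)
      have hy₁o : orderOf y₁ = p := by rw [hy₁, ← MulAut.conj_apply, MulEquiv.orderOf_eq, hyo]
      exact (Cfsg.Agent.S1423.result hG M hM p hps (Subgroup.zpowers y₁)
        (Subgroup.zpowers_le.mpr (hVM (Subgroup.map_subtype_le _ hy₁Q))) (line_of_orderOf hy₁o) S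
        (Or.inr (Subgroup.zpowers_le.mpr (inf_le_derived hG hM h hK1 hps ha (Q.isPGroup'.map _)
          (Subgroup.map_subtype_le _) hEQ ⟨hy₁Q, hy₁C⟩)))).2.1
  · have hcyc : IsCyclic (S : Subgroup (Cfsg.sigmaCore M)) := by
      haveI := SigmaComplement.isCyclic_of_rank_one hG.1 (hSD.trans hDL) (S.isPGroup'.map (Cfsg.sigmaCore M).subtype) hL1
      exact (Subgroup.equivMapOfInjective (S : Subgroup (Cfsg.sigmaCore M)) (Cfsg.sigmaCore M).subtype (Cfsg.sigmaCore M).subtype_injective).isCyclic.mpr ‹_›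
    have hKS : K ≤ Subgroup.normalizer (S₁ : Set G) :=
      (Subgroup.le_centralizer_iff.mp (hSD.trans inf_le_right)).trans (Subgroup.centralizer_le_normalizer _)
    obtain ⟨c, hc, hcQ⟩ := Coprime.exists_centralizer_conj_sylow hKV hcopK (Or.inr hsol) S Q hKS (h.le.trans hEQ)
    have hQD : Q₁ ≤ Subgroup.centralizer (K : Set G) := by
      rintro _ ⟨q, hq, rfl⟩
      rw [← hcQ] at hq
      obtain ⟨s, hs, rfl⟩ := hq
      exact mul_mem (mul_mem hc (hSD ⟨s, hs, rfl⟩).2) (inv_mem hc)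
    have hQc : IsCyclic (Q : Subgroup (Cfsg.sigmaCore M)) := by
      obtain ⟨e⟩ : Nonempty ((S : Subgroup (Cfsg.sigmaCore M)) ≃* (Q : Subgroup (Cfsg.sigmaCore M))) := ⟨Sylow.equiv S Q⟩
      exact e.isCyclic.mp hcyc
    have ha : p ∉ Cfsg.alpha M := fun ha => by
      obtain ⟨A, hAM, hAe, hA3⟩ := UniqueTools.exists_isEA_of_not_rankLE ha.2
      have hAV := SigmaTools.pGroup_le_sigmaCore hG hM hps hAM (Fusion.Thompson.isPGroup_isEA hAe)
      obtain ⟨T, hT⟩ := ((Fusion.Thompson.isPGroup_isEA hAe).of_equiv (Subgroup.subgroupOfEquivOfLe hAV).symm).exists_le_sylow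
      obtain ⟨e⟩ : Nonempty ((T : Subgroup (Cfsg.sigmaCore M)) ≃* (Q : Subgroup (Cfsg.sigmaCore M))) := ⟨Sylow.equiv T Q⟩
      haveI := e.isCyclic.mpr hQc
      have hA' := Fusion.Thompson.isEA_subgroupOf hAe (Cfsg.sigmaCore M)
      haveI : IsCyclic (A.subgroupOf (Cfsg.sigmaCore M)) := (Subgroup.subgroupOfEquivOfLe hT).isCyclic.mp inferInstance
      have h3 : Nat.card (A.subgroupOf (Cfsg.sigmaCore M)) ∣ p := by
        rw [← IsCyclic.exponent_eq_card]
        exact Monoid.exponent_dvd_of_forall_pow_eq_one fun a => Subtype.ext (hA'.2 a a.2)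
      rw [Nat.card_congr (Subgroup.subgroupOfEquivOfLe hAV).toEquiv] at h3
      have := (Nat.pow_le_pow_iff_right hp.out.one_lt).mp ((hA3.trans (Nat.le_of_dvd hp.out.pos h3)).trans (pow_one p).ge)
      omega
    exact not_le_derived hG hM ha Q hdV hQc ((le_inf le_rfl hQD).trans
      (inf_le_derived hG hM h hK1 hps ha (Q.isPGroup'.map _) (Subgroup.map_subtype_le _) hEQ))

end CfsgLib.OddOrder.KappaStar
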