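import Cfsg.Agent.Lib.OddOrder.BenderUnique
import Cfsg.Agent.Lib.Frobenius.Zipper
import Cfsg.Agent.Lib.Coprime.Sylow
import Cfsg.Agent.S1393
import Cfsg.Agent.S1395
import Mathlib

set_option autoImplicit false

/-!
Invariant subgroups of a large self-centralising subgroup of the Fitting subgroup are trivial.
-/

namespace CfsgLib.OddOrder.LargeFitting

variable {G : Type*} [Group G] [Finite G]

theorem coprime_congr {a m n : ℕ} (hn : n ≠ 0) (h : ∀ t : ℕ, t.Prime → t ∣ n → t ∣ m) (hc : a.Coprime m) :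
    a.Coprime n :=
  Nat.coprime_of_dvd fun t ht hta htn => ht.ne_one (Nat.eq_one_of_dvd_coprimes hc hta (h t ht htn))

/-- If `A ≤ F = F(M)` is subnormal, has rank at least three, satisfies the transitivity hypothesis and
`O_{π'}(C(A)) = 1`, then the only `A`-invariant `π'`-subgroup is trivial. -/
theorem inv_eq_bot (hG : Cfsg.IsMinSimpleOddOrder G) {M A : Subgroup G} (hM : IsCoatom M)
    (hAF : A ≤ Cfsg.fittingOf M) (hsn : (A.subgroupOf (Cfsg.fittingOf M)).IsSubnormal)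
    (hT : Cfsg.TransitivityHypothesis A) (hZ : ¬ Cfsg.RankLE 2 ↥(A ⊓ Subgroup.centralizer (A : Set G)))
    (hprimes : ∀ t : ℕ, t.Prime → t ∣ Nat.card (Cfsg.fittingOf M) → t ∣ Nat.card A)
    (hD : Cfsg.piCoreOf (Cfsg.primesNotDvd (Nat.card A)) (Subgroup.centralizer (A : Set G)) = ⊥)
    {Y : Subgroup G} (hY : (Nat.card Y).Coprime (Nat.card A)) (hAY : A ≤ Subgroup.normalizer (Y : Set G)) :
    Y = ⊥ := by
  set F := Cfsg.fittingOf M with hF
  haveI : Group.IsNilpotent F := Basic.fittingOf_isNilpotent (M := M)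
  have hFtop : F ≠ ⊤ := fun h => hM.1 (top_le_iff.mp (h ▸ Subgroup.map_subtype_le _))
  have hq : ∀ q : ℕ, q.Prime → ¬ q ∣ Nat.card A → ∀ Q : Subgroup G, IsPGroup q Q →
      A ≤ Subgroup.normalizer (Q : Set G) → Q = ⊥ := by
    intro q hq hqA Q hQ hAQ
    haveI := Fact.mk hq
    have htr := Cfsg.Agent.S1393.result hG A hT hZ q hq hqA
    have huniq : ∀ Q₁ ∈ Cfsg.maxInvSubgroups ⊤ A {q}, ∀ Q₂ ∈ Cfsg.maxInvSubgroups ⊤ A {q}, Q₁ = Q₂ := by
      intro Q₁ h₁ Q₂ h₂
      obtain ⟨k, hk, rfl⟩ := htr Q₁ h₁ Q₂ h₂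
      rw [hD, Subgroup.mem_bot] at hk
      subst hk
      simp [Subgroup.map_id]
      exact (Subgroup.map_id Q₁).symm
    obtain ⟨-, -, hsub, -⟩ := Cfsg.Agent.S1395.result hG A hT q hq hqA F hFtop hprimes hAF hsn htr
    obtain ⟨Q₀, hQ₀, -⟩ := Transitivity.exists_max (A := F) hq
      (IsPGroup.of_bot (p := q) (G := G)) (by rw [Subgroup.normalizer_eq_top]; exact le_top)
    obtain ⟨hQ₀q, -⟩ := (Transitivity.mem_inv_top hq).mp hQ₀.1
    have hMQ₀ : M ≤ Subgroup.normalizer (Q₀ : Set G) := by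
      intro g hg
      have h1 := Transitivity.map_conj_max hq
        (Bender.normalizer_le_normalizer_fittingOf M (Subgroup.le_normalizer hg)) hQ₀
      exact Subgroup.mem_normalizer_iff_map_conj_eq.mpr (huniq _ (hsub h1) _ (hsub hQ₀))
    have hQ₀1 : Q₀ = ⊥ := by
      by_contra hne
      haveI := hQ₀q.isNilpotent
      have hN := (hM.le_iff.mp hMQ₀).resolve_left (Uniqueness.normalizer_ne_top hG.2 hne inferInstance)
      have hle : Q₀ ≤ F := Bender.le_fittingOf (hN ▸ Subgroup.le_normalizer) hMQ₀ hQ₀q.isNilpotent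
      have hqF : ¬ q ∣ Nat.card F := fun h => hqA (hprimes q hq h)
      obtain ⟨x, hx, hx1⟩ : ∃ x ∈ Q₀, x ≠ 1 := by
        by_contra hall
        push Not at hall
        exact hne (eq_bot_iff.mpr fun x hx => Subgroup.mem_bot.mpr (hall x hx))
      obtain ⟨k, hk⟩ := IsPGroup.iff_card.mp hQ₀q
      exact hx1 (Bender.eq_one_of_orderOf_dvd_coprime (hk ▸ Subgroup.orderOf_dvd_natCard Q₀ hx)
        (Subgroup.orderOf_dvd_natCard F (hle hx)) (((hq.coprime_iff_not_dvd).mpr hqF).pow_left k))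
    obtain ⟨Q', hQ', hQQ'⟩ := Transitivity.exists_max hq hQ hAQ
    rw [huniq Q' hQ' Q₀ (hsub hQ₀), hQ₀1] at hQQ'
    exact le_bot_iff.mp hQQ'
  by_contra hne
  obtain ⟨q, hq', hqY⟩ := Nat.exists_prime_and_dvd (fun h => hne (Subgroup.eq_bot_of_card_eq Y h) : Nat.card Y ≠ 1)
  haveI := Fact.mk hq'
  obtain ⟨P, hP⟩ := Coprime.exists_invariant_sylow hAY hY.symm
    (Or.inl (Coprime.isSolvable_of_le hAF inferInstance)) q
  have hbot := hq q hq' (fun h => hq'.ne_one (Nat.eq_one_of_dvd_coprimes hY hqY h)) _ (P.isPGroup'.map _) hP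
  rw [Subgroup.map_eq_bot_iff_of_injective _ Y.subtype_injective] at hbot
  have := P.card_eq_multiplicity
  rw [hbot, Subgroup.card_bot] at this
  have hpos := (Nat.card Y).factorization q
  exact absurd this.symm (Nat.one_lt_pow
    (Nat.Prime.factorization_pos_of_dvd hq' Nat.card_pos.ne' hqY).ne' hq'.one_lt).ne'

end CfsgLib.OddOrder.LargeFitting
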