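import Cfsg.Agent.Lib.OddOrder.FittingStructure

/-!
A nilpotent Hall subgroup of a minimal simple group of odd order lies in some `M_σ`.
-/

set_option autoImplicit false

namespace CfsgLib.OddOrder.NilpotentHall

open scoped commutatorElement

variable {G : Type*} [Group G] [Finite G] {H : Subgroup G}

theorem exists_core (hG : Cfsg.IsMinSimpleOddOrder G) (hHn : Group.IsNilpotent H)
    (hHall : (Nat.card H).Coprime H.index) (hH : H ≠ ⊥) :
    ∃ M : Subgroup G, IsCoatom M ∧ H ≤ Cfsg.sigmaCore M ∧
      (Nat.card H).Coprime (H.relIndex (Cfsg.sigmaCore M)) := by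
  classical
  haveI := hHn
  obtain ⟨p, hp, hpH⟩ := Nat.exists_prime_and_dvd (mt Subgroup.card_eq_one.mp hH)
  haveI := Fact.mk hp
  obtain ⟨S⟩ : Nonempty (Sylow p H) := inferInstance
  set S₀ := (S : Subgroup H).map H.subtype with hS₀
  have hS₀H : S₀ ≤ H := Subgroup.map_subtype_le _
  have hfac : ∀ {t : ℕ}, t.Prime → t ∣ Nat.card H → (Nat.card G).factorization t = (Nat.card H).factorization t := by
    intro t ht htd
    rw [← H.card_mul_index, Nat.factorization_mul Nat.card_pos.ne' Subgroup.index_ne_zero_of_finite]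
    simp [Nat.factorization_eq_zero_of_not_dvd
      (ht.coprime_iff_not_dvd.mp (hHall.coprime_dvd_left htd))]
  let SG : Sylow p G := Sylow.ofCard S₀ (by
    rw [hfac hp hpH, hS₀, Subgroup.card_map_of_injective H.subtype_injective]
    exact S.card_eq_multiplicity)
  have hS1 : S₀ ≠ ⊥ := fun e => by
    have h := S.card_eq_multiplicity
    rw [← Subgroup.card_map_of_injective H.subtype_injective (K := (S : Subgroup H)), ← hS₀, e, Subgroup.card_bot] at h
    exact absurd h.symm (Nat.one_lt_pow (Nat.pos_iff_ne_zero.mp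
      (hp.factorization_pos_of_dvd Nat.card_pos.ne' hpH)) hp.one_lt).ne'
  haveI : Group.IsNilpotent S₀ := (S.isPGroup'.map H.subtype).isNilpotent
  have hNtop : Subgroup.normalizer (S₀ : Set G) ≠ ⊤ := Uniqueness.normalizer_ne_top hG.2 hS1 inferInstance
  obtain ⟨M, hM, hNM⟩ := (eq_top_or_exists_le_coatom _).resolve_left hNtop
  have hpG : p ∣ Nat.card G := hpH.trans H.card_subgroup_dvd_card
  have hps : p ∈ Cfsg.sigma M := SigmaTools.mem_sigma_of_sylow (S := SG) hpG hNM
  have hHM : H ≤ M := by
    refine le_trans ?_ hNM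
    haveI : (S : Subgroup H).Normal := inferInstance
    refine (Subgroup.normal_subgroupOf_iff_le_normalizer hS₀H).mp ?_
    rwa [hS₀, Subgroup.subgroupOf, Subgroup.comap_map_eq_self_of_injective H.subtype_injective]
  have hSσ : S₀ ≤ Cfsg.sigmaCore M :=
    SigmaTools.pGroup_le_sigmaCore hG hM hps (hS₀H.trans hHM) (S.isPGroup'.map H.subtype)
  have hSHall : (Nat.card S₀).Coprime (S₀.relIndex (Cfsg.sigmaCore M)) := by
    obtain ⟨j, hj⟩ := (S.isPGroup'.map H.subtype).exists_card_eq
    rw [hj]
    refine (hp.coprime_iff_not_dvd.mpr fun hd => SG.not_dvd_index ?_).pow_left j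
    show p ∣ S₀.index
    rw [← Subgroup.relIndex_mul_index hSσ]
    exact hd.mul_right _
  obtain ⟨X, hXC, hXc, hXτ, hXh, -⟩ := FittingStructure.centralizer_hall hG hM hSσ hS1 hSHall
  have hall : ∀ t : ℕ, t.Prime → t ∣ Nat.card H → t ∈ Cfsg.sigma M := by
    intro t ht htd
    by_contra hts
    haveI := Fact.mk ht
    have htp : t ≠ p := fun e => hts (e ▸ hps)
    obtain ⟨T⟩ : Nonempty (Sylow t H) := inferInstance
    set T₀ := (T : Subgroup H).map H.subtype with hT₀
    set C := M ⊓ Subgroup.centralizer (S₀ : Set G) with hC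
    have hT₀C : T₀ ≤ C := le_inf ((Subgroup.map_subtype_le _).trans hHM) fun a ha => by
      refine Subgroup.mem_centralizer_iff.mpr fun s hs => ?_
      refine (Basic.commute_of_mem_nilpotent (K := H) (hS₀H hs) (Subgroup.map_subtype_le _ ha) ?_).eq
      obtain ⟨i, hi⟩ := (T.isPGroup'.map H.subtype).exists_card_eq
      obtain ⟨j, hj⟩ := (S.isPGroup'.map H.subtype).exists_card_eq
      exact ((((Nat.coprime_primes ht hp).mpr htp).pow i j).symm.coprime_dvd_left
        (hj ▸ Subgroup.orderOf_dvd_natCard _ hs)).coprime_dvd_right (hi ▸ Subgroup.orderOf_dvd_natCard _ ha)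
    have hTcard : Nat.card T₀ = t ^ (Nat.card G).factorization t := by
      rw [hfac ht htd, hT₀, Subgroup.card_map_of_injective H.subtype_injective]
      exact T.card_eq_multiplicity
    have hdX : Nat.card T₀ ∣ Nat.card X := by
      have h : Nat.card T₀ ∣ Nat.card X * X.relIndex C := by
        refine (Subgroup.card_dvd_of_le hT₀C).trans (dvd_of_eq ?_)
        rw [← Subgroup.card_mul_index (X.subgroupOf C), Nat.card_congr (Subgroup.subgroupOfEquivOfLe hXh.1).toEquiv]
        rfl
      refine (Nat.Coprime.dvd_mul_right ?_).mp h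
      rw [hTcard]
      exact (ht.coprime_iff_not_dvd.mpr (hXh.2.2 t ht hts)).pow_left _
    haveI := hXc
    obtain ⟨V⟩ : Nonempty (Sylow t X) := inferInstance
    have htG : t ∣ Nat.card G := htd.trans H.card_subgroup_dvd_card
    have htX : t ∣ Nat.card X := ((hTcard ▸ dvd_pow_self t
      (ht.factorization_pos_of_dvd Nat.card_pos.ne' htG).ne' : t ∣ Nat.card T₀)).trans hdX
    refine (hXτ t ht htX).2.2.2 (KappaHall.rank_one_of_cyclic fun P => ?_)
    have hPle : Nat.card (P : Subgroup M) ∣ Nat.card X := by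
      refine dvd_trans ?_ hdX
      rw [hTcard, P.card_eq_multiplicity]
      exact Nat.pow_dvd_pow t ((Nat.factorization_le_iff_dvd Nat.card_pos.ne' Nat.card_pos.ne').mpr
        M.card_subgroup_dvd_card t)
    set V₀ := (V : Subgroup X).map (Subgroup.inclusion (hXC.trans inf_le_left)) with hV₀
    have hV₀card : Nat.card (P : Subgroup M) ∣ Nat.card V₀ := by
      rw [hV₀, Subgroup.card_map_of_injective (Subgroup.inclusion_injective _), V.card_eq_multiplicity]
      obtain ⟨i, hi⟩ := P.isPGroup'.exists_card_eq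
      rw [hi] at hPle ⊢
      exact Nat.pow_dvd_pow t ((ht.pow_dvd_iff_le_factorization Nat.card_pos.ne').mp hPle)
    obtain ⟨Q, hQ⟩ := (V.isPGroup'.map _ : IsPGroup t V₀).exists_le_sylow
    have heq : V₀ = (Q : Subgroup M) := by
      refine Subgroup.eq_of_le_of_card_ge hQ ?_
      rw [Q.card_eq_multiplicity, ← P.card_eq_multiplicity]
      exact Nat.le_of_dvd Nat.card_pos hV₀card
    have hQc : IsCyclic (Q : Subgroup M) := heq ▸ isCyclic_of_surjective
      ((V : Subgroup X).equivMapOfInjective _ (Subgroup.inclusion_injective _)) (MulEquiv.surjective _)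
    exact isCyclic_of_surjective (Q.equiv P) (MulEquiv.surjective _)
  have hle := SigmaTools.le_sigmaCore hG hM hHM hall
  refine ⟨M, hM, hle, hHall.coprime_dvd_right ?_⟩
  exact Dvd.intro _ (Subgroup.relIndex_mul_index hle)

end CfsgLib.OddOrder.NilpotentHall
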