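import Cfsg.Agent.S1417
import Cfsg.Agent.Lib.OddOrder.SigmaComplement
import Cfsg.Agent.Lib.OddOrder.NonabelianUnique
import Cfsg.Agent.Lib.OddOrder.FPFTools
import Cfsg.Agent.Lib.Solvable.SupersolvableCriteria
import Mathlib

set_option autoImplicit false
set_option linter.style.haveILetI false
set_option linter.unusedSectionVars false

/-!
The primes outside `σ(M) ∪ κ(M)`.
-/

namespace CfsgLib.OddOrder.NotKappa

variable {G : Type*} [Group G] [Finite G] {p : ℕ} [hp : Fact p.Prime] {M : Subgroup G}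

/-- `Ω₁`. -/
def omega (p : ℕ) (S : Subgroup G) : Subgroup G := Subgroup.closure {x : G | x ∈ S ∧ x ^ p = 1}

theorem omega_le (p : ℕ) (S : Subgroup G) : omega p S ≤ S := (Subgroup.closure_le S).mpr fun _ hx => hx.1

theorem mem_omega {S : Subgroup G} {x : G} (hx : x ∈ S) (hxp : x ^ p = 1) : x ∈ omega p S :=
  Subgroup.subset_closure ⟨hx, hxp⟩

/-- `A = Ω₁(S)` has order at most `p²`, `C_{M_σ}(A) = 1`, and `M_σ` is nilpotent. -/
theorem main (hG : Cfsg.IsMinSimpleOddOrder G) (hM : IsCoatom M) (hpM : p ∣ Nat.card M)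
    (hps : p ∉ Cfsg.sigma M) (hpk : p ∉ Cfsg.kappa M) (S : Sylow p M) :
    Nat.card (omega p ((S : Subgroup M).map M.subtype)) ≤ p ^ 2 ∧
      Cfsg.sigmaCore M ⊓ Subgroup.centralizer (omega p ((S : Subgroup M).map M.subtype) : Set G) = ⊥ ∧
      Group.IsNilpotent (Cfsg.sigmaCore M) := by
  set R := (S : Subgroup M).map M.subtype with hR
  have hRM : R ≤ M := Subgroup.map_subtype_le _
  have hRp : IsPGroup p R := S.isPGroup'.map _
  have hp2 : p ≠ 2 := fun e => Nat.not_even_iff_odd.mpr hG.1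
    (even_iff_two_dvd.mpr (e ▸ hpM.trans M.card_subgroup_dvd_card))
  have hr2 : Cfsg.PRankLE p 2 M := by
    by_contra hcon
    exact hps (SigmaBasics.mem_sigma_of_alpha hG hM ⟨hp.out, hcon⟩)
  by_cases hr1 : Cfsg.PRankLE p 1 M
  swap
  · have hRnc : ¬ IsCyclic R := fun hc => by
      obtain ⟨E, hE, hEe, hEc⟩ := UniqueTools.exists_isEA_of_not_rankLE hr1
      obtain ⟨Q, hQ⟩ := ((Fusion.Thompson.isPGroup_isEA hEe).of_equiv
        (Subgroup.subgroupOfEquivOfLe hE).symm).exists_le_sylow
      haveI : IsCyclic (S : Subgroup M) := isCyclic_of_surjective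
        ((S : Subgroup M).equivMapOfInjective M.subtype M.subtype_injective).symm (MulEquiv.surjective _)
      haveI : IsCyclic (Q : Subgroup M) := isCyclic_of_surjective (Sylow.equiv S Q) (MulEquiv.surjective _)
      have hlt : p < Nat.card E := lt_of_lt_of_le
        (by simpa using Nat.pow_lt_pow_right hp.out.one_lt (show 1 < 2 by norm_num)) hEc
      refine SCNTransitivity.not_isCyclic_of_card hEe hlt ?_
      haveI : IsCyclic (E.subgroupOf M) := Subgroup.isCyclic_of_le hQ
      exact isCyclic_of_surjective (Subgroup.subgroupOfEquivOfLe hE) (MulEquiv.surjective _)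
    obtain ⟨A, hAR, hAe, hA2⟩ := NonabelianUnique.exists_plane_le hp2 hRp hRnc
    obtain ⟨hn, hP, -, hC, -⟩ := Cfsg.Agent.S1417.result hG M hM p ⟨hp.out, hps, hr2, hr1⟩ A ⟨hAR.trans hRM, hAe, hA2⟩
    have he : omega p R = A := by
      refine le_antisymm ((Subgroup.closure_le A).mpr fun x hx => ?_) fun a ha => mem_omega (hAR ha) (hAe.2 a ha)
      exact (((hP S).2 hAR).1 x hx.1).mp hx.2
    rw [he]
    exact ⟨hA2.le, hC, hn⟩
  haveI hcR : IsCyclic R := SigmaComplement.isCyclic_of_rank_one hG.1 hRM hRp hr1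
  set A := omega p R with hA
  have hAR : A ≤ R := omega_le p R
  have hcard : Nat.card A ≤ p := by
    haveI : IsCyclic A := Subgroup.isCyclic_of_le hAR
    obtain ⟨g, hg⟩ := IsCyclic.exists_generator (α := A)
    have hgp : g ^ p = 1 := by
      have hall : ∀ a ∈ A, a ^ p = 1 := by
        intro a ha
        induction ha using Subgroup.closure_induction with
        | mem x hx => exact hx.2
        | one => exact one_pow p
        | mul x y hx hy hx' hy' =>
          have hc : Commute x y := PlaneSylow.comm_of (X := R) inferInstance (hAR hx) (hAR hy)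
          rw [hc.mul_pow, hx', hy', one_mul]
        | inv x hx hx' => rw [inv_pow, hx', inv_one]
      exact Subtype.ext (by simpa using hall g g.2)
    have hd : Nat.card A ∣ p := (orderOf_eq_card_of_forall_mem_zpowers hg) ▸ orderOf_dvd_of_pow_eq_one hgp
    exact Nat.le_of_dvd hp.out.pos hd
  -- a non-identity element of `S` is fixed point free on `M_σ`
  obtain ⟨P, hP⟩ : ∃ P : Sylow p M, ∀ x : M, x ∈ (P : Subgroup M) → x ≠ 1 → ∀ y ∈ Cfsg.sigmaCore M,
      y ≠ 1 → (x : G) * y ≠ y * x := by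
    by_contra hcon
    refine hpk ⟨hp.out, hpM, hps, fun P => ⟨?_, ?_⟩⟩
    · haveI : IsCyclic ↥((P : Subgroup M).map M.subtype) :=
        SigmaComplement.isCyclic_of_rank_one hG.1 (Subgroup.map_subtype_le _) (P.isPGroup'.map _) hr1
      exact isCyclic_of_surjective ((P : Subgroup M).equivMapOfInjective M.subtype M.subtype_injective).symm
        (MulEquiv.surjective _)
    · push Not at hcon
      obtain ⟨x, hx, hx1, y, hy, hy1, he⟩ := hcon P
      exact ⟨x, hx, hx1, y, hy, hy1, he⟩
  obtain ⟨a, ha⟩ := exists_prime_orderOf_dvd_card' (G := (S : Subgroup M)) p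
    (S.isPGroup'.card_eq_or_dvd.resolve_left fun e => by
      have := S.not_dvd_index
      rw [Subgroup.eq_bot_of_card_eq _ e, Subgroup.index_bot] at this
      exact this hpM)
  have ha1 : ((a : M) : G) ^ p = 1 := by
    have h := pow_orderOf_eq_one a
    rw [ha] at h
    rw [← Subgroup.coe_pow, ← Subgroup.coe_pow, h]; rfl
  have hfix : Cfsg.sigmaCore M ⊓ Subgroup.centralizer ({((a : M) : G)} : Set G) = ⊥ := by
    refine le_bot_iff.mp fun y hy => Subgroup.mem_bot.mpr ?_
    by_contra hy1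
    obtain ⟨m, hm⟩ := MulAction.exists_smul_eq M S P
    have hmem : m * (a : M) * m⁻¹ ∈ (P : Subgroup M) := by
      rw [← hm, Sylow.coe_subgroup_smul]; exact ⟨(a : M), a.2, rfl⟩
    refine hP _ hmem (fun e => hp.out.ne_one ?_) ((m : G) * y * (m : G)⁻¹)
      ((Subgroup.mem_normalizer_iff.mp (SigmaTools.le_normalizer_sigmaCore M m.2) y).mp hy.1)
      (fun e => hy1 (conj_eq_one_iff.mp e)) ?_
    · rw [← ha, ← Subgroup.orderOf_coe, conj_eq_one_iff.mp e, orderOf_one]
    · have h := (Subgroup.mem_centralizer_singleton_iff.mp hy.2)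
      simp only [Subgroup.coe_mul, Subgroup.coe_inv]
      calc (m : G) * (a : M) * (m : G)⁻¹ * (m * y * (m : G)⁻¹) = m * (((a : M) : G) * y) * (m : G)⁻¹ := by group
        _ = m * (y * ((a : M) : G)) * (m : G)⁻¹ := by rw [h]
        _ = _ := by group
  refine ⟨hcard.trans (by rw [sq]; exact Nat.le_mul_self p), le_bot_iff.mp fun y hy => ?_, ?_⟩
  · rw [← hfix]
    exact ⟨hy.1, Subgroup.mem_centralizer_singleton_iff.mpr
      (Subgroup.mem_centralizer_iff.mp hy.2 _ (mem_omega ⟨(a : M), a.2, rfl⟩ ha1)).symm⟩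
  · exact FPFTools.isNilpotent_of_fpf hp.out ha1 (SigmaTools.le_normalizer_sigmaCore M (a : M).2) hfix

end CfsgLib.OddOrder.NotKappa
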