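import Cfsg.Agent.Lib.OddOrder.OddLines
import Mathlib.LinearAlgebra.Projectivization.Action
import Mathlib.LinearAlgebra.Eigenspace.Triangularizable
import Mathlib.FieldTheory.IsAlgClosed.AlgebraicClosure
import Mathlib.LinearAlgebra.Matrix.GeneralLinearGroup.Defs
import Mathlib.LinearAlgebra.Matrix.ToLinearEquiv
import Mathlib.Algebra.CharP.Algebra
import Mathlib.Algebra.CharP.Lemmas

set_option autoImplicit false

/-!
Finite groups of odd order of 2-dimensional linear transformations in odd characteristic `p`: if `p` divides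
the order there is a common eigenvector.
-/

open Matrix

namespace CfsgLib.OddOrder.OddGL2

variable {K : Type*} [Field K]

section structural

variable (f : (Fin 2 → K) →ₗ[K] (Fin 2 → K)) {v w : Fin 2 → K} {a b c : K}
  (hv : f v = a • v) (hw : f w = c • v + b • w) (hind : LinearIndependent K ![v, w])

include hind in
theorem decompose (x : Fin 2 → K) : ∃ s t : K, x = s • v + t • w := by
  have hspan : Submodule.span K (Set.range ![v, w]) = ⊤ :=
    hind.span_eq_top_of_card_eq_finrank (by simp)
  have hx : x ∈ Submodule.span K (Set.range ![v, w]) := hspan ▸ Submodule.mem_top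
  rw [Submodule.mem_span_range_iff_exists_fun] at hx
  obtain ⟨cs, hcs⟩ := hx
  exact ⟨cs 0, cs 1, by rw [← hcs, Fin.sum_univ_two]; simp⟩

include hind in
theorem coord_unique {s t s' t' : K} (h : s • v + t • w = s' • v + t' • w) : s = s' ∧ t = t' := by
  have h0 : (s - s') • v + (t - t') • w = 0 := by
    rw [sub_smul, sub_smul]
    rw [← sub_eq_zero] at h
    rw [← h]; abel
  have := linearIndependent_fin2.mp hind
  rcases eq_or_ne (s - s') 0 with hs | hs
  · rw [hs, zero_smul, zero_add] at h0
    rcases smul_eq_zero.mp h0 with ht | ht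
    · exact ⟨sub_eq_zero.mp hs, sub_eq_zero.mp ht⟩
    · exact absurd ht (by simpa using this.1)
  · exfalso
    apply this.2 (-(t - t') / (s - s'))
    simp only [Matrix.cons_val_zero, Matrix.cons_val_one]
    have h1 : (s - s') • v = -((t - t') • w) := eq_neg_of_add_eq_zero_left h0
    rw [div_eq_inv_mul, mul_smul, neg_smul, ← h1, smul_smul, inv_mul_cancel₀ hs, one_smul]

include hind hv hw in
theorem det_eq : LinearMap.det f = a * b := by
  let B : Module.Basis (Fin 2) K (Fin 2 → K) := basisOfLinearIndependentOfCardEqFinrank hind (by simp)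
  have hB : ⇑B = ![v, w] := coe_basisOfLinearIndependentOfCardEqFinrank hind _
  have rep : ∀ s t : K, ∀ i, B.repr (s • v + t • w) i = ![s, t] i := by
    intro s t i
    have : s • v + t • w = ∑ j, ![s, t] j • B j := by rw [Fin.sum_univ_two, hB]; simp
    rw [this, B.repr_sum_self]
  rw [← LinearMap.det_toMatrix B, Matrix.det_fin_two]
  have e : ∀ i, LinearMap.toMatrix B B f i 0 = ![a, 0] i ∧ LinearMap.toMatrix B B f i 1 = ![c, b] i := by
    intro i
    rw [LinearMap.toMatrix_apply, LinearMap.toMatrix_apply, hB]
    simp only [Matrix.cons_val_zero, Matrix.cons_val_one]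
    constructor
    · rw [hv, show a • v = a • v + (0 : K) • w by simp, rep]
    · rw [hw, rep]
  rw [(e 0).1, (e 1).2, (e 0).2, (e 1).1]
  simp

end structural

variable [IsAlgClosed K]

theorem exists_triangular (f : (Fin 2 → K) →ₗ[K] (Fin 2 → K)) :
    ∃ (v w : Fin 2 → K) (a b c : K), f v = a • v ∧ f w = c • v + b • w ∧ LinearIndependent K ![v, w] := by
  obtain ⟨a, ha⟩ := Module.End.exists_eigenvalue f
  obtain ⟨v, hv⟩ := ha.exists_hasEigenvector
  have hv0 : v ≠ 0 := hv.2
  obtain ⟨w, hw⟩ := exists_linearIndependent_pair_of_one_lt_rank (R := K) (M := Fin 2 → K) (by rw [rank_fin_fun]; norm_num) hv0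
  obtain ⟨c, b, hcb⟩ := decompose hw (f w)
  exact ⟨v, w, a, b, c, hv.apply_eq_smul, hcb, hw⟩

variable {H : Type*} [Group H] (ψ : H →* LinearMap.GeneralLinearGroup K (Fin 2 → K))

open scoped LinearAlgebra.Projectivization

theorem smul_mk_eq_iff (g : LinearMap.GeneralLinearGroup K (Fin 2 → K)) {v : Fin 2 → K} (hv : v ≠ 0) :
    g • Projectivization.mk K v hv = Projectivization.mk K v hv ↔
      ∃ a : K, (g : (Fin 2 → K) →ₗ[K] (Fin 2 → K)) v = a • v := by
  rw [Projectivization.smul_mk, Projectivization.mk_eq_mk_iff']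
  exact exists_congr fun a => eq_comm

/-- Main theorem over an algebraically closed field, for the kernel of the determinant. -/
theorem exists_fixed_aux [Finite H] {p : ℕ} [Fact p.Prime] [CharP K p] (hψ : Function.Injective ψ)
    (hodd : Odd (Nat.card H)) (hpH : p ∣ Nat.card H)
    (hdet : ∀ g : H, LinearMap.det (ψ g : (Fin 2 → K) →ₗ[K] (Fin 2 → K)) = 1) :
    ∃ x : ℙ K (Fin 2 → K), (∀ g : H, ψ g • x = x) ∧
      ∀ g : H, g ≠ 1 → g ^ p = 1 → ∀ y, ψ g • y = y → y = x := by
  letI : MulAction H (ℙ K (Fin 2 → K)) := MulAction.compHom _ ψ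
  have hp2 : p ≠ 2 := by
    rintro rfl
    exact (Nat.not_even_iff_odd.mpr hodd) (even_iff_two_dvd.mpr hpH)
  have hpp0 : ∀ a : K, ∀ k : ℕ, a ^ p ^ k = 1 → a = 1 := by
    intro a k h
    have := (iterateFrobenius_inj K p k) (a₁ := a) (a₂ := 1) (by
      rw [iterateFrobenius_def, iterateFrobenius_def, h, one_pow])
    exact this
  have hpowv : ∀ (g : H) (v : Fin 2 → K) (a : K), (ψ g : (Fin 2 → K) →ₗ[K] (Fin 2 → K)) v = a • v →
      ∀ n : ℕ, (ψ (g ^ n) : (Fin 2 → K) →ₗ[K] (Fin 2 → K)) v = a ^ n • v := by
    intro g v a hv n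
    induction n with
    | zero => simp
    | succ n ih =>
      rw [pow_succ, map_mul, Units.val_mul, Module.End.mul_apply, hv, map_smul, ih, smul_smul, pow_succ']
  -- a unipotent or semisimple dichotomy
  have dich : ∀ g : H, g ≠ 1 →
      (g ^ p = 1 ∧ ∃ v : Fin 2 → K, ∃ hv : v ≠ 0, ∀ y, ψ g • y = y ↔ y = Projectivization.mk K v hv) ∨
      (∀ k : ℕ, g ^ p ^ k ≠ 1) ∧ ∃ x y : ℙ K (Fin 2 → K), x ≠ y ∧ ∀ z, ψ g • z = z ↔ z = x ∨ z = y := by
    intro g hg
    set f := (ψ g : (Fin 2 → K) →ₗ[K] (Fin 2 → K)) with hf
    obtain ⟨v, w, a, b, c, hv, hw, hind⟩ := exists_triangular f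
    have hab : a * b = 1 := (det_eq f hv hw hind).symm.trans (hdet g)
    have hv0 : v ≠ 0 := by simpa using hind.ne_zero 0
    by_cases hba : a = b
    · left
      subst hba
      have han : a ^ Nat.card H = 1 := by
        have := hpowv g v a hv (Nat.card H)
        rw [pow_card_eq_one', map_one] at this
        simp only [Units.val_one, Module.End.one_apply] at this
        by_contra hne
        apply hv0
        have h0 : (a ^ Nat.card H - 1) • v = 0 := by rw [sub_smul, ← this, one_smul, sub_self]
        exact (smul_eq_zero.mp h0).resolve_left (sub_ne_zero.mpr hne)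
      have ha : a = 1 := by
        obtain ⟨k, hk⟩ := hodd
        rw [hk, pow_succ, pow_mul, pow_two, hab, one_pow, one_mul] at han
        exact han
      subst ha
      rw [one_smul] at hv hw
      have hc : c ≠ 0 := by
        rintro rfl
        apply hg
        apply hψ
        rw [map_one]
        apply Units.ext
        apply LinearMap.ext
        intro x
        obtain ⟨s, t, rfl⟩ := decompose hind x
        show f _ = _
        rw [map_add, map_smul, map_smul, hv, hw, zero_smul, zero_add]
        simp
      have hpow : ∀ n : ℕ, (ψ (g ^ n) : (Fin 2 → K) →ₗ[K] (Fin 2 → K)) w = ((n : K) * c) • v + w := by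
        intro n
        induction n with
        | zero => simp
        | succ n ih =>
          rw [pow_succ, map_mul, Units.val_mul, Module.End.mul_apply, ← hf, hw, map_add, map_smul, ih]
          have := hpowv g v 1 (by rw [one_smul]; exact hv) n
          rw [this, one_pow, one_smul, Nat.cast_add, Nat.cast_one, add_mul, one_mul, add_smul]
          abel
      refine ⟨?_, v, hv0, fun y => ⟨fun hy => ?_, fun hy => ?_⟩⟩
      · apply hψ
        rw [map_one]
        apply Units.ext
        apply LinearMap.ext
        intro x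
        obtain ⟨s, t, rfl⟩ := decompose hind x
        rw [map_add, map_smul, map_smul, hpow, hpowv g v 1 (by rw [one_smul]; exact hv),
          CharP.cast_eq_zero, one_pow, one_smul, zero_mul, zero_smul, zero_add]
        simp
      · induction y using Projectivization.ind with
        | h x hx =>
          obtain ⟨l, hl⟩ := (smul_mk_eq_iff (ψ g) hx).mp hy
          obtain ⟨s, t, rfl⟩ := decompose hind x
          rw [← hf, map_add, map_smul, map_smul, hv, hw, smul_add, smul_smul, ← add_assoc, ← add_smul, smul_add,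
            smul_smul, smul_smul] at hl
          obtain ⟨h1, h2⟩ := coord_unique hind hl
          have ht : t = 0 := by
            by_contra ht
            have hl1 : l = 1 := mul_right_cancel₀ ht (h2.symm.trans (one_mul t).symm)
            rw [hl1, one_mul] at h1
            exact hc ((mul_eq_zero.mp (by linear_combination h1)).resolve_left ht)
          subst ht
          rw [Projectivization.mk_eq_mk_iff']
          exact ⟨s, by simp⟩
      · subst hy
        exact (smul_mk_eq_iff (ψ g) hv0).mpr ⟨1, by rw [one_smul]; exact hv⟩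
    · right
      refine ⟨fun k hk => hba ?_, ?_⟩
      · have := hpowv g v a hv (p ^ k)
        rw [hk, map_one] at this
        simp only [Units.val_one, Module.End.one_apply] at this
        have h0 : (a ^ p ^ k - 1) • v = 0 := by rw [sub_smul, ← this, one_smul, sub_self]
        have ha : a = 1 := hpp0 a k (sub_eq_zero.mp ((smul_eq_zero.mp h0).resolve_right hv0))
        rw [ha, one_mul] at hab
        rw [ha, hab]
      obtain ⟨w', hw'⟩ : ∃ w', w' = (c / (b - a)) • v + w := ⟨_, rfl⟩
      have hba' : b - a ≠ 0 := sub_ne_zero.mpr (Ne.symm hba)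
      have hfw : f w' = b • w' := by
        rw [hw', map_add, map_smul, hv, hw, smul_smul, smul_add, smul_smul, ← add_assoc, ← add_smul]
        congr 2
        field_simp
        ring
      have hind' : LinearIndependent K ![v, w'] := by
        rw [linearIndependent_fin2]
        refine ⟨?_, fun r hr => ?_⟩
        · simp only [Matrix.cons_val_one, Matrix.cons_val_zero]
          intro h0
          have := coord_unique hind (s' := 0) (t' := 0) (s := c / (b - a)) (t := 1) (by rw [one_smul, ← hw', h0]; simp)
          exact one_ne_zero this.2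
        · simp only [Matrix.cons_val_one, Matrix.cons_val_zero] at hr
          rw [hw', smul_add, smul_smul] at hr
          have := coord_unique hind (s := r * (c / (b - a))) (t := r) (s' := 1) (t' := 0) (by rw [hr]; simp)
          rw [this.2, zero_mul] at this
          exact zero_ne_one this.1
      have hw0 : w' ≠ 0 := by simpa using hind'.ne_zero 1
      refine ⟨Projectivization.mk K v hv0, Projectivization.mk K w' hw0, ?_, fun y => ⟨fun hy => ?_, ?_⟩⟩
      · rw [Ne, Projectivization.mk_eq_mk_iff']
        rintro ⟨r, hr⟩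
        exact (linearIndependent_fin2.mp hind').2 r (by simpa using hr)
      · induction y using Projectivization.ind with
        | h x hx =>
          obtain ⟨l, hl⟩ := (smul_mk_eq_iff (ψ g) hx).mp hy
          obtain ⟨s, t, rfl⟩ := decompose hind' x
          rw [← hf, map_add, map_smul, map_smul, hv, hfw, smul_add, smul_smul, smul_smul, smul_smul, smul_smul] at hl
          obtain ⟨h1, h2⟩ := coord_unique hind' hl
          rw [Projectivization.mk_eq_mk_iff', Projectivization.mk_eq_mk_iff']
          by_cases ht : t = 0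
          · exact Or.inl ⟨s, by simp [ht]⟩
          · refine Or.inr ⟨t, ?_⟩
            have hs : s = 0 := by
              by_contra hs
              exact hba ((mul_left_cancel₀ hs (h1.trans (mul_comm _ _))).trans
                (mul_left_cancel₀ ht (h2.trans (mul_comm _ _))).symm)
            simp [hs]
      · rintro (rfl | rfl)
        · exact (smul_mk_eq_iff (ψ g) hv0).mpr ⟨a, hv⟩
        · exact (smul_mk_eq_iff (ψ g) hw0).mpr ⟨b, hfw⟩
  refine OddLines.exists_global_fixed (E := H) (Ω := ℙ K (Fin 2 → K)) hodd hpH ?_ ?_ ?_ ?_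
  · intro g ⟨k, hk⟩
    by_cases hg : g = 1
    · rw [hg, one_pow]
    rcases dich g hg with h | h
    · exact h.1
    · exact absurd (hk ▸ pow_orderOf_eq_one g) (h.1 k)
  · intro g hg hgp
    rcases dich g hg with ⟨-, v, hv, h⟩ | h
    · exact ⟨_, h⟩
    · exact absurd (by rwa [pow_one]) (h.1 1)
  · intro g hg hgp
    rcases dich g hg with ⟨h, -⟩ | h
    · exact absurd h hgp
    · exact h.2
  · intro x g h hgx hhx hgp hhp
    induction x using Projectivization.ind with
    | h v hv =>
      have unip : ∀ k : H, ψ k • Projectivization.mk K v hv = Projectivization.mk K v hv → k ^ p = 1 →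
          ∀ w : Fin 2 → K, LinearIndependent K ![v, w] →
            (ψ k : (Fin 2 → K) →ₗ[K] (Fin 2 → K)) v = v ∧
            ∃ c : K, (ψ k : (Fin 2 → K) →ₗ[K] (Fin 2 → K)) w = c • v + w := by
        intro k hkx hkp w hw
        obtain ⟨a, ha⟩ := (smul_mk_eq_iff (ψ k) hv).mp hkx
        have := hpowv k v a ha p
        rw [hkp, map_one] at this
        simp only [Units.val_one, Module.End.one_apply] at this
        have h0 : (a ^ p - 1) • v = 0 := by rw [sub_smul, ← this, one_smul, sub_self]
        have ha1 : a = 1 := hpp0 a 1 (by rw [pow_one]; exact sub_eq_zero.mp ((smul_eq_zero.mp h0).resolve_right hv))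
        obtain ⟨c, b, hb⟩ := decompose hw ((ψ k : (Fin 2 → K) →ₗ[K] (Fin 2 → K)) w)
        have hd := (det_eq _ ha hb hw).symm.trans (hdet k)
        rw [ha1, one_mul] at hd
        exact ⟨by rw [ha, ha1, one_smul], c, by rw [hb, hd, one_smul]⟩
      obtain ⟨w, hw⟩ := exists_linearIndependent_pair_of_one_lt_rank (R := K) (M := Fin 2 → K) (by rw [rank_fin_fun]; norm_num) hv
      obtain ⟨g1, cg, g2⟩ := unip g hgx hgp w hw
      obtain ⟨h1, ch, h2⟩ := unip h hhx hhp w hw
      show g * h = h * g
      apply hψ
      apply Units.ext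
      apply LinearMap.ext
      intro x
      obtain ⟨s, t, rfl⟩ := decompose hw x
      simp only [map_mul, Units.val_mul, Module.End.mul_apply, map_add, map_smul, g1, g2, h1, h2]
      module

/-- In odd characteristic `p`, a finite group of odd order of 2 × 2 matrices whose order is divisible by
`p` has a common eigenvector. -/
theorem exists_common_eigenvector {F : Type*} [Field F] {p : ℕ} [Fact p.Prime] [CharP F p] {H : Type*} [Group H]
    [Finite H] (φ : H →* GL (Fin 2) F) (hφ : Function.Injective φ) (hodd : Odd (Nat.card H))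
    (hpH : p ∣ Nat.card H) :
    ∃ v : Fin 2 → F, v ≠ 0 ∧ ∀ g : H, ∃ a : F, (φ g : Matrix (Fin 2) (Fin 2) F) *ᵥ v = a • v := by
  let K := AlgebraicClosure F
  haveI : CharP K p := charP_of_injective_algebraMap' F p
  let ι : F →+* K := algebraMap F K
  let ψ : H →* LinearMap.GeneralLinearGroup K (Fin 2 → K) :=
    (Matrix.GeneralLinearGroup.toLin.toMonoidHom).comp ((Matrix.GeneralLinearGroup.map ι).comp φ)
  have hψ : Function.Injective ψ := by
    intro a b e
    apply hφ
    have e' := Matrix.GeneralLinearGroup.toLin.injective e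
    have e'' : (φ a : Matrix (Fin 2) (Fin 2) F).map ι = (φ b : Matrix (Fin 2) (Fin 2) F).map ι := congrArg Units.val e'
    apply Units.ext
    exact Matrix.map_injective ι.injective e''
  have hψval : ∀ g x, (ψ g : (Fin 2 → K) →ₗ[K] (Fin 2 → K)) x =
      ((φ g : Matrix (Fin 2) (Fin 2) F).map ι) *ᵥ x := by
    intro g x
    rfl
  let D : H →* K := (LinearMap.det : ((Fin 2 → K) →ₗ[K] (Fin 2 → K)) →* K).comp ((Units.coeHom _).comp ψ)
  set E := D.ker with hE
  obtain ⟨u, hu⟩ := exists_prime_orderOf_dvd_card' (G := H) p hpH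
  have huE : u ∈ E := by
    have h1 : D u ^ p = 1 := by rw [← map_pow, ← hu, pow_orderOf_eq_one, map_one]
    exact MonoidHom.mem_ker.mpr (frobenius_inj K p (by simp only [frobenius_def, one_pow]; exact h1))
  have hu1 : u ≠ 1 := fun e => (Fact.out : p.Prime).ne_one (by rw [← hu, e, orderOf_one])
  have hup : u ^ p = 1 := hu ▸ pow_orderOf_eq_one u
  obtain ⟨x, hx, hxu⟩ := exists_fixed_aux (H := E) (p := p) (ψ.comp E.subtype) (hψ.comp E.subtype_injective)
    (hodd.of_dvd_nat (Subgroup.card_subgroup_dvd_card E))
    ((hu ▸ Subgroup.orderOf_mk u huE ▸ orderOf_dvd_natCard (⟨u, huE⟩ : E)) : p ∣ Nat.card E)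
    (fun g => MonoidHom.mem_ker.mp g.2)
  have huniq : ∀ y, ψ u • y = y → y = x := fun y hy =>
    hxu ⟨u, huE⟩ (fun e => hu1 (congrArg Subtype.val e)) (Subtype.ext hup) y hy
  have hall : ∀ g : H, ψ g • x = x := by
    intro g
    apply huniq
    have h1 : ψ (g⁻¹ * u * g) • x = x := hx ⟨g⁻¹ * u * g, by
      have := Subgroup.Normal.conj_mem (inferInstance : E.Normal) u huE g⁻¹
      simpa using this⟩
    rw [map_mul, map_mul, mul_smul, mul_smul, map_inv, inv_smul_eq_iff] at h1
    exact h1
  -- a fixed vector of `u` defined over `F`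
  set A := ((φ u : Matrix (Fin 2) (Fin 2) F) - 1) with hA
  have hdetA : A.det = 0 := by
    apply ι.injective
    rw [map_zero, RingHom.map_det]
    apply Matrix.exists_mulVec_eq_zero_iff.mp
    induction x using Projectivization.ind with
    | h v hv =>
      refine ⟨v, hv, ?_⟩
      obtain ⟨a, ha⟩ := (smul_mk_eq_iff (ψ u) hv).mp (hall u)
      have ha1 : a = 1 := by
        have hp' : ∀ n : ℕ, (ψ (u ^ n) : (Fin 2 → K) →ₗ[K] (Fin 2 → K)) v = a ^ n • v := by
          intro n
          induction n with
          | zero => simp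
          | succ n ih => rw [pow_succ, map_mul, Units.val_mul, Module.End.mul_apply, ha, map_smul, ih, smul_smul, pow_succ']
        have := hp' p
        rw [hup, map_one] at this
        simp only [Units.val_one, Module.End.one_apply] at this
        have h0 : (a ^ p - 1) • v = 0 := by rw [sub_smul, ← this, one_smul, sub_self]
        exact frobenius_inj K p (by simp only [frobenius_def, one_pow]; exact sub_eq_zero.mp ((smul_eq_zero.mp h0).resolve_right hv))
      rw [ha1, one_smul, hψval] at ha
      rw [hA, map_sub, map_one, Matrix.sub_mulVec, Matrix.one_mulVec, RingHom.mapMatrix_apply, ha, sub_self]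
  obtain ⟨v0, hv0, hA0⟩ := Matrix.exists_mulVec_eq_zero_iff.mpr hdetA
  rw [hA, Matrix.sub_mulVec, Matrix.one_mulVec, sub_eq_zero] at hA0
  refine ⟨v0, hv0, fun g => ?_⟩
  set w0 : Fin 2 → K := fun i => ι (v0 i) with hw0
  have hw00 : w0 ≠ 0 := fun h => hv0 (funext fun i => ι.injective (by simpa [hw0] using congrFun h i))
  have hmap : ∀ k : H, ((φ k : Matrix (Fin 2) (Fin 2) F).map ι) *ᵥ w0 = fun i => ι (((φ k : Matrix (Fin 2) (Fin 2) F) *ᵥ v0) i) := by
    intro k
    funext i
    rw [RingHom.map_mulVec]
    rfl
  have hw0x : Projectivization.mk K w0 hw00 = x := huniq _ ((smul_mk_eq_iff (ψ u) hw00).mpr ⟨1, by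
    rw [one_smul, hψval, hmap, hA0]⟩)
  have h2 := hall g
  rw [← hw0x, smul_mk_eq_iff, ] at h2
  obtain ⟨a, ha⟩ := h2
  rw [hψval, hmap] at ha
  obtain ⟨i, hi⟩ : ∃ i, v0 i ≠ 0 := by
    by_contra h
    simp only [not_exists, not_not] at h
    exact hv0 (funext h)
  refine ⟨((φ g : Matrix (Fin 2) (Fin 2) F) *ᵥ v0) i / v0 i, funext fun j => ι.injective ?_⟩
  have hj := congrFun ha j
  have hi' := congrFun ha i
  simp only [Pi.smul_apply, smul_eq_mul, hw0] at hj hi'
  rw [Pi.smul_apply, smul_eq_mul, map_mul, map_div₀, hj, hi', mul_div_assoc,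
    div_self (fun h => hi (ι.injective (by rw [h, map_zero]))), mul_one]

end CfsgLib.OddOrder.OddGL2
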