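import Cfsg.Agent.Lib.OddOrder.OddGL2
import Mathlib

set_option autoImplicit false

/-!
Solvable groups of odd order of 2 × 2 matrices in odd characteristic have a `p`-group as derived group.
-/

open Matrix
open scoped commutatorElement

namespace CfsgLib.OddOrder.OddGL2Structure

open CfsgLib.OddOrder.OddGL2

variable {K : Type*} [Field K] {p : ℕ} [Fact p.Prime] [CharP K p] {H : Type*} [Group H] [Finite H]

theorem pow_two_eigen (ψ : H →* LinearMap.GeneralLinearGroup K (Fin 2 → K)) {g : H} {v w : Fin 2 → K}
    {c : K} (hv : (ψ g : (Fin 2 → K) →ₗ[K] (Fin 2 → K)) v = v)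
    (hw : (ψ g : (Fin 2 → K) →ₗ[K] (Fin 2 → K)) w = c • v + w) (n : ℕ) :
    (ψ (g ^ n) : (Fin 2 → K) →ₗ[K] (Fin 2 → K)) w = ((n : K) * c) • v + w := by
  induction n with
  | zero => simp
  | succ n ih =>
    rw [pow_succ, map_mul, Units.val_mul, Module.End.mul_apply, hw, map_add, map_smul, ih]
    have hv' : (ψ (g ^ n) : (Fin 2 → K) →ₗ[K] (Fin 2 → K)) v = v := by
      clear ih
      induction n with
      | zero => simp
      | succ n ih => rw [pow_succ, map_mul, Units.val_mul, Module.End.mul_apply, hv, ih]
    rw [hv', Nat.cast_succ]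
    module

/-- Over an algebraically closed field: coprime solvable groups of odd order are abelian. -/
theorem comm_of_coprime [IsAlgClosed K] [Group.IsSolvable H]
    (ψ : H →* LinearMap.GeneralLinearGroup K (Fin 2 → K)) (hψ : Function.Injective ψ)
    (hodd : Odd (Nat.card H)) (hcop : ¬ p ∣ Nat.card H) : ∀ x y : H, x * y = y * x := by
  set E : H → ((Fin 2 → K) →ₗ[K] (Fin 2 → K)) := fun g => (ψ g : (Fin 2 → K) →ₗ[K] (Fin 2 → K)) with hE
  have hEmul : ∀ g h : H, ∀ z, E (g * h) z = E g (E h z) := fun g h z => by
    simp [hE, map_mul, Units.val_mul, Module.End.mul_apply]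
  have hEone : ∀ z, E 1 z = z := fun z => by simp [hE]
  have hEinj : ∀ g h : H, (∀ z, E g z = E h z) → g = h := fun g h e =>
    hψ (Units.ext (LinearMap.ext e))
  -- the scalar elements
  let S : Subgroup H :=
    { carrier := {g | ∃ a : K, ∀ z, E g z = a • z}
      one_mem' := ⟨1, fun z => by rw [hEone, one_smul]⟩
      mul_mem' := by
        rintro g h ⟨a, ha⟩ ⟨b, hb⟩
        exact ⟨a * b, fun z => by rw [hEmul, hb, map_smul, ha, smul_smul, mul_comm]⟩
      inv_mem' := by
        rintro g ⟨a, ha⟩
        refine ⟨a⁻¹, fun z => ?_⟩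
        have h1 : E g (E g⁻¹ z) = z := by rw [← hEmul, mul_inv_cancel, hEone]
        rw [ha] at h1
        rcases eq_or_ne a 0 with h0 | h0
        · subst h0
          rw [zero_smul] at h1
          rw [← h1]
          simp
        · conv_rhs => rw [← h1]
          rw [inv_smul_smul₀ h0] }
  have hScentral : ∀ s ∈ S, ∀ h : H, s * h = h * s := by
    rintro s ⟨a, ha⟩ h
    refine hEinj _ _ fun z => ?_
    rw [hEmul, hEmul, ha, ha, map_smul]
  haveI hSn : S.Normal := ⟨fun s hs g => by
    rw [← hScentral s hs g, mul_assoc, mul_inv_cancel, mul_one]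
    exact hs⟩
  by_cases hStop : S = ⊤
  · exact fun x y => hScentral x (hStop ▸ Subgroup.mem_top x) y
  -- `S < N` with `N / S` abelian
  obtain ⟨N, hNn, hSN, hNab⟩ : ∃ N : Subgroup H, N.Normal ∧ S < N ∧ ∀ a ∈ N, ∀ b ∈ N, ⁅a, b⁆ ∈ S := by
    set q := QuotientGroup.mk' S with hq
    haveI : Nontrivial (H ⧸ S) := QuotientGroup.nontrivial_iff.mpr hStop
    obtain ⟨n, hn⟩ := Group.IsSolvable.solvable (G := H ⧸ S)
    obtain ⟨m, hm1, hm2⟩ : ∃ m, derivedSeries (H ⧸ S) m ≠ ⊥ ∧ derivedSeries (H ⧸ S) (m + 1) = ⊥ := by
      induction n with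
      | zero => exact absurd hn (by rw [derivedSeries_zero]; exact top_ne_bot)
      | succ n ih =>
        by_cases h : derivedSeries (H ⧸ S) n = ⊥
        · exact ih h
        · exact ⟨n, h, hn⟩
    refine ⟨(derivedSeries (H ⧸ S) m).comap q, (derivedSeries_normal _ m).comap q, ?_, ?_⟩
    · refine lt_of_le_of_ne (fun x hx => ?_) fun e => hm1 ?_
      · rw [Subgroup.mem_comap, QuotientGroup.mk'_apply, (QuotientGroup.eq_one_iff x).mpr hx]
        exact one_mem _
      · rw [← Subgroup.map_comap_eq_self_of_surjective (QuotientGroup.mk'_surjective S)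
          (derivedSeries (H ⧸ S) m), ← hq, ← e, Subgroup.map_eq_bot_iff, QuotientGroup.ker_mk']
    · intro a ha b hb
      refine (QuotientGroup.eq_one_iff _).mp ?_
      show q ⁅a, b⁆ = 1
      rw [map_commutatorElement, ← Subgroup.mem_bot, ← hm2, derivedSeries_succ]
      exact Subgroup.commutator_mem_commutator ha hb
  -- `N` is abelian
  let D : H →* K := (LinearMap.det : ((Fin 2 → K) →ₗ[K] (Fin 2 → K)) →* K).comp ((Units.coeHom _).comp ψ)
  have hD : ∀ g, D g = LinearMap.det (E g) := fun g => rfl
  have hNcomm : ∀ a ∈ N, ∀ b ∈ N, a * b = b * a := by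
    intro a ha b hb
    obtain ⟨z, hz⟩ := hNab a ha b hb
    have hd : D ⁅a, b⁆ = 1 := by
      have hu : ∀ g : H, D g * D g⁻¹ = 1 := fun g => by rw [← map_mul, mul_inv_cancel, map_one]
      simp only [commutatorElement_def, map_mul]
      rw [mul_assoc, mul_assoc, mul_left_comm (D b), hu, mul_one, hu]
    have hz2 : z ^ 2 = 1 := by
      have e : E ⁅a, b⁆ = z • LinearMap.id := LinearMap.ext fun w => by simp [hz]
      rw [hD, e, LinearMap.det_smul, LinearMap.det_id, mul_one] at hd
      simpa using hd
    have hodd' : Odd (orderOf ⁅a, b⁆) := hodd.of_dvd_nat (orderOf_dvd_natCard _)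
    have hpow : ∀ k : ℕ, ∀ w, E (⁅a, b⁆ ^ k) w = z ^ k • w := by
      intro k
      induction k with
      | zero => intro w; simp [hEone]
      | succ k ih => intro w; rw [pow_succ, hEmul, hz, map_smul, ih, smul_smul, pow_succ']
    have hz1 : z = 1 := by
      have h1 := hpow (orderOf ⁅a, b⁆) (Pi.single 0 1)
      rw [pow_orderOf_eq_one, hEone] at h1
      have h2 := congrFun h1 0
      simp at h2
      obtain ⟨m, hm⟩ := hodd'
      rw [hm, pow_succ, pow_mul, hz2, one_pow, one_mul] at h2
      exact h2.symm
    rw [← commutatorElement_eq_one_iff_mul_comm]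
    exact hEinj _ _ fun w => by rw [hz, hz1, one_smul, hEone]
  obtain ⟨a, haN, haS⟩ := SetLike.exists_of_lt hSN
  -- two eigenlines of `a`
  obtain ⟨v, w, al, be, hva, hwa, hne, hind⟩ : ∃ (v w : Fin 2 → K) (al be : K), E a v = al • v ∧
      E a w = be • w ∧ al ≠ be ∧ LinearIndependent K ![v, w] := by
    obtain ⟨v, w, al, be, c, h1, h2, hind⟩ := exists_triangular (E a)
    have hne : al ≠ be := by
      intro heq
      subst heq
      apply haS
      have hpw : ∀ k : ℕ, E (a ^ k) v = al ^ k • v ∧
          E (a ^ k) w = ((k : K) * al ^ (k - 1) * c) • v + al ^ k • w := by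
        intro k
        induction k with
        | zero => simp [hEone]
        | succ k ih =>
          refine ⟨by rw [pow_succ, hEmul, h1, map_smul, ih.1, smul_smul, pow_succ'], ?_⟩
          rw [pow_succ, hEmul, h2, map_add, map_smul, map_smul, ih.1, ih.2]
          rcases k with _ | k
          · simp
          · simp only [Nat.add_sub_cancel, Nat.cast_succ]
            module
      obtain ⟨h3, h4⟩ := hpw (orderOf a)
      rw [pow_orderOf_eq_one, hEone] at h3 h4
      have hal : al ^ orderOf a = 1 := by
        have := coord_unique hind (s := 1) (t := 0) (s' := al ^ orderOf a) (t' := 0) (by simpa using h3)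
        exact this.1.symm
      have hc : c = 0 := by
        have := (coord_unique hind (s := 0) (t := 1)
          (s' := (orderOf a : K) * al ^ (orderOf a - 1) * c) (t' := al ^ orderOf a) (by simpa using h4)).1
        have hn : (orderOf a : K) ≠ 0 := fun h =>
          hcop (((CharP.cast_eq_zero_iff K p _).mp h).trans (orderOf_dvd_natCard a))
        have hal0 : al ≠ 0 := fun h => by
          rw [h, zero_pow (orderOf_pos a).ne'] at hal; exact zero_ne_one hal
        rcases mul_eq_zero.mp this.symm with h | h
        · exact absurd h (mul_ne_zero hn (pow_ne_zero _ hal0))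
        · exact h
      refine ⟨al, fun z => ?_⟩
      obtain ⟨s, t, rfl⟩ := decompose hind z
      rw [map_add, map_smul, map_smul, h1, h2, hc]
      module
    refine ⟨v, (c / (be - al)) • v + w, al, be, h1, ?_, hne, ?_⟩
    · rw [map_add, map_smul, h1, h2]
      have hba : be - al ≠ 0 := sub_ne_zero.mpr hne.symm
      have : c / (be - al) * al + c = be * (c / (be - al)) := by field_simp; ring
      rw [smul_smul, ← add_assoc, ← add_smul, this, smul_add, smul_smul]
    · rw [linearIndependent_fin2] at hind ⊢
      simp only [Matrix.cons_val_zero, Matrix.cons_val_one] at hind ⊢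
      refine ⟨fun h => hind.2 (-(c / (be - al))⁻¹) ?_, fun s hs => ?_⟩
      · rcases eq_or_ne (c / (be - al)) 0 with h0 | h0
        · rw [h0, zero_smul, zero_add] at h; exact absurd h hind.1
        · rw [add_eq_zero_iff_eq_neg] at h
          rw [neg_smul, ← smul_neg, ← h, inv_smul_smul₀ h0]
      · rcases eq_or_ne s 0 with h0 | h0
        · subst h0
          rw [zero_smul] at hs
          exact hind.2 0 (by rw [zero_smul]; exact hs)
        · rw [smul_add, smul_smul] at hs
          have h5 : s • w = (1 - s * (c / (be - al))) • v := by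
            rw [sub_smul, one_smul, eq_sub_iff_add_eq, add_comm]; exact hs
          rcases eq_or_ne (1 - s * (c / (be - al))) 0 with h6 | h6
          · rw [h6, zero_smul] at h5
            exact hind.1 ((smul_eq_zero.mp h5).resolve_left h0)
          · apply hind.2 ((1 - s * (c / (be - al)))⁻¹ * s)
            rw [mul_smul, h5, inv_smul_smul₀ h6]
  -- every element preserves the two lines
  have hline : ∀ g : H, (∃ r : K, E g v = r • v) ∨ ∃ r : K, E g v = r • w := by
    intro g
    set b := g * a * g⁻¹ with hb
    have hbN : b ∈ N := hNn.conj_mem a haN g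
    have hab := hNcomm a haN b hbN
    have hbev : ∀ (u : Fin 2 → K) (r : K), E a u = r • u → E a (E b u) = r • E b u := fun u r hu => by
      rw [← hEmul, hab, hEmul, hu, map_smul]
    have hbv : ∃ μ : K, E b v = μ • v := by
      obtain ⟨s, t, hst⟩ := decompose hind (E b v)
      have h1 := hbev v al hva
      rw [hst, map_add, map_smul, map_smul, hva, hwa, smul_smul, smul_smul, smul_add, smul_smul, smul_smul] at h1
      have h2 := (coord_unique hind h1).2
      have : t = 0 := by
        by_contra ht
        exact hne (mul_right_cancel₀ ht (by linear_combination -h2))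
      exact ⟨s, by rw [hst, this, zero_smul, add_zero]⟩
    have hbw : ∃ ν : K, E b w = ν • w := by
      obtain ⟨s, t, hst⟩ := decompose hind (E b w)
      have h1 := hbev w be hwa
      rw [hst, map_add, map_smul, map_smul, hva, hwa, smul_smul, smul_smul, smul_add, smul_smul, smul_smul] at h1
      have h2 := (coord_unique hind h1).1
      have : s = 0 := by
        by_contra ht
        exact hne (mul_right_cancel₀ ht (by linear_combination h2))
      exact ⟨t, by rw [hst, this, zero_smul, zero_add]⟩
    obtain ⟨μ, hμ⟩ := hbv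
    obtain ⟨ν, hν⟩ := hbw
    have hgv : E b (E g v) = al • E g v := by
      rw [← hEmul, show b * g = g * a by rw [hb]; group, hEmul, hva, map_smul]
    have hgw : E b (E g w) = be • E g w := by
      rw [← hEmul, show b * g = g * a by rw [hb]; group, hEmul, hwa, map_smul]
    obtain ⟨s, t, hst⟩ := decompose hind (E g v)
    rw [hst, map_add, map_smul, map_smul, hμ, hν, smul_smul, smul_smul, smul_add, smul_smul, smul_smul] at hgv
    obtain ⟨h1, h2⟩ := coord_unique hind hgv
    rcases eq_or_ne s 0 with hs | hs
    · exact Or.inr ⟨t, by rw [hst, hs, zero_smul, zero_add]⟩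
    rcases eq_or_ne t 0 with ht | ht
    · exact Or.inl ⟨s, by rw [hst, ht, zero_smul, add_zero]⟩
    exfalso
    have hμa : μ = al := mul_left_cancel₀ hs (by linear_combination h1)
    have hνa : ν = al := mul_left_cancel₀ ht (by linear_combination h2)
    obtain ⟨s', t', hst'⟩ := decompose hind (E g w)
    rw [hst', map_add, map_smul, map_smul, hμ, hν, hμa, hνa, smul_smul, smul_smul, smul_add, smul_smul,
      smul_smul] at hgw
    obtain ⟨h3, h4⟩ := coord_unique hind hgw
    have hs' : s' = 0 := by
      by_contra hh; exact hne (mul_left_cancel₀ hh (by linear_combination h3))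
    have ht' : t' = 0 := by
      by_contra hh; exact hne (mul_left_cancel₀ hh (by linear_combination h4))
    rw [hs', ht', zero_smul, zero_smul, add_zero] at hst'
    have h5 : E g⁻¹ (E g w) = w := by rw [← hEmul, inv_mul_cancel, hEone]
    rw [hst', map_zero] at h5
    have := (linearIndependent_fin2.mp hind).1
    simp at this
    exact this h5.symm
  have hwline : ∀ g : H, (∃ r : K, E g w = r • v) ∨ ∃ r : K, E g w = r • w := by
    intro g
    set b := g * a * g⁻¹ with hb
    have hbN : b ∈ N := hNn.conj_mem a haN g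
    have hab := hNcomm a haN b hbN
    have hgv : E b (E g v) = al • E g v := by
      rw [← hEmul, show b * g = g * a by rw [hb]; group, hEmul, hva, map_smul]
    have hgw : E b (E g w) = be • E g w := by
      rw [← hEmul, show b * g = g * a by rw [hb]; group, hEmul, hwa, map_smul]
    -- `E b` is diagonal in `v, w`
    have hdiag : ∀ (u : Fin 2 → K) (r : K), E a u = r • u → E a (E b u) = r • E b u := fun u r hu => by
      rw [← hEmul, hab, hEmul, hu, map_smul]
    obtain ⟨s₁, t₁, e₁⟩ := decompose hind (E b v)
    obtain ⟨s₂, t₂, e₂⟩ := decompose hind (E b w)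
    have d1 := hdiag v al hva
    rw [e₁, map_add, map_smul, map_smul, hva, hwa, smul_smul, smul_smul, smul_add, smul_smul, smul_smul] at d1
    have ht₁ : t₁ = 0 := by
      by_contra hh; exact hne (mul_right_cancel₀ hh (by linear_combination -(coord_unique hind d1).2))
    have d2 := hdiag w be hwa
    rw [e₂, map_add, map_smul, map_smul, hva, hwa, smul_smul, smul_smul, smul_add, smul_smul, smul_smul] at d2
    have hs₂ : s₂ = 0 := by
      by_contra hh; exact hne (mul_right_cancel₀ hh (by linear_combination (coord_unique hind d2).1))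
    rw [ht₁, zero_smul, add_zero] at e₁
    rw [hs₂, zero_smul, zero_add] at e₂
    obtain ⟨s, t, hst⟩ := decompose hind (E g w)
    rw [hst, map_add, map_smul, map_smul, e₁, e₂, smul_smul, smul_smul, smul_add, smul_smul, smul_smul] at hgw
    obtain ⟨h1, h2⟩ := coord_unique hind hgw
    rcases eq_or_ne s 0 with hs | hs
    · exact Or.inr ⟨t, by rw [hst, hs, zero_smul, zero_add]⟩
    rcases eq_or_ne t 0 with ht | ht
    · exact Or.inl ⟨s, by rw [hst, ht, zero_smul, add_zero]⟩
    exfalso
    have hμ : s₁ = be := mul_left_cancel₀ hs (by linear_combination h1)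
    have hν : t₂ = be := mul_left_cancel₀ ht (by linear_combination h2)
    obtain ⟨s', t', hst'⟩ := decompose hind (E g v)
    rw [hst', map_add, map_smul, map_smul, e₁, e₂, hμ, hν, smul_smul, smul_smul, smul_add, smul_smul,
      smul_smul] at hgv
    obtain ⟨h3, h4⟩ := coord_unique hind hgv
    have hs' : s' = 0 := by
      by_contra hh; exact hne (mul_left_cancel₀ hh (by linear_combination -h3))
    have ht' : t' = 0 := by
      by_contra hh; exact hne (mul_left_cancel₀ hh (by linear_combination -h4))
    rw [hs', ht', zero_smul, zero_smul, add_zero] at hst'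
    have h5 : E g⁻¹ (E g v) = v := by rw [← hEmul, inv_mul_cancel, hEone]
    rw [hst', map_zero] at h5
    exact hind.ne_zero 0 (by simpa using h5.symm)
  have hv0 : v ≠ 0 := by simpa using hind.ne_zero 0
  have hfix : ∀ g : H, ∃ r r' : K, E g v = r • v ∧ E g w = r' • w := by
    intro g
    have hsq : ∀ h : H, (∃ r : K, E (h * h) v = r • v) ∧ ∃ r : K, E (h * h) w = r • w := by
      intro h
      rcases hline h with ⟨r, hr⟩ | ⟨r, hr⟩ <;> rcases hwline h with ⟨r', hr'⟩ | ⟨r', hr'⟩
      · exfalso
        have h5 : ∀ z, E h⁻¹ (E h z) = z := fun z => by rw [← hEmul, inv_mul_cancel, hEone]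
        have e : E h (r' • v - r • w) = 0 := by rw [map_sub, map_smul, map_smul, hr, hr', smul_smul, smul_smul, mul_comm, sub_self]
        have e' := congrArg (E h⁻¹) e
        rw [h5, map_zero, sub_eq_add_neg, ← neg_smul] at e'
        have := coord_unique hind (s := r') (t := -r) (s' := 0) (t' := 0)
          (by rw [zero_smul, zero_smul, add_zero]; exact e')
        rw [this.1, zero_smul] at hr'
        have := h5 w
        rw [hr', map_zero] at this
        exact hind.ne_zero 1 (by simpa using this.symm)
      · exact ⟨⟨r * r, by rw [hEmul, hr, map_smul, hr, smul_smul]⟩,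
          ⟨r' * r', by rw [hEmul, hr', map_smul, hr', smul_smul]⟩⟩
      · exact ⟨⟨r * r', by rw [hEmul, hr, map_smul, hr', smul_smul]⟩,
          ⟨r' * r, by rw [hEmul, hr', map_smul, hr, smul_smul]⟩⟩
      · exfalso
        have h5 : ∀ z, E h⁻¹ (E h z) = z := fun z => by rw [← hEmul, inv_mul_cancel, hEone]
        have e : E h (r' • v - r • w) = 0 := by rw [map_sub, map_smul, map_smul, hr, hr', smul_smul, smul_smul, mul_comm, sub_self]
        have e' := congrArg (E h⁻¹) e
        rw [h5, map_zero, sub_eq_add_neg, ← neg_smul] at e'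
        have := coord_unique hind (s := r') (t := -r) (s' := 0) (t' := 0)
          (by rw [zero_smul, zero_smul, add_zero]; exact e')
        rw [this.1, zero_smul] at hr'
        have := h5 w
        rw [hr', map_zero] at this
        exact hind.ne_zero 1 (by simpa using this.symm)
    obtain ⟨m, hm⟩ := hodd.of_dvd_nat (orderOf_dvd_natCard g)
    have hg : g = g ^ (m + 1) * g ^ (m + 1) := by
      rw [← pow_add, show m + 1 + (m + 1) = orderOf g + 1 by omega, pow_succ, pow_orderOf_eq_one, one_mul]
    obtain ⟨⟨r, hr⟩, ⟨r', hr'⟩⟩ := hsq (g ^ (m + 1))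
    exact ⟨r, r', by rw [hg]; exact hr, by rw [hg]; exact hr'⟩
  intro x y
  obtain ⟨r, r', hx, hx'⟩ := hfix x
  obtain ⟨u, u', hy, hy'⟩ := hfix y
  refine hEinj _ _ fun z => ?_
  obtain ⟨s, t, rfl⟩ := decompose hind z
  simp only [hEmul, map_add, map_smul, hx, hx', hy, hy']
  module

/-- The derived group of a solvable group of odd order of 2 × 2 matrices in odd characteristic `p` is a
`p`-group. -/
theorem commutator_isPGroup {F : Type*} [Field F] [CharP F p] [Group.IsSolvable H]
    (φ : H →* GL (Fin 2) F) (hφ : Function.Injective φ) (hodd : Odd (Nat.card H)) :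
    IsPGroup p (commutator H) := by
  let L := AlgebraicClosure F
  haveI : CharP L p := charP_of_injective_algebraMap' F p
  let ι : F →+* L := algebraMap F L
  let ψ : H →* LinearMap.GeneralLinearGroup L (Fin 2 → L) :=
    (Matrix.GeneralLinearGroup.toLin.toMonoidHom).comp ((Matrix.GeneralLinearGroup.map ι).comp φ)
  have hψ : Function.Injective ψ := by
    intro a b e
    apply hφ
    have e' := Matrix.GeneralLinearGroup.toLin.injective e
    exact Units.ext (Matrix.map_injective ι.injective (congrArg Units.val e'))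
  have hψval : ∀ g x, (ψ g : (Fin 2 → L) →ₗ[L] (Fin 2 → L)) x =
      ((φ g : Matrix (Fin 2) (Fin 2) F).map ι) *ᵥ x := fun g x => rfl
  by_cases hpH : p ∣ Nat.card H
  · obtain ⟨v0, hv0, hall⟩ := exists_common_eigenvector φ hφ hodd hpH
    choose χ hχ using hall
    set v : Fin 2 → L := fun i => ι (v0 i) with hv
    have hvne : v ≠ 0 := fun h => hv0 (funext fun i => ι.injective (by simpa [hv] using congrFun h i))
    have hψv : ∀ g, (ψ g : (Fin 2 → L) →ₗ[L] (Fin 2 → L)) v = ι (χ g) • v := by
      intro g
      rw [hψval]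
      funext i
      have h1 := RingHom.map_mulVec ι (φ g : Matrix (Fin 2) (Fin 2) F) v0 i
      rw [hχ g] at h1
      simpa [hv, Pi.smul_apply, Function.comp_def] using h1.symm
    have hcoef : ∀ {a b : L}, a • v = b • v → a = b := fun {a b} h => by
      by_contra hab
      exact hvne ((smul_eq_zero.mp (show (a - b) • v = 0 by rw [sub_smul, h, sub_self])).resolve_left
        (sub_ne_zero.mpr hab))
    let X : H →* L :=
      { toFun := fun g => ι (χ g)
        map_one' := hcoef (by rw [← hψv]; simp)
        map_mul' := fun g h => hcoef (by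
          rw [← hψv, map_mul, Units.val_mul, Module.End.mul_apply, hψv, map_smul, hψv, smul_smul, mul_comm]) }
    let D : H →* L := (LinearMap.det : ((Fin 2 → L) →ₗ[L] (Fin 2 → L)) →* L).comp ((Units.coeHom _).comp ψ)
    obtain ⟨w, hw⟩ := exists_linearIndependent_pair_of_one_lt_rank (R := L) (M := Fin 2 → L)
      (by rw [rank_fin_fun]; norm_num) hvne
    intro g
    refine ⟨1, Subtype.ext ?_⟩
    have hg1 : X (g : H) = 1 ∧ D (g : H) = 1 := by
      have : ∀ f : H →* L, f (g : H) = 1 := by
        intro f
        have h1 := Abelianization.commutator_subset_ker f.toHomUnits g.2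
        rw [MonoidHom.mem_ker] at h1
        simpa using congrArg Units.val h1
      exact ⟨this X, this D⟩
    obtain ⟨c, b, hcb⟩ := decompose hw ((ψ g : (Fin 2 → L) →ₗ[L] (Fin 2 → L)) w)
    have hv1 : (ψ g : (Fin 2 → L) →ₗ[L] (Fin 2 → L)) v = v := by
      rw [hψv]; rw [show ι (χ g) = 1 from hg1.1, one_smul]
    have hb : b = 1 := by
      have hd := det_eq (ψ g : (Fin 2 → L) →ₗ[L] (Fin 2 → L)) (a := (1 : L)) (b := b) (c := c)
        (by rw [hv1, one_smul]) hcb hw
      have h2 : LinearMap.det (ψ g : (Fin 2 → L) →ₗ[L] (Fin 2 → L)) = 1 := hg1.2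
      rw [h2, one_mul] at hd
      exact hd.symm
    rw [hb, one_smul] at hcb
    show (g : H) ^ p ^ 1 = 1
    rw [pow_one]
    apply hψ
    rw [map_one]
    refine Units.ext (LinearMap.ext fun z => ?_)
    obtain ⟨s, t, rfl⟩ := decompose hw z
    have hvp : (ψ ((g : H) ^ p) : (Fin 2 → L) →ₗ[L] (Fin 2 → L)) v = v := by
      have : ∀ n : ℕ, (ψ ((g : H) ^ n) : (Fin 2 → L) →ₗ[L] (Fin 2 → L)) v = v := by
        intro n
        induction n with
        | zero => simp
        | succ n ih => rw [pow_succ, map_mul, Units.val_mul, Module.End.mul_apply, hv1, ih]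
      exact this p
    have hwp := pow_two_eigen ψ hv1 hcb p
    rw [CharP.cast_eq_zero, zero_mul, zero_smul, zero_add] at hwp
    rw [map_add, map_smul, map_smul, hvp, hwp]
    simp
  · have hc := comm_of_coprime ψ hψ hodd hpH
    intro g
    refine ⟨0, Subtype.ext ?_⟩
    have hker : commutator H = ⊥ := by
      rw [commutator_def, Subgroup.commutator_eq_bot_iff_le_centralizer]
      exact fun a _ => Subgroup.mem_centralizer_iff.mpr fun b _ => hc b a
    have h2 : (g : H) ∈ (⊥ : Subgroup H) := hker.le g.2
    rw [Subgroup.mem_bot] at h2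
    simpa using h2

/-- An action on an elementary abelian group of order `p ^ 2` as a two-dimensional representation. -/
theorem exists_hom {Γ Q : Type*} [Group Γ] [CommGroup Q] [Finite Q] (hQ : ∀ a : Q, a ^ p = 1)
    (hcard : Nat.card Q = p ^ 2) (ρ : Γ →* MulAut Q) :
    ∃ φ : Γ →* GL (Fin 2) (ZMod p), ∀ g, φ g = 1 ↔ ρ g = 1 := by
  haveI : Module (ZMod p) (Additive Q) := AddCommGroup.zmodModule fun a => hQ (Additive.toMul a)
  haveI := Fintype.ofFinite Q
  haveI : Module.Finite (ZMod p) (Additive Q) := Module.Finite.of_finite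
  have hfr : Module.finrank (ZMod p) (Additive Q) = 2 := by
    have h := Module.card_eq_pow_finrank (K := ZMod p) (V := Additive Q)
    rw [ZMod.card, ← Nat.card_eq_fintype_card,
      show Nat.card (Additive Q) = Nat.card Q from Nat.card_congr Additive.toMul, hcard] at h
    exact (Nat.pow_right_injective (Fact.out : p.Prime).two_le h).symm
  let e : Additive Q ≃ₗ[ZMod p] (Fin 2 → ZMod p) := LinearEquiv.ofFinrankEq _ _ (by simp [hfr])
  let f : Γ → ((Fin 2 → ZMod p) →ₗ[ZMod p] (Fin 2 → ZMod p)) := fun g =>
    e.toLinearMap.comp (((MonoidHom.toAdditive (ρ g).toMonoidHom).toZModLinearMap p).comp e.symm.toLinearMap)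
  have hf : ∀ g x, f g x = e (Additive.ofMul (ρ g (Additive.toMul (e.symm x)))) := fun g x => rfl
  let φ : Γ →* GL (Fin 2) (ZMod p) := MonoidHom.toHomUnits
    { toFun := fun g => LinearMap.toMatrix' (f g)
      map_one' := by
        rw [← LinearMap.toMatrix'_id]
        congr 1
        exact LinearMap.ext fun x => by simp [hf]
      map_mul' := fun g h => by
        rw [← LinearMap.toMatrix'_comp]
        congr 1
        exact LinearMap.ext fun x => by simp [hf, map_mul] }
  refine ⟨φ, fun g => ?_⟩
  rw [Units.ext_iff]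
  show LinearMap.toMatrix' (f g) = 1 ↔ _
  rw [← LinearMap.toMatrix'_id, LinearMap.toMatrix'.injective.eq_iff]
  constructor
  · intro h
    refine MulEquiv.ext fun a => ?_
    have h1 := LinearMap.congr_fun h (e (Additive.ofMul a))
    rw [hf, LinearEquiv.symm_apply_apply, LinearMap.id_apply] at h1
    exact Additive.ofMul.injective (e.injective h1)
  · intro h
    exact LinearMap.ext fun x => by simp [hf, h]

end CfsgLib.OddOrder.OddGL2Structure
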