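import Mathlib.GroupTheory.Sylow
import Mathlib.GroupTheory.GroupAction.Quotient
import Mathlib.Data.Set.Card
import Mathlib.Algebra.Order.BigOperators.Group.Finset

set_option autoImplicit false

open MulAction

namespace CfsgLib.OddOrder.OddLines

variable {E Ω : Type*} [Group E] [Finite E] [MulAction E Ω] {p : ℕ} [Fact p.Prime]

theorem three_le_card {H : Subgroup E} (hodd : Odd (Nat.card E)) (h : H ≠ ⊥) : 3 ≤ Nat.card H := by
  have h1 : Odd (Nat.card H) := hodd.of_dvd_nat (Subgroup.card_subgroup_dvd_card H)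
  have h2 : Nat.card H ≠ 1 := fun e => h (Subgroup.card_eq_one.mp e)
  obtain ⟨k, hk⟩ := h1
  omega

theorem orbit_sum (O : Finset Ω) (x : Ω) (hO : ∀ z, z ∈ O ↔ z ∈ orbit E x) :
    ∑ z ∈ O, (Nat.card (stabilizer E z) - 1) = Nat.card E - O.card ∧
      O.card * Nat.card (stabilizer E x) = Nat.card E := by
  classical
  have hcard : O.card * Nat.card (stabilizer E x) = Nat.card E := by
    have : O.card = Nat.card (orbit E x) := by
      rw [← Nat.card_eq_finsetCard, Nat.card_congr (Equiv.subtypeEquivRight hO)]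
    rw [this, Nat.card_coe_set_eq, ← index_stabilizer]
    exact Subgroup.index_mul_card _
  refine ⟨?_, hcard⟩
  have hz : ∀ z ∈ O, Nat.card (stabilizer E z) = Nat.card (stabilizer E x) := by
    intro z hz
    obtain ⟨g, rfl⟩ := (hO z).mp hz
    exact Nat.card_congr (stabilizerEquivStabilizer (G := E) (a := g • x) (b := x) (g := g⁻¹) (by simp)).toEquiv
  rw [Finset.sum_congr rfl fun z hz' => by rw [hz z hz'], Finset.sum_const, smul_eq_mul, Nat.mul_sub, mul_one, hcard]

/-- A group of odd order acting so that a non-identity element fixes one point if it has order `p` and two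
otherwise has a global fixed point, provided `p` divides its order. -/
theorem exists_global_fixed (hodd : Odd (Nat.card E)) (hpE : p ∣ Nat.card E)
    (hpp : ∀ g : E, (∃ k, orderOf g = p ^ k) → g ^ p = 1)
    (h1 : ∀ g : E, g ≠ 1 → g ^ p = 1 → ∃ x : Ω, ∀ y, g • y = y ↔ y = x)
    (h2 : ∀ g : E, g ≠ 1 → g ^ p ≠ 1 → ∃ x y : Ω, x ≠ y ∧ ∀ z, g • z = z ↔ z = x ∨ z = y)
    (hcomm : ∀ (x : Ω) (g h : E), g • x = x → h • x = x → g ^ p = 1 → h ^ p = 1 → Commute g h) :
    ∃ x : Ω, (∀ g : E, g • x = x) ∧ ∀ g : E, g ≠ 1 → g ^ p = 1 → ∀ y, g • y = y → y = x := by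
  classical
  haveI : Fintype E := Fintype.ofFinite E
  have hp2 : p ≠ 2 := by
    rintro rfl
    exact (Nat.not_even_iff_odd.mpr hodd) (even_iff_two_dvd.mpr hpE)
  -- an element of order `p` and its fixed point
  obtain ⟨u, hu⟩ := exists_prime_orderOf_dvd_card' (G := E) p hpE
  have hu1 : u ≠ 1 := fun e => (Fact.out : p.Prime).ne_one (by rw [← hu, e, orderOf_one])
  have hup : u ^ p = 1 := hu ▸ pow_orderOf_eq_one u
  obtain ⟨x, hx⟩ := h1 u hu1 hup
  have hux : u • x = x := (hx x).mpr rfl
  have huniq : ∀ g : E, g ≠ 1 → g ^ p = 1 → g • x = x → ∀ y, g • y = y → y = x := by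
    intro g hg hgp hgx y hy
    obtain ⟨z, hz⟩ := h1 g hg hgp
    rw [(hz y).mp hy, (hz x).mp hgx]
  refine ⟨x, ?_⟩
  -- the `p`-elements fixing `x`
  let P : Subgroup E :=
    { carrier := {g | g • x = x ∧ g ^ p = 1}
      one_mem' := ⟨one_smul _ _, one_pow _⟩
      mul_mem' := fun {a b} ha hb => ⟨by rw [mul_smul, hb.1, ha.1],
        by rw [(hcomm x a b ha.1 hb.1 ha.2 hb.2).mul_pow, ha.2, hb.2, one_mul]⟩
      inv_mem' := fun {a} ha => ⟨inv_smul_eq_iff.mpr ha.1.symm, by rw [inv_pow, ha.2, inv_one]⟩ }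
  have hPp : IsPGroup p P := fun g => ⟨1, Subtype.ext (by simpa using g.2.2)⟩
  have huP : u ∈ P := ⟨hux, hup⟩
  -- `P` is a Sylow subgroup
  obtain ⟨Q, hQ⟩ := hPp.exists_le_sylow
  have hQP : (Q : Subgroup E) = P := by
    refine le_antisymm (fun g hg => ?_) hQ
    haveI : Nontrivial (Q : Subgroup E) := ⟨⟨u, hQ huP⟩, 1, fun e => hu1 (congrArg Subtype.val e)⟩
    haveI := Q.isPGroup'.center_nontrivial
    obtain ⟨c, hc⟩ := exists_ne (1 : Subgroup.center (Q : Subgroup E))
    have hpow : ∀ w ∈ (Q : Subgroup E), w ^ p = 1 := by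
      intro w hw
      obtain ⟨k, hk⟩ := IsPGroup.iff_orderOf.mp Q.isPGroup' ⟨w, hw⟩
      exact hpp w ⟨k, by rwa [Subgroup.orderOf_mk] at hk⟩
    set c' : E := ((c : (Q : Subgroup E)) : E)
    have hc1 : c' ≠ 1 := fun e => hc (Subtype.ext (Subtype.ext e))
    obtain ⟨z, hz⟩ := h1 c' hc1 (hpow _ (c : (Q : Subgroup E)).2)
    have hfix : ∀ w ∈ (Q : Subgroup E), w • z = z := by
      intro w hw
      rw [show (w • z = z) ↔ (c' • (w • z) = w • z) from (hz (w • z)).symm]
      have := congrArg Subtype.val (Subgroup.mem_center_iff.mp c.2 ⟨w, hw⟩)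
      simp only [Subgroup.coe_mul] at this
      rw [← mul_smul, ← this, mul_smul, (hz z).mpr rfl]
    have hzx : z = x := (hx z).mp (hfix u (hQ huP))
    exact ⟨hzx ▸ hfix g hg, hpow g hg⟩
  set S := stabilizer E x with hS
  have hPS : P ≤ S := fun g hg => hg.1
  obtain ⟨q, hq⟩ : ∃ q, q = Nat.card P := ⟨_, rfl⟩
  -- no element of `S` outside `P` commutes with a nontrivial element of `P`
  have hcent : ∀ g ∈ S, ∀ w ∈ P, w ≠ 1 → Commute g w → g ∈ P := by
    intro g hgS w hw hw1 hgw
    refine ⟨hgS, ?_⟩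
    by_contra hgp
    have hg1 : g ≠ 1 := fun e => hgp (by rw [e, one_pow])
    obtain ⟨a, b, hab, hab'⟩ := h2 g hg1 hgp
    have hperm : ∀ z : Ω, g • z = z → g • (w • z) = w • z := fun z hz => by
      rw [← mul_smul, hgw.eq, mul_smul, hz]
    -- `w` has odd order and permutes two points, so fixes both
    have fixboth : ∀ z : Ω, g • z = z → w • z = z := by
      intro z hz
      by_contra hne
      rcases (hab' x).mp hgS with rfl | rfl
      · have hz' : z = b := ((hab' z).mp hz).resolve_left (fun e => hne (by rw [e]; exact hw.1))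
        subst hz'
        rcases (hab' _).mp (hperm z hz) with e | e
        · exact hab ((smul_left_cancel w (e.trans hw.1.symm)).symm)
        · exact hne e
      · have hz' : z = a := ((hab' z).mp hz).resolve_right (fun e => hne (by rw [e]; exact hw.1))
        subst hz'
        rcases (hab' _).mp (hperm z hz) with e | e
        · exact hne e
        · exact hab (smul_left_cancel w (e.trans hw.1.symm))
    exact hab ((huniq w hw1 hw.2 hw.1 a (fixboth a ((hab' a).mpr (Or.inl rfl)))).trans
      (huniq w hw1 hw.2 hw.1 b (fixboth b ((hab' b).mpr (Or.inr rfl)))).symm)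
  -- the index `d` of `P` in `S` is less than `q`
  obtain ⟨d, hd⟩ : ∃ d, d = P.relIndex S := ⟨_, rfl⟩
  have hScard : Nat.card S = q * d := by
    rw [hd, hq, Subgroup.relIndex, ← Nat.card_congr (Subgroup.subgroupOfEquivOfLe hPS).toEquiv]
    exact (Subgroup.card_mul_index _).symm
  have hdq : d ≤ q - 1 := by
    have hnorm : ∀ g ∈ S, g * u * g⁻¹ ∈ P := fun g hg => by
      have hg' : g⁻¹ • x = x := inv_smul_eq_iff.mpr (show g • x = x from hg).symm
      exact ⟨by rw [mul_smul, mul_smul, hg', hux]; exact hg, by rw [conj_pow, hup, mul_one, mul_inv_cancel]⟩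
    let f : S ⧸ P.subgroupOf S → {w : P // w ≠ 1} := Quotient.lift
      (fun g : S => ⟨⟨(g : E) * u * (g : E)⁻¹, hnorm g g.2⟩, fun e => hu1 (conj_eq_one_iff.mp (congrArg Subtype.val e))⟩)
      (by
        intro a b hab
        have hab0 : a⁻¹ * b ∈ P.subgroupOf S := QuotientGroup.leftRel_apply.mp hab
        have hab' : (a : E)⁻¹ * b ∈ P := hab0
        apply Subtype.ext; apply Subtype.ext
        show (a : E) * u * (a : E)⁻¹ = (b : E) * u * (b : E)⁻¹
        have hc := hcomm x ((a : E)⁻¹ * b) u hab'.1 hux hab'.2 hup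
        calc (a : E) * u * (a : E)⁻¹ = (a : E) * (u * ((a : E)⁻¹ * b)) * (b : E)⁻¹ := by group
          _ = (a : E) * ((a : E)⁻¹ * b * u) * (b : E)⁻¹ := by rw [hc.eq]
          _ = _ := by group)
    have hf : Function.Injective f := by
      rintro ⟨a⟩ ⟨b⟩ e
      apply Quotient.sound
      refine QuotientGroup.leftRel_apply.mpr ?_
      have e' : (a : E) * u * (a : E)⁻¹ = (b : E) * u * (b : E)⁻¹ := congrArg (fun w => ((w.1 : P) : E)) e
      show (a : E)⁻¹ * b ∈ P
      refine hcent _ (mul_mem (inv_mem a.2) b.2) u huP hu1 ?_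
      show (a : E)⁻¹ * b * u = u * ((a : E)⁻¹ * b)
      calc (a : E)⁻¹ * b * u = (a : E)⁻¹ * ((b : E) * u * (b : E)⁻¹) * b := by group
        _ = (a : E)⁻¹ * ((a : E) * u * (a : E)⁻¹) * b := by rw [e']
        _ = _ := by group
    have := Nat.card_le_card_of_injective f hf
    rw [hd, Subgroup.relIndex, Subgroup.index]
    refine le_trans this ?_
    rw [Nat.card_eq_fintype_card, Fintype.card_subtype_compl, Fintype.card_subtype_eq, hq, Nat.card_eq_fintype_card]
  -- the relevant points
  let Fx : E → Finset Ω := fun g =>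
    if hg : g = 1 then ∅ else if hgp : g ^ p = 1 then {Classical.choose (h1 g hg hgp)}
    else {Classical.choose (h2 g hg hgp), Classical.choose (Classical.choose_spec (h2 g hg hgp))}
  have hFx : ∀ g : E, g ≠ 1 → ∀ z, z ∈ Fx g ↔ g • z = z := by
    intro g hg z
    simp only [Fx, dif_neg hg]
    split
    · next hgp => rw [Finset.mem_singleton]; exact (Classical.choose_spec (h1 g hg hgp) z).symm
    · next hgp =>
      rw [Finset.mem_insert, Finset.mem_singleton]
      exact ((Classical.choose_spec (Classical.choose_spec (h2 g hg hgp))).2 z).symm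
  have hFx1 : ∀ g : E, g ≠ 1 → g ^ p = 1 → (Fx g).card = 1 := fun g hg hgp => by
    simp [Fx, hg, hgp]
  have hFx2 : ∀ g : E, g ≠ 1 → g ^ p ≠ 1 → (Fx g).card = 2 := fun g hg hgp => by
    simp only [Fx, dif_neg hg, dif_neg hgp]
    exact Finset.card_pair (Classical.choose_spec (Classical.choose_spec (h2 g hg hgp))).1
  set N : Finset E := Finset.univ.filter (fun g => g ≠ 1) with hN
  set Ω0 : Finset Ω := N.biUnion Fx with hΩ0
  have hmemΩ0 : ∀ z, z ∈ Ω0 ↔ ∃ g : E, g ≠ 1 ∧ g • z = z := by
    intro z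
    simp only [hΩ0, hN, Finset.mem_biUnion, Finset.mem_filter, Finset.mem_univ, true_and]
    exact exists_congr fun g => and_congr_right fun hg => hFx g hg z
  have hinvar : ∀ (g : E) (z : Ω), z ∈ Ω0 → g • z ∈ Ω0 := by
    intro g z hz
    obtain ⟨h, hh, hhz⟩ := (hmemΩ0 z).mp hz
    exact (hmemΩ0 _).mpr ⟨g * h * g⁻¹, fun e => hh (conj_eq_one_iff.mp e),
      by rw [mul_smul, mul_smul, inv_smul_smul, hhz]⟩
  have hdouble : ∑ g ∈ N, (Fx g).card = ∑ z ∈ Ω0, (Nat.card (stabilizer E z) - 1) := by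
    have e1 : ∀ g ∈ N, (Fx g).card = (Ω0.filter (fun z => g • z = z)).card := by
      intro g hg
      have hg1 : g ≠ 1 := (Finset.mem_filter.mp hg).2
      congr 1
      ext z
      rw [Finset.mem_filter, hFx g hg1 z]
      exact ⟨fun h => ⟨(hmemΩ0 z).mpr ⟨g, hg1, h⟩, h⟩, fun h => h.2⟩
    have e2 : ∀ z ∈ Ω0, (N.filter (fun g => g • z = z)).card = Nat.card (stabilizer E z) - 1 := by
      intro z _
      have : N.filter (fun g => g • z = z) = (Finset.univ.filter (fun g : E => g • z = z)).erase 1 := by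
        ext g; simp [hN]
      rw [this, Finset.card_erase_of_mem (by simp), Nat.card_eq_fintype_card, ← Fintype.card_subtype]
      rfl
    rw [Finset.sum_congr rfl e1, ← Finset.sum_congr rfl e2]
    simp only [Finset.card_filter]
    exact Finset.sum_comm
  -- the orbit of `x`
  set O : Finset Ω := Finset.univ.image (fun g : E => g • x) with hO
  have hOmem : ∀ z, z ∈ O ↔ z ∈ orbit E x := fun z => by simp [hO, orbit]
  obtain ⟨hOsum, hOcard⟩ := orbit_sum O x hOmem
  set n := O.card with hn
  rw [← hS, hScard] at hOcard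
  have hn0 : 0 < n := Finset.card_pos.mpr ⟨x, (hOmem x).mpr (mem_orbit_self x)⟩
  have hOsub : O ⊆ Ω0 := by
    intro z hz
    obtain ⟨g, rfl⟩ := (hOmem z).mp hz
    exact hinvar g x ((hmemΩ0 x).mpr ⟨u, hu1, hux⟩)
  -- number of elements of order `p`
  have hN1 : (N.filter (fun g => g ^ p = 1)).card = n * (q - 1) := by
    have : N.filter (fun g => g ^ p = 1) =
        O.biUnion (fun z => (N.filter (fun g => g ^ p = 1)).filter (fun g => g • z = z)) := by
      ext g
      simp only [Finset.mem_biUnion, Finset.mem_filter]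
      constructor
      · intro hg
        have hg1 : g ≠ 1 := (Finset.mem_filter.mp hg.1).2
        obtain ⟨R, hR⟩ := (IsPGroup.of_card (n := 1) (by
          rw [Nat.card_zpowers, pow_one]; exact orderOf_eq_prime hg.2 hg1) :
          IsPGroup p (Subgroup.zpowers g)).exists_le_sylow
        obtain ⟨h, hh⟩ := MulAction.exists_smul_eq E Q R
        have hgR := hR (Subgroup.mem_zpowers g)
        rw [← hh, Sylow.coe_subgroup_smul, hQP] at hgR
        obtain ⟨w, hw, rfl⟩ := hgR
        refine ⟨h • x, (hOmem _).mpr (mem_orbit x h), hg, ?_⟩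
        show (h * w * h⁻¹) • h • x = h • x
        rw [mul_smul, mul_smul, inv_smul_smul, hw.1]
      · rintro ⟨z, -, hg, -⟩; exact hg
    have hdisj : (↑O : Set Ω).PairwiseDisjoint (fun z => (N.filter (fun g => g ^ p = 1)).filter (fun g => g • z = z)) := by
      intro a _ b _ hab
      rw [Function.onFun, Finset.disjoint_left]
      intro g hga hgb
      simp only [Finset.mem_filter] at hga hgb
      obtain ⟨z, hz⟩ := h1 g (Finset.mem_filter.mp hga.1.1).2 hga.1.2
      exact hab (((hz a).mp hga.2).trans ((hz b).mp hgb.2).symm)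
    rw [this, Finset.card_biUnion hdisj, Finset.sum_const_nat (m := q - 1)]
    intro z hz
    obtain ⟨h, rfl⟩ := (hOmem z).mp hz
    have : (N.filter (fun g => g ^ p = 1)).filter (fun g => g • h • x = h • x) =
        ((Finset.univ.filter (fun g : E => g ∈ P)).erase 1).image (fun g => h * g * h⁻¹) := by
      ext g
      simp only [Finset.mem_filter, Finset.mem_image, Finset.mem_erase, Finset.mem_univ, true_and, hN]
      constructor
      · rintro ⟨⟨hg1, hgp⟩, hgx⟩
        refine ⟨h⁻¹ * g * h, ⟨fun e => hg1 ?_, ⟨?_, ?_⟩⟩, by group⟩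
        · calc g = h * (h⁻¹ * g * h) * h⁻¹ := by group
            _ = 1 := by rw [e]; group
        · rw [mul_smul, mul_smul, hgx, inv_smul_smul]
        · have := conj_pow (i := p) (a := h⁻¹) (b := g)
          rw [inv_inv] at this
          rw [this, hgp, mul_one, inv_mul_cancel]
      · rintro ⟨w, ⟨hw1, hwP⟩, rfl⟩
        refine ⟨⟨fun e => hw1 (conj_eq_one_iff.mp e), by rw [conj_pow, hwP.2, mul_one, mul_inv_cancel]⟩, ?_⟩
        rw [mul_smul, mul_smul, inv_smul_smul, hwP.1]
    rw [this, Finset.card_image_of_injective _ (fun a b e => by simpa using e),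
      Finset.card_erase_of_mem (by simp [one_mem]), hq, Nat.card_eq_fintype_card, ← Fintype.card_subtype]
  -- the counting equation
  have hNcard : N.card = Nat.card E - 1 := by
    rw [hN, Finset.filter_ne', Finset.card_erase_of_mem (Finset.mem_univ _), Finset.card_univ, Nat.card_eq_fintype_card]
  have hLHS : ∑ g ∈ N, (Fx g).card + n * (q - 1) = 2 * (Nat.card E - 1) := by
    have hkey : ∀ g ∈ N, (Fx g).card + (if g ^ p = 1 then 1 else 0) = 2 := by
      intro g hg
      have hg1 : g ≠ 1 := (Finset.mem_filter.mp hg).2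
      by_cases hgp : g ^ p = 1
      · rw [hFx1 g hg1 hgp, if_pos hgp]
      · rw [hFx2 g hg1 hgp, if_neg hgp]
    rw [← hN1, Finset.card_filter, ← Finset.sum_add_distrib, Finset.sum_congr rfl hkey, Finset.sum_const, hNcard,
      smul_eq_mul, mul_comm]
  rw [hdouble, ← Finset.sum_sdiff hOsub, hOsum] at hLHS
  set R := ∑ z ∈ Ω0 \ O, (Nat.card (stabilizer E z) - 1) with hR
  -- `q` divides `n - 1`
  obtain ⟨k, hk⟩ : ∃ k, n = 1 + k * q := by
    haveI : Fintype P := Fintype.ofFinite P
    haveI : Finite (orbit E x) := (Set.finite_range _).to_subtype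
    haveI : Fintype (orbit E x) := Fintype.ofFinite _
    haveI : ∀ a : P, Fintype (fixedBy (orbit E x) a) := fun a => Fintype.ofFinite _
    haveI : Fintype (orbitRel.Quotient P (orbit E x)) := Fintype.ofFinite _
    have hB := sum_card_fixedBy_eq_card_orbits_mul_card_group P (orbit E x)
    have hfix : ∀ a : P, Fintype.card (fixedBy (orbit E x) a) = if a = 1 then n else 1 := by
      intro a
      split
      · next ha =>
        subst ha
        rw [hn, ← Nat.card_eq_finsetCard, ← Nat.card_eq_fintype_card, Nat.card_congr (Equiv.subtypeEquivRight hOmem)]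
        refine Nat.card_congr ((Equiv.setCongr ?_).trans (Equiv.Set.univ _))
        ext z; simp
      · next ha =>
        rw [Fintype.card_eq_one_iff]
        have hax : (a : E) • x = x := a.2.1
        refine ⟨⟨⟨x, mem_orbit_self x⟩, Subtype.ext hax⟩, ?_⟩
        rintro ⟨⟨z, hz⟩, hfz⟩
        apply Subtype.ext; apply Subtype.ext
        exact huniq (a : E) (fun e => ha (Subtype.ext e)) a.2.2 hax z (congrArg Subtype.val hfz)
    rw [Finset.sum_congr rfl fun a _ => hfix a, ← Finset.add_sum_erase _ _ (Finset.mem_univ (1 : P)), if_pos rfl,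
      Finset.sum_congr rfl (fun a ha => if_neg (Finset.mem_erase.mp ha).1), Finset.sum_const, smul_eq_mul, mul_one,
      Finset.card_erase_of_mem (Finset.mem_univ _), Finset.card_univ] at hB
    rw [← Nat.card_eq_fintype_card (α := P), ← hq] at hB
    generalize Fintype.card (orbitRel.Quotient P (orbit E x)) = m at hB
    have hm0 : 1 ≤ m := by
      by_contra h
      rw [show m = 0 by omega, zero_mul] at hB
      omega
    refine ⟨m - 1, ?_⟩
    have hq0 : 0 < q := hq ▸ Nat.card_pos
    obtain ⟨m', rfl⟩ : ∃ m', m = m' + 1 := ⟨m - 1, by omega⟩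
    rw [add_mul, one_mul] at hB
    simp only [Nat.add_sub_cancel]
    omega
  have hq3 : 3 ≤ q := hq ▸ three_le_card hodd (fun e => hu1 (Subgroup.mem_bot.mp (e ▸ huP)))
  have hqE : q ∣ Nat.card E := hq ▸ Subgroup.card_subgroup_dvd_card P
  have hdodd : Odd d := hodd.of_dvd_nat ((Dvd.intro_left _ rfl).trans (hScard ▸ Subgroup.card_subgroup_dvd_card S))
  have hd0 : 0 < d := hdodd.pos
  suffices hn1 : n = 1 by
    refine ⟨fun g => ?_, fun g hg hgp y hy => ?_⟩
    · obtain ⟨z, hz⟩ := Finset.card_eq_one.mp hn1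
      have e1 : g • x ∈ O := (hOmem _).mpr (mem_orbit x g)
      have e2 : x ∈ O := (hOmem _).mpr (mem_orbit_self x)
      rw [hz, Finset.mem_singleton] at e1 e2
      rw [e1, e2]
    · have hgx : g • x = x := by
        obtain ⟨z, hz⟩ := Finset.card_eq_one.mp hn1
        have e1 : g • x ∈ O := (hOmem _).mpr (mem_orbit x g)
        have e2 : x ∈ O := (hOmem _).mpr (mem_orbit_self x)
        rw [hz, Finset.mem_singleton] at e1 e2
        rw [e1, e2]
      exact huniq g hg hgp hgx y hy
  set G' := Nat.card E with hG'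
  have hG0 : 0 < G' := Nat.card_pos
  have hnG : n ≤ G' := by rw [← hOcard]; exact Nat.le_mul_of_pos_right _ (by positivity)
  -- split off a second orbit if there is one
  by_cases hrest : Ω0 \ O = ∅
  · rw [hR, hrest, Finset.sum_empty, zero_add] at hLHS
    -- `g + n(q-2) = 2g - 2`
    have e1 : n * (q * d) + 2 = 2 * (n * (q * d)) - n * (q - 1) + n := by rw [hOcard]; omega
    obtain ⟨q', rfl⟩ : ∃ q', q = q' + 3 := ⟨q - 3, by omega⟩
    obtain ⟨d', rfl⟩ : ∃ d', d = d' + 1 := ⟨d - 1, by omega⟩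
    simp only [show q' + 3 - 1 = q' + 2 by omega] at hLHS
    have e2 : n * (q' + 3) * d' + 2 * n = 2 := by
      have : n * ((q' + 3) * (d' + 1)) = n * (q' + 3) * d' + n * q' + 3 * n := by ring
      have h' : n * (q' + 2) = n * q' + 2 * n := by ring
      omega
    omega
  · obtain ⟨y, hy⟩ := Finset.nonempty_iff_ne_empty.mpr hrest
    rw [Finset.mem_sdiff] at hy
    set O2 : Finset Ω := Finset.univ.image (fun g : E => g • y) with hO2
    have hO2mem : ∀ z, z ∈ O2 ↔ z ∈ orbit E y := fun z => by simp [hO2, orbit]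
    have hsub2 : ∀ y', y' ∈ Ω0 \ O → ∀ z, z ∈ orbit E y' → z ∈ Ω0 \ O := by
      intro y' hy' z hz
      obtain ⟨g, rfl⟩ := hz
      rw [Finset.mem_sdiff] at hy' ⊢
      refine ⟨hinvar g y' hy'.1, fun h => hy'.2 ?_⟩
      rw [hOmem] at h ⊢
      rw [← orbit_eq_iff.mpr h, orbit_smul]
      exact mem_orbit_self y'
    obtain ⟨hs2, hc2⟩ := orbit_sum O2 y hO2mem
    have hsmall : ∀ y' ∈ Ω0, 3 ≤ Nat.card (stabilizer E y') := by
      intro y' hy'
      obtain ⟨g, hg, hgy⟩ := (hmemΩ0 y').mp hy'
      exact three_le_card hodd fun e => hg (Subgroup.mem_bot.mp (e ▸ (show g ∈ stabilizer E y' from hgy)))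
    have hs3 := hsmall y hy.1
    have hO2sub : O2 ⊆ Ω0 \ O := fun z hz => hsub2 y (Finset.mem_sdiff.mpr hy) z ((hO2mem z).mp hz)
    -- there are no further points
    have hrest2 : (Ω0 \ O) \ O2 = ∅ := by
      by_contra hne
      obtain ⟨w, hw⟩ := Finset.nonempty_iff_ne_empty.mpr hne
      rw [Finset.mem_sdiff] at hw
      set O3 : Finset Ω := Finset.univ.image (fun g : E => g • w) with hO3
      have hO3mem : ∀ z, z ∈ O3 ↔ z ∈ orbit E w := fun z => by simp [hO3, orbit]
      obtain ⟨hs3', hc3⟩ := orbit_sum O3 w hO3mem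
      have hw3 := hsmall w (Finset.mem_sdiff.mp hw.1).1
      have hdis : Disjoint O2 O3 := by
        rw [Finset.disjoint_left]
        intro z hz2 hz3
        rw [hO2mem] at hz2
        rw [hO3mem] at hz3
        apply hw.2
        rw [hO2mem, ← orbit_eq_iff.mpr hz2, orbit_eq_iff.mpr hz3]
        exact mem_orbit_self w
      have hsum : ∑ z ∈ O2, (Nat.card (stabilizer E z) - 1) + ∑ z ∈ O3, (Nat.card (stabilizer E z) - 1) ≤ R := by
        rw [← Finset.sum_union hdis, hR]
        exact Finset.sum_le_sum_of_subset (Finset.union_subset hO2sub (fun z hz => hsub2 w hw.1 z ((hO3mem z).mp hz)))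
      rw [hs2, hs3'] at hsum
      have h3a : O2.card * 3 ≤ G' := by rw [hG', ← hc2]; exact Nat.mul_le_mul_left _ hs3
      have h3b : O3.card * 3 ≤ G' := by rw [hG', ← hc3]; exact Nat.mul_le_mul_left _ hw3
      have hnq : n ≤ n * (q - 1) := Nat.le_mul_of_pos_right _ (by omega)
      omega
    have hR2 : R = G' - O2.card := by
      rw [hR, ← Finset.sum_sdiff hO2sub, hrest2, Finset.sum_empty, zero_add, hs2]
    set n2 := O2.card
    have hn2G : n2 ≤ G' := by rw [hG', ← hc2]; exact Nat.le_mul_of_pos_right _ (by omega)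
    obtain ⟨q', rfl⟩ : ∃ q', q = q' + 3 := ⟨q - 3, by omega⟩
    simp only [show q' + 3 - 1 = q' + 2 by omega] at hLHS hdq
    have e2 : n2 = 2 + n * (q' + 1) := by
      have h' : n * (q' + 2) = n * (q' + 1) + n := by ring
      omega
    have e3 : n2 = (q' + 3) * (1 + k * (q' + 1)) := by rw [e2, hk]; ring
    have e4 : 1 + k * (q' + 1) ∣ d * n := by
      have h5 : (q' + 3) * (1 + k * (q' + 1)) ∣ (q' + 3) * (d * n) := by
        rw [← e3]
        exact ⟨Nat.card (stabilizer E y),
          (show (q' + 3) * (d * n) = n * ((q' + 3) * d) by ring).trans (hOcard.trans hc2.symm)⟩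
      exact Nat.dvd_of_mul_dvd_mul_left (by omega) h5
    have e5 : Nat.Coprime (1 + k * (q' + 1)) n := by
      have hkey : n = (1 + k * (q' + 1)) + 2 * k := by rw [hk]; ring
      have hodd_n : Odd n := hodd.of_dvd_nat ⟨_, hOcard.symm⟩
      rw [Nat.coprime_iff_gcd_eq_one]
      by_contra hne
      obtain ⟨r, hr, hrd⟩ := Nat.exists_prime_and_dvd hne
      have ha := hrd.trans (Nat.gcd_dvd_left _ _)
      have hb := hrd.trans (Nat.gcd_dvd_right _ _)
      have h2k : r ∣ 2 * k := (Nat.dvd_add_right ha).mp (hkey ▸ hb)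
      rcases hr.dvd_mul.mp h2k with h | h
      · rw [(Nat.prime_dvd_prime_iff_eq hr Nat.prime_two).mp h] at hb
        exact (Nat.not_even_iff_odd.mpr hodd_n) (even_iff_two_dvd.mpr hb)
      · have : r ∣ 1 := (Nat.dvd_add_left (h.mul_right _)).mp ha
        exact hr.not_dvd_one this
    have e6 := Nat.le_of_dvd hd0 (e5.dvd_of_dvd_mul_right e4)
    rcases Nat.eq_zero_or_pos k with rfl | hk0
    · rw [hk]; simp
    exfalso
    have : 1 * (q' + 1) ≤ k * (q' + 1) := Nat.mul_le_mul_right _ hk0
    have hdd : d = q' + 2 := by omega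
    have hqodd : Odd (q' + 3) := hodd.of_dvd_nat hqE
    rw [hdd] at hdodd
    rcases hqodd with ⟨a, ha⟩
    rcases hdodd with ⟨b, hb⟩
    omega

end CfsgLib.OddOrder.OddLines
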