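import Cfsg.Agent.Lib.OddOrder.FrobeniusFixed
import Cfsg.Agent.Lib.OddOrder.HyperplaneOrbits
import Cfsg.Agent.Lib.OddOrder.ExtraspecialFixed
import Cfsg.Agent.Lib.OddOrder.OmegaLemma
import Cfsg.Agent.Lib.Coprime.Abelian
import Cfsg.Agent.Lib.Coprime.Sylow
import Cfsg.Agent.Lib.Solvable.Cores
import Mathlib

set_option autoImplicit false

/-!
The configuration which cannot occur in a group with a coprime operator `x` of odd prime order whose fixed points form
a `Z`-group: a `p`-group `P = [P, R]` acting faithfully on a `p'`-group inside the automorphisms of an elementary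
abelian `p`-group `V`.
-/

namespace CfsgLib.OddOrder.PLengthConfig

open scoped commutatorElement

variable {G : Type*} [Group G] [Finite G]

theorem normalizes_commutator {A X Y : Subgroup G} (hX : A ≤ Subgroup.normalizer (X : Set G))
    (hY : A ≤ Subgroup.normalizer (Y : Set G)) : A ≤ Subgroup.normalizer ((⁅X, Y⁆ : Subgroup G) : Set G) :=
  fun a ha => Subgroup.mem_normalizer_iff_map_conj_eq.mpr (by
    rw [Subgroup.map_commutator, Subgroup.mem_normalizer_iff_map_conj_eq.mp (hX ha),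
      Subgroup.mem_normalizer_iff_map_conj_eq.mp (hY ha)])

theorem normalizes_centralizer {A X : Subgroup G} (hX : A ≤ Subgroup.normalizer (X : Set G)) :
    A ≤ Subgroup.normalizer (Subgroup.centralizer (X : Set G) : Set G) := by
  refine Subgroup.le_normalizer_iff.mpr fun a ha c hc => Subgroup.mem_centralizer_iff.mpr fun y hy => ?_
  have h : a⁻¹ * y * a ∈ X := by
    simpa using (Subgroup.mem_normalizer_iff.mp (hX (inv_mem ha)) y).mp hy
  have h2 := Subgroup.mem_centralizer_iff.mp hc _ h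
  calc y * (a * c * a⁻¹) = a * ((a⁻¹ * y * a) * c) * a⁻¹ := by group
    _ = a * (c * (a⁻¹ * y * a)) * a⁻¹ := by rw [h2]
    _ = _ := by group

theorem normalizes_inf {A X Y : Subgroup G} (hX : A ≤ Subgroup.normalizer (X : Set G))
    (hY : A ≤ Subgroup.normalizer (Y : Set G)) : A ≤ Subgroup.normalizer ((X ⊓ Y : Subgroup G) : Set G) :=
  (le_inf hX hY).trans Subgroup.inf_normalizer_le_normalizer_inf

/-- A subgroup of exponent `l` of a `Z`-group has order at most `l`. -/
theorem card_le_of_exponent {L S : Subgroup G} (hZ : IsZGroup L) {l : ℕ} [hl : Fact l.Prime] (hSL : S ≤ L)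
    (hS : ∀ k ∈ S, k ^ l = 1) : Nat.card S ≤ l := by
  haveI := hZ
  haveI : IsZGroup S := IsZGroup.of_injective (Subgroup.inclusion_injective hSL)
  have hp : IsPGroup l (⊤ : Subgroup S) := fun k => ⟨1, Subtype.ext (Subtype.ext (by
    simpa using hS _ (k : S).2))⟩
  haveI := hp.isCyclic_of_isZGroup
  obtain ⟨g, hg⟩ := IsCyclic.exists_generator (α := (⊤ : Subgroup S))
  have h1 : g ^ l = 1 := Subtype.ext (Subtype.ext (by simpa using hS _ (g : S).2))
  calc Nat.card S = Nat.card (⊤ : Subgroup S) := Subgroup.card_top.symm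
    _ = orderOf g := (orderOf_eq_card_of_forall_mem_zpowers hg).symm
    _ ≤ l := orderOf_le_of_pow_eq_one hl.out.pos h1

/-- The ambient data. -/
structure Config (p r : ℕ) (K V P R : Subgroup G) (x : G) : Prop where
  hp2 : p ≠ 2
  hr2 : r ≠ 2
  hpr : p ≠ r
  hVe : Cfsg.IsElementaryAbelian p V
  hVK : V ≤ K
  hPK : P ≤ K
  hPV : P ≤ Subgroup.normalizer (V : Set G)
  hRV : R ≤ Subgroup.normalizer (V : Set G)
  hRP : R ≤ Subgroup.normalizer (P : Set G)
  hPp : IsPGroup p P
  hPR : ⁅P, R⁆ = P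
  hVP : V ⊓ P = ⊥
  hxR : x ∈ R
  hxr : x ^ r = 1
  hRK : (Nat.card R).Coprime (Nat.card K)
  hrK : (Nat.card K).Coprime r
  hZ : IsZGroup ↥(K ⊓ Subgroup.centralizer ({x} : Set G))

/-- The acted-on `q`-group. -/
structure QData (q : ℕ) (K V P R Q : Subgroup G) : Prop where
  hq2 : q ≠ 2
  hQq : IsPGroup q Q
  hQK : Q ≤ K
  hQV : Q ≤ Subgroup.normalizer (V : Set G)
  hPQ : P ≤ Subgroup.normalizer (Q : Set G)
  hRQ : R ≤ Subgroup.normalizer (Q : Set G)
  faith : Q ⊓ Subgroup.centralizer (V : Set G) = ⊥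
  hnc : ¬ P ≤ Subgroup.centralizer (Q : Set G)
  hexp : ∀ k ∈ Q, k ^ q = 1
  hQP : ⁅Q, P⁆ = Q
  hmin : ∀ W : Subgroup G, W ≤ Q → W ≠ Q → P ≤ Subgroup.normalizer (W : Set G) →
    R ≤ Subgroup.normalizer (W : Set G) → P ≤ Subgroup.centralizer (W : Set G)

variable {p q r : ℕ} [hp : Fact p.Prime] [hq : Fact q.Prime] [hr : Fact r.Prime] {K V P R Q : Subgroup G} {x : G}

theorem Config.pfix_eq_bot (c : Config p r K V P R x) (hne : V ⊓ Subgroup.centralizer ({x} : Set G) ≠ ⊥) :
    P ⊓ Subgroup.centralizer ({x} : Set G) = ⊥ := by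
  by_contra hP
  set L := K ⊓ Subgroup.centralizer ({x} : Set G) with hL
  obtain ⟨a, ha, ha1⟩ := (Subgroup.bot_or_exists_ne_one _).resolve_left hne
  set U := P ⊓ Subgroup.centralizer ({x} : Set G) with hU
  have hUp : IsPGroup p U := c.hPp.to_le inf_le_left
  haveI : Nontrivial U := (Subgroup.nontrivial_iff_ne_bot _).mpr hP
  obtain ⟨b, hb⟩ := exists_prime_orderOf_dvd_card' (G := U) p (hUp.card_eq_or_dvd.resolve_left
    (Finite.one_lt_card (α := U)).ne')
  rw [← Subgroup.orderOf_coe] at hb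
  have hb1 : (b : G) ≠ 1 := fun h => hp.out.ne_one (by rw [← hb, h, orderOf_one])
  set A := (V ⊓ Subgroup.centralizer ({x} : Set G)) with hA
  have hnorm : U ≤ Subgroup.normalizer (A : Set G) :=
    normalizes_inf (inf_le_left.trans c.hPV) (inf_le_right.trans Subgroup.le_normalizer)
  set W := A ⊔ U with hW
  have hWp : IsPGroup p W :=
    IsPGroup.to_sup_of_normal_left' ((Fusion.Thompson.isPGroup_isEA c.hVe).to_le inf_le_left) hUp hnorm
  have hWL : W ≤ L := sup_le (inf_le_inf_right _ c.hVK) (inf_le_inf_right _ c.hPK)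
  haveI := c.hZ
  haveI : IsZGroup W := IsZGroup.of_injective (Subgroup.inclusion_injective hWL)
  have hWc : ∀ u ∈ W, ∀ v ∈ W, Commute u v := by
    haveI : IsCyclic (⊤ : Subgroup W) := (hWp.to_subgroup ⊤).isCyclic_of_isZGroup
    haveI : IsCyclic W := isCyclic_of_surjective _ Subgroup.topEquiv.surjective
    letI := IsCyclic.commGroup (α := W)
    exact fun u hu v hv => congrArg Subtype.val (mul_comm (⟨u, hu⟩ : W) ⟨v, hv⟩)
  let O : Subgroup G :=
    { carrier := {k | k ∈ W ∧ k ^ p = 1}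
      one_mem' := ⟨one_mem _, one_pow _⟩
      mul_mem' := fun {u v} hu hv => ⟨mul_mem hu.1 hv.1, by rw [(hWc u hu.1 v hv.1).mul_pow, hu.2, hv.2, one_mul]⟩
      inv_mem' := fun {u} hu => ⟨inv_mem hu.1, by rw [inv_pow, hu.2, inv_one]⟩ }
  have hOc : Nat.card O ≤ p := card_le_of_exponent c.hZ (fun k hk => hWL hk.1) fun k hk => hk.2
  have hao : orderOf a = p := orderOf_eq_prime (c.hVe.2 a ha.1) ha1
  have haO : Subgroup.zpowers a ≤ O :=
    Subgroup.zpowers_le.mpr ⟨Subgroup.mem_sup_left ha, c.hVe.2 a ha.1⟩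
  have heq := Subgroup.eq_of_le_of_card_ge haO (by rw [Nat.card_zpowers, hao]; exact hOc)
  have hbO : (b : G) ∈ O := ⟨Subgroup.mem_sup_right b.2, by rw [← hb]; exact pow_orderOf_eq_one _⟩
  have hbV : (b : G) ∈ V ⊓ P :=
    ⟨(Subgroup.zpowers_le.mpr ha.1 : Subgroup.zpowers a ≤ V) (heq ▸ hbO), b.2.1⟩
  rw [c.hVP, Subgroup.mem_bot] at hbV
  exact hb1 hbV

theorem Config.card_vfix_le (c : Config p r K V P R x) :
    Nat.card ↥(V ⊓ Subgroup.centralizer ({x} : Set G)) ≤ p :=
  card_le_of_exponent c.hZ (inf_le_inf_right _ c.hVK) fun k hk => c.hVe.2 k hk.1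

theorem QData.coprime (d : QData q K V P R Q) (c : Config p r K V P R x) (hpq : p ≠ q) {A B : Subgroup G}
    (hA : A ≤ Q) (hB : IsPGroup p B) : (Nat.card A).Coprime (Nat.card B) := by
  obtain ⟨i, hi⟩ := (d.hQq.to_le hA).exists_card_eq
  obtain ⟨j, hj⟩ := hB.exists_card_eq
  rw [hi, hj]; exact ((Nat.coprime_primes hq.out hp.out).mpr hpq.symm).pow i j

theorem QData.coprime_r (d : QData q K V P R Q) (c : Config p r K V P R x) {A : Subgroup G}
    (hA : A ≤ Q) : (Nat.card A).Coprime r :=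
  c.hrK.coprime_dvd_left (Subgroup.card_dvd_of_le (hA.trans d.hQK))

theorem QData.qfix_card_le (d : QData q K V P R Q) (c : Config p r K V P R x) :
    Nat.card ↥(Q ⊓ Subgroup.centralizer ({x} : Set G)) ≤ q :=
  card_le_of_exponent c.hZ (inf_le_inf_right _ d.hQK) fun k hk => d.hexp k hk.1

theorem QData.not_abelian (d : QData q K V P R Q) (c : Config p r K V P R x) (hpq : p ≠ q) :
    ¬ IsMulCommutative Q := by
  intro hQc
  haveI := hQc
  haveI := c.hVe.1
  have hVp := Fusion.Thompson.isPGroup_isEA c.hVe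
  set W := ⁅V, Q⁆ with hW
  have hWV : W ≤ V := Subgroup.le_normalizer_iff_commutator_le_left.mp d.hQV
  have hWe : Cfsg.IsElementaryAbelian p W :=
    ⟨Subgroup.le_centralizer_iff_isMulCommutative.mp
      ((hWV.trans V.le_centralizer).trans (Subgroup.centralizer_le hWV)), fun k hk => c.hVe.2 k (hWV hk)⟩
  have hWQ : W ⊓ Subgroup.centralizer (Q : Set G) = ⊥ := by
    refine eq_bot_iff.mpr fun k hk => ?_
    rw [← Coprime.centralizer_inf_commutator_eq_bot d.hQV (d.coprime c hpq le_rfl hVp)]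
    exact ⟨⟨hWV hk.1, hk.2⟩, hk.1⟩
  have hWfaith : Q ⊓ Subgroup.centralizer (W : Set G) = ⊥ := by
    refine eq_bot_iff.mpr fun k hk => ?_
    rw [← d.faith]
    refine ⟨hk.1, ?_⟩
    have hsup := Coprime.commutator_sup_centralizer d.hQV (d.coprime c hpq le_rfl hVp) (Or.inr (IsNilpotent.to_isSolvable (h := hVp.isNilpotent)))
    have hV : V ≤ Subgroup.centralizer ({k} : Set G) := by
      rw [← hsup]
      exact sup_le (fun v hv => Subgroup.mem_centralizer_singleton_iff.mpr (Subgroup.mem_centralizer_iff.mp hk.2 v hv))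
        fun v hv => Subgroup.mem_centralizer_singleton_iff.mpr (Subgroup.mem_centralizer_iff.mp hv.2 k hk.1).symm
    exact Subgroup.mem_centralizer_iff.mpr fun v hv => Subgroup.mem_centralizer_singleton_iff.mp (hV hv)
  by_cases hQx : Q ≤ Subgroup.centralizer ({x} : Set G)
  · refine d.hnc ?_
    have hQc' : IsCyclic Q := by
      refine isCyclic_of_prime_card (p := q) ?_
      have h1 := d.qfix_card_le c
      rw [inf_eq_left.mpr hQx] at h1
      obtain ⟨i, hi⟩ := d.hQq.exists_card_eq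
      rcases Nat.eq_zero_or_pos i with h0 | hpos
      · exact absurd (by
          rw [show Q = ⊥ from Subgroup.eq_bot_of_card_eq _ (by rw [hi, h0, pow_zero])]
          intro a _
          exact Subgroup.mem_centralizer_iff.mpr fun y hy => by
            rw [Subgroup.mem_bot.mp hy, one_mul, mul_one]) d.hnc
      · have h2 : q ^ i ≤ q ^ 1 := by rw [pow_one, ← hi]; exact h1
        rw [hi, show i = 1 by have := (Nat.pow_le_pow_iff_right hq.out.one_lt).mp h2; omega, pow_one]
    rw [← c.hPR]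
    refine Subgroup.commutator_le.mpr fun a ha b hb => Subgroup.mem_centralizer_iff.mpr fun k hk => ?_
    obtain ⟨g, hg⟩ := IsCyclic.exists_generator (α := Q)
    have hpow : ∀ y ∈ Subgroup.normalizer (Q : Set G), ∃ i : ℤ, ∀ k ∈ Q, y * k * y⁻¹ = k ^ i := by
      intro y hy
      obtain ⟨i, hi⟩ := Subgroup.mem_zpowers_iff.mp (hg ⟨y * g * y⁻¹, (Subgroup.mem_normalizer_iff.mp hy g).mp g.2⟩)
      refine ⟨i, fun k hk => ?_⟩
      obtain ⟨n, hn⟩ := Subgroup.mem_zpowers_iff.mp (hg ⟨k, hk⟩)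
      have hn' : (g : G) ^ n = k := congrArg Subtype.val hn
      have hi' : (g : G) ^ i = y * g * y⁻¹ := congrArg Subtype.val hi
      rw [← hn', ← conj_zpow, ← hi', ← zpow_mul, ← zpow_mul, mul_comm]
    obtain ⟨i, hi⟩ := hpow a (d.hPQ ha)
    obtain ⟨j, hj⟩ := hpow b (d.hRQ hb)
    have hab : ∀ k ∈ Q, a * b * k * (a * b)⁻¹ = b * a * k * (b * a)⁻¹ := fun k hk => by
      calc a * b * k * (a * b)⁻¹ = a * (b * k * b⁻¹) * a⁻¹ := by group
        _ = (k ^ j) ^ i := by rw [hj k hk, hi _ (zpow_mem hk j)]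
        _ = (k ^ i) ^ j := by rw [← zpow_mul, ← zpow_mul, mul_comm]
        _ = b * (a * k * a⁻¹) * b⁻¹ := by rw [hi k hk, hj _ (zpow_mem hk i)]
        _ = _ := by group
    have h1 := hab ((b * a)⁻¹ * k * (b * a)) (by
      simpa using (Subgroup.mem_normalizer_iff.mp (inv_mem (mul_mem (d.hRQ hb) (d.hPQ ha))) k).mp hk)
    have h2 : ⁅a, b⁆ * k * ⁅a, b⁆⁻¹ = k := by
      calc ⁅a, b⁆ * k * ⁅a, b⁆⁻¹ = a * b * ((b * a)⁻¹ * k * (b * a)) * (a * b)⁻¹ := by
            rw [commutatorElement_def]; group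
        _ = _ := by rw [h1]; group
    exact (mul_inv_eq_iff_eq_mul.mp h2).symm
  · set X := Subgroup.zpowers x with hX
    have hxQ : X ≤ Subgroup.normalizer (Q : Set G) := Subgroup.zpowers_le.mpr (d.hRQ c.hxR)
    have hXcop : (Nat.card X).Coprime (Nat.card Q) := by
      rw [Nat.card_zpowers]
      exact ((d.coprime_r c le_rfl).coprime_dvd_right (orderOf_dvd_of_pow_eq_one c.hxr)).symm
    set A := ⁅Q, X⁆ with hA
    have hAQ : A ≤ Q := Subgroup.le_normalizer_iff_commutator_le_left.mp hxQ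
    have hfpf : A ⊓ Subgroup.centralizer ({x} : Set G) = ⊥ := by
      refine eq_bot_iff.mpr fun k hk => ?_
      rw [← Coprime.centralizer_inf_commutator_eq_bot hxQ hXcop]
      refine ⟨⟨hAQ hk.1, ?_⟩, hk.1⟩
      rw [hX, Subgroup.zpowers_eq_closure, Subgroup.centralizer_closure]
      exact hk.2
    have hxW : x ∈ Subgroup.normalizer (W : Set G) :=
      normalizes_commutator c.hRV d.hRQ c.hxR
    have hQW : Q ≤ Subgroup.normalizer (W : Set G) := normalizes_commutator d.hQV Subgroup.le_normalizer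
    have hAne : ¬ A ≤ Subgroup.centralizer (W : Set G) := by
      intro h
      refine hQx fun k hk => Subgroup.mem_centralizer_singleton_iff.mpr ?_
      have hA0 : A = ⊥ := eq_bot_iff.mpr (hWfaith ▸ le_inf hAQ h)
      have := Subgroup.commutator_mem_commutator hk (Subgroup.mem_zpowers x)
      rw [← hA, hA0, Subgroup.mem_bot] at this
      exact (commutatorElement_eq_one_iff_commute.mp this).eq
    have hne : W ⊓ Subgroup.centralizer ({x} : Set G) ≠ ⊥ :=
      FrobeniusFixed.inf_centralizer_ne_bot hWe.1 hr.out c.hxr hxW (hAQ.trans hQW)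
        (normalizes_commutator hxQ Subgroup.le_normalizer (Subgroup.mem_zpowers x)) hfpf
        (d.coprime c hpq hAQ (hVp.to_le hWV)).symm hAne
    have hPx := c.pfix_eq_bot (fun h => hne (eq_bot_iff.mpr ((inf_le_inf_right _ hWV).trans h.le)))
    exact HyperplaneOrbits.main c.hp2 c.hr2 hpq c.hpr hWe ⟨hQc, d.hexp⟩ c.hPp c.hxr hQW
      (normalizes_commutator c.hPV d.hPQ) hxW d.hPQ (d.hRQ c.hxR) (c.hRP c.hxR) hWQ hWfaith d.hnc hPx
      ((Subgroup.card_le_of_le (inf_le_inf_right _ hWV)).trans c.card_vfix_le)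

theorem QData.false_of_config (d : QData q K V P R Q) (c : Config p r K V P R x) (hpq : p ≠ q) : False := by
  haveI := c.hVe.1
  have hVp := Fusion.Thompson.isPGroup_isEA c.hVe
  have hQnil := d.hQq.isNilpotent
  have hQsolv : Group.IsSolvable Q := IsNilpotent.to_isSolvable (h := hQnil)
  have hQne : Q ≠ ⊥ := fun h => d.hnc (by
    rw [h]
    intro a _
    exact Subgroup.mem_centralizer_iff.mpr fun y hy => by rw [Subgroup.mem_bot.mp hy, one_mul, mul_one])
  set F := Q ⊓ Subgroup.centralizer (P : Set G) with hF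
  have hder : ⁅Q, Q⁆ < Q := Coprime.commutator_self_lt hQsolv hQne
  have hQQF : ⁅Q, Q⁆ ≤ F := le_inf hder.le (Subgroup.le_centralizer_iff.mp
    (d.hmin _ hder.le hder.ne (normalizes_commutator d.hPQ d.hPQ) (normalizes_commutator d.hRQ d.hRQ)))
  have hPF : P ≤ Subgroup.centralizer (F : Set G) := Subgroup.le_centralizer_iff.mp inf_le_right
  have hPFn : P ≤ Subgroup.normalizer (F : Set G) := hPF.trans (Subgroup.centralizer_le_normalizer _)
  have hRFn : R ≤ Subgroup.normalizer (F : Set G) := normalizes_inf d.hRQ (normalizes_centralizer c.hRP)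
  have hQFn : Q ≤ Subgroup.normalizer (F : Set G) :=
    Subgroup.le_normalizer_iff_commutator_le_left.mpr ((Subgroup.commutator_mono inf_le_left le_rfl).trans hQQF)
  -- `F` is central
  have hQF : Q ≤ Subgroup.centralizer (F : Set G) := by
    have h1 : ⁅⁅P, F⁆, Q⁆ = ⊥ := by
      rw [Subgroup.commutator_eq_bot_iff_le_centralizer.mpr hPF, Subgroup.commutator_bot_left]
    have h2 : ⁅⁅F, Q⁆, P⁆ = ⊥ := by
      refine eq_bot_iff.mpr ((Subgroup.commutator_mono (Subgroup.le_normalizer_iff_commutator_le_left.mp hQFn)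
        le_rfl).trans (le_of_eq ?_))
      rw [Subgroup.commutator_comm]
      exact Subgroup.commutator_eq_bot_iff_le_centralizer.mpr hPF
    have h3 := Subgroup.commutator_commutator_eq_bot_of_rotate h1 h2
    rw [d.hQP] at h3
    exact Subgroup.commutator_eq_bot_iff_le_centralizer.mp h3
  have hFc : IsMulCommutative F :=
    Subgroup.le_centralizer_iff_isMulCommutative.mp (inf_le_left.trans hQF)
  have hnab : ¬ ⁅Q, Q⁆ = ⊥ := fun h => d.not_abelian c hpq
    (Subgroup.le_centralizer_iff_isMulCommutative.mp (Subgroup.commutator_eq_bot_iff_le_centralizer.mp h))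
  have hFne : F ≠ ⊥ := fun h => hnab (eq_bot_iff.mpr (hQQF.trans h.le))
  have hFQ : F ≤ Q := inf_le_left
  have hFV : F ≤ Subgroup.normalizer (V : Set G) := hFQ.trans d.hQV
  have hZF : ∀ k ∈ Q, (∀ g ∈ Q, Commute g k) → k ∈ F := by
    intro k hk hall
    have hZ1 : Q ⊓ Subgroup.centralizer (Q : Set G) ≠ Q := fun h => d.not_abelian c hpq
      (Subgroup.le_centralizer_iff_isMulCommutative.mp (h.ge.trans inf_le_right))
    refine le_inf inf_le_left (Subgroup.le_centralizer_iff.mp (d.hmin _ inf_le_left hZ1 (normalizes_inf d.hPQ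
      (normalizes_centralizer d.hPQ)) (normalizes_inf d.hRQ (normalizes_centralizer d.hRQ))))
      (Subgroup.mem_inf.mpr ⟨hk, Subgroup.mem_centralizer_iff.mpr fun g hg => (hall g hg).eq⟩)
  set W := ⁅V, F⁆ with hW
  have hWV : W ≤ V := Subgroup.le_normalizer_iff_commutator_le_left.mp hFV
  have hWe : Cfsg.IsElementaryAbelian p W :=
    ⟨Subgroup.le_centralizer_iff_isMulCommutative.mp
      ((hWV.trans V.le_centralizer).trans (Subgroup.centralizer_le hWV)), fun k hk => c.hVe.2 k (hWV hk)⟩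
  have hcopF : (Nat.card F).Coprime (Nat.card V) := d.coprime c hpq hFQ hVp
  have hWF : W ⊓ Subgroup.centralizer (F : Set G) = ⊥ := by
    refine eq_bot_iff.mpr fun k hk => ?_
    rw [← Coprime.centralizer_inf_commutator_eq_bot hFV hcopF]
    exact ⟨⟨hWV hk.1, hk.2⟩, hk.1⟩
  have hQW : Q ≤ Subgroup.normalizer (W : Set G) := normalizes_commutator d.hQV hQFn
  have hPW : P ≤ Subgroup.normalizer (W : Set G) := normalizes_commutator c.hPV hPFn
  have hRW : R ≤ Subgroup.normalizer (W : Set G) := normalizes_commutator c.hRV hRFn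
  have hfaith : Q ⊓ Subgroup.centralizer (W : Set G) = ⊥ := by
    set N := Q ⊓ Subgroup.centralizer (W : Set G) with hN
    have hNF : N ≤ F := by
      refine le_inf inf_le_left (Subgroup.le_centralizer_iff.mp (d.hmin N inf_le_left (fun h => hFne ?_)
        (normalizes_inf d.hPQ (normalizes_centralizer hPW)) (normalizes_inf d.hRQ (normalizes_centralizer hRW))))
      have hWb : W = ⊥ := by
        refine eq_bot_iff.mpr (hWF ▸ le_inf le_rfl (Subgroup.le_centralizer_iff.mp ?_))
        exact hFQ.trans (h.ge.trans inf_le_right)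
      refine eq_bot_iff.mpr (d.faith ▸ le_inf hFQ ?_)
      rw [hW, Subgroup.commutator_comm] at hWb
      exact Subgroup.commutator_eq_bot_iff_le_centralizer.mp hWb
    refine eq_bot_iff.mpr fun k hk => ?_
    rw [← d.faith]
    refine ⟨hk.1, Subgroup.mem_centralizer_iff.mpr fun v hv => ?_⟩
    have hsup := Coprime.commutator_sup_centralizer hFV hcopF (Or.inr (IsNilpotent.to_isSolvable (h := hVp.isNilpotent)))
    have hV : V ≤ Subgroup.centralizer ({k} : Set G) := by
      rw [← hsup]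
      exact sup_le (fun v hv => Subgroup.mem_centralizer_singleton_iff.mpr (Subgroup.mem_centralizer_iff.mp hk.2 v hv))
        fun v hv => Subgroup.mem_centralizer_singleton_iff.mpr (Subgroup.mem_centralizer_iff.mp hv.2 k (hNF hk)).symm
    exact Subgroup.mem_centralizer_singleton_iff.mp (hV hv)
  have hFW : F ⊓ Subgroup.centralizer (W : Set G) = ⊥ := eq_bot_iff.mpr (hfaith ▸ inf_le_inf_right _ hFQ)
  have hxQ : x ∈ Subgroup.normalizer (Q : Set G) := d.hRQ c.hxR
  have hxP : x ∈ Subgroup.normalizer (P : Set G) := c.hRP c.hxR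
  have hxF : x ∈ Subgroup.normalizer (F : Set G) := hRFn c.hxR
  have hxW : x ∈ Subgroup.normalizer (W : Set G) := hRW c.hxR
  have hQPF : ¬ ⁅Q, P⁆ ≤ F := by
    rw [d.hQP]
    exact fun h => d.hnc (hPF.trans (Subgroup.centralizer_le h))
  have hcopQP : (Nat.card Q).Coprime (Nat.card P) := d.coprime c hpq le_rfl c.hPp
  have hfixP : P ⊓ Subgroup.centralizer ({x} : Set G) = ⊥ →
      ¬ Q ⊓ Subgroup.centralizer ({x} : Set G) ≤ F := fun h =>
    FrobeniusFixed.inf_centralizer_not_le hFQ hQQF hr.out c.hxr hxQ d.hPQ hxF hPFn hxP h hcopQP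
      (d.coprime_r c le_rfl) hQPF
  by_cases hxc : F ≤ Subgroup.centralizer ({x} : Set G)
  · -- `x` centralises `F`: `Q` is extraspecial
    obtain ⟨z, hz, hz1⟩ := (Subgroup.bot_or_exists_ne_one _).resolve_left hFne
    have hzF : Subgroup.zpowers z ≤ F := Subgroup.zpowers_le.mpr hz
    have hzo : Nat.card (Subgroup.zpowers z) = q := by
      rw [Nat.card_zpowers]; exact orderOf_eq_prime (d.hexp z (hFQ hz)) hz1
    have hFx : F ≤ Q ⊓ Subgroup.centralizer ({x} : Set G) := le_inf hFQ hxc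
    have hQx : Subgroup.zpowers z = Q ⊓ Subgroup.centralizer ({x} : Set G) :=
      Subgroup.eq_of_le_of_card_ge (hzF.trans hFx) ((d.qfix_card_le c).trans hzo.ge)
    have hzF' : F = Subgroup.zpowers z := le_antisymm (hQx ▸ hFx) hzF
    have hPx : P ⊓ Subgroup.centralizer ({x} : Set G) ≠ ⊥ := fun h => hfixP h (hQx ▸ hzF)
    have hVx : V ⊓ Subgroup.centralizer ({x} : Set G) = ⊥ := by
      by_contra h; exact hPx (c.pfix_eq_bot h)
    refine ExtraspecialFixed.false_of_group (z := z) d.hq2 c.hr2 hpq c.hpr hWe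
      (fun h => ?_) hQW hxW d.hQq (hFQ hz) (d.hexp z (hFQ hz)) (hzF' ▸ hQQF)
      (fun k hk => ((Subgroup.mem_centralizer_iff.mp (hQF hk)) z hz).symm) (fun k hk h => hzF' ▸ hZF k hk h)
      (fun h => hnab (Subgroup.commutator_eq_bot_iff_le_centralizer.mpr
        ((h.trans hzF).trans (Subgroup.le_centralizer_iff.mp hQF))))
      c.hxr hxQ (Subgroup.mem_centralizer_singleton_iff.mp (hxc hz)).symm ?_ ?_ ?_
    · apply hFne
      rw [h] at hFW
      refine eq_bot_iff.mpr (le_of_le_of_eq (le_inf le_rfl ?_) hFW)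
      intro k _
      exact Subgroup.mem_centralizer_iff.mpr fun y hy => by rw [Subgroup.mem_bot.mp hy, one_mul, mul_one]
    · intro k hk hxk
      have hcop : (Nat.card (Subgroup.zpowers x)).Coprime (Nat.card F) := by
        rw [Nat.card_zpowers]
        exact ((d.coprime_r c hFQ).coprime_dvd_right (orderOf_dvd_of_pow_eq_one c.hxr)).symm
      have hcl : ∀ b ∈ Subgroup.zpowers x, ⁅b, k⁆ ∈ F := by
        have hle : Subgroup.zpowers x ≤ Subgroup.normalizer (F : Set G) := Subgroup.zpowers_le.mpr hxF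
        intro b hb
        rw [← mem_powers_iff_mem_zpowers] at hb
        obtain ⟨n, rfl⟩ := hb
        induction n with
        | zero => simp
        | succ n ih =>
          rw [show ⁅x ^ (n + 1), k⁆ = x * ⁅x ^ n, k⁆ * x⁻¹ * ⁅x, k⁆ by
            simp only [commutatorElement_def, pow_succ']; group]
          exact mul_mem ((Subgroup.mem_normalizer_iff.mp hxF _).mp ih) (hzF hxk)
      obtain ⟨n, hn, hnk⟩ := Coprime.exists_mul_mem_centralizer (Subgroup.zpowers_le.mpr hxF) hcop
        (Or.inl (Coprime.isSolvable_zpowers x)) hcl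
      have h2 : n * k ∈ Q ⊓ Subgroup.centralizer ({x} : Set G) := Subgroup.mem_inf.mpr ⟨mul_mem (hFQ hn) hk,
        Subgroup.mem_centralizer_singleton_iff.mpr (Subgroup.mem_centralizer_iff.mp hnk x (Subgroup.mem_zpowers x)).symm⟩
      rw [← hQx] at h2
      exact (Subgroup.mul_mem_cancel_left _ (hzF' ▸ hn)).mp h2
    · refine eq_bot_iff.mpr fun v hv => ?_
      rw [← hWF]
      refine ⟨hv.1, Subgroup.mem_centralizer_iff.mpr fun k hk => ?_⟩
      have hk' : k ∈ Subgroup.zpowers z := hzF' ▸ hk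
      obtain ⟨i, rfl⟩ := Subgroup.mem_zpowers_iff.mp hk'
      have hcv : Commute z v := (Subgroup.mem_centralizer_singleton_iff.mp hv.2).symm
      exact (hcv.zpow_left i).eq
    · exact eq_bot_iff.mpr ((inf_le_inf_right _ hWV).trans hVx.le)
  · -- `x` moves `F`
    set X := Subgroup.zpowers x with hX
    have hXF : X ≤ Subgroup.normalizer (F : Set G) := Subgroup.zpowers_le.mpr hxF
    have hXcop : (Nat.card X).Coprime (Nat.card F) := by
      rw [Nat.card_zpowers]
      exact ((d.coprime_r c hFQ).coprime_dvd_right (orderOf_dvd_of_pow_eq_one c.hxr)).symm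
    set A := ⁅F, X⁆ with hA
    have hAF : A ≤ F := Subgroup.le_normalizer_iff_commutator_le_left.mp hXF
    have hfpf : A ⊓ Subgroup.centralizer ({x} : Set G) = ⊥ := by
      refine eq_bot_iff.mpr fun k hk => ?_
      rw [← Coprime.centralizer_inf_commutator_eq_bot hXF hXcop]
      refine ⟨⟨hAF hk.1, ?_⟩, hk.1⟩
      rw [hX, Subgroup.zpowers_eq_closure, Subgroup.centralizer_closure]
      exact hk.2
    have hAne : ¬ A ≤ Subgroup.centralizer (W : Set G) := by
      intro h
      refine hxc fun k hk => Subgroup.mem_centralizer_singleton_iff.mpr ?_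
      have hA0 : A = ⊥ := eq_bot_iff.mpr (hFW ▸ le_inf hAF h)
      have := Subgroup.commutator_mem_commutator hk (Subgroup.mem_zpowers x)
      rw [← hA, hA0, Subgroup.mem_bot] at this
      exact (commutatorElement_eq_one_iff_commute.mp this).eq
    have hne : W ⊓ Subgroup.centralizer ({x} : Set G) ≠ ⊥ :=
      FrobeniusFixed.inf_centralizer_ne_bot hWe.1 hr.out c.hxr hxW ((hAF.trans hFQ).trans hQW)
        (normalizes_commutator hXF Subgroup.le_normalizer (Subgroup.mem_zpowers x)) hfpf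
        (d.coprime c hpq (hAF.trans hFQ) (hVp.to_le hWV)).symm hAne
    have hPx := c.pfix_eq_bot (fun h => hne (eq_bot_iff.mpr ((inf_le_inf_right _ hWV).trans h.le)))
    obtain ⟨k, ⟨hkQ, hkx⟩, hkF⟩ := SetLike.not_le_iff_exists.mp (hfixP hPx)
    have hk1 : k ≠ 1 := fun h => hkF (h ▸ one_mem _)
    have hQx : Subgroup.zpowers k = Q ⊓ Subgroup.centralizer ({x} : Set G) :=
      Subgroup.eq_of_le_of_card_ge (Subgroup.zpowers_le.mpr ⟨hkQ, hkx⟩) (by
        rw [Nat.card_zpowers, orderOf_eq_prime (d.hexp k hkQ) hk1]; exact d.qfix_card_le c)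
    have hFx : F ⊓ Subgroup.centralizer ({x} : Set G) = ⊥ := by
      refine eq_bot_iff.mpr fun f hf => Subgroup.mem_bot.mpr ?_
      by_contra hf1
      have hfk : f ∈ Subgroup.zpowers k := hQx.ge ⟨hFQ hf.1, hf.2⟩
      have heq := Subgroup.eq_of_le_of_card_ge (Subgroup.zpowers_le.mpr hfk) (by
        rw [Nat.card_zpowers, Nat.card_zpowers, orderOf_eq_prime (d.hexp f (hFQ hf.1)) hf1,
          orderOf_eq_prime (d.hexp k hkQ) hk1])
      exact hkF ((Subgroup.zpowers_le.mpr hf.1 : Subgroup.zpowers f ≤ F) (heq.ge (Subgroup.mem_zpowers k)))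
    set C := W ⊓ Subgroup.centralizer ({x} : Set G) with hC
    obtain ⟨w, hw, hw1⟩ := (Subgroup.bot_or_exists_ne_one _).resolve_left hne
    have hCw : Subgroup.zpowers w = C := Subgroup.eq_of_le_of_card_ge (Subgroup.zpowers_le.mpr hw) (by
      rw [Nat.card_zpowers, orderOf_eq_prime (c.hVe.2 w (hWV hw.1)) hw1]
      exact (Subgroup.card_le_of_le (inf_le_inf_right _ hWV)).trans c.card_vfix_le)
    have hkC : k * w * k⁻¹ ∈ C := by
      refine Subgroup.mem_inf.mpr ⟨(Subgroup.mem_normalizer_iff.mp (hQW hkQ) w).mp hw.1, ?_⟩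
      exact mul_mem (mul_mem hkx hw.2) (inv_mem hkx)
    obtain ⟨i, hi⟩ := Subgroup.mem_zpowers_iff.mp (hCw.ge hkC)
    haveI := hWe.1
    let S : Subgroup G :=
      { carrier := {v | v ∈ W ∧ k * v * k⁻¹ = v ^ i}
        one_mem' := ⟨one_mem _, by simp⟩
        mul_mem' := fun {u v} hu hv => ⟨mul_mem hu.1 hv.1, by
          have : Commute u v := congrArg Subtype.val (mul_comm' (⟨u, hu.1⟩ : W) ⟨v, hv.1⟩)
          rw [this.mul_zpow, ← hu.2, ← hv.2]; group⟩
        inv_mem' := fun {u} hu => ⟨inv_mem hu.1, by rw [inv_zpow, ← hu.2]; group⟩ }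
    have hFS : F ≤ Subgroup.normalizer (S : Set G) := by
      refine Subgroup.le_normalizer_iff.mpr fun f hf v hv => ?_
      refine ⟨(Subgroup.mem_normalizer_iff.mp (hQW (hFQ hf)) v).mp hv.1, ?_⟩
      have hcf : f * k = k * f := (Subgroup.mem_centralizer_iff.mp (hQF hkQ) f hf)
      calc k * (f * v * f⁻¹) * k⁻¹ = (k * f) * v * (k * f)⁻¹ := by group
        _ = (f * k) * v * (f * k)⁻¹ := by rw [hcf]
        _ = f * (k * v * k⁻¹) * f⁻¹ := by group
        _ = _ := by rw [hv.2, conj_zpow]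
    have hCS : C ≤ S := by
      rw [← hCw]
      exact Subgroup.zpowers_le.mpr ⟨hw.1, hi.symm⟩
    have hWS : W ≤ S := by
      have h := FrobeniusFixed.le_sup hWe.1 hr.out c.hxr hxW (hFQ.trans hQW) hxF hFx
        (d.coprime c hpq hFQ (hVp.to_le hWV)).symm hFS hCS
      rwa [hWF, sup_bot_eq] at h
    refine hkF (hZF k hkQ fun g hg => ?_)
    have hm : ⁅k, g⁆ ∈ Q ⊓ Subgroup.centralizer (W : Set G) := by
      have hkgQ : ⁅k, g⁆ ∈ Q := by
        rw [commutatorElement_def]
        exact mul_mem (mul_mem (mul_mem hkQ hg) (inv_mem hkQ)) (inv_mem hg)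
      refine Subgroup.mem_inf.mpr ⟨hkgQ, Subgroup.mem_centralizer_iff.mpr fun v hv => ?_⟩
      set u := g * k⁻¹ * g⁻¹ * v * g * k * g⁻¹ with hu
      have huW : u ∈ W := by
        have := (Subgroup.mem_normalizer_iff.mp (hQW (mul_mem (mul_mem hg (inv_mem hkQ)) (inv_mem hg))) v).mp hv
        rw [hu]; convert this using 1; group
      have hgu : g⁻¹ * u * g ∈ W := by
        have := (Subgroup.mem_normalizer_iff.mp (hQW (inv_mem hg)) u).mp huW
        simpa using this
      have e1 : v = u ^ i := by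
        calc v = g * (k * (g⁻¹ * u * g) * k⁻¹) * g⁻¹ := by rw [hu]; group
          _ = g * (g⁻¹ * u * g) ^ i * g⁻¹ := by rw [(hWS hgu).2]
          _ = u ^ i := by rw [← conj_zpow]; group
      have e2 : ⁅k, g⁆ * v * ⁅k, g⁆⁻¹ = v := by
        calc ⁅k, g⁆ * v * ⁅k, g⁆⁻¹ = k * u * k⁻¹ := by rw [hu, commutatorElement_def]; group
          _ = u ^ i := (hWS huW).2
          _ = v := e1.symm
      exact (mul_inv_eq_iff_eq_mul.mp e2).symm
    rw [hfaith, Subgroup.mem_bot] at hm
    exact (commutatorElement_eq_one_iff_commute.mp hm).symm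

omit hq in
/-- No configuration has a `p'`-group acted on non-trivially by `P` and faithful on `V`. -/
theorem Config.false_of_faithful [Group.IsSolvable G] (c : Config p r K V P R x) (hodd : Odd (Nat.card G))
    {U : Subgroup G} (hUK : U ≤ K) (hUV : U ≤ Subgroup.normalizer (V : Set G))
    (hPU : P ≤ Subgroup.normalizer (U : Set G)) (hRU : R ≤ Subgroup.normalizer (U : Set G))
    (hUp : (Nat.card U).Coprime p) (hfaith : U ⊓ Subgroup.centralizer (V : Set G) = ⊥)
    (hnc : ¬ P ≤ Subgroup.centralizer (U : Set G)) : False := by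
  classical
  have hcop : (Nat.card (P ⊔ R : Subgroup G)).Coprime (Nat.card U) := by
    have h := Fusion.Thompson.card_sup_mul_card_inf (N := P) (K := R) c.hRP
    refine Nat.Coprime.coprime_dvd_left (Dvd.intro _ h) (Nat.Coprime.mul_left ?_ ?_)
    · obtain ⟨j, hj⟩ := c.hPp.exists_card_eq
      rw [hj]; exact (hUp.symm).pow_left j
    · exact c.hRK.coprime_dvd_right (Subgroup.card_dvd_of_le hUK)
  obtain ⟨q, hqf, S, hSn, hSc⟩ : ∃ (q : ℕ) (_ : Fact q.Prime) (S : Sylow q U),
      (P ⊔ R : Subgroup G) ≤ Subgroup.normalizer (((S : Subgroup U).map U.subtype : Subgroup G) : Set G) ∧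
      ¬ P ≤ Subgroup.centralizer (((S : Subgroup U).map U.subtype : Subgroup G) : Set G) := by
    by_contra hno
    push Not at hno
    refine hnc (Subgroup.le_centralizer_iff.mp (Subgroup.subgroupOf_eq_top.mp
      (Solvable.Cores.eq_top_of_sylow_le ((Subgroup.centralizer (P : Set G)).subgroupOf U) fun l hl => ?_)))
    haveI := Fact.mk hl
    obtain ⟨S, hS⟩ := Coprime.exists_invariant_sylow (sup_le hPU hRU) hcop (Or.inr inferInstance) l
    refine ⟨S, fun k hk => Subgroup.mem_subgroupOf.mpr ?_⟩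
    exact Subgroup.le_centralizer_iff.mp (hno l ⟨hl⟩ S hS) ⟨k, hk, rfl⟩
  haveI := hqf
  set S₀ := (S : Subgroup U).map U.subtype with hS₀
  obtain ⟨Q, ⟨hQS, hPQ, hRQ, hQc⟩, hmin⟩ := (wellFounded_lt (α := Subgroup G)).has_min
    {W : Subgroup G | W ≤ S₀ ∧ P ≤ Subgroup.normalizer (W : Set G) ∧ R ≤ Subgroup.normalizer (W : Set G) ∧
      ¬ P ≤ Subgroup.centralizer (W : Set G)}
    ⟨S₀, le_rfl, le_sup_left.trans hSn, le_sup_right.trans hSn, hSc⟩
  have hQq : IsPGroup q Q := (S.isPGroup'.map U.subtype).to_le hQS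
  have hQU : Q ≤ U := hQS.trans (Subgroup.map_subtype_le _)
  have hQmin : ∀ W : Subgroup G, W ≤ Q → W ≠ Q → P ≤ Subgroup.normalizer (W : Set G) →
      R ≤ Subgroup.normalizer (W : Set G) → P ≤ Subgroup.centralizer (W : Set G) := by
    intro W hWQ hWne hPW hRW
    by_contra hW
    exact hmin W ⟨hWQ.trans hQS, hPW, hRW, hW⟩ (lt_of_le_of_ne hWQ hWne)
  have hQne : Q ≠ ⊥ := fun h => hQc (by
    rw [h]
    intro a _
    exact Subgroup.mem_centralizer_iff.mpr fun y hy => by rw [Subgroup.mem_bot.mp hy, one_mul, mul_one])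
  have hqdvd : q ∣ Nat.card Q :=
    hQq.card_eq_or_dvd.resolve_left fun h => hQne (Subgroup.eq_bot_of_card_eq _ h)
  have hq2 : q ≠ 2 := fun h => by
    have := hodd.of_dvd_nat (hqdvd.trans (Subgroup.card_subgroup_dvd_card Q))
    rw [h] at this
    exact absurd this (by decide)
  have hpq : p ≠ q := fun h => by
    have h1 : q ∣ 1 := by
      rw [← hUp.gcd_eq_one, Nat.dvd_gcd_iff]
      exact ⟨hqdvd.trans (Subgroup.card_dvd_of_le hQU), h ▸ dvd_rfl⟩
    exact hqf.out.ne_one (Nat.dvd_one.mp h1)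
  have hcopPQ : (Nat.card P).Coprime (Nat.card Q) := by
    obtain ⟨i, hi⟩ := c.hPp.exists_card_eq
    obtain ⟨j, hj⟩ := hQq.exists_card_eq
    rw [hi, hj]; exact ((Nat.coprime_primes hp.out hqf.out).mpr hpq).pow i j
  have hQsolv : Group.IsSolvable Q := IsNilpotent.to_isSolvable (h := hQq.isNilpotent)
  have hQP : ⁅Q, P⁆ = Q := by
    by_contra hne
    set D := ⁅Q, P⁆ with hD
    have hDQ : D ≤ Q := Subgroup.le_normalizer_iff_commutator_le_left.mp hPQ
    have hc : ⁅D, P⁆ = ⊥ := by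
      rw [Subgroup.commutator_comm]
      exact Subgroup.commutator_eq_bot_iff_le_centralizer.mpr (hQmin D hDQ hne
        (normalizes_commutator hPQ Subgroup.le_normalizer) (normalizes_commutator hRQ c.hRP))
    rw [Coprime.commutator_commutator_self hPQ hcopPQ (Or.inr hQsolv), Subgroup.commutator_comm] at hc
    exact hQc (Subgroup.commutator_eq_bot_iff_le_centralizer.mp hc)
  have hder : ⁅Q, Q⁆ < Q := Coprime.commutator_self_lt hQsolv hQne
  set D := ⁅Q, Q⁆ with hD
  have hPD : P ≤ Subgroup.centralizer (D : Set G) :=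
    hQmin D hder.le hder.ne (normalizes_commutator hPQ hPQ) (normalizes_commutator hRQ hRQ)
  have hQD : Q ≤ Subgroup.centralizer (D : Set G) := by
    have h1 : ⁅⁅P, D⁆, Q⁆ = ⊥ := by
      rw [Subgroup.commutator_eq_bot_iff_le_centralizer.mpr hPD, Subgroup.commutator_bot_left]
    have h2 : ⁅⁅D, Q⁆, P⁆ = ⊥ := by
      refine eq_bot_iff.mpr ((Subgroup.commutator_mono (Subgroup.le_normalizer_iff_commutator_le_left.mp
        (normalizes_commutator Subgroup.le_normalizer Subgroup.le_normalizer)) le_rfl).trans (le_of_eq ?_))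
      rw [Subgroup.commutator_comm]
      exact Subgroup.commutator_eq_bot_iff_le_centralizer.mpr hPD
    have h3 := Subgroup.commutator_commutator_eq_bot_of_rotate h1 h2
    rw [hQP] at h3
    exact Subgroup.commutator_eq_bot_iff_le_centralizer.mp h3
  have hcent : ∀ u ∈ Q, ∀ v ∈ Q, ∀ y ∈ Q, Commute ⁅u, v⁆ y := fun u hu v hv y hy =>
    Subgroup.mem_centralizer_iff.mp (hQD hy) _ (Subgroup.commutator_mem_commutator hu hv)
  let O : Subgroup G :=
    { carrier := {k | k ∈ Q ∧ k ^ q = 1}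
      one_mem' := ⟨one_mem _, one_pow _⟩
      mul_mem' := fun {u v} hu hv => ⟨mul_mem hu.1 hv.1, by
        have h0 : v * u = ⁅v, u⁆ * (u * v) := by rw [commutatorElement_def]; group
        have hzu := hcent v hv.1 u hu.1 u hu.1
        have hzv := hcent v hv.1 u hu.1 v hv.1
        have hz : ⁅v, u⁆ ^ q = 1 := by
          have h1 := OmegaLemma.pow_mul_comm_central h0 hzv hzu q
          rw [hv.2, one_mul, mul_one] at h1
          exact mul_eq_right.mp h1.symm
        obtain ⟨m, hm⟩ := hqf.out.dvd_choose_self two_ne_zero (lt_of_le_of_ne hqf.out.two_le (Ne.symm hq2))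
        rw [OmegaLemma.mul_pow_central h0 hzv hzu q, hu.2, hv.2, hm, pow_mul, hz, one_pow, one_mul, one_mul]⟩
      inv_mem' := fun {u} hu => ⟨inv_mem hu.1, by rw [inv_pow, hu.2, inv_one]⟩ }
  have hOn : ∀ {A : Subgroup G}, A ≤ Subgroup.normalizer (Q : Set G) → A ≤ Subgroup.normalizer (O : Set G) :=
    fun {A} hA => Subgroup.le_normalizer_iff.mpr fun a ha k hk =>
      ⟨(Subgroup.mem_normalizer_iff.mp (hA ha) k).mp hk.1, by rw [conj_pow, hk.2, mul_one, mul_inv_cancel]⟩
  have hexp : ∀ k ∈ Q, k ^ q = 1 := by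
    by_contra hne
    push Not at hne
    obtain ⟨k, hk, hk1⟩ := hne
    have hO : P ≤ Subgroup.centralizer (O : Set G) :=
      hQmin O (fun y hy => hy.1) (fun h => hk1 (h.ge hk).2) (hOn hPQ) (hOn hRQ)
    refine hQc (OmegaLemma.le_centralizer_of_fix_orderP hq2 hQq hPQ ?_ fun y hy hy1 => ?_)
    · obtain ⟨i, hi⟩ := c.hPp.exists_card_eq
      rw [hi]; exact ((Nat.coprime_primes hp.out hqf.out).mpr hpq).pow_left i
    · intro a ha
      exact Subgroup.mem_centralizer_singleton_iff.mpr (Subgroup.mem_centralizer_iff.mp (hO ha) y ⟨hy, hy1⟩).symm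
  exact QData.false_of_config ⟨hq2, hQq, hQU.trans hUK, hQU.trans hUV, hPQ, hRQ,
    eq_bot_iff.mpr (hfaith ▸ inf_le_inf_right _ hQU), hQc, hexp, hQP, hQmin⟩ c hpq

end CfsgLib.OddOrder.PLengthConfig
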