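import Cfsg.Agent.Lib.OddOrder.ExceptionalMain
import Cfsg.Agent.Lib.OddOrder.AlphaCentralizer
import Mathlib

set_option autoImplicit false
set_option linter.style.haveILetI false
set_option linter.unusedSectionVars false

/-!
Planes of order `p ^ 2` in a maximal subgroup.
-/

namespace CfsgLib.OddOrder.PlaneMaximal

open scoped commutatorElement
open A2Transitive (MaxPlane)
open SigmaFusion (cj)
open Exceptional (Exc)

variable {G : Type*} [Group G] [Finite G] {p q : ℕ} [hp : Fact p.Prime] [hqf : Fact q.Prime] {M A : Subgroup G}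

/-- For every line of `A`, a maximal subgroup other than `M` contains its normalizer. -/
def Others (p : ℕ) (M A : Subgroup G) : Prop :=
  ∀ A₀ : Subgroup G, A₀ ≤ A → Nat.card A₀ = p →
    ∃ L : Subgroup G, IsCoatom L ∧ Subgroup.normalizer (A₀ : Set G) ≤ L ∧ L ≠ M

/-- For nilpotent `M_σ` the Sylow subgroups for `σ(M)` are normal in `M`. -/
theorem normalizer_sylow_eq (hG : Cfsg.IsMinSimpleOddOrder G) (hM : IsCoatom M)
    [hn : Group.IsNilpotent (Cfsg.sigmaCore M)] (hqs : q ∈ Cfsg.sigma M) (Q : Sylow q G)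
    (hQ : (Q : Subgroup G) ≤ M) : Subgroup.normalizer ((Q : Subgroup G) : Set G) = M := by
  refine le_antisymm (SigmaTools.normalizer_sylow_le hqs Q hQ) ?_
  have hQσ := SigmaTools.pGroup_le_sigmaCore hG hM hqs hQ Q.isPGroup'
  haveI : Group.IsNilpotent (⊤ : Subgroup (Cfsg.sigmaCore M)) := Subgroup.isNilpotent _
  have hle : (Q : Subgroup G) ≤ (Cfsg.pCore q (Cfsg.sigmaCore M)).map (Cfsg.sigmaCore M).subtype := fun d hd => by
    obtain ⟨k, hk⟩ := IsPGroup.iff_orderOf.mp Q.isPGroup' ⟨d, hd⟩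
    rw [Subgroup.orderOf_mk] at hk
    exact ⟨⟨d, hQσ hd⟩, RankTwoGlobal.mem_pCore_of_mem (N := ⊤) (Subgroup.mem_top _)
      ⟨k, by rw [Subgroup.orderOf_mk, hk]⟩, rfl⟩
  rw [← Q.is_maximal' ((Solvable.Cores.isPGroup_pCore q).map _) hle]
  exact (SigmaTools.le_normalizer_sigmaCore M).trans (WLine.normalizer_le_normalizer_pCore q _)

/-- Disjointness of `σ` for nilpotent `M_σ`. -/
theorem exists_cj_of_nilpotent (hG : Cfsg.IsMinSimpleOddOrder G) (hM : IsCoatom M)
    [hn : Group.IsNilpotent (Cfsg.sigmaCore M)] (hqs : q ∈ Cfsg.sigma M) {H : Subgroup G} (hH : IsCoatom H)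
    (hqH : q ∈ Cfsg.sigma H) : ∃ x : G, H = cj x M := by
  obtain ⟨P, hPM, -⟩ := SigmaFusion.exists_sylow_sigma hqs
  obtain ⟨Q, hQH, hNQ⟩ := SigmaFusion.exists_sylow_sigma hqH
  obtain ⟨x, hx⟩ := MulAction.exists_smul_eq G P Q
  have hle : cj x M ≤ H := by
    rw [← normalizer_sylow_eq hG hM hqs P hPM, SigmaTools.cj_normalizer]
    refine le_trans (le_of_eq ?_) hNQ
    rw [← hx, Sylow.coe_subgroup_smul]
    rfl
  exact ⟨x, ((SigmaFusion.isCoatom_cj hM x).le_iff.mp hle).resolve_left hH.1⟩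

theorem le_normalizer_inf_centralizer (hA : MaxPlane p A) {Q B : Subgroup G}
    (hQA : A ≤ Subgroup.normalizer (Q : Set G)) (hB : B ≤ A) :
    A ≤ Subgroup.normalizer ((Q ⊓ Subgroup.centralizer (B : Set G) : Subgroup G) : Set G) :=
  (le_inf hQA fun _ ha => Subgroup.le_normalizer (H := Subgroup.centralizer (B : Set G))
    (Subgroup.mem_centralizer_iff.mpr fun _ hb => (PlaneSylow.comm_of hA.ea.1 (hB hb) ha).eq)).trans
    Subgroup.inf_normalizer_le_normalizer_inf

theorem line_le_normalizer (hA : MaxPlane p A) {A₀ : Subgroup G} (hA₀ : A₀ ≤ A) :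
    A ≤ Subgroup.normalizer (A₀ : Set G) := fun _ ha => Subgroup.centralizer_le_normalizer _
  (Subgroup.mem_centralizer_iff.mpr fun _ hb => (PlaneSylow.comm_of hA.ea.1 (hA₀ hb) ha).eq)

theorem centralizes_of_not_sigma (hG : Cfsg.IsMinSimpleOddOrder G) (hA : MaxPlane p A) (hqp : q ≠ p)
    {L A₀ : Subgroup G} (hL : IsCoatom L) (h₀ : A₀ ≤ A) (h₀c : Nat.card A₀ = p)
    (hN : Subgroup.normalizer (A₀ : Set G) ≤ L) (hqL : q ∉ Cfsg.sigma L) {D : Subgroup G} (hD : IsPGroup q D)
    (hDL : D ≤ L) (hDA : A ≤ Subgroup.normalizer (D : Set G)) : D ≤ Subgroup.centralizer (A : Set G) := by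
  have hAL : A ≤ L := (line_le_normalizer hA h₀).trans hN
  by_cases hpL : p ∈ Cfsg.sigma L
  · refine Subgroup.commutator_eq_bot_iff_le_centralizer.mp (le_bot_iff.mp ?_)
    obtain ⟨k, hk⟩ := hD.exists_card_eq
    have hbot : D ⊓ Cfsg.sigmaCore L = ⊥ := (Subgroup.disjoint_of_coprime_natCard
      (hk ▸ ((SigmaTools.coprime_sigmaCore hqL).symm.pow_left k))).eq_bot
    rw [← hbot]
    refine le_inf (Subgroup.le_normalizer_iff_commutator_le_left.1 hDA) ?_
    rw [Subgroup.commutator_comm]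
    exact (Subgroup.commutator_mono (SigmaTools.pGroup_le_sigmaCore hG hL hpL hAL hA.isPGroup) le_rfl).trans
      (Subgroup.le_normalizer_iff_commutator_le_left.1 (hDL.trans (SigmaTools.le_normalizer_sigmaCore L)))
  · exact Exc.centralizes hG ⟨hL, hpL, hAL, hA.ea, hA.card, h₀, h₀c, hN⟩ hqp hqL hD hDL hDA

omit hqf in
theorem sigma_centralizes (hG : Cfsg.IsMinSimpleOddOrder G) (hM : IsCoatom M) (hA : MaxPlane p A) (hAM : A ≤ M)
    (hH : Others p M A) (hps : p ∉ Cfsg.sigma M) : Cfsg.sigmaCore M ≤ Subgroup.centralizer (A : Set G) := by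
  have key : ∀ q : ℕ, q.Prime → q ∈ Cfsg.sigma M → ∀ Q : Subgroup G, IsPGroup q Q → Q ≤ M →
      A ≤ Subgroup.normalizer (Q : Set G) → Q ≤ Subgroup.centralizer (A : Set G) := by
    intro q hq hqs Q hQ hQM hQA
    haveI := Fact.mk hq
    have hqp : q ≠ p := fun e => hps (e ▸ hqs)
    refine FPFTools.le_of_lines hA hQA (A2Transitive.coprime_of_qGroup hqp hq hQ) fun B hB hBc => ?_
    obtain ⟨L, hL, hNL, hne⟩ := hH B hB hBc
    set D := Q ⊓ Subgroup.centralizer (B : Set G) with hD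
    have hDL : D ≤ L := inf_le_right.trans ((Subgroup.centralizer_le_normalizer _).trans hNL)
    have hDA := le_normalizer_inf_centralizer hA hQA hB
    have hDq : IsPGroup q D := hQ.to_le inf_le_left
    have hAL : A ≤ L := (line_le_normalizer hA hB).trans hNL
    by_cases hqL : q ∈ Cfsg.sigma L
    · by_cases hpL : p ∈ Cfsg.sigma L
      · by_cases hqb : q ∈ Cfsg.beta L
        · obtain ⟨x, hx⟩ := SigmaTools.exists_cj_of_alpha hG hL hM hqb.1 hqs
          exact absurd (hx ▸ SigmaTools.sigma_cj hpL x) hps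
        · exact SigmaTools.centralizes_in_derived hG hL hqp (fun h => A2Centralize.not_ideal hA h.2) hqb hDq
            hA.isPGroup ((SigmaTools.pGroup_le_sigmaCore hG hL hqL hDL hDq).trans (SigmaCore.le_derived hG hL))
            ((SigmaTools.pGroup_le_sigmaCore hG hL hpL hAL hA.isPGroup).trans (SigmaCore.le_derived hG hL)) hDA
      · have hE : Exc p L A B := ⟨hL, hpL, hAL, hA.ea, hA.card, hB, hBc, hNL⟩
        by_cases hD1 : D = ⊥
        · exact hD1.le.trans bot_le
        haveI := hE.sigma_nilpotent hG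
        obtain ⟨x, hx⟩ := exists_cj_of_nilpotent hG hL hqL hM hqs
        have hxL := hE.eq_of_inter hG hqL hDq hD1 hDA hDL (hx ▸ inf_le_left.trans hQM) (hx ▸ hAM)
        exact absurd (hx.trans (SigmaFusion.cj_eq_self (Subgroup.le_normalizer hxL))).symm hne
    · exact centralizes_of_not_sigma hG hA hqp hL hB hBc hNL hqL hDq hDL hDA
  have hcop : (Nat.card (Cfsg.sigmaCore M)).Coprime p := SigmaTools.coprime_sigmaCore hps
  have htop : (Subgroup.centralizer (A : Set G)).subgroupOf (Cfsg.sigmaCore M) = ⊤ := by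
    refine Solvable.Cores.eq_top_of_sylow_le _ fun q hq => ?_
    haveI := Fact.mk hq
    obtain ⟨T, hT⟩ := Coprime.exists_invariant_sylow (hAM.trans (SigmaTools.le_normalizer_sigmaCore M))
      (A2Transitive.coprime_A hA hcop) (Or.inl (Group.isSolvable_of_comm fun a b => hA.ea.1.1.comm a b)) q
    refine ⟨T, fun y hy => ?_⟩
    rcases T.isPGroup'.card_eq_or_dvd with h1 | h1
    · rw [Subgroup.eq_bot_of_card_eq _ h1, Subgroup.mem_bot] at hy
      rw [hy]; exact one_mem _
    exact key q hq (SigmaTools.mem_sigma_of_card (h1.trans (Subgroup.card_subgroup_dvd_card _))) _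
      (T.isPGroup'.map _) ((Subgroup.map_subtype_le _).trans (SigmaTools.sigmaCore_le M)) hT ⟨y, hy, rfl⟩
  intro x hx
  exact (htop.ge (Subgroup.mem_top (⟨x, hx⟩ : Cfsg.sigmaCore M)) :)

omit hqf in
theorem mem_sigma (hG : Cfsg.IsMinSimpleOddOrder G) (hM : IsCoatom M) (hA : MaxPlane p A) (hAM : A ≤ M)
    (hH : Others p M A) : p ∈ Cfsg.sigma M := by
  by_contra hps
  have hσC := sigma_centralizes hG hM hA hAM hH hps
  have hσ1 := SigmaCore.sigmaCore_ne_bot hG hM
  by_cases hex : ∃ A₀ : Subgroup G, A₀ ≤ A ∧ Nat.card A₀ = p ∧ Subgroup.normalizer (A₀ : Set G) ≤ M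
  · obtain ⟨A₀, h₀, h₀c, hN⟩ := hex
    exact hσ1 (by rw [← Exc.centralizer_sigma hG ⟨hM, hps, hAM, hA.ea, hA.card, h₀, h₀c, hN⟩, left_eq_inf]
                  exact hσC)
  obtain ⟨q, hq, hqd⟩ := Nat.exists_prime_and_dvd (mt Subgroup.card_eq_one.mp hσ1)
  haveI := Fact.mk hq
  have hqs := SigmaTools.mem_sigma_of_card hqd
  obtain ⟨Q, -, hQσ, hQA⟩ := SigmaTools.exists_invariant_sylow (q := q) hG hM hqs hAM
    (by rw [hA.card]; exact (SigmaTools.coprime_sigmaCore hps).symm.pow_left 2)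
    (bot_le : ⊥ ≤ M) IsPGroup.of_bot (by rw [Subgroup.normalizer_eq_top]; exact le_top)
  have hQd : q ∣ Nat.card (Q : Subgroup G) :=
    Q.isPGroup'.card_eq_or_dvd.resolve_left fun e => Q.not_dvd_index (by
      rw [Subgroup.eq_bot_of_card_eq _ e, Subgroup.index_bot]
      exact SigmaTools.sigma_dvd hqs)
  have hqC : q ∣ Nat.card (Subgroup.centralizer (A : Set G)) :=
    hQd.trans (Subgroup.card_dvd_of_le (hQσ.trans hσC))
  obtain ⟨S, hAS⟩ := hA.isPGroup.exists_le_sylow
  obtain ⟨x, hxA, hx', hx1⟩ : ∃ x ∈ A, x ∈ ⁅Subgroup.normalizer (A : Set G), Subgroup.normalizer (A : Set G)⁆ ∧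
      x ≠ 1 := by
    by_cases hab : IsMulCommutative (S : Subgroup G)
    · obtain ⟨x, hx, hx1⟩ := A.bot_or_exists_ne_one.resolve_left hA.ne_bot
      exact ⟨x, hx, (PlaneSylow.abelian_case hG hA hAS hab).2.2 hx, hx1⟩
    · obtain ⟨x, hx, hx1⟩ := (PlaneSylow.zLine S).bot_or_exists_ne_one.resolve_left fun e => hp.out.ne_one
        (by rw [← PlaneSylow.zLine_card hG hA hAS hab, e, Subgroup.card_bot])
      exact ⟨x, PlaneSylow.zLine_le hA hAS hx, PlaneSylow.zLine_le_derived hG hA hAS hab hx, hx1⟩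
  have hQM : (Q : Subgroup G) ≤ M := hQσ.trans (SigmaTools.sigmaCore_le M)
  have hxM' : x ∈ ⁅M, M⁆ := Subgroup.commutator_mono (SigmaTools.normalizer_sylow_le hqs Q hQM)
    (SigmaTools.normalizer_sylow_le hqs Q hQM) (A2Transitive.mem_derived_normalizer hG hA
      (fun e => hps (e ▸ hqs)) hqC (SigmaTools.sylow_mem_max Q hQA) hxA hx')
  obtain ⟨X, -, hXc, hXN, hXcen⟩ := WLine.exists_line hG hM hps
    (w := x) ⟨hxM', Subgroup.le_centralizer_iff.mp hσC hxA⟩ hx1
    ⟨1, by rw [pow_one, orderOf_eq_prime (hA.ea.2 x hxA) hx1]⟩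
  have hXA : X ≤ A := fun x hx => hA.mem_of_commute
    (by have := pow_card_eq_one' (x := (⟨x, hx⟩ : X)); rw [hXc] at this; exact congrArg Subtype.val this)
    (Subgroup.mem_centralizer_iff.mpr fun b hb =>
      (Subgroup.mem_centralizer_iff.mp (hXcen A hA.isPGroup hAM hb) x hx).symm)
  exact hex ⟨X, hXA, hXc, hXN.le⟩

omit hqf in
theorem alpha_empty (hG : Cfsg.IsMinSimpleOddOrder G) (hM : IsCoatom M) (hA : MaxPlane p A) (hAM : A ≤ M)
    (hH : Others p M A) (r : ℕ) : r ∉ Cfsg.alpha M := by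
  have hps := mem_sigma hG hM hA hAM hH
  have hpa : p ∉ Cfsg.alpha M := by
    intro ha
    obtain ⟨F, hFM, hFe, hF3⟩ := UniqueTools.exists_isEA_of_not_rankLE ha.2
    obtain ⟨P, hPM, hPN⟩ := SigmaFusion.exists_sylow_sigma hps
    obtain ⟨T, hT⟩ := (hA.isPGroup.of_equiv (Subgroup.subgroupOfEquivOfLe hAM).symm).exists_le_sylow
    obtain ⟨m, hm⟩ := MulAction.exists_smul_eq M (P.subtype hPM) T
    set S : Sylow p G := (m : G) • P with hS
    have hSM : (S : Subgroup G) ≤ M := by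
      rw [hS, Sylow.coe_subgroup_smul]
      exact (Subgroup.map_mono hPM).trans (Subgroup.mem_normalizer_iff_map_conj_eq.mp (Subgroup.le_normalizer m.2)).le
    have hAS : A ≤ (S : Subgroup G) := by
      have h1 := congrArg (fun T : Sylow p M => (T : Subgroup M).map M.subtype) hm
      simp only [Coprime.map_smul_sylow, Sylow.coe_subtype, Subgroup.subgroupOf_map_subtype] at h1
      rw [inf_eq_left.2 hPM] at h1
      rw [hS, Sylow.coe_subgroup_smul]
      exact fun a haA => h1.ge ⟨⟨a, hAM haA⟩, hT haA, rfl⟩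
    have hr : ¬ Cfsg.PRankLE p 2 (S : Subgroup G) := fun h => by
      exact UniqueTools.not_pRankLE_of_isEA (K := (⊤ : Subgroup G)) hFe hF3 le_top
        (NarrowSylow.pRankLE_congr Subgroup.topEquiv.symm (SigmaFusion.pRankLE_of_sylow S h))
    obtain ⟨E, hES, hEe, hE3⟩ := UniqueTools.exists_isEA_of_not_rankLE hr
    have hna : ¬ IsMulCommutative (S : Subgroup G) := fun hab => by
      refine absurd hE3 (not_le.mpr (lt_of_le_of_lt (Subgroup.card_le_of_le fun x hx =>
        (PlaneSylow.abelian_case hG hA hAS hab).1 x (hES hx) (hEe.2 x hx)) ?_))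
      rw [hA.card]
      exact Nat.pow_lt_pow_right hp.out.one_lt (by norm_num)
    obtain ⟨L, hL, hNL, hne⟩ := hH _ (PlaneSylow.zLine_le hA hAS) (PlaneSylow.zLine_card hG hA hAS hna)
    obtain ⟨U, -, hU⟩ := UniquenessTheorem.rank_three hG hEe hE3
    exact hne ((hU L ⟨hL, hES.trans (Subgroup.le_normalizer.trans
      ((PlaneSylow.normalizer_le_normalizer_zLine S).trans hNL))⟩).trans (hU M ⟨hM, hES.trans hSM⟩).symm)
  intro ha
  haveI := Fact.mk ha.1
  have hrp : r ≠ p := fun e => hpa (e ▸ ha)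
  obtain ⟨hαM, hMα, hαp⟩ := AlphaCentralizer.alphaCore_facts (M := M)
  have hcop : (Nat.card (Cfsg.alphaCore M)).Coprime p :=
    (hp.out.coprime_iff_not_dvd.mpr fun h => hpa (hαp p hp.out h)).symm
  obtain ⟨T, hT⟩ := Coprime.exists_invariant_sylow (hAM.trans hMα) (A2Transitive.coprime_A hA hcop)
    (Or.inl (Group.isSolvable_of_comm fun a b => hA.ea.1.1.comm a b)) r
  set Q := (T : Subgroup (Cfsg.alphaCore M)).map (Cfsg.alphaCore M).subtype with hQ
  have hQα : Q ≤ Cfsg.alphaCore M := Subgroup.map_subtype_le _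
  have hQM : Q ≤ M := hQα.trans hαM
  have hQr : IsPGroup r Q := T.isPGroup'.map _
  obtain ⟨E, hEQ, hEe, hE3⟩ : ∃ E : Subgroup G, E ≤ Q ∧ Cfsg.IsElementaryAbelian r E ∧ r ^ 3 ≤ Nat.card E := by
    obtain ⟨F, hFM, hFe, hF3⟩ := UniqueTools.exists_isEA_of_not_rankLE ha.2
    have hr : ¬ Cfsg.PRankLE r 2 (T : Subgroup (Cfsg.alphaCore M)) := fun h =>
      UniqueTools.not_pRankLE_of_isEA hFe hF3
        (AlphaCentralizer.le_alphaCore hG hM ha (Fusion.Thompson.isPGroup_isEA hFe) hFM)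
        (SigmaFusion.pRankLE_of_sylow T h)
    obtain ⟨E, hET, hEe, hE3⟩ := UniqueTools.exists_isEA_of_not_rankLE hr
    exact ⟨E.map (Cfsg.alphaCore M).subtype, Subgroup.map_mono hET, Fusion.Thompson.isEA_map _ hEe,
      by rwa [Subgroup.card_map_of_injective (Cfsg.alphaCore M).subtype_injective]⟩
  have hQC : Q ≤ Subgroup.centralizer (A : Set G) := by
    by_cases hrb : r ∈ Cfsg.beta M
    · refine FPFTools.le_of_lines hA hT (A2Transitive.coprime_of_qGroup hrp ha.1 hQr) fun B hB hBc => ?_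
      obtain ⟨L, hL, hNL, hne⟩ := hH B hB hBc
      set D := Q ⊓ Subgroup.centralizer (B : Set G) with hD
      have hDL : D ≤ L := inf_le_right.trans ((Subgroup.centralizer_le_normalizer _).trans hNL)
      have hDA := le_normalizer_inf_centralizer hA hT hB
      have hDq : IsPGroup r D := hQr.to_le inf_le_left
      by_cases hrL : r ∈ Cfsg.sigma L
      · by_cases hD1 : D = ⊥
        · exact hD1.le.trans bot_le
        obtain ⟨x, hx⟩ := SigmaTools.exists_cj_of_alpha hG hM hL ha hrL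
        obtain ⟨y, hy⟩ := exists_prime_orderOf_dvd_card' (G := D) r
          (hDq.card_eq_or_dvd.resolve_left fun e => hD1 (Subgroup.eq_bot_of_card_eq _ e))
        have hyo : orderOf (y : G) = r := by rw [Subgroup.orderOf_coe, hy]
        have hrs := SigmaBasics.mem_sigma_of_alpha hG hM ha
        have hxM := SigmaTools.mem_of_mem_cj hG hM hrs hyo
          (SigmaTools.centralizer_le_of_ideal hG hM hrs hrb.2 (hQM y.2.1) hyo) (hQM y.2.1) (hx ▸ hDL y.2)
        exact absurd (hx.trans (SigmaFusion.cj_eq_self (Subgroup.le_normalizer hxM))) hne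
      · exact centralizes_of_not_sigma hG hA hrp hL hB hBc hNL hrL hDq hDL hDA
    · exact SigmaTools.centralizes_in_derived hG hM hrp (fun h => hpa h.1) hrb hQr hA.isPGroup
        ((SigmaTools.pGroup_le_sigmaCore hG hM (SigmaBasics.mem_sigma_of_alpha hG hM ha) hQM hQr).trans
          (SigmaCore.le_derived hG hM))
        ((SigmaTools.pGroup_le_sigmaCore hG hM hps hAM hA.isPGroup).trans (SigmaCore.le_derived hG hM)) hT
  obtain ⟨a, haA, ha1⟩ := A.bot_or_exists_ne_one.resolve_left hA.ne_bot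
  obtain ⟨L, hL, hNL, hne⟩ := hH (Subgroup.zpowers a) (Subgroup.zpowers_le.mpr haA)
    (by rw [Nat.card_zpowers, orderOf_eq_prime (hA.ea.2 a haA) ha1])
  obtain ⟨U, -, hU⟩ := UniquenessTheorem.rank_three hG hEe hE3
  refine hne ((hU L ⟨hL, hEQ.trans (hQC.trans ((Subgroup.centralizer_le (SetLike.coe_subset_coe.mpr
    (Subgroup.zpowers_le.mpr haA))).trans
      ((Subgroup.centralizer_le_normalizer _).trans hNL)))⟩).trans (hU M ⟨hM, hEQ.trans hQM⟩).symm)

omit hqf in
theorem sigma_nilpotent (hG : Cfsg.IsMinSimpleOddOrder G) (hM : IsCoatom M) (hA : MaxPlane p A) (hAM : A ≤ M)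
    (hH : Others p M A) : Group.IsNilpotent (Cfsg.sigmaCore M) :=
  BetaCore.isNilpotent_of_le_derived hG hM (SigmaCore.le_derived hG hM)
    fun t _ _ h => alpha_empty hG hM hA hAM hH t h.1

omit hqf in
theorem centralizer_le_of_others (hG : Cfsg.IsMinSimpleOddOrder G) (hM : IsCoatom M) (hA : MaxPlane p A)
    (hAM : A ≤ M) (hH : Others p M A) : Subgroup.centralizer (A : Set G) ≤ M := by
  haveI := sigma_nilpotent hG hM hA hAM hH
  have hps := mem_sigma hG hM hA hAM hH
  have hAσ := SigmaTools.pGroup_le_sigmaCore hG hM hps hAM hA.isPGroup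
  obtain ⟨P, hPM, -⟩ := SigmaFusion.exists_sylow_sigma hps
  have hPN := normalizer_sylow_eq hG hM hps P hPM
  obtain ⟨S, hAS⟩ := hA.isPGroup.exists_le_sylow
  -- every `p`-subgroup of `M` lies in the normal Sylow subgroup
  have hAP : A ≤ (P : Subgroup G) := by
    haveI : ((P : Subgroup G).subgroupOf M).Normal :=
      (Subgroup.normal_subgroupOf_iff_le_normalizer hPM).mpr hPN.ge
    intro a ha
    have h1 : ⟨a, hAM ha⟩ ∈ (P.subtype hPM : Sylow p M).toSubgroup := by
      obtain ⟨T, hT⟩ := (hA.isPGroup.of_equiv (Subgroup.subgroupOfEquivOfLe hAM).symm).exists_le_sylow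
      obtain ⟨m, hm⟩ := MulAction.exists_smul_eq M (P.subtype hPM) T
      haveI : (P.subtype hPM : Sylow p M).toSubgroup.Normal := by rwa [Sylow.coe_subtype]
      rw [← Sylow.smul_eq_of_normal (g := m) (P := P.subtype hPM), hm]
      exact hT ha
    rw [Sylow.coe_subtype] at h1
    exact h1
  by_cases hab : IsMulCommutative (P : Subgroup G)
  · have hle : M ≤ Subgroup.normalizer (A : Set G) := hPN.ge.trans (PlaneSylow.abelian_case hG hA hAP hab).2.1
    exact (Subgroup.centralizer_le_normalizer _).trans ((hM.le_iff.mp hle).resolve_left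
      (A2Transitive.max_ne_top hG hp.out hA.isPGroup hA.ne_bot)).le
  · have hle : M ≤ Subgroup.normalizer (PlaneSylow.zLine P : Set G) :=
      hPN.ge.trans (PlaneSylow.normalizer_le_normalizer_zLine P)
    obtain ⟨L, hL, hNL, hne⟩ := hH _ (PlaneSylow.zLine_le hA hAP) (PlaneSylow.zLine_card hG hA hAP hab)
    exact absurd ((hM.le_iff.mp (hle.trans hNL)).resolve_left hL.1) hne

omit hqf in
/-- Planes that are not maximal lie in a unique maximal subgroup. -/
theorem unique_of_not_max (hG : Cfsg.IsMinSimpleOddOrder G) (hAM : A ≤ M) (hM : IsCoatom M)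
    (hAe : Cfsg.IsElementaryAbelian p A) (hA2 : Nat.card A = p ^ 2) (hA : ¬ MaxPlane p A) :
    Cfsg.InUniqueMaximal A := by
  obtain ⟨B, hBe, hAB, hne⟩ : ∃ B : Subgroup G, Cfsg.IsElementaryAbelian p B ∧ A ≤ B ∧ B ≠ A := by
    by_contra hcon
    push Not at hcon
    exact hA ⟨hAe, hA2, fun B hB hle => hcon B hB hle⟩
  obtain ⟨j, hj⟩ := (Fusion.Thompson.isPGroup_isEA hBe).exists_card_eq
  have hlt : Nat.card A < Nat.card B :=
    Set.ncard_lt_ncard (SetLike.coe_ssubset_coe.mpr (lt_of_le_of_ne hAB (Ne.symm hne)))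
  rw [hA2, hj] at hlt
  have hB3 : p ^ 3 ≤ Nat.card B := hj ▸ Nat.pow_le_pow_right hp.out.pos ((Nat.pow_lt_pow_iff_right hp.out.one_lt).mp hlt)
  haveI := hBe.1
  exact UniquenessTheorem.main hG (fun h => hM.1 (top_le_iff.mp (h ▸ hAM))) (UniqueTools.not_rankLE_one hAe hA2.ge le_rfl)
    (Or.inr fun h => UniqueTools.not_pRankLE_of_isEA hBe hB3
      (B.le_centralizer.trans (Subgroup.centralizer_le hAB)) (h p hp.out))

omit hqf in
theorem maxPlane_of_others (hG : Cfsg.IsMinSimpleOddOrder G) (hM : IsCoatom M) (hAM : A ≤ M)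
    (hAe : Cfsg.IsElementaryAbelian p A) (hA2 : Nat.card A = p ^ 2) (hH : Others p M A) : MaxPlane p A := by
  by_contra hA
  obtain ⟨U, -, hU⟩ := unique_of_not_max hG hAM hM hAe hA2 hA
  obtain ⟨a, haA, ha1⟩ := A.bot_or_exists_ne_one.resolve_left fun (e : A = ⊥) => by
    rw [e, Subgroup.card_bot] at hA2
    exact absurd hA2.symm (Nat.one_lt_pow two_ne_zero hp.out.one_lt).ne'
  obtain ⟨L, hL, hNL, hne⟩ := hH (Subgroup.zpowers a) (Subgroup.zpowers_le.mpr haA)
    (by rw [Nat.card_zpowers, orderOf_eq_prime (hAe.2 a haA) ha1])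
  refine hne ((hU L ⟨hL, fun b hb => hNL (Subgroup.centralizer_le_normalizer _
    ((SigmaTools.centralizer_zpowers a).ge (Subgroup.mem_centralizer_singleton_iff.mpr
      (PlaneSylow.comm_of hAe.1 hb haA).eq)))⟩).trans (hU M ⟨hM, hAM⟩).symm)

omit hqf in
theorem exists_line_of_not_others (hG : Cfsg.IsMinSimpleOddOrder G) (hH : ¬ Others p M A) :
    ∃ A₀ : Subgroup G, A₀ ≤ A ∧ Nat.card A₀ = p ∧ Subgroup.normalizer (A₀ : Set G) ≤ M := by
  by_contra hcon
  push Not at hcon
  refine hH fun A₀ h₀ h₀c => ?_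
  obtain ⟨L, hL, hNL⟩ := Uniqueness.exists_coatom_normalizer (p := p) hG.2
    (fun (e : A₀ = ⊥) => hp.out.ne_one (by rw [← h₀c, e, Subgroup.card_bot])) (IsPGroup.of_card (n := 1) (by rw [h₀c, pow_one]))
  exact ⟨L, hL, hNL, fun e => hcon A₀ h₀ h₀c (e ▸ hNL)⟩

omit hqf in
/-- `C(A) ≤ M` for every plane `A` of `M`. -/
theorem centralizer_le (hG : Cfsg.IsMinSimpleOddOrder G) (hM : IsCoatom M) (hAM : A ≤ M)
    (hAe : Cfsg.IsElementaryAbelian p A) (hA2 : Nat.card A = p ^ 2) : Subgroup.centralizer (A : Set G) ≤ M := by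
  by_cases hH : Others p M A
  · exact centralizer_le_of_others hG hM (maxPlane_of_others hG hM hAM hAe hA2 hH) hAM hH
  obtain ⟨A₀, h₀, -, hN⟩ := exists_line_of_not_others hG hH
  exact (Subgroup.centralizer_le (SetLike.coe_subset_coe.mpr h₀)).trans
    ((Subgroup.centralizer_le_normalizer _).trans hN)

end CfsgLib.OddOrder.PlaneMaximal
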