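import Cfsg.Agent.Lib.OddOrder.A2Transitive
import Cfsg.Agent.S1412
import Mathlib

set_option autoImplicit false
set_option linter.style.haveILetI false
set_option linter.unusedSectionVars false

/-!
A Sylow `p`-subgroup containing a maximal plane.
-/

namespace CfsgLib.OddOrder.PlaneSylow

open scoped commutatorElement
open A2Transitive (MaxPlane)
open SigmaFusion (cj)

variable {G : Type*} [Group G] [Finite G] {p : ℕ} [hp : Fact p.Prime] {A : Subgroup G}

theorem comm_of {X : Subgroup G} (h : IsMulCommutative X) {a b : G} (ha : a ∈ X) (hb : b ∈ X) : Commute a b :=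
  congrArg Subtype.val (h.1.comm ⟨a, ha⟩ ⟨b, hb⟩)

/-- `Ω₁(Z(S))`. -/
def zLine (S : Sylow p G) : Subgroup G :=
  Subgroup.closure {x : G | x ∈ (S : Subgroup G) ∧ x ∈ Subgroup.centralizer ((S : Subgroup G) : Set G) ∧ x ^ p = 1}

theorem mem_zLine {S : Sylow p G} {x : G} :
    x ∈ zLine S ↔ x ∈ (S : Subgroup G) ∧ x ∈ Subgroup.centralizer ((S : Subgroup G) : Set G) ∧ x ^ p = 1 := by
  refine ⟨fun hx => ?_, fun hx => Subgroup.subset_closure hx⟩
  induction hx using Subgroup.closure_induction with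
  | mem x hx => exact hx
  | one => exact ⟨one_mem _, one_mem _, one_pow _⟩
  | mul a b _ _ ha hb =>
    refine ⟨mul_mem ha.1 hb.1, mul_mem ha.2.1 hb.2.1, ?_⟩
    rw [Commute.mul_pow (show Commute a b from Subgroup.mem_centralizer_iff.mp hb.2.1 a ha.1), ha.2.2, hb.2.2,
      one_mul]
  | inv a _ ha => exact ⟨inv_mem ha.1, inv_mem ha.2.1, by rw [inv_pow, ha.2.2, inv_one]⟩

theorem normalizer_le_normalizer_zLine (S : Sylow p G) :
    Subgroup.normalizer ((S : Subgroup G) : Set G) ≤ Subgroup.normalizer (zLine S : Set G) := by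
  intro g hg
  refine NormalizerFusion.mem_normalizer_of_conj fun x hx => ?_
  rw [mem_zLine] at hx ⊢
  refine ⟨(Subgroup.mem_normalizer_iff.mp hg x).mp hx.1, Subgroup.mem_centralizer_iff.mpr fun s hs => ?_, ?_⟩
  · have hs' : g⁻¹ * s * g ∈ (S : Subgroup G) :=
      (Subgroup.mem_normalizer_iff.mp hg _).mpr (by simpa [mul_assoc] using SetLike.mem_coe.mp hs)
    have := Subgroup.mem_centralizer_iff.mp hx.2.1 _ hs'
    calc s * (g * x * g⁻¹) = g * ((g⁻¹ * s * g) * x) * g⁻¹ := by group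
      _ = g * (x * (g⁻¹ * s * g)) * g⁻¹ := by rw [this]
      _ = _ := by group
  · rw [conj_pow, hx.2.2]; group

theorem zLine_le {S : Sylow p G} (hA : MaxPlane p A) (hAS : A ≤ (S : Subgroup G)) : zLine S ≤ A :=
  fun _ hx => hA.mem_of_commute (mem_zLine.mp hx).2.2 (Subgroup.centralizer_le hAS (mem_zLine.mp hx).2.1)

/-- Abelian case: the elements of order `p` form `A`. -/
theorem abelian_case (hG : Cfsg.IsMinSimpleOddOrder G) (hA : MaxPlane p A) {S : Sylow p G}
    (hAS : A ≤ (S : Subgroup G)) (hab : IsMulCommutative (S : Subgroup G)) :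
    (∀ x ∈ (S : Subgroup G), x ^ p = 1 → x ∈ A) ∧
      Subgroup.normalizer ((S : Subgroup G) : Set G) ≤ Subgroup.normalizer (A : Set G) ∧
      A ≤ ⁅Subgroup.normalizer (A : Set G), Subgroup.normalizer (A : Set G)⁆ := by
  have h1 : ∀ x ∈ (S : Subgroup G), x ^ p = 1 → x ∈ A := fun x hx hxp =>
    hA.mem_of_commute hxp (Subgroup.mem_centralizer_iff.mpr fun a ha =>
      congrArg Subtype.val (hab.1.comm ⟨a, hAS ha⟩ ⟨x, hx⟩))
  have h2 : Subgroup.normalizer ((S : Subgroup G) : Set G) ≤ Subgroup.normalizer (A : Set G) := fun g hg =>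
    NormalizerFusion.mem_normalizer_of_conj fun a ha =>
      h1 _ ((Subgroup.mem_normalizer_iff.mp hg a).mp (hAS ha)) (by rw [conj_pow, hA.ea.2 a ha]; group)
  exact ⟨h1, h2, hAS.trans ((NormalizerFusion.sylow_le_derived hG S).trans (Subgroup.commutator_mono h2 h2))⟩

variable {S : Sylow p G} (hG : Cfsg.IsMinSimpleOddOrder G) (hA : MaxPlane p A) (hAS : A ≤ (S : Subgroup G))
  (hna : ¬ IsMulCommutative (S : Subgroup G))
include hG hA hAS hna

theorem not_central : ¬ (S : Subgroup G) ≤ Subgroup.centralizer (A : Set G) := by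
  intro h
  have hsmall : ∀ P : Subgroup G, P ≤ (S : Subgroup G) → (∀ x ∈ P, x ^ p = 1) → Nat.card P < p ^ 3 :=
    fun P hP hP' => lt_of_le_of_lt (Subgroup.card_le_of_le fun x hx => hA.mem_of_commute (hP' x hx) (h (hP hx)))
      (hA.card ▸ Nat.pow_lt_pow_right hp.out.one_lt (by norm_num))
  by_cases hr : Cfsg.PRankLE p 2 (S : Subgroup G)
  · obtain hc | ⟨P₁, P₂, hsup, -, -, h3, hexp, -, -⟩ := Cfsg.Agent.S1412.result hG p S hr
    · exact hna hc
    refine (hsmall P₁ (hsup ▸ le_sup_left) fun x hx => ?_).ne h3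
    have := Monoid.pow_exponent_eq_one (G := P₁) ⟨x, hx⟩
    rw [hexp] at this
    exact congrArg Subtype.val this
  · obtain ⟨E, hE, hEe, hE3⟩ := UniqueTools.exists_isEA_of_not_rankLE hr
    exact absurd hE3 (not_le.mpr (hsmall E hE hEe.2))

theorem zLine_card : Nat.card (zLine S) = p := by
  have hle := zLine_le hA hAS
  have hne : zLine S ≠ A := fun h => not_central hG hA hAS hna fun s hs =>
    Subgroup.mem_centralizer_iff.mpr fun a ha =>
      (Subgroup.mem_centralizer_iff.mp (mem_zLine.mp (h.ge ha)).2.1 s hs).symm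
  obtain ⟨k, hk, hk'⟩ := (Nat.dvd_prime_pow hp.out).mp (hA.card ▸ Subgroup.card_dvd_of_le hle)
  have hk2 : k ≠ 2 := fun h => hne (Subgroup.eq_of_le_of_card_ge hle (by rw [hA.card, hk', h]))
  have hk0 : k ≠ 0 := by
    intro h0
    have hS1 : (S : Subgroup G) ≠ ⊥ := fun h => hA.ne_bot (le_bot_iff.mp (h ▸ hAS))
    haveI : Nontrivial (S : Subgroup G) := (Subgroup.nontrivial_iff_ne_bot _).mpr hS1
    haveI := S.isPGroup'.center_nontrivial
    obtain ⟨z, hz⟩ := exists_prime_orderOf_dvd_card' (G := Subgroup.center (S : Subgroup G)) p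
      (((S.isPGroup').to_subgroup _).card_eq_or_dvd.resolve_left
        (Finite.one_lt_card (α := Subgroup.center (S : Subgroup G))).ne')
    have hbot : zLine S = ⊥ := Subgroup.eq_bot_of_card_eq _ (by rw [hk', h0, pow_zero])
    have hmem : ((z : (S : Subgroup G)) : G) ∈ zLine S := mem_zLine.mpr ⟨(z : (S : Subgroup G)).2,
      Subgroup.mem_centralizer_iff.mpr fun s hs => congrArg Subtype.val (Subgroup.mem_center_iff.mp z.2 ⟨s, hs⟩),
      by
        have h := pow_orderOf_eq_one z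
        rw [hz] at h
        exact congrArg (fun t : Subgroup.center (S : Subgroup G) => ((t : (S : Subgroup G)) : G)) h⟩
    rw [hbot, Subgroup.mem_bot] at hmem
    rw [show z = 1 from Subtype.ext (Subtype.ext hmem), orderOf_one] at hz
    exact hp.out.ne_one hz.symm
  rw [hk', show k = 1 by omega, pow_one]

theorem normalizer_le_zLine : Subgroup.normalizer (A : Set G) ≤ Subgroup.normalizer (zLine S : Set G) :=
  NormalizerFusion.normalizer_le hG S hA.isPGroup (le_inf ((zLine_le hA hAS).trans hAS) (zLine_le hA hAS))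
    (normalizer_le_normalizer_zLine S)

/-- An element of `S` normalising but not centralising `A` has fixed points `Ω₁(Z(S))`. -/
theorem u_props {u : G} (huS : u ∈ (S : Subgroup G)) (huA : u ∈ Subgroup.normalizer (A : Set G))
    (huC : u ∉ Subgroup.centralizer (A : Set G)) :
    (∀ a ∈ A, ⁅u, a⁆ ∈ zLine S) ∧ ∀ a ∈ A, Commute u a → a ∈ zLine S := by
  have hA' := hA.ea.1
  set D := A ⊓ Subgroup.centralizer ({u} : Set G) with hD
  have hDlt : D < A := lt_of_le_of_ne inf_le_left fun h => huC (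
    Subgroup.mem_centralizer_iff.mpr fun a ha => Subgroup.mem_centralizer_singleton_iff.mp (h.ge ha).2)
  have hZD : zLine S ≤ D := fun x hx => ⟨zLine_le hA hAS hx, Subgroup.mem_centralizer_singleton_iff.mpr
    (Subgroup.mem_centralizer_iff.mp (mem_zLine.mp hx).2.1 u huS).symm⟩
  have hDeq : zLine S = D := by
    refine Subgroup.eq_of_le_of_card_ge hZD ?_
    obtain ⟨k, hk, hk'⟩ := (Nat.dvd_prime_pow hp.out).mp (hA.card ▸ Subgroup.card_dvd_of_le hDlt.le)
    have hlt : Nat.card D < Nat.card A := Set.ncard_lt_ncard (SetLike.coe_ssubset_coe.mpr hDlt)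
    rw [hA.card, hk'] at hlt
    have := (Nat.pow_lt_pow_iff_right hp.out.one_lt).mp hlt
    rw [zLine_card hG hA hAS hna, hk']
    nth_rw 2 [← pow_one p]
    exact Nat.pow_le_pow_right hp.out.pos (by omega)
  refine ⟨fun a ha => ?_, fun a ha hua =>
    hDeq.ge ⟨ha, Subgroup.mem_centralizer_singleton_iff.mpr hua.symm.eq⟩⟩
  set U := Subgroup.zpowers u with hU
  have hUp : IsPGroup p U := S.isPGroup'.to_le (Subgroup.zpowers_le.mpr huS)
  set V := ⁅A, U⁆ with hV
  have hUA : U ≤ Subgroup.normalizer (A : Set G) := Subgroup.zpowers_le.mpr huA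
  have hVA : V ≤ A := Subgroup.le_normalizer_iff_commutator_le_left.1 hUA
  have hPG : IsPGroup p (A ⊔ U : Subgroup G) :=
    S.isPGroup'.to_le (sup_le hAS (Subgroup.zpowers_le.mpr huS))
  have hAUn : A ⊔ U ≤ Subgroup.normalizer (A : Set G) := sup_le Subgroup.le_normalizer hUA
  have hVlt : V < A := lt_of_le_of_lt (Subgroup.commutator_mono le_rfl le_sup_right)
    (Coprime.commutator_lt_of_isPGroup hPG hA.isPGroup hAUn hA.ne_bot)
  have hfix : ∀ v ∈ V, Commute u v := by
    intro v hv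
    rcases eq_or_ne V ⊥ with h0 | h0
    · rw [h0, Subgroup.mem_bot] at hv; rw [hv]; exact Commute.one_right u
    have hVn : A ⊔ U ≤ Subgroup.normalizer (V : Set G) := by
      refine sup_le (fun x hx => ?_) (Subgroup.normalizer_commutator_ge_right A U)
      exact Subgroup.centralizer_le_normalizer _ (Subgroup.centralizer_le hVA (A.le_centralizer hx))
    have h1 : ⁅V, U⁆ < V := lt_of_le_of_lt (Subgroup.commutator_mono le_rfl le_sup_right)
      (Coprime.commutator_lt_of_isPGroup hPG (hA.isPGroup.to_le hVA) hVn h0)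
    have hcard : Nat.card V ≤ p := by
      obtain ⟨k, hk, hk'⟩ := (Nat.dvd_prime_pow hp.out).mp (hA.card ▸ Subgroup.card_dvd_of_le hVA)
      have hlt : Nat.card V < Nat.card A := Set.ncard_lt_ncard (SetLike.coe_ssubset_coe.mpr hVlt)
      rw [hA.card, hk'] at hlt
      have := (Nat.pow_lt_pow_iff_right hp.out.one_lt).mp hlt
      rw [hk']
      nth_rw 2 [← pow_one p]
      exact Nat.pow_le_pow_right hp.out.pos (by omega)
    have h2 : ⁅V, U⁆ = ⊥ := by
      refine Subgroup.eq_bot_of_card_eq _ ?_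
      obtain ⟨k, hk⟩ := ((hPG.to_le (hVA.trans le_sup_left)).to_le h1.le).exists_card_eq
      have hlt : Nat.card ↥⁅V, U⁆ < Nat.card V := Set.ncard_lt_ncard (SetLike.coe_ssubset_coe.mpr h1)
      have h3 : p ^ k < p ^ 1 := by rw [pow_one, ← hk]; exact lt_of_lt_of_le hlt hcard
      have := (Nat.pow_lt_pow_iff_right hp.out.one_lt).mp h3
      rw [hk, show k = 0 by omega, pow_zero]
    exact (Subgroup.mem_centralizer_iff.mp (Subgroup.commutator_eq_bot_iff_le_centralizer.mp h2 hv) u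
      (Subgroup.mem_zpowers u))
  have hmem : ⁅u, a⁆ ∈ V := Coprime.commutatorElement_mem_iff.1
    (Subgroup.commutator_mem_commutator ha (Subgroup.mem_zpowers u))
  exact hDeq.ge ⟨hVA hmem, Subgroup.mem_centralizer_singleton_iff.mpr (hfix _ hmem).symm.eq⟩

/-- An element of `S` normalising but not centralising `A`. -/
theorem exists_u : ∃ u ∈ (S : Subgroup G), u ∈ Subgroup.normalizer (A : Set G) ∧
    (∀ a ∈ A, ⁅u, a⁆ ∈ zLine S) ∧ ∀ a ∈ A, Commute u a → a ∈ zLine S := by
  have hA' := hA.ea.1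
  set C := (S : Subgroup G) ⊓ Subgroup.centralizer (A : Set G) with hC
  have hClt : C < (S : Subgroup G) := lt_of_le_of_ne inf_le_left fun h =>
    not_central hG hA hAS hna (h ▸ inf_le_right)
  obtain ⟨u, hu, huC⟩ := SetLike.exists_of_lt (Coprime.lt_normalizer_inf_of_lt S.isPGroup' hClt)
  obtain ⟨huS, huN⟩ := hu
  have hA' := hA.ea.1
  have huA : u ∈ Subgroup.normalizer (A : Set G) := NormalizerFusion.mem_normalizer_of_conj fun a ha =>
    hA.mem_of_commute (by rw [conj_pow, hA.ea.2 a ha]; group)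
      ((Subgroup.mem_normalizer_iff.mp huN a).mp ⟨hAS ha, A.le_centralizer ha⟩).2
  exact ⟨u, huS, huA, u_props hG hA hAS hna huS huA fun h => huC ⟨huS, h⟩⟩

theorem zLine_le_derived :
    zLine S ≤ ⁅Subgroup.normalizer (A : Set G), Subgroup.normalizer (A : Set G)⁆ := by
  obtain ⟨u, huS, huA, hin, hfix⟩ := exists_u hG hA hAS hna
  obtain ⟨a, ha, haZ⟩ := SetLike.exists_of_lt (lt_of_le_of_ne (zLine_le hA hAS) fun h => by
    have := zLine_card hG hA hAS hna
    rw [h, hA.card] at this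
    nth_rw 2 [← pow_one p] at this
    exact absurd (Nat.pow_right_injective hp.out.two_le this) (by norm_num))
  have hne : ⁅u, a⁆ ≠ 1 := fun h => haZ (hfix a ha (commutatorElement_eq_one_iff_commute.mp h))
  have heq : Subgroup.zpowers ⁅u, a⁆ = zLine S := by
    refine Subgroup.eq_of_le_of_card_ge (Subgroup.zpowers_le.mpr (hin a ha)) ?_
    rw [Nat.card_zpowers, orderOf_eq_prime (mem_zLine.mp (hin a ha)).2.2 hne, zLine_card hG hA hAS hna]
  rw [← heq, Subgroup.zpowers_le]
  exact Subgroup.commutator_mem_commutator huA (Subgroup.le_normalizer ha)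

/-- The lines other than `Ω₁(Z(S))` are conjugate under a normalising element of `S`. -/
theorem lines_conj {u : G} (huS : u ∈ (S : Subgroup G)) (hin : ∀ a ∈ A, ⁅u, a⁆ ∈ zLine S)
    (hfix : ∀ a ∈ A, Commute u a → a ∈ zLine S) {B B' : Subgroup G} (hB : B ≤ A) (hBc : Nat.card B = p)
    (hBne : B ≠ zLine S) (hB' : B' ≤ A) (hB'c : Nat.card B' = p) (hB'ne : B' ≠ zLine S) :
    ∃ i : ℕ, cj (u ^ i) B = B' := by
  have hZc := zLine_card hG hA hAS hna
  have hline : ∀ {L : Subgroup G}, Nat.card L = p → L ≠ zLine S → ∀ x ∈ L, x ≠ 1 → x ∉ zLine S ∧ Subgroup.zpowers x = L := by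
    intro L hL hLne x hx hx1
    haveI := Fact.mk (hL ▸ hp.out)
    have hz : Subgroup.zpowers x = L := Subgroup.eq_of_le_of_card_ge (Subgroup.zpowers_le.mpr hx) (by
      rw [Nat.card_zpowers, hL, ← Subgroup.orderOf_mk x hx,
        orderOf_eq_prime (p := p) (x := (⟨x, hx⟩ : L)) (by rw [← hL]; exact pow_card_eq_one') (fun h => hx1 (congrArg Subtype.val h))])
    exact ⟨fun h => hLne (hz ▸ Subgroup.eq_of_le_of_card_ge (Subgroup.zpowers_le.mpr h) (by rw [hz, hL, hZc])), hz⟩
  obtain ⟨b, hb, hb1⟩ := B.bot_or_exists_ne_one.resolve_left fun h => hp.out.ne_one (by rw [← hBc, h, Subgroup.card_bot])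
  obtain ⟨c, hc, hc1⟩ := B'.bot_or_exists_ne_one.resolve_left fun h => hp.out.ne_one (by rw [← hB'c, h, Subgroup.card_bot])
  obtain ⟨hbZ, hbz⟩ := hline hBc hBne b hb hb1
  obtain ⟨hcZ, hcz⟩ := hline hB'c hB'ne c hc hc1
  set z := ⁅u, b⁆ with hz
  have hzne : z ≠ 1 := fun h => hbZ (hfix b (hB hb) (commutatorElement_eq_one_iff_commute.mp h))
  have hzeq : Subgroup.zpowers z = zLine S := by
    refine Subgroup.eq_of_le_of_card_ge (Subgroup.zpowers_le.mpr (hin b (hB hb))) ?_
    rw [Nat.card_zpowers, orderOf_eq_prime (mem_zLine.mp (hin b (hB hb))).2.2 hzne, hZc]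
  have huz : Commute u z := Subgroup.mem_centralizer_iff.mp (mem_zLine.mp (hin b (hB hb))).2.1 u huS
  have hpow : ∀ i : ℕ, u ^ i * b * (u ^ i)⁻¹ = z ^ i * b := by
    intro i
    induction i with
    | zero => simp
    | succ i ih =>
      calc u ^ (i + 1) * b * (u ^ (i + 1))⁻¹ = u * (u ^ i * b * (u ^ i)⁻¹) * u⁻¹ := by rw [pow_succ']; group
        _ = (u * z ^ i) * b * u⁻¹ := by rw [ih]; group
        _ = z ^ i * (u * b * u⁻¹ * b⁻¹) * b := by rw [(huz.pow_right i).eq]; group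
        _ = z ^ (i + 1) * b := by rw [pow_succ, hz, commutatorElement_def]
  have hAeq : zLine S ⊔ Subgroup.zpowers b = A := by
    refine Subgroup.eq_of_le_of_card_ge (sup_le (zLine_le hA hAS) (Subgroup.zpowers_le.mpr (hB hb))) ?_
    obtain ⟨j, hj⟩ := ((hA.isPGroup).to_le (sup_le (zLine_le hA hAS) (Subgroup.zpowers_le.mpr (hB hb)))).exists_card_eq
    have hlt : Nat.card (zLine S) < Nat.card ↥(zLine S ⊔ Subgroup.zpowers b) := Set.ncard_lt_ncard
      (SetLike.coe_ssubset_coe.mpr (lt_of_le_of_ne le_sup_left fun h => hbZ (h.ge (Subgroup.mem_sup_right (Subgroup.mem_zpowers b)))))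
    rw [hZc, hj] at hlt
    rw [hA.card, hj]
    exact Nat.pow_le_pow_right hp.out.pos ((Nat.pow_lt_pow_iff_right hp.out.one_lt).mp (by rwa [pow_one]))
  have hcA : c ∈ zLine S ⊔ Subgroup.zpowers b := hAeq.ge (hB' hc)
  have hcomm : ∀ a ∈ A, ∀ a' ∈ A, Commute a a' := fun a ha a' ha' =>
    congrArg Subtype.val (hA.ea.1.1.comm ⟨a, ha⟩ ⟨a', ha'⟩)
  have hnorm : Subgroup.zpowers b ≤ Subgroup.normalizer (zLine S : Set G) := Subgroup.zpowers_le.mpr
    (normalizer_le_zLine hG hA hAS hna (Subgroup.le_normalizer (hB hb)))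
  obtain ⟨z', hz', b', hb', hcz'⟩ := (Coprime.mem_sup_of_le_normalizer hnorm).mp hcA
  obtain ⟨i, rfl⟩ := Subgroup.mem_zpowers_iff.mp hb'
  have hb0 : ((i : ℤ) : ZMod p) ≠ 0 := by
    rw [Ne, ZMod.intCast_zmod_eq_zero_iff_dvd]
    intro hd
    refine hcZ ?_
    rw [← hcz', show b ^ i = 1 from orderOf_dvd_iff_zpow_eq_one.mp
      (by rw [orderOf_eq_prime (hA.ea.2 b (hB hb)) hb1]; exact hd), mul_one]
    exact hz'
  set k : ℕ := ((i : ZMod p)⁻¹).val with hk
  have hck : c ^ k = z' ^ k * b := by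
    rw [← hcz', (hcomm z' (zLine_le hA hAS hz') _ (zpow_mem (hB hb) i)).mul_pow]
    congr 1
    rw [← zpow_natCast, ← zpow_mul]
    conv_rhs => rw [← zpow_one b]
    refine zpow_eq_zpow_iff_modEq.mpr ?_
    rw [orderOf_eq_prime (hA.ea.2 b (hB hb)) hb1, ← ZMod.intCast_eq_intCast_iff, Int.cast_mul, Int.cast_natCast,
      hk, ZMod.natCast_zmod_val, mul_inv_cancel₀ hb0, Int.cast_one]
  obtain ⟨j, hj⟩ : ∃ j : ℕ, z' ^ k = z ^ j := by
    have hm : z' ^ k ∈ Submonoid.powers z := mem_powers_iff_mem_zpowers.mpr (hzeq.ge (pow_mem hz' k))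
    obtain ⟨j, hj⟩ := hm
    exact ⟨j, hj.symm⟩
  refine ⟨j, Subgroup.eq_of_le_of_card_ge ?_ (by rw [Subgroup.card_map_of_injective (MulAut.conj (u ^ j)).injective, hBc, hB'c])⟩
  rw [← hbz, cj, MonoidHom.map_zpowers, Subgroup.zpowers_le]
  show u ^ j * b * (u ^ j)⁻¹ ∈ B'
  rw [hpow, ← hj, ← hck]
  exact pow_mem hc k

/-- The centraliser of `A` in `S` is abelian. -/
theorem centralizer_commutative : IsMulCommutative ↥((S : Subgroup G) ⊓ Subgroup.centralizer (A : Set G)) := by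
  set C := (S : Subgroup G) ⊓ Subgroup.centralizer (A : Set G) with hC
  have hp2 := hA.ne_two hG
  by_cases hr : Cfsg.PRankLE p 2 (S : Subgroup G)
  · obtain hc | ⟨P₁, P₂, hsup, hcomm, -, h3, hexp, hcyc, -⟩ := Cfsg.Agent.S1412.result hG p S hr
    · exact absurd hc hna
    set D := P₁ ⊓ Subgroup.centralizer (A : Set G) with hD
    have hP₁S : P₁ ≤ (S : Subgroup G) := hsup ▸ le_sup_left
    have hP₂A : P₂ ≤ Subgroup.normalizer (P₁ : Set G) :=
      (fun b hb => Subgroup.centralizer_le_normalizer _ (Subgroup.mem_centralizer_iff.mpr fun a ha => hcomm a ha b hb))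
    have hP₁p : ∀ x ∈ P₁, x ^ p = 1 := fun x hx => by
      have := Monoid.pow_exponent_eq_one (G := P₁) ⟨x, hx⟩
      rw [hexp] at this
      exact congrArg Subtype.val this
    have hDA : D ≤ A := fun x hx => hA.mem_of_commute (hP₁p x hx.1) hx.2
    have hP₂c : P₂ ≤ Subgroup.centralizer (A : Set G) := by
      intro b hb
      have hAP : ∀ a ∈ A, a ∈ P₁ ⊔ P₂ := fun a ha => hsup.ge (hAS ha)
      refine Subgroup.mem_centralizer_iff.mpr fun a ha => ?_
      obtain ⟨v, hv, w, hw, rfl⟩ := (Coprime.mem_sup_of_le_normalizer hP₂A).mp (hAP a ha)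
      haveI := hcyc
      have h1 : Commute w b := comm_of inferInstance hw hb
      exact (Commute.mul_left (hcomm v hv b hb) h1).eq
    refine ⟨⟨?_⟩⟩
    rintro ⟨x, hxS, hxC⟩ ⟨y, hyS, hyC⟩
    obtain ⟨v, hv, w, hw, rfl⟩ := (Coprime.mem_sup_of_le_normalizer hP₂A).mp (hsup.ge hxS)
    obtain ⟨v', hv', w', hw', rfl⟩ := (Coprime.mem_sup_of_le_normalizer hP₂A).mp (hsup.ge hyS)
    have hvC : v ∈ D := ⟨hv, by simpa using Subgroup.mul_mem _ hxC (Subgroup.inv_mem _ (hP₂c hw))⟩
    have hvC' : v' ∈ D := ⟨hv', by simpa using Subgroup.mul_mem _ hyC (Subgroup.inv_mem _ (hP₂c hw'))⟩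
    have e1 : Commute v v' := congrArg Subtype.val (hA.ea.1.1.comm ⟨v, hDA hvC⟩ ⟨v', hDA hvC'⟩)
    haveI := hcyc
    have e2 : Commute w w' := comm_of inferInstance hw hw'
    have e3 : Commute v w' := hcomm v hv w' hw'
    have e4 : Commute w v' := (hcomm v' hv' w hw : Commute v' w).symm
    exact Subtype.ext ((e1.mul_right e3).mul_left (e4.mul_right e2)).eq
  · obtain ⟨R₀, R₁, hR0, -, hcyc, -, hcomm, hsup⟩ := NarrowMaximal.exists_split (R := (S : Subgroup G)) hp2 S.isPGroup'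
      (Fusion.Thompson.isEA_subgroupOf hA.ea (S : Subgroup G))
      (by rw [Nat.card_congr (Subgroup.subgroupOfEquivOfLe hAS).toEquiv, hA.card])
      (fun B hB hle => by
        refine le_antisymm (fun x hx => ?_) hle
        exact (hA.max _ (Fusion.Thompson.isEA_map _ hB) (fun a ha => ⟨⟨a, hAS ha⟩, hle ha, rfl⟩)).le
          (Subgroup.mem_map_of_mem _ hx)) hr
    have hR₁n : R₁ ≤ Subgroup.normalizer (R₀ : Set (S : Subgroup G)) := fun b hb =>
      Subgroup.centralizer_le_normalizer _ (Subgroup.mem_centralizer_iff.mpr fun a ha => hcomm a ha b hb)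
    refine ⟨⟨?_⟩⟩
    rintro ⟨x, hxS, hxC⟩ ⟨y, hyS, hyC⟩
    have hmem : ∀ (t : G) (htS : t ∈ (S : Subgroup G)), t ∈ Subgroup.centralizer (A : Set G) →
        (⟨t, htS⟩ : (S : Subgroup G)) ∈ R₀ ⊔ R₁ := fun t htS htC => hsup.ge
      (Subgroup.mem_centralizer_iff.mpr fun a ha => Subtype.ext (Subgroup.mem_centralizer_iff.mp htC a (hR0 ha)))
    obtain ⟨v, hv, w, hw, e⟩ := (Coprime.mem_sup_of_le_normalizer hR₁n).mp (hmem x hxS hxC)
    obtain ⟨v', hv', w', hw', e'⟩ := (Coprime.mem_sup_of_le_normalizer hR₁n).mp (hmem y hyS hyC)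
    have e1 : Commute v v' := Subtype.ext (comm_of hA.ea.1 (hR0 hv) (hR0 hv')).eq
    haveI := hcyc
    have e2 : Commute w w' := comm_of inferInstance hw hw'
    have e3 : Commute v w' := hcomm v hv w' hw'
    have e4 : Commute w v' := (hcomm v' hv' w hw : Commute v' w).symm
    have := (e1.mul_right e3).mul_left (e4.mul_right e2)
    rw [e, e'] at this
    have h9 : x * y = y * x := congrArg Subtype.val this.eq
    exact Subtype.ext h9

end CfsgLib.OddOrder.PlaneSylow
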