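import Cfsg.Agent.Lib.OddOrder.PrimeActionTools
import Cfsg.Agent.Lib.OddOrder.CyclicFix
import Mathlib

set_option autoImplicit false
set_option linter.style.haveILetI false
set_option linter.unusedSectionVars false

/-!
Prime action on `M_σ`: fixed points of a `τ₁`-subgroup of prime order are centralised by the subgroups of prime
order of its centraliser in a complement.
-/

namespace CfsgLib.OddOrder.PrimeAction

open scoped commutatorElement
open SigmaFusion (cj)
open Exceptional (Exc)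
open PrimeActionTools

variable {G : Type*} [Group G] [Finite G]

/-- A counterexample. -/
structure Cfg (p r q : ℕ) (M P R X : Subgroup G) : Prop where
  hM : IsCoatom M
  hp : p ∈ Cfsg.tau1 M
  hrs : r ∉ Cfsg.sigma M
  hqs : q ∈ Cfsg.sigma M
  hPM : P ≤ M
  hPc : Nat.card P = p
  hRM : R ≤ M
  hRc : Nat.card R = r
  hRP : R ≤ Subgroup.centralizer (P : Set G)
  hXp : IsPGroup q X
  hXM : X ≤ M
  hXP : X ≤ Subgroup.centralizer (P : Set G)
  hRX : R ≤ Subgroup.normalizer (X : Set G)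
  hX1 : X ≠ ⊥
  hXR : ⁅X, R⁆ = X

variable {p r q : ℕ} [hp : Fact p.Prime] [hrf : Fact r.Prime] [hqf : Fact q.Prime] {M L P R X : Subgroup G}

theorem pGroup_dvd {t : ℕ} [Fact t.Prime] {Y : Subgroup G} (hY : IsPGroup t Y) {s : ℕ} (hs : s.Prime)
    (hd : s ∣ Nat.card Y) : s = t := by
  obtain ⟨k, hk⟩ := hY.exists_card_eq
  rw [hk] at hd
  exact (Nat.prime_dvd_prime_iff_eq hs Fact.out).mp (hs.dvd_of_dvd_pow hd)

theorem le_betaCore {t : ℕ} [Fact t.Prime] (hG : Cfsg.IsMinSimpleOddOrder G) (hL : IsCoatom L)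
    (hb : t ∈ Cfsg.beta L) {Y : Subgroup G} (hY : IsPGroup t Y) (hYL : Y ≤ L) :
    Y ≤ Cfsg.piCoreOf (Cfsg.beta L) L := by
  suffices hs : Y.subgroupOf L ≤ Cfsg.piCore (Cfsg.beta L) L from fun x hx => ⟨⟨x, hYL hx⟩, hs hx, rfl⟩
  refine SigmaCore.le_of_coprime_index (Nat.coprime_of_dvd fun s hs h1 h2 => ?_)
  rw [Nat.card_congr (Subgroup.subgroupOfEquivOfLe hYL).toEquiv] at h1
  obtain rfl := pGroup_dvd hY hs h1
  exact BetaCore.not_dvd_index hG hL hb h2

theorem exists_sylow_ge {t : ℕ} [Fact t.Prime] (hts : t ∈ Cfsg.sigma L) {Y : Subgroup G} (hY : IsPGroup t Y)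
    (hYL : Y ≤ L) : ∃ T : Sylow t G, Y ≤ (T : Subgroup G) ∧ (T : Subgroup G) ≤ L := by
  obtain ⟨S₀, hS₀L, -⟩ := SigmaFusion.exists_sylow_sigma hts
  obtain ⟨Q, hQ⟩ := (hY.of_equiv (Subgroup.subgroupOfEquivOfLe hYL).symm).exists_le_sylow
  obtain ⟨m, hm⟩ := MulAction.exists_smul_eq L (S₀.subtype hS₀L) Q
  refine ⟨(m : G) • S₀, ?_, ?_⟩
  · have h1 := congrArg (fun S : Sylow t L => (S : Subgroup L).map L.subtype) hm
    simp only [Coprime.map_smul_sylow, Sylow.coe_subtype, Subgroup.subgroupOf_map_subtype] at h1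
    rw [inf_eq_left.2 hS₀L] at h1
    rw [Sylow.coe_subgroup_smul]
    exact fun x hx => h1.ge ⟨⟨x, hYL hx⟩, hQ (Subgroup.mem_subgroupOf.mpr hx), rfl⟩
  · rw [Sylow.coe_subgroup_smul]
    exact (Subgroup.map_mono hS₀L).trans (Subgroup.mem_normalizer_iff_map_conj_eq.mp (Subgroup.le_normalizer m.2)).le

/-- An element generating a subgroup of prime order. -/
theorem exists_gen {t : ℕ} [ht : Fact t.Prime] {Y : Subgroup G} (hY : Nat.card Y = t) :
    ∃ x ∈ Y, orderOf x = t ∧ Subgroup.zpowers x = Y := by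
  obtain ⟨y, hy⟩ := exists_prime_orderOf_dvd_card' (G := Y) t (hY ▸ dvd_rfl)
  have hy' : orderOf (y : G) = t := by rw [Subgroup.orderOf_coe, hy]
  exact ⟨y, y.2, hy', Subgroup.eq_of_le_of_card_ge (Subgroup.zpowers_le.mpr y.2) (by rw [Nat.card_zpowers, hy', hY])⟩

/-- Two subgroups of order `t` that commute coincide when the `t`-rank is one. -/
theorem eq_of_rank_one {t : ℕ} [ht : Fact t.Prime] (h : Cfsg.PRankLE t 1 M) {Y Z : Subgroup G}
    (hY : Nat.card Y = t) (hZ : Nat.card Z = t) (hYM : Y ≤ M) (hZM : Z ≤ M)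
    (hc : Y ≤ Subgroup.centralizer (Z : Set G)) : Y = Z := by
  have hea : ∀ {W : Subgroup G}, Nat.card W = t → Cfsg.IsElementaryAbelian t W := fun {W} hW => by
    haveI : IsCyclic W := isCyclic_of_prime_card (p := t) hW
    exact ⟨inferInstance, fun x hx => by
      have := pow_card_eq_one' (x := (⟨x, hx⟩ : W))
      rw [hW] at this
      exact congrArg Subtype.val this⟩
  by_contra hne
  refine UniqueTools.not_pRankLE_of_isEA (Replacement.isEA_sup (hea hY) (hea hZ) hc) ?_ (sup_le hYM hZM) h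
  refine SigmaUnique.card_succ_le (Replacement.isEA_sup (hea hY) (hea hZ) hc) (k := 1) ?_
  rw [pow_one]
  exact hY.symm.le.trans_lt (SigmaUnique.card_lt_sup fun hle => hne (Subgroup.eq_of_le_of_card_ge hle (by rw [hY, hZ])).symm)

theorem derived_abelian (hG : Cfsg.IsMinSimpleOddOrder G) (hL : IsCoatom L) {F : Subgroup G}
    (hF : Cfsg.IsComplIn F (Cfsg.sigmaCore L) L) : IsMulCommutative ↥⁅F, F⁆ := by
  haveI := SigmaComplement.derived_isNilpotent hG hL hF
  refine TauTwoAbelian.nilpotent_abelian hG hL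
    ((SigmaComplement.derived_le_self F).trans hF.1) fun t ht hd hts => ?_
  haveI := Fact.mk ht
  exact SigmaComplement.not_dvd_card hG hL hF hts (hd.trans (Subgroup.card_dvd_of_le (SigmaComplement.derived_le_self F)))

theorem Cfg.p_ne_q (h : Cfg p r q M P R X) : p ≠ q := fun e => h.hp.2.1 (e ▸ h.hqs)

theorem Cfg.q_ne_r (h : Cfg p r q M P R X) : q ≠ r := fun e => h.hrs (e ▸ h.hqs)

theorem Cfg.p_ne_r (h : Cfg p r q M P R X) : p ≠ r := by
  intro e
  have hRP := eq_of_rank_one h.hp.2.2.2.2 (e ▸ h.hRc) h.hPc h.hRM h.hPM h.hRP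
  apply h.hX1
  rw [← h.hXR, Subgroup.commutator_eq_bot_iff_le_centralizer, hRP]
  exact h.hXP

theorem Cfg.sup_dvd (h : Cfg p r q M P R X) {t : ℕ} (ht : t.Prime) (hd : t ∣ Nat.card ↥(X ⊔ R)) : t = q ∨ t = r := by
  have hbot : Disjoint X R := by
    obtain ⟨i, hi⟩ := h.hXp.exists_card_eq
    refine Subgroup.disjoint_of_coprime_natCard ?_
    rw [hi, h.hRc]
    exact ((Nat.coprime_primes hqf.out hrf.out).mpr h.q_ne_r).pow_left i
  rw [Coprime.card_sup_of_le_normalizer h.hRX hbot] at hd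
  rcases ht.dvd_mul.mp hd with hh | hh
  · exact Or.inl (pGroup_dvd h.hXp ht hh)
  · rw [h.hRc] at hh
    exact Or.inr ((Nat.prime_dvd_prime_iff_eq ht hrf.out).mp hh)

/-- If `q, r ∉ σ(L)`, some complement contains `R` and has `X` in its derived subgroup. -/
theorem Cfg.exists_F (hG : Cfsg.IsMinSimpleOddOrder G) (h : Cfg p r q M P R X) (hL : IsCoatom L) (hXL : X ≤ L)
    (hRL : R ≤ L) (hq : q ∉ Cfsg.sigma L) (hr : r ∉ Cfsg.sigma L) :
    ∃ F : Subgroup G, Cfsg.IsComplIn F (Cfsg.sigmaCore L) L ∧ R ≤ F ∧ X ≤ F ∧ X ≤ ⁅F, F⁆ := by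
  obtain ⟨F, hF, hle⟩ := Coprime.exists_hall_ge {t | t ∉ Cfsg.sigma L} (hG.2.2.2 L hL.1) (sup_le hXL hRL)
    (fun t ht hd => (h.sup_dvd ht hd).elim (fun e => e ▸ hq) (fun e => e ▸ hr))
  obtain ⟨hXF, hRF⟩ := sup_le_iff.mp hle
  exact ⟨F, SylowCentral.isComplIn_of_hall hG hL hF, hRF, hXF, h.hXR.ge.trans (Subgroup.commutator_mono hXF hRF)⟩

/-- The facts about a maximal subgroup over `N(P)`. -/
theorem Cfg.le_L (h : Cfg p r q M P R X) (hNP : Subgroup.normalizer (P : Set G) ≤ L) :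
    P ≤ L ∧ R ≤ L ∧ X ≤ L :=
  ⟨Subgroup.le_normalizer.trans hNP, (h.hRP.trans (Subgroup.centralizer_le_normalizer _)).trans hNP,
    (h.hXP.trans (Subgroup.centralizer_le_normalizer _)).trans hNP⟩

theorem Cfg.ne (hG : Cfsg.IsMinSimpleOddOrder G) (h : Cfg p r q M P R X)
    (hNP : Subgroup.normalizer (P : Set G) ≤ L) : L ≠ M := fun e =>
  (TauTwo.of_normalizer_le hG h.hM h.hp.2.1 h.hPc (e ▸ hNP)).1.2 h.hp.2.2.2.2

theorem Cfg.abelian (hG : Cfsg.IsMinSimpleOddOrder G) (h : Cfg p r q M P R X) (hL : IsCoatom L)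
    (hNP : Subgroup.normalizer (P : Set G) ≤ L) : IsMulCommutative X := by
  by_contra hna
  obtain ⟨U, -, hU⟩ := NonabelianUnique.main hG h.hXp hna
  exact h.ne hG hNP ((hU L ⟨hL, (h.le_L hNP).2.2⟩).trans (hU M ⟨h.hM, h.hXM⟩).symm)

theorem Cfg.fpf (hG : Cfsg.IsMinSimpleOddOrder G) (h : Cfg p r q M P R X) (hL : IsCoatom L)
    (hNP : Subgroup.normalizer (P : Set G) ≤ L) {x : G} (hx : Subgroup.zpowers x = R) :
    X ⊓ Subgroup.centralizer ({x} : Set G) = ⊥ := by
  haveI := h.abelian hG hL hNP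
  have hcop : (Nat.card R).Coprime (Nat.card X) := by
    obtain ⟨i, hi⟩ := h.hXp.exists_card_eq
    rw [hi, h.hRc]
    exact ((Nat.coprime_primes hrf.out hqf.out).mpr h.q_ne_r.symm).pow_right i
  have h1 := Coprime.centralizer_inf_commutator_eq_bot h.hRX hcop
  rw [h.hXR, inf_eq_left.mpr inf_le_left, ← hx, SigmaTools.centralizer_zpowers] at h1
  exact h1

/-- No plane of `C(X)` unless `p` is ideal. -/
theorem Cfg.of_plane (hG : Cfsg.IsMinSimpleOddOrder G) (h : Cfg p r q M P R X) {B : Subgroup G}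
    (hBX : B ≤ Subgroup.centralizer (X : Set G)) (hBe : Cfsg.IsElementaryAbelian p B) (hBc : Nat.card B = p ^ 2)
    (hni : ¬ Cfsg.IsIdealPrime p G) : False := by
  have hBM : ¬ B ≤ M := fun hBM => UniqueTools.not_pRankLE_of_isEA hBe hBc.ge hBM h.hp.2.2.2.2
  obtain ⟨H, hH, hNH⟩ := Uniqueness.exists_coatom_normalizer (p := q) hG.2 h.hX1 h.hXp
  have hCH : Subgroup.centralizer (X : Set G) ≤ H := (Subgroup.centralizer_le_normalizer _).trans hNH
  have hBH : B ≤ H := hBX.trans hCH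
  have hne : H ≠ M := fun e => hBM (e ▸ hBH)
  obtain ⟨R₁, -, hS⟩ := SigmaIntersection.exists_setup hG h.hM h.hqs h.hXp h.hX1 h.hXM hH hne hNH
  have hH1 : ¬ Cfsg.PRankLE p 1 H := UniqueTools.not_pRankLE_of_isEA hBe hBc.ge hBH
  by_cases hqH : q ∈ Cfsg.sigma H
  · by_cases hd : p ∣ (M ⊓ H).relIndex H
    · exact hni (dvd_beta hG hS hqH hp.out hd).2
    · exact hH1 (rank_of_not_dvd inf_le_right hd (rank_mono inf_le_left h.hp.2.2.2.2))
  · obtain ⟨hτ, -, E, hE, hEM⟩ := hS.tau_case hG hqH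
    by_cases hpH : p ∈ Cfsg.sigma H
    · obtain ⟨A, hAE, hAe, hAc⟩ := TauTwoAbelian.exists_plane hE hτ
      obtain ⟨A₀, hexc⟩ := TauTwoStructure.exists_exc hG hH hqH (hAE.trans hE.1) hAe hAc
      exact kill hG hexc (hAE.trans hEM) h.hPM ((Subgroup.le_centralizer_iff.mp h.hXP).trans hCH) h.hPc hpH
        h.hp.2.2.2.1
    · exact hH1 (rank_of_not_dvd hE.1 ((ComplementHall.isHall hG hH hE).2.2 p hp.out hpH)
        (rank_mono hEM h.hp.2.2.2.2))

theorem Cfg.p_mem_sigma (hG : Cfsg.IsMinSimpleOddOrder G) (h : Cfg p r q M P R X) (hL : IsCoatom L)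
    (hNP : Subgroup.normalizer (P : Set G) ≤ L) : p ∈ Cfsg.sigma L := by
  by_contra hpL
  obtain ⟨B₁, hB₁⟩ := CyclicFix.exists_exc_through hG hL hpL h.hPc hNP
  haveI := hB₁.sigma_nilpotent hG
  have hr2 := hB₁.rank_two hG
  have hr1 := UniqueTools.not_pRankLE_of_isEA (k := 1) hB₁.ea hB₁.card.ge hB₁.le
  have hqL : q ∉ Cfsg.sigma L := fun hq => by
    obtain ⟨x, hx⟩ := PlaneMaximal.exists_cj_of_nilpotent hG hL hq h.hM h.hqs
    exact UniqueTools.not_pRankLE_of_isEA (k := 1) (Fusion.Thompson.isEA_map (MulAut.conj x).toMonoidHom hB₁.ea)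
      (by rw [Subgroup.card_map_of_injective (MulAut.conj x).injective, hB₁.card])
      ((Subgroup.map_mono hB₁.le).trans hx.ge) h.hp.2.2.2.2
  obtain ⟨-, hRL, hXL⟩ := h.le_L hNP
  by_cases hrL : r ∈ Cfsg.sigma L
  · apply h.hX1
    obtain ⟨k, hk⟩ := h.hXp.exists_card_eq
    rw [← le_bot_iff, ← (Subgroup.disjoint_of_coprime_natCard
      (hk ▸ ((SigmaTools.coprime_sigmaCore hqL).symm.pow_left k))).eq_bot]
    refine le_inf le_rfl (h.hXR.ge.trans ?_)
    exact (Subgroup.commutator_mono le_rfl (SigmaTools.pGroup_le_sigmaCore hG hL hrL hRL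
      (IsPGroup.of_card (n := 1) (by rw [h.hRc, pow_one])))).trans
      (Subgroup.le_normalizer_iff_commutator_le_right.1 (hXL.trans (SigmaTools.le_normalizer_sigmaCore L)))
  obtain ⟨F, hF, -, hXF, hXF'⟩ := h.exists_F hG hL hXL hRL hqL hrL
  obtain ⟨B, hBF, hBe, hBc⟩ := TauTwoAbelian.exists_plane hF ⟨hp.out, hpL, hr2, hr1⟩
  obtain ⟨A₀, hexc⟩ := TauTwoStructure.exists_exc hG hL hpL (hBF.trans hF.1) hBe hBc
  refine h.of_plane hG (centralizes_of_derived (derived_abelian hG hL hF) hXF' hBF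
    (hXF.trans (TauTwoStructure.normal_in_complement hG hexc hF hBF)) ?_) hBe hBc (TauTwo.not_ideal hG hL hr2 hr1)
  obtain ⟨i, hi⟩ := h.hXp.exists_card_eq
  rw [hi, hBc]
  exact ((Nat.coprime_primes hqf.out hp.out).mpr h.p_ne_q.symm).pow i 2

theorem Cfg.not_cj (hG : Cfsg.IsMinSimpleOddOrder G) (h : Cfg p r q M P R X) (hL : IsCoatom L)
    (hNP : Subgroup.normalizer (P : Set G) ≤ L) (x : G) : M ≠ cj x L := fun e =>
  h.hp.2.1 (e ▸ SigmaTools.sigma_cj (h.p_mem_sigma hG hL hNP) x)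

theorem Cfg.not_alpha (hG : Cfsg.IsMinSimpleOddOrder G) (h : Cfg p r q M P R X) (hL : IsCoatom L)
    (hNP : Subgroup.normalizer (P : Set G) ≤ L) : q ∉ Cfsg.alpha L := fun ha => by
  obtain ⟨x, hx⟩ := SigmaTools.exists_cj_of_alpha hG hL h.hM ha h.hqs
  exact h.not_cj hG hL hNP x hx

theorem Cfg.r_not_sigma (hG : Cfsg.IsMinSimpleOddOrder G) (h : Cfg p r q M P R X) (hL : IsCoatom L)
    (hNP : Subgroup.normalizer (P : Set G) ≤ L) : r ∉ Cfsg.sigma L := fun hrL => by
  obtain ⟨-, hRL, hXL⟩ := h.le_L hNP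
  have hRp : IsPGroup r R := IsPGroup.of_card (n := 1) (by rw [h.hRc, pow_one])
  apply h.hX1
  by_cases hqL : q ∈ Cfsg.sigma L
  · rw [← h.hXR, Subgroup.commutator_eq_bot_iff_le_centralizer]
    exact Subgroup.le_centralizer_iff.mp (CyclicFix.centralizes_of_not_beta hG hL h.q_ne_r
      (fun hb => h.not_alpha hG hL hNP hb.1) h.hXp hRp
      ((SigmaTools.pGroup_le_sigmaCore hG hL hqL hXL h.hXp).trans (SigmaCore.le_derived hG hL))
      ((SigmaTools.pGroup_le_sigmaCore hG hL hrL hRL hRp).trans (SigmaCore.le_derived hG hL)) h.hRX)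
  · obtain ⟨k, hk⟩ := h.hXp.exists_card_eq
    rw [← le_bot_iff, ← (Subgroup.disjoint_of_coprime_natCard
      (hk ▸ ((SigmaTools.coprime_sigmaCore hqL).symm.pow_left k))).eq_bot]
    refine le_inf le_rfl (h.hXR.ge.trans ?_)
    exact (Subgroup.commutator_mono le_rfl (SigmaTools.pGroup_le_sigmaCore hG hL hrL hRL hRp)).trans
      (Subgroup.le_normalizer_iff_commutator_le_right.1 (hXL.trans (SigmaTools.le_normalizer_sigmaCore L)))

/-- `p ∈ β(L)`. -/
theorem Cfg.p_mem_beta (hG : Cfsg.IsMinSimpleOddOrder G) (h : Cfg p r q M P R X) (hL : IsCoatom L)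
    (hNP : Subgroup.normalizer (P : Set G) ≤ L) : p ∈ Cfsg.beta L := by
  by_contra hpb
  obtain ⟨hPL, hRL, hXL⟩ := h.le_L hNP
  have hps := h.p_mem_sigma hG hL hNP
  have hPp : IsPGroup p P := IsPGroup.of_card (n := 1) (by rw [h.hPc, pow_one])
  have hDL : ⁅L, L⁆ ≤ L := SigmaComplement.derived_le_self L
  have hPD : P ≤ ⁅L, L⁆ := (SigmaTools.pGroup_le_sigmaCore hG hL hps hPL hPp).trans (SigmaCore.le_derived hG hL)
  have hXD : X ≤ ⁅L, L⁆ := h.hXR.ge.trans (Subgroup.commutator_mono hXL hRL)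
  by_cases hqL : q ∈ Cfsg.sigma L
  · -- `L = (Mʸ ∩ L) L_β` makes `|L'|` prime to `p`
    obtain ⟨S₀, hS₀M, -⟩ := SigmaFusion.exists_sylow_sigma h.hqs
    obtain ⟨S, hSL, hNS⟩ := SigmaFusion.exists_sylow_sigma hqL
    obtain ⟨y, hy⟩ := MulAction.exists_smul_eq G S₀ S
    have hSy : (S : Subgroup G) ≤ cj y M := by
      rw [← hy, Sylow.coe_subgroup_smul]; exact Subgroup.map_mono hS₀M
    have hys := SigmaTools.sigma_cj h.hqs y
    have hS : SigmaIntersection.Setup q (cj y M) L (S : Subgroup G) :=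
      ⟨SigmaFusion.isCoatom_cj h.hM y, hL, hys, fun g e => SigmaTools.not_sigma_cj h.hp.2.1 (g * y)
        (by rw [← SigmaFusion.cj_cj, show cj g (cj y M) = L from e.symm]; exact hps),
        S.isPGroup', le_inf hSy hSL,
        fun e => hqf.out.not_dvd_one (by
          have := (Subgroup.card_dvd_of_le (le_refl (S : Subgroup G)))
          have hd : q ∣ Nat.card (S : Subgroup G) := by
            rcases S.isPGroup'.card_eq_or_dvd with h1 | h1
            · exfalso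
              have := S.not_dvd_index
              rw [Subgroup.eq_bot_of_card_eq _ h1, Subgroup.index_bot] at this
              exact this (SigmaTools.sigma_dvd hqL)
            · exact h1
          rwa [e, Subgroup.card_bot] at hd),
        SigmaTools.normalizer_sylow_le hys S hSy,
        fun hd => S.not_dvd_index (hd.trans (Subgroup.relIndex_dvd_index_of_le hSL)), fun _ => hNS⟩
    refine not_dvd_derived (M := cj y M) inf_le_right (Subgroup.map_subtype_le _)
      (Transitivity.le_normalizer_piCoreOf (Cfsg.beta L) L) (hS.sigma_case hG hqL)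
      (fun hd => hpb (SigmaBasics.mem_of_dvd_piCore hp.out (BetaCore.card_eq L _ ▸ hd))) inf_le_left ?_
      (h.hPc ▸ Subgroup.card_dvd_of_le hPD)
    show ¬ p ∣ Nat.card ↥⁅M.map (MulAut.conj y).toMonoidHom, M.map (MulAut.conj y).toMonoidHom⁆
    rw [← Subgroup.map_commutator, Subgroup.card_map_of_injective (MulAut.conj y).injective]
    exact h.hp.2.2.2.1
  -- a Sylow subgroup centralised by `X`
  have hqb : q ∉ Cfsg.beta L := fun hb => h.not_alpha hG hL hNP hb.1
  have hXP' : Disjoint X P := by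
    obtain ⟨i, hi⟩ := h.hXp.exists_card_eq
    refine Subgroup.disjoint_of_coprime_natCard ?_
    rw [hi, h.hPc]
    exact ((Nat.coprime_primes hqf.out hp.out).mpr h.p_ne_q.symm).pow_left i
  have hPX : P ≤ Subgroup.centralizer (X : Set G) := Subgroup.le_centralizer_iff.mp h.hXP
  obtain ⟨H', hH', hle⟩ := Coprime.exists_hall_ge {t | t ∉ Cfsg.beta L}
    (hG.2.2.2 _ fun e => hL.1 (top_le_iff.mp (e ▸ hDL))) (sup_le hXD hPD) (fun t ht hd => by
      rw [Coprime.card_sup_of_le_normalizer (hPX.trans (Subgroup.centralizer_le_normalizer _)) hXP'] at hd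
      rcases ht.dvd_mul.mp hd with hh | hh
      · exact pGroup_dvd h.hXp ht hh ▸ hqb
      · exact pGroup_dvd hPp ht hh ▸ hpb)
  obtain ⟨hXH', hPH'⟩ := sup_le_iff.mp hle
  haveI := BetaCore.isNilpotent_of_le_derived hG hL hH'.1 hH'.2.1
  obtain ⟨W₀, hW₀⟩ := (hPp.of_equiv (Subgroup.subgroupOfEquivOfLe hPH').symm).exists_le_sylow
  obtain ⟨T, hT⟩ := (W₀.isPGroup'.map H'.subtype).exists_le_sylow
  have hTe : (T : Subgroup G) = (W₀ : Subgroup H').map H'.subtype := by
    refine (Subgroup.eq_of_le_of_card_ge hT ?_).symm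
    obtain ⟨S₁, hS₁L, -⟩ := SigmaFusion.exists_sylow_sigma hps
    have h1 := (SigmaTools.pGroup_le_sigmaCore hG hL hps hS₁L S₁.isPGroup').trans (SigmaCore.le_derived hG hL)
    have h2 := Subgroup.card_dvd_of_le h1
    rw [← Coprime.card_mul_relIndex_eq hH'.1, ← Subgroup.card_mul_index (W₀ : Subgroup H'),
      ← Subgroup.card_map_of_injective (K := (W₀ : Subgroup H')) H'.subtype_injective] at h2
    obtain ⟨k, hk⟩ := S₁.isPGroup'.exists_card_eq
    have hcop : ∀ n, ¬ p ∣ n → (Nat.card (S₁ : Subgroup G)).Coprime n := fun n hn => by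
      rw [hk]; exact ((hp.out.coprime_iff_not_dvd).mpr hn).pow_left k
    have h3 := (hcop _ W₀.not_dvd_index).dvd_of_dvd_mul_right
      ((hcop _ (hH'.2.2 p hp.out hpb)).dvd_of_dvd_mul_right h2)
    rw [T.card_eq_multiplicity, ← S₁.card_eq_multiplicity]
    exact Nat.le_of_dvd Nat.card_pos h3
  have hTH' : (T : Subgroup G) ≤ H' := hTe ▸ Subgroup.map_subtype_le _
  have hPT : P ≤ (T : Subgroup G) := hTe ▸ fun x hx => ⟨⟨x, hPH' hx⟩, hW₀ (Subgroup.mem_subgroupOf.mpr hx), rfl⟩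
  have hTX : (T : Subgroup G) ≤ Subgroup.centralizer (X : Set G) := fun w hw =>
    Subgroup.mem_centralizer_iff.mpr fun x hx => (Basic.commute_of_mem_nilpotent (hXH' hx) (hTH' hw) (by
      obtain ⟨i, hi⟩ := IsPGroup.iff_orderOf.mp h.hXp ⟨x, hx⟩
      obtain ⟨j, hj⟩ := IsPGroup.iff_orderOf.mp T.isPGroup' ⟨w, hw⟩
      rw [Subgroup.orderOf_mk] at hi hj
      rw [hi, hj]
      exact ((Nat.coprime_primes hqf.out hp.out).mpr h.p_ne_q.symm).pow i j)).eq
  have hTL : (T : Subgroup G) ≤ L := hTH'.trans (hH'.1.trans hDL)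
  have hideal : Cfsg.IsIdealPrime p G → False := fun hi => hpb ⟨⟨hp.out, fun hr =>
    hi.2.1 (SigmaFusion.pRankLE_of_sylow T (rank_mono hTL hr))⟩, hi⟩
  have hp2 : p ≠ 2 := fun e => Nat.not_even_iff_odd.mpr hG.1 (even_iff_two_dvd.mpr (e ▸ SigmaTools.sigma_dvd hps))
  by_cases hcyc : IsCyclic (T : Subgroup G)
  swap
  · obtain ⟨B, hBT, hBe, hBc⟩ := NonabelianUnique.exists_plane_le hp2 T.isPGroup' hcyc
    exact h.of_plane hG (hBT.trans hTX) hBe hBc hideal
  have hni : ¬ Cfsg.IsIdealPrime p G := hideal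
  obtain ⟨H, hH, hNH⟩ := Uniqueness.exists_coatom_normalizer (p := q) hG.2 h.hX1 h.hXp
  have hCH : Subgroup.centralizer (X : Set G) ≤ H := (Subgroup.centralizer_le_normalizer _).trans hNH
  -- `p ∤ |H'|`
  have hdH : ¬ p ∣ Nat.card ↥⁅H, H⁆ := by
    by_cases hne : H = M
    · rw [hne]; exact h.hp.2.2.2.1
    obtain ⟨R₁, -, hS⟩ := SigmaIntersection.exists_setup hG h.hM h.hqs h.hXp h.hX1 h.hXM hH hne hNH
    by_cases hqH : q ∈ Cfsg.sigma H
    · exact not_dvd_derived inf_le_right (Subgroup.map_subtype_le _)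
        (Transitivity.le_normalizer_piCoreOf (Cfsg.beta H) H) (hS.sigma_case hG hqH)
        (fun hd => hni (SigmaBasics.mem_of_dvd_piCore hp.out (BetaCore.card_eq H _ ▸ hd)).2) inf_le_left
        h.hp.2.2.2.1
    · obtain ⟨hτ, -, E, hE, hEM⟩ := hS.tau_case hG hqH
      by_cases hpH : p ∈ Cfsg.sigma H
      · obtain ⟨A, hAE, hAe, hAc⟩ := TauTwoAbelian.exists_plane hE hτ
        obtain ⟨A₀, hexc⟩ := TauTwoStructure.exists_exc hG hH hqH (hAE.trans hE.1) hAe hAc
        exact (kill hG hexc (hAE.trans hEM) h.hPM (hPX.trans hCH) h.hPc hpH h.hp.2.2.2.1).elim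
      · exact not_dvd_derived hE.1 (SigmaTools.sigmaCore_le H) (SigmaTools.le_normalizer_sigmaCore H)
          (Basic.IsComplIn.eq_sup hE).le (fun hd => hpH (SigmaTools.mem_sigma_of_card hd)) hEM h.hp.2.2.2.1
  -- `N_L(T)` centralises `T`
  set N := L ⊓ Subgroup.normalizer ((T : Subgroup G) : Set G) with hN
  set C₀ := ⁅L, L⁆ ⊓ Subgroup.centralizer ((T : Subgroup G) : Set G) with hC₀
  have hC₀N : C₀ ≤ N := inf_le_inf hDL (Subgroup.centralizer_le_normalizer _)
  have hXC : X ≤ C₀ := le_inf hXD (Subgroup.le_centralizer_iff.mp hTX)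
  have hNC : N ≤ Subgroup.centralizer ((T : Subgroup G) : Set G) := by
    intro n hn
    haveI : (C₀.subgroupOf N).Normal := (Subgroup.normal_subgroupOf_iff_le_normalizer hC₀N).mpr
      ((inf_le_inf (WLine.le_normalizer_derived L) (WLine.normalizer_le_normalizer_centralizer _)).trans
        Subgroup.inf_normalizer_le_normalizer_inf)
    set X₁ := X.subgroupOf N with hX₁
    have hX₁C : X₁ ≤ C₀.subgroupOf N := fun z hz => hXC hz
    obtain ⟨Q, hQ⟩ := (((h.hXp.of_equiv (Subgroup.subgroupOfEquivOfLe (hXC.trans hC₀N)).symm)).of_equiv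
      (Subgroup.subgroupOfEquivOfLe hX₁C).symm).exists_le_sylow
    set Y := ((Q : Subgroup (C₀.subgroupOf N)).map (C₀.subgroupOf N).subtype).map N.subtype with hY
    have hXY : X ≤ Y := fun z hz =>
      ⟨⟨z, hC₀N (hXC hz)⟩, ⟨⟨⟨z, hC₀N (hXC hz)⟩, hX₁C (Subgroup.mem_subgroupOf.mpr hz)⟩,
        hQ (Subgroup.mem_subgroupOf.mpr hz), rfl⟩, rfl⟩
    have hYC : Y ≤ C₀ := (Subgroup.map_mono (Subgroup.map_subtype_le _)).trans (Subgroup.map_comap_le _ _)
    have hYq : IsPGroup q Y := (Q.isPGroup'.map _).map _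
    by_cases hYc : IsCyclic Y
    swap
    · obtain ⟨A', hA'Y, hA'e, hA'c⟩ := NonabelianUnique.exists_plane_le
        (SigmaEmbedding.ne_two hG h.hqs) hYq hYc
      obtain ⟨A₀, hexc⟩ := TauTwoStructure.exists_exc hG hL hqL ((hA'Y.trans hYC).trans (hC₀N.trans inf_le_left))
        hA'e hA'c
      refine absurd ?_ (show P ≠ ⊥ from fun e => hp.out.ne_one (by rw [← h.hPc, e, Subgroup.card_bot]))
      rw [← le_bot_iff, ← hexc.centralizer_sigma hG]
      exact le_inf (SigmaTools.pGroup_le_sigmaCore hG hL hps hPL hPp)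
        (hPT.trans (Subgroup.le_centralizer_iff.mp ((hA'Y.trans hYC).trans inf_le_right)))
    haveI := hYc
    have hNY : Subgroup.normalizer (Y : Set G) ≤ H := (SigmaEmbedding.normalizer_le_of_cyclic hXY).trans hNH
    have hx : (⟨n, hn⟩ : N) ∈ Subgroup.normalizer ((Q : Subgroup (C₀.subgroupOf N)).map (C₀.subgroupOf N).subtype : Set N) ⊔
        C₀.subgroupOf N := by
      rw [Sylow.normalizer_sup_eq_top Q]; exact Subgroup.mem_top _
    obtain ⟨a, ha, c, hc, he⟩ := Subgroup.mem_sup_of_normal_right.mp hx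
    rw [show n = (a : G) * c from (congrArg Subtype.val he).symm]
    refine mul_mem ?_ (Subgroup.mem_subgroupOf.mp hc).2
    have haY : (a : G) ∈ Subgroup.normalizer (Y : Set G) :=
      Subgroup.le_normalizer_map N.subtype ⟨a, ha, rfl⟩
    exact le_centralizer_of_normalizes (N := Subgroup.zpowers (a : G)) hdH T.isPGroup' (hTX.trans hCH)
      (Subgroup.zpowers_le.mpr (hNY haY)) (Subgroup.zpowers_le.mpr a.2.2) (Subgroup.mem_zpowers _)
  -- Burnside's transfer in `L`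
  have hT₂ : Subgroup.normalizer ((T.subtype hTL : Subgroup L) : Set L) ≤
      Subgroup.centralizer ((T.subtype hTL : Subgroup L) : Set L) := by
    intro a ha
    rw [Sylow.coe_subtype] at ha ⊢
    have haN : (a : G) ∈ N := ⟨a.2, by
      have : (a : G) ∈ Subgroup.normalizer ((((T : Subgroup G).subgroupOf L).map L.subtype : Subgroup G) : Set G) :=
        Subgroup.le_normalizer_map L.subtype ⟨a, ha, rfl⟩
      rwa [Subgroup.map_subgroupOf_eq_of_le hTL] at this⟩
    exact Subgroup.mem_centralizer_iff.mpr fun w hw =>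
      Subtype.ext (Subgroup.mem_centralizer_iff.mp (hNC haN) w hw)
  haveI hab : IsMulCommutative (T.subtype hTL : Subgroup L) :=
    ⟨⟨fun a b => Subtype.ext (hT₂ (Subgroup.le_normalizer b.2) a a.2)⟩⟩
  obtain ⟨⟨y, hy⟩, hy1⟩ : ∃ y : P, y ≠ 1 := by
    haveI : Nontrivial P := Finite.one_lt_card_iff_nontrivial.mp (h.hPc ▸ hp.out.one_lt)
    exact exists_ne 1
  obtain ⟨z, hz, hzy⟩ := (Subgroup.map_subtype_commutator L).ge (hPD hy)
  letI : CommGroup (T.subtype hTL : Subgroup L) := { (inferInstance : Group _) with mul_comm := hab.1.comm }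
  have hker : z ∈ (MonoidHom.transferSylow (T.subtype hTL) hT₂).ker := Abelianization.commutator_subset_ker _ hz
  have hzT : z ∈ (T.subtype hTL : Subgroup L) := by
    rw [Sylow.coe_subtype, Subgroup.mem_subgroupOf]
    exact (show (z : G) = y from hzy) ▸ hPT hy
  have := disjoint_iff_inf_le.mp (MonoidHom.ker_transferSylow_isComplement' (T.subtype hTL) hT₂).disjoint ⟨hker, hzT⟩
  rw [Subgroup.mem_bot] at this
  exact hy1 (Subtype.ext (show y = 1 by rw [← show (z : G) = y from hzy, this]; rfl))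

end CfsgLib.OddOrder.PrimeAction
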