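import Cfsg.Agent.Lib.OddOrder.PrimeAction
import Mathlib

set_option autoImplicit false
set_option linter.style.haveILetI false
set_option linter.unusedSectionVars false

/-!
Prime action on `M_σ`: the main theorem.
-/

namespace CfsgLib.OddOrder.PrimeActionMain

open scoped commutatorElement
open SigmaFusion (cj)
open Exceptional (Exc)
open PrimeActionTools
open PrimeAction (Cfg)

variable {G : Type*} [Group G] [Finite G] {p r q : ℕ} [hp : Fact p.Prime] [hrf : Fact r.Prime]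
  [hqf : Fact q.Prime] {M P R X : Subgroup G}

/-- For an ideal prime, a subgroup of order `p` of a Sylow subgroup lies in an elementary abelian one of rank three. -/
theorem exists_isEA_through (hi : Cfsg.IsIdealPrime p G) (T : Sylow p G) {P : Subgroup G}
    (hPT : P ≤ (T : Subgroup G)) (hP : Nat.card P = p) :
    ∃ E : Subgroup G, E ≤ (T : Subgroup G) ∧ E ≤ Subgroup.centralizer (P : Set G) ∧ Cfsg.IsElementaryAbelian p E ∧
      p ^ 3 ≤ Nat.card E := by
  have hr : ¬ Cfsg.PRankLE p 2 (T : Subgroup G) := fun h => hi.2.1 (SigmaFusion.pRankLE_of_sylow T h)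
  obtain ⟨E, hET, hEe, hE3⟩ := UniqueTools.exists_isEA_of_not_rankLE hr
  have hPe : Cfsg.IsElementaryAbelian p P := by
    haveI : IsCyclic P := isCyclic_of_prime_card (p := p) hP
    exact ⟨inferInstance, fun x hx => by
      have := pow_card_eq_one' (x := (⟨x, hx⟩ : P))
      rw [hP] at this
      exact congrArg Subtype.val this⟩
  obtain ⟨z, hzT, hzc, hz⟩ : ∃ z ∈ (T : Subgroup G),
      z ∈ Subgroup.centralizer ((T : Subgroup G) : Set G) ∧ orderOf z = p := by
    haveI : Nontrivial (T : Subgroup G) := (Subgroup.nontrivial_iff_ne_bot _).mpr fun e => hp.out.ne_one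
      (by rw [← hP, Subgroup.eq_bot_of_card_eq P (le_antisymm ((Subgroup.card_le_of_le hPT).trans
        (by rw [e, Subgroup.card_bot])) Nat.card_pos), Subgroup.card_bot])
    haveI := T.isPGroup'.center_nontrivial
    obtain ⟨z, hz⟩ := exists_prime_orderOf_dvd_card' (G := Subgroup.center (T : Subgroup G)) p
      ((T.isPGroup'.to_subgroup _).card_eq_or_dvd.resolve_left Finite.one_lt_card.ne')
    exact ⟨((z : (T : Subgroup G)) : G), z.1.2, Subgroup.mem_centralizer_iff.mpr fun s hs =>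
      congrArg Subtype.val (Subgroup.mem_center_iff.mp z.2 ⟨s, hs⟩), by rw [Subgroup.orderOf_coe, Subgroup.orderOf_coe, hz]⟩
  have hTz : (T : Subgroup G) ≤ Subgroup.centralizer (Subgroup.zpowers z : Set G) :=
    Subgroup.le_centralizer_iff.mp (Subgroup.zpowers_le.mpr hzc)
  have hcent : ∀ B : Subgroup G, Cfsg.IsElementaryAbelian p B → P ≤ B → B ≤ Subgroup.centralizer (P : Set G) :=
    fun B hB hle => by
      haveI := hB.1
      exact B.le_centralizer.trans (Subgroup.centralizer_le (SetLike.coe_subset_coe.mpr hle))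
  by_cases hzP : z ∈ P
  · refine ⟨E, hET, hET.trans (hTz.trans ?_), hEe, hE3⟩
    rw [Subgroup.eq_of_le_of_card_ge (Subgroup.zpowers_le.mpr hzP) (by rw [hP, Nat.card_zpowers, hz])]
  have hAe : Cfsg.IsElementaryAbelian p (P ⊔ Subgroup.zpowers z) :=
    Replacement.isEA_sup hPe (Replacement.isEA_zpowers (by rw [← hz, pow_orderOf_eq_one])) (hPT.trans hTz)
  have hAT : P ⊔ Subgroup.zpowers z ≤ (T : Subgroup G) := sup_le hPT (Subgroup.zpowers_le.mpr hzT)
  have hA2 : p ^ 2 ≤ Nat.card ↥(P ⊔ Subgroup.zpowers z) := SigmaUnique.card_succ_le hAe (by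
    rw [pow_one]
    exact hP.symm.le.trans_lt (SigmaUnique.card_lt_sup fun h => hzP (h (Subgroup.mem_zpowers z))))
  rcases hA2.eq_or_lt with hA2 | hA2
  · obtain ⟨B, hBT, hBe, hAB⟩ := hi.2.2 T _ hAT hAe hA2.symm
    exact ⟨B, hBT, hcent B hBe (le_sup_left.trans hAB.le), hBe, SigmaUnique.card_succ_le hBe
      (hA2.le.trans_lt (Set.ncard_lt_ncard (SetLike.coe_ssubset_coe.mpr hAB)))⟩
  · exact ⟨_, hAT, hcent _ hAe le_sup_left, hAe, SigmaUnique.card_succ_le hAe hA2⟩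

/-- First stage: `q ∈ σ(L) ∖ β(M)` and `N(X) ≤ L`. -/
theorem stage (hG : Cfsg.IsMinSimpleOddOrder G) (h : Cfg p r q M P R X) :
    q ∉ Cfsg.beta M ∧ ∃ L : Subgroup G, IsCoatom L ∧ Subgroup.normalizer (P : Set G) ≤ L ∧ q ∈ Cfsg.sigma L ∧
      Subgroup.normalizer (X : Set G) ≤ L := by
  obtain ⟨L, hL, hNP⟩ := Uniqueness.exists_coatom_normalizer (p := p) hG.2
    (fun (e : P = ⊥) => hp.out.ne_one (by rw [← h.hPc, e, Subgroup.card_bot]))
    (IsPGroup.of_card (n := 1) (by rw [h.hPc, pow_one]))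
  obtain ⟨hPL, hRL, hXL⟩ := h.le_L hNP
  have hps := h.p_mem_sigma hG hL hNP
  have hpb := h.p_mem_beta hG hL hNP
  have hrL := h.r_not_sigma hG hL hNP
  have hPp : IsPGroup p P := IsPGroup.of_card (n := 1) (by rw [h.hPc, pow_one])
  have hp2 : p ≠ 2 := fun e => Nat.not_even_iff_odd.mpr hG.1 (even_iff_two_dvd.mpr (e ▸ SigmaTools.sigma_dvd hps))
  set K := Cfsg.piCoreOf (Cfsg.beta L) L ⊓ Subgroup.centralizer (P : Set G) with hK
  have hKL : K ≤ L := inf_le_left.trans (Subgroup.map_subtype_le _)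
  have hPK : P ≤ K := le_inf (PrimeAction.le_betaCore hG hL hpb hPp hPL) (by
    haveI : IsCyclic P := isCyclic_of_prime_card (p := p) h.hPc
    exact P.le_centralizer)
  obtain ⟨T₀, hPT₀, hT₀L⟩ := PrimeAction.exists_sylow_ge hps hPp hPL
  obtain ⟨E, hET, hEP, hEe, hE3⟩ := exists_isEA_through hpb.2 T₀ hPT₀ h.hPc
  have hEK : E ≤ K := le_inf (PrimeAction.le_betaCore hG hL hpb (T₀.isPGroup'.to_le hET) (hET.trans hT₀L)) hEP
  have hAP : X ⊔ R ≤ Subgroup.centralizer (P : Set G) := sup_le h.hXP h.hRP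
  have hAK : X ⊔ R ≤ Subgroup.normalizer (K : Set G) :=
    (le_inf ((sup_le hXL hRL).trans (Transitivity.le_normalizer_piCoreOf _ L)) (hAP.trans Subgroup.le_normalizer)).trans
      Subgroup.inf_normalizer_le_normalizer_inf
  have hcop : (Nat.card ↥(X ⊔ R)).Coprime (Nat.card K) := Nat.coprime_of_dvd fun t ht h1 h2 => by
    have htb : t ∈ Cfsg.beta L := SigmaBasics.mem_of_dvd_piCore ht
      (BetaCore.card_eq L _ ▸ h2.trans (Subgroup.card_dvd_of_le inf_le_left))
    haveI := Fact.mk ht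
    rcases h.sup_dvd ht h1 with e | e
    · exact h.not_alpha hG hL hNP (e ▸ htb.1)
    · exact hrL (e ▸ SigmaBasics.mem_sigma_of_alpha hG hL htb.1)
  obtain ⟨W, hPW, hAW⟩ := Coprime.exists_le_invariant_sylow hAK hcop
    (Or.inr (hG.2.2.2 K fun e => hL.1 (top_le_iff.mp (e ▸ hKL)))) hPK hPp
    (hAP.trans (Subgroup.centralizer_le_normalizer _))
  set W₀ := (W : Subgroup K).map K.subtype with hW₀
  have hW₀p : IsPGroup p W₀ := W.isPGroup'.map _
  have hW₀K : W₀ ≤ K := Subgroup.map_subtype_le _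
  obtain ⟨E₁, hE₁W, hE₁e, hE₁3⟩ : ∃ E₁ : Subgroup G, E₁ ≤ W₀ ∧ Cfsg.IsElementaryAbelian p E₁ ∧ p ^ 3 ≤ Nat.card E₁ := by
    have hr : ¬ Cfsg.PRankLE p 2 (W : Subgroup K) := fun hr =>
      UniqueTools.not_pRankLE_of_isEA hEe hE3 hEK (SigmaFusion.pRankLE_of_sylow W hr)
    obtain ⟨E₁, hle, he, h3⟩ := UniqueTools.exists_isEA_of_not_rankLE hr
    exact ⟨E₁.map K.subtype, Subgroup.map_mono hle, Fusion.Thompson.isEA_map _ he,
      by rwa [Subgroup.card_map_of_injective K.subtype_injective]⟩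
  obtain ⟨x, hxR, hxo, hxe⟩ := PrimeAction.exists_gen h.hRc
  obtain ⟨H₁, hH₁, hNR⟩ := Uniqueness.exists_coatom_normalizer (p := r) hG.2
    (fun (e : R = ⊥) => hrf.out.ne_one (by rw [← h.hRc, e, Subgroup.card_bot]))
    (IsPGroup.of_card (n := 1) (by rw [h.hRc, pow_one]))
  have hpH₁ : p ∉ Cfsg.sigma H₁ := fun hpH => by
    obtain ⟨y, hy⟩ := SigmaTools.exists_cj_of_alpha hG hL hH₁ hpb.1 hpH
    have hrH : r ∉ Cfsg.sigma H₁ := hy ▸ SigmaTools.not_sigma_cj hrL y
    obtain ⟨⟨-, hr1⟩, -⟩ := TauTwo.of_normalizer_le hG hH₁ hrH h.hRc hNR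
    obtain ⟨A₁, hA₁H, hA₁e, hA₁c⟩ := UniqueTools.exists_isEA_of_not_rankLE hr1
    have hr1L : ¬ Cfsg.PRankLE r 1 L := UniqueTools.not_pRankLE_of_isEA
      (Fusion.Thompson.isEA_map (MulAut.conj y⁻¹).toMonoidHom hA₁e)
      (by rwa [Subgroup.card_map_of_injective (MulAut.conj y⁻¹).injective]) (by
        refine (Subgroup.map_mono hA₁H).trans (le_of_eq ?_)
        show cj y⁻¹ H₁ = L
        rw [hy, SigmaFusion.cj_cj, inv_mul_cancel, SigmaFusion.cj_one])
    have hr2L : Cfsg.PRankLE r 2 L := by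
      by_contra hcon
      exact hrL (SigmaBasics.mem_sigma_of_alpha hG hL ⟨hrf.out, hcon⟩)
    obtain ⟨A₂, hA₂L, hA₂e, hA₂c⟩ := UniqueTools.exists_isEA_of_not_rankLE hr1L
    obtain ⟨A₀', hexc'⟩ := TauTwoStructure.exists_exc hG hL hrL hA₂L hA₂e
      (le_antisymm (RankTwo.card_le_sq hr2L hA₂e hA₂L) hA₂c)
    have hqL : q ∉ Cfsg.sigma L := fun hq => by
      haveI := hexc'.sigma_nilpotent hG
      obtain ⟨z, hz⟩ := PlaneMaximal.exists_cj_of_nilpotent hG hL hq h.hM h.hqs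
      exact h.not_cj hG hL hNP z hz
    obtain ⟨F, hF, hRF, hXF, hXF'⟩ := h.exists_F hG hL hXL hRL hqL hrL
    obtain ⟨A, hAF, hAe, hAc⟩ := TauTwoAbelian.exists_plane hF ⟨hrf.out, hrL, hr2L, hr1L⟩
    obtain ⟨A₀, hexc⟩ := TauTwoStructure.exists_exc hG hL hrL (hAF.trans hF.1) hAe hAc
    have hFA := TauTwoStructure.normal_in_complement hG hexc hF hAF
    have hRA : R ≤ A := by
      rw [← hxe, Subgroup.zpowers_le]
      exact (hexc.maxPlane hG).mem_of_commute (by rw [← hxo, pow_orderOf_eq_one])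
        (TauTwoStructure.pGroup_le_centralizer hG hexc (IsPGroup.of_card (n := 1) (by rw [h.hRc, pow_one])) hRL
          (hRF.trans hFA) hxR)
    apply h.hX1
    rw [← h.hXR, Subgroup.commutator_eq_bot_iff_le_centralizer]
    refine Subgroup.le_centralizer_iff.mp (hRA.trans (centralizes_of_derived (PrimeAction.derived_abelian hG hL hF)
      hXF' hAF (hXF.trans hFA) ?_))
    obtain ⟨i, hi⟩ := h.hXp.exists_card_eq
    rw [hi, hAc]
    exact ((Nat.coprime_primes hqf.out hrf.out).mpr h.q_ne_r).pow i 2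
  have hCH₁ : Subgroup.centralizer ({x} : Set G) ≤ H₁ := by
    rw [← SigmaTools.centralizer_zpowers, hxe]
    exact (Subgroup.centralizer_le_normalizer _).trans hNR
  have hr2H : Cfsg.PRankLE p 2 H₁ := by
    by_contra hcon
    exact hpH₁ (SigmaBasics.mem_sigma_of_alpha hG hH₁ ⟨hp.out, hcon⟩)
  have hcyc : IsCyclic ↥(W₀ ⊓ Subgroup.centralizer ({x} : Set G)) := by
    by_contra hnc
    obtain ⟨B, hB, hBe, hBc⟩ := UniqueTools.exists_isEA_sq hp2 (hW₀p.to_le inf_le_left) hnc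
    exact TauTwo.not_ideal hG hH₁ hr2H
      (UniqueTools.not_pRankLE_of_isEA hBe hBc (hB.trans (inf_le_right.trans hCH₁))) hpb.2
  have hXW : X ≤ Subgroup.centralizer (W₀ : Set G) := by
    refine centralizes_of_cyclic_fix hp2 hW₀p hrf.out (by rw [← hxo, pow_orderOf_eq_one]) h.p_ne_r.symm
      (le_sup_left.trans hAW) (hAW (Subgroup.mem_sup_right hxR)) (h.hRX hxR) (h.fpf hG hL hNP hxe) ?_ hcyc ?_
    · obtain ⟨i, hi⟩ := h.hXp.exists_card_eq
      rw [hi]
      exact ((Nat.coprime_primes hqf.out hp.out).mpr h.p_ne_q.symm).pow_left i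
    · intro c hc hcp
      by_cases hc1 : c = 1
      · rw [hc1]; exact one_mem _
      haveI := hcyc
      have hPle : P ≤ W₀ ⊓ Subgroup.centralizer ({x} : Set G) := by
        refine le_inf hPW ?_
        rw [← SigmaTools.centralizer_zpowers, hxe]
        exact Subgroup.le_centralizer_iff.mp h.hRP
      have hcP : Subgroup.zpowers c = P := Solvable.SupersolvableCriteria.eq_of_card_eq_of_le_cyclic
        (Subgroup.zpowers_le.mpr hc) hPle (by rw [Nat.card_zpowers, orderOf_eq_prime hcp hc1, h.hPc])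
      exact Subgroup.le_centralizer_iff.mp h.hXP (hcP ▸ Subgroup.mem_zpowers c)
  have hE₁X : E₁ ≤ Subgroup.centralizer (X : Set G) := hE₁W.trans (Subgroup.le_centralizer_iff.mp hXW)
  have hE₁M : ¬ E₁ ≤ M := fun hle => UniqueTools.not_pRankLE_of_isEA (k := 1) hE₁e
    ((Nat.pow_le_pow_right hp.out.pos (by norm_num)).trans hE₁3) hle h.hp.2.2.2.2
  refine ⟨fun hqb => hE₁M ?_, L, hL, hNP, ?_⟩
  · obtain ⟨y, hy⟩ := exists_prime_orderOf_dvd_card' (G := X) q
      (h.hXp.card_eq_or_dvd.resolve_left fun e => h.hX1 (Subgroup.eq_bot_of_card_eq _ e))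
    obtain ⟨S⟩ : Nonempty (Sylow q ↥(Cfsg.sigmaCore M)) := inferInstance
    have hC := (SigmaUnique.main hG h.hM h.hqs (X := Subgroup.zpowers (y : G))
      (Subgroup.zpowers_le.mpr (h.hXM y.2)) (by rw [Nat.card_zpowers, Subgroup.orderOf_coe, hy]) S (Or.inl hqb)).1.1
    exact hE₁X.trans ((Subgroup.centralizer_le
      (SetLike.coe_subset_coe.mpr (Subgroup.zpowers_le.mpr y.2))).trans hC)
  obtain ⟨H, hH, hNH⟩ := Uniqueness.exists_coatom_normalizer (p := q) hG.2 h.hX1 h.hXp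
  obtain ⟨U, -, hU⟩ := UniquenessTheorem.rank_three hG hE₁e hE₁3
  have hHL : H = L := (hU H ⟨hH, hE₁X.trans ((Subgroup.centralizer_le_normalizer _).trans hNH)⟩).trans
    (hU L ⟨hL, hE₁W.trans (hW₀K.trans hKL)⟩).symm
  subst hHL
  refine ⟨?_, hNH⟩
  by_contra hqL
  obtain ⟨R₁, -, hS⟩ := SigmaIntersection.exists_setup hG h.hM h.hqs h.hXp h.hX1 h.hXM hH (h.ne hG hNP) hNH
  obtain ⟨hτ, -, F, hF, hFM⟩ := hS.tau_case hG hqL
  obtain ⟨A, hAF, hAe, hAc⟩ := TauTwoAbelian.exists_plane hF hτ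
  obtain ⟨A₀, hexc⟩ := TauTwoStructure.exists_exc hG hH hqL (hAF.trans hF.1) hAe hAc
  exact kill hG hexc (hAF.trans hFM) h.hPM hPL h.hPc hps h.hp.2.2.2.1

/-- There is no configuration. -/
theorem false_of_cfg (hG : Cfsg.IsMinSimpleOddOrder G) (h : Cfg p r q M P R X) : False := by
  obtain ⟨hqb, L, hL, hNP, hqL, hNX⟩ := stage hG h
  obtain ⟨hPL, hRL, hXL⟩ := h.le_L hNP
  have hnil : ¬ Group.IsNilpotent (Cfsg.sigmaCore M) := fun hn => by
    haveI := hn
    obtain ⟨x, hx⟩ := PlaneMaximal.exists_cj_of_nilpotent hG h.hM h.hqs hL hqL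
    exact SigmaTools.not_sigma_cj h.hp.2.1 x (hx ▸ h.p_mem_sigma hG hL hNP)
  obtain ⟨t, htb⟩ : ∃ t, t ∈ Cfsg.beta M := by
    by_contra hcon
    push Not at hcon
    exact hnil (BetaCore.isNilpotent_of_le_derived hG h.hM (SigmaCore.le_derived hG h.hM) fun t _ _ => hcon t)
  haveI := Fact.mk htb.1.1
  have hts := SigmaBasics.mem_sigma_of_alpha hG h.hM htb.1
  have ht2 : t ≠ 2 := fun e => Nat.not_even_iff_odd.mpr hG.1 (even_iff_two_dvd.mpr (e ▸ SigmaTools.sigma_dvd hts))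
  have htr : r ≠ t := fun e => h.hrs (e ▸ hts)
  have htp : p ≠ t := fun e => h.hp.2.1 (e ▸ hts)
  have htq : q ≠ t := fun e => hqb (e ▸ htb)
  have htL : t ∉ Cfsg.sigma L := fun hs => by
    obtain ⟨x, hx⟩ := SigmaTools.exists_cj_of_alpha hG h.hM hL htb.1 hs
    exact SigmaTools.not_sigma_cj h.hp.2.1 x (hx ▸ h.p_mem_sigma hG hL hNP)
  -- `r` has rank one in `M`
  have hr1 : Cfsg.PRankLE r 1 M := by
    by_contra hcon
    obtain ⟨A₂, hA₂M, hA₂e, hA₂c⟩ := UniqueTools.exists_isEA_of_not_rankLE hcon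
    have hr2 : Cfsg.PRankLE r 2 M := by
      by_contra h2
      exact h.hrs (SigmaBasics.mem_sigma_of_alpha hG h.hM ⟨hrf.out, h2⟩)
    obtain ⟨A₀, hexc⟩ := TauTwoStructure.exists_exc hG h.hM h.hrs hA₂M hA₂e
      (le_antisymm (RankTwo.card_le_sq hr2 hA₂e hA₂M) hA₂c)
    exact hnil (hexc.sigma_nilpotent hG)
  have hRp : IsPGroup r R := IsPGroup.of_card (n := 1) (by rw [h.hRc, pow_one])
  have hPp : IsPGroup p P := IsPGroup.of_card (n := 1) (by rw [h.hPc, pow_one])
  have hMM : ⁅M, M⁆ ≤ M := SigmaComplement.derived_le_self M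
  have hrd : ¬ r ∣ Nat.card ↥⁅M, M⁆ := fun hd => by
    obtain ⟨y, hy⟩ := exists_prime_orderOf_dvd_card' (G := ↥⁅M, M⁆) r hd
    have hY : Nat.card (Subgroup.zpowers (y : G)) = r := by rw [Nat.card_zpowers, Subgroup.orderOf_coe, hy]
    have hYM : Subgroup.zpowers (y : G) ≤ M := Subgroup.zpowers_le.mpr (hMM y.2)
    obtain ⟨S₁, hS₁⟩ := ((IsPGroup.of_card (n := 1) (show Nat.card (Subgroup.zpowers (y : G)) = r ^ 1 by
      rw [hY, pow_one])).of_equiv (Subgroup.subgroupOfEquivOfLe hYM).symm).exists_le_sylow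
    obtain ⟨S₂, hS₂⟩ := (hRp.of_equiv (Subgroup.subgroupOfEquivOfLe h.hRM).symm).exists_le_sylow
    obtain ⟨m, hm⟩ := MulAction.exists_smul_eq M S₁ S₂
    have h1 := congrArg (fun S : Sylow r M => (S : Subgroup M).map M.subtype) hm
    simp only [Coprime.map_smul_sylow] at h1
    set S' := (S₂ : Subgroup M).map M.subtype with hS'
    have hS'M : S' ≤ M := Subgroup.map_subtype_le _
    haveI : IsCyclic S' := SigmaComplement.isCyclic_of_rank_one hG.1 hS'M (S₂.isPGroup'.map _) hr1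
    have hR : R ≤ S' := fun z hz => ⟨⟨z, h.hRM hz⟩, hS₂ (Subgroup.mem_subgroupOf.mpr hz), rfl⟩
    have hY' : cj (m : G) (Subgroup.zpowers (y : G)) ≤ S' :=
      (Subgroup.map_mono (show Subgroup.zpowers (y : G) ≤ (S₁ : Subgroup M).map M.subtype from fun z hz =>
        ⟨⟨z, hYM hz⟩, hS₁ (Subgroup.mem_subgroupOf.mpr hz), rfl⟩)).trans h1.le
    have hRM' : R ≤ ⁅M, M⁆ := by
      rw [Solvable.SupersolvableCriteria.eq_of_card_eq_of_le_cyclic hR hY'
        (by rw [h.hRc, Subgroup.card_map_of_injective (MulAut.conj (m : G)).injective, hY])]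
      exact (Subgroup.map_mono (Subgroup.zpowers_le.mpr y.2)).trans
        (Subgroup.mem_normalizer_iff_map_conj_eq.mp (WLine.le_normalizer_derived M m.2)).le
    apply h.hX1
    rw [← h.hXR, Subgroup.commutator_eq_bot_iff_le_centralizer]
    exact Subgroup.le_centralizer_iff.mp (CyclicFix.centralizes_of_not_beta hG h.hM h.q_ne_r hqb h.hXp hRp
      ((SigmaTools.pGroup_le_sigmaCore hG h.hM h.hqs h.hXM h.hXp).trans (SigmaCore.le_derived hG h.hM)) hRM' h.hRX)
  have hrτ : r ∈ Cfsg.tau1 M := ⟨hrf.out, h.hrs, h.hRc ▸ Subgroup.card_dvd_of_le h.hRM, hrd, hr1⟩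
  -- an invariant Sylow subgroup of `M_β`
  set K := Cfsg.piCoreOf (Cfsg.beta M) M with hK
  have hKM : K ≤ M := Subgroup.map_subtype_le _
  have hAM : X ⊔ R ⊔ P ≤ M := sup_le (sup_le h.hXM h.hRM) h.hPM
  have hPA : P ≤ Subgroup.centralizer ((X ⊔ R : Subgroup G) : Set G) :=
    Subgroup.le_centralizer_iff.mp (sup_le h.hXP h.hRP)
  have hcop : (Nat.card ↥(X ⊔ R ⊔ P)).Coprime (Nat.card K) := Nat.coprime_of_dvd fun s hs h1 h2 => by
    have hsb : s ∈ Cfsg.beta M := SigmaBasics.mem_of_dvd_piCore hs (BetaCore.card_eq M _ ▸ h2)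
    haveI := Fact.mk hs
    have hss := SigmaBasics.mem_sigma_of_alpha hG h.hM hsb.1
    have hbot : Disjoint (X ⊔ R) P := by
      refine Subgroup.disjoint_of_coprime_natCard (Nat.coprime_of_dvd fun u hu h3 h4 => ?_)
      rw [h.hPc] at h4
      have hup := (Nat.prime_dvd_prime_iff_eq hu hp.out).mp h4
      rcases h.sup_dvd hu h3 with e | e
      · exact h.p_ne_q (hup ▸ e)
      · exact h.p_ne_r (hup ▸ e)
    rw [Coprime.card_sup_of_le_normalizer (hPA.trans (Subgroup.centralizer_le_normalizer _)) hbot] at h1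
    rcases hs.dvd_mul.mp h1 with hh | hh
    · rcases h.sup_dvd hs hh with e | e
      · exact hqb (e ▸ hsb)
      · exact h.hrs (e ▸ hss)
    · exact h.hp.2.1 (PrimeAction.pGroup_dvd hPp hs hh ▸ hss)
  obtain ⟨W, -, hAW⟩ := Coprime.exists_le_invariant_sylow (U := ⊥)
    (hAM.trans (Transitivity.le_normalizer_piCoreOf _ M)) hcop
    (Or.inr (hG.2.2.2 K fun e => h.hM.1 (top_le_iff.mp (e ▸ hKM)))) bot_le (IsPGroup.of_bot (p := t))
    (fun a _ => Subgroup.mem_normalizer_iff.mpr fun z => by simp)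
  set T := (W : Subgroup K).map K.subtype with hT
  have hTp : IsPGroup t T := W.isPGroup'.map _
  have hTM : T ≤ M := (Subgroup.map_subtype_le _).trans hKM
  obtain ⟨E₂, hE₂T, hE₂e, hE₂3⟩ : ∃ E₂ : Subgroup G, E₂ ≤ T ∧ Cfsg.IsElementaryAbelian t E₂ ∧ t ^ 3 ≤ Nat.card E₂ := by
    obtain ⟨E, hEM, hEe, hE3⟩ := UniqueTools.exists_isEA_of_not_rankLE htb.1.2
    have hr : ¬ Cfsg.PRankLE t 2 (W : Subgroup K) := fun hr => UniqueTools.not_pRankLE_of_isEA hEe hE3
      (PrimeAction.le_betaCore hG h.hM htb (Fusion.Thompson.isPGroup_isEA hEe) hEM) (SigmaFusion.pRankLE_of_sylow W hr)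
    obtain ⟨E₁, hle, he, h3⟩ := UniqueTools.exists_isEA_of_not_rankLE hr
    exact ⟨E₁.map K.subtype, Subgroup.map_mono hle, Fusion.Thompson.isEA_map _ he,
      by rwa [Subgroup.card_map_of_injective K.subtype_injective]⟩
  have hXT : X ≤ Subgroup.normalizer (T : Set G) := (le_sup_left.trans le_sup_left).trans hAW
  have hRT : R ≤ Subgroup.normalizer (T : Set G) := (le_sup_right.trans le_sup_left).trans hAW
  have hPT : P ≤ Subgroup.normalizer (T : Set G) := le_sup_right.trans hAW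
  -- `C_T(P)` is cyclic
  have hCPL : Subgroup.centralizer (P : Set G) ≤ L := (Subgroup.centralizer_le_normalizer _).trans hNP
  have hcycP : IsCyclic ↥(T ⊓ Subgroup.centralizer (P : Set G)) := by
    by_contra hnc
    obtain ⟨B, hB, hBe, hBc⟩ := UniqueTools.exists_isEA_sq ht2 (hTp.to_le inf_le_left) hnc
    have hr2 : Cfsg.PRankLE t 2 L := by
      by_contra hcon
      exact htL (SigmaBasics.mem_sigma_of_alpha hG hL ⟨htb.1.1, hcon⟩)
    exact TauTwo.not_ideal hG hL hr2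
      (UniqueTools.not_pRankLE_of_isEA hBe hBc (hB.trans (inf_le_right.trans hCPL))) htb.2
  have hfixP : X ≤ Subgroup.centralizer ((T ⊓ Subgroup.centralizer (P : Set G) : Subgroup G) : Set G) := by
    haveI := hcycP
    exact centralizes_cyclic
      ((le_inf hXT (h.hXP.trans Subgroup.le_normalizer)).trans Subgroup.inf_normalizer_le_normalizer_inf)
      ((le_inf hRT (h.hRP.trans Subgroup.le_normalizer)).trans Subgroup.inf_normalizer_le_normalizer_inf)
      h.hXR.ge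
  -- `C_T(R)` is cyclic
  obtain ⟨x, hxR, hxo, hxe⟩ := PrimeAction.exists_gen h.hRc
  obtain ⟨H₁, hH₁, hNR⟩ := Uniqueness.exists_coatom_normalizer (p := r) hG.2
    (fun (e : R = ⊥) => hrf.out.ne_one (by rw [← h.hRc, e, Subgroup.card_bot])) hRp
  have htH₁ : t ∉ Cfsg.sigma H₁ := fun hs => by
    obtain ⟨y, hy⟩ := SigmaTools.exists_cj_of_alpha hG h.hM hH₁ htb.1 hs
    obtain ⟨⟨-, hr1'⟩, -⟩ := TauTwo.of_normalizer_le hG hH₁ (hy ▸ SigmaTools.not_sigma_cj h.hrs y) h.hRc hNR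
    obtain ⟨A₁, hA₁H, hA₁e, hA₁c⟩ := UniqueTools.exists_isEA_of_not_rankLE hr1'
    refine UniqueTools.not_pRankLE_of_isEA (Fusion.Thompson.isEA_map (MulAut.conj y⁻¹).toMonoidHom hA₁e)
      (by rwa [Subgroup.card_map_of_injective (MulAut.conj y⁻¹).injective]) ?_ hr1
    refine (Subgroup.map_mono hA₁H).trans (le_of_eq ?_)
    show cj y⁻¹ H₁ = M
    rw [hy, SigmaFusion.cj_cj, inv_mul_cancel, SigmaFusion.cj_one]
  have hCH₁ : Subgroup.centralizer ({x} : Set G) ≤ H₁ := by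
    rw [← SigmaTools.centralizer_zpowers, hxe]
    exact (Subgroup.centralizer_le_normalizer _).trans hNR
  have hr2H : Cfsg.PRankLE t 2 H₁ := by
    by_contra hcon
    exact htH₁ (SigmaBasics.mem_sigma_of_alpha hG hH₁ ⟨htb.1.1, hcon⟩)
  have hcycR : IsCyclic ↥(T ⊓ Subgroup.centralizer ({x} : Set G)) := by
    by_contra hnc
    obtain ⟨B, hB, hBe, hBc⟩ := UniqueTools.exists_isEA_sq ht2 (hTp.to_le inf_le_left) hnc
    exact TauTwo.not_ideal hG hH₁ hr2H
      (UniqueTools.not_pRankLE_of_isEA hBe hBc (hB.trans (inf_le_right.trans hCH₁))) htb.2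
  obtain ⟨c, hc, hct, hcX⟩ : ∃ c ∈ T ⊓ Subgroup.centralizer ({x} : Set G), c ^ t = 1 ∧
      c ∉ Subgroup.centralizer (X : Set G) := by
    by_contra hcon
    push Not at hcon
    have hXC := centralizes_of_cyclic_fix ht2 hTp hrf.out (by rw [← hxo, pow_orderOf_eq_one]) htr hXT
      (hRT hxR) (h.hRX hxR) (h.fpf hG hL hNP hxe) (by
        obtain ⟨i, hi⟩ := h.hXp.exists_card_eq
        rw [hi]
        exact ((Nat.coprime_primes hqf.out htb.1.1).mpr htq).pow_left i) hcycR hcon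
    obtain ⟨U, -, hU⟩ := UniquenessTheorem.rank_three hG hE₂e hE₂3
    exact h.ne hG hNP ((hU L ⟨hL, hE₂T.trans ((Subgroup.le_centralizer_iff.mp hXC).trans
      ((Subgroup.centralizer_le_normalizer _).trans hNX))⟩).trans (hU M ⟨h.hM, hE₂T.trans hTM⟩).symm)
  have hc1 : c ≠ 1 := fun e => hcX (e ▸ one_mem _)
  set Z := Subgroup.zpowers c with hZ
  have hZc : Nat.card Z = t := by rw [hZ, Nat.card_zpowers, orderOf_eq_prime hct hc1]
  have hZle : Z ≤ T ⊓ Subgroup.centralizer ({x} : Set G) := Subgroup.zpowers_le.mpr hc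
  haveI := hcycR
  have hPZ : P ≤ Subgroup.normalizer (Z : Set G) := by
    refine le_trans ?_ (SigmaEmbedding.normalizer_le_of_cyclic hZle)
    refine (le_inf hPT (le_trans ?_ Subgroup.le_normalizer)).trans Subgroup.inf_normalizer_le_normalizer_inf
    rw [← SigmaTools.centralizer_zpowers, hxe]
    exact Subgroup.le_centralizer_iff.mp h.hRP
  have hZP : ⁅Z, P⁆ = Z := by
    have hle : ⁅Z, P⁆ ≤ Z := Subgroup.le_normalizer_iff_commutator_le_left.1 hPZ
    refine Subgroup.eq_of_le_of_card_ge hle ?_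
    rcases (Nat.dvd_prime htb.1.1).mp (hZc ▸ Subgroup.card_dvd_of_le hle) with h1 | h1
    · exfalso
      refine hcX (Subgroup.le_centralizer_iff.mp hfixP ⟨hc.1, ?_⟩)
      exact Subgroup.commutator_eq_bot_iff_le_centralizer.mp (Subgroup.eq_bot_of_card_eq _ h1) (Subgroup.mem_zpowers c)
    · rw [hZc, h1]
  exact (stage hG (p := r) (r := p) (q := t) (M := M) (P := R) (R := P) (X := Z)
    ⟨h.hM, hrτ, h.hp.2.1, hts, h.hRM, h.hRc, h.hPM, h.hPc, Subgroup.le_centralizer_iff.mp h.hRP,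
      IsPGroup.of_card (n := 1) (by rw [hZc, pow_one]), Subgroup.zpowers_le.mpr (hTM hc.1),
      by rw [← hxe, SigmaTools.centralizer_zpowers]; exact Subgroup.zpowers_le.mpr hc.2,
      hPZ, fun e => htb.1.1.ne_one (by rw [← hZc, e, Subgroup.card_bot]), hZP⟩).1 htb

/-- **Prime action.** -/
theorem main (hG : Cfsg.IsMinSimpleOddOrder G) (hM : IsCoatom M) (hpτ : p ∈ Cfsg.tau1 M) (hrs : r ∉ Cfsg.sigma M)
    (hPM : P ≤ M) (hPc : Nat.card P = p) (hRM : R ≤ M) (hRc : Nat.card R = r)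
    (hRP : R ≤ Subgroup.centralizer (P : Set G)) :
    Cfsg.sigmaCore M ⊓ Subgroup.centralizer (P : Set G) ≤ Subgroup.centralizer (R : Set G) := by
  set C := Cfsg.sigmaCore M ⊓ Subgroup.centralizer (P : Set G) with hC
  have hCM : C ≤ M := inf_le_left.trans (SigmaTools.sigmaCore_le M)
  have hRC : R ≤ Subgroup.normalizer (C : Set G) :=
    (le_inf (hRM.trans (SigmaTools.le_normalizer_sigmaCore M)) (hRP.trans Subgroup.le_normalizer)).trans
      Subgroup.inf_normalizer_le_normalizer_inf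
  have hcop : (Nat.card R).Coprime (Nat.card C) := by
    rw [hRc]
    exact (SigmaTools.coprime_sigmaCore hrs).symm.coprime_dvd_right (Subgroup.card_dvd_of_le inf_le_left)
  have hsol : Group.IsSolvable C := hG.2.2.2 C fun e => hM.1 (top_le_iff.mp (e ▸ hCM))
  suffices h : C ≤ C ⊓ Subgroup.centralizer (R : Set G) from h.trans inf_le_right
  rw [← Subgroup.relIndex_eq_one]
  by_contra hne
  obtain ⟨s, hs, hd⟩ := Nat.exists_prime_and_dvd hne
  haveI := Fact.mk hs
  obtain ⟨Q, hQ⟩ := Coprime.exists_invariant_sylow hRC hcop (Or.inr hsol) s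
  set Q₀ := (Q : Subgroup C).map C.subtype with hQ₀
  have hQ₀C : Q₀ ≤ C := Subgroup.map_subtype_le _
  by_cases hfix : ⁅Q₀, R⁆ = ⊥
  · have hle : Q₀ ≤ C ⊓ Subgroup.centralizer (R : Set G) :=
      le_inf hQ₀C (Subgroup.commutator_eq_bot_iff_le_centralizer.mp hfix)
    refine Q.not_dvd_index (hd.trans ((Subgroup.relIndex_dvd_of_le_left _ hle).trans (dvd_of_eq ?_)))
    rw [hQ₀, Subgroup.relIndex, Subgroup.subgroupOf, Subgroup.comap_map_eq_self_of_injective C.subtype_injective]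
  set X := ⁅Q₀, R⁆ with hX
  have hXQ : X ≤ Q₀ := Subgroup.le_normalizer_iff_commutator_le_left.1 hQ
  have hXp : IsPGroup s X := (Q.isPGroup'.map C.subtype).to_le hXQ
  have hsσ : s ∈ Cfsg.sigma M := SigmaTools.mem_sigma_of_card
    ((hXp.card_eq_or_dvd.resolve_left fun e => hfix (Subgroup.eq_bot_of_card_eq _ e)).trans
      (Subgroup.card_dvd_of_le (hXQ.trans (hQ₀C.trans inf_le_left))))
  exact false_of_cfg hG (p := p) (r := r) (q := s) (M := M) (P := P) (R := R) (X := X)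
    ⟨hM, hpτ, hrs, hsσ, hPM, hPc, hRM, hRc, hRP, hXp, hXQ.trans (hQ₀C.trans hCM),
      hXQ.trans (hQ₀C.trans inf_le_right), Subgroup.normalizer_commutator_ge_right _ _, hfix,
      Coprime.commutator_commutator_self hQ (hcop.coprime_dvd_right (Subgroup.card_dvd_of_le hQ₀C))
        (Or.inr (Coprime.isSolvable_of_le hQ₀C hsol))⟩

end CfsgLib.OddOrder.PrimeActionMain
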