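import Cfsg.Agent.Lib.OddOrder.SigmaIntersection
import Cfsg.Agent.Lib.OddOrder.NarrowAction
import Cfsg.Agent.Lib.OddOrder.FrobeniusFixed
import Mathlib

set_option autoImplicit false
set_option linter.style.haveILetI false
set_option linter.unusedSectionVars false

/-!
Tools for the prime action of a complement to `M_σ`.
-/

namespace CfsgLib.OddOrder.PrimeActionTools

open scoped commutatorElement
open SigmaFusion (cj)
open Exceptional (Exc)

variable {G : Type*} [Group G] [Finite G] {p q : ℕ} [hp : Fact p.Prime] [hqf : Fact q.Prime]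
  {M H : Subgroup G}

theorem card_eq_one_or (hp' : p.Prime) {Y : Subgroup G} (hY : IsPGroup p Y) (hd : ¬ p ∣ Nat.card Y) : Y = ⊥ :=
  Subgroup.eq_bot_of_card_eq _ (hY.card_eq_or_dvd.resolve_right hd)

/-- `p`-subgroups of `M` are centralised by the elements of `M` normalising them when `p ∤ |M'|`. -/
theorem le_centralizer_of_normalizes (hd : ¬ p ∣ Nat.card ↥⁅M, M⁆) {T N : Subgroup G} (hT : IsPGroup p T)
    (hTM : T ≤ M) (hNM : N ≤ M) (hNT : N ≤ Subgroup.normalizer (T : Set G)) :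
    N ≤ Subgroup.centralizer (T : Set G) := by
  refine Subgroup.commutator_eq_bot_iff_le_centralizer.mp ?_
  have h1 : ⁅N, T⁆ ≤ T := by
    rw [Subgroup.commutator_comm]; exact Subgroup.le_normalizer_iff_commutator_le_left.1 hNT
  refine card_eq_one_or hp.out (hT.to_le h1) fun h => hd (h.trans (Subgroup.card_dvd_of_le ?_))
  exact Subgroup.commutator_mono hNM hTM

/-- A plane of a `τ₂`-configuration in `H` inside `M` excludes `σ(H)`-elements of `M` of order prime to `|M'|`. -/
theorem kill {A A₀ P : Subgroup G} (hG : Cfsg.IsMinSimpleOddOrder G) (hexc : Exc q H A A₀) (hAM : A ≤ M)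
    (hPM : P ≤ M) (hPH : P ≤ H) (hPc : Nat.card P = p) (hps : p ∈ Cfsg.sigma H)
    (hd : ¬ p ∣ Nat.card ↥⁅M, M⁆) : False := by
  haveI := hexc.sigma_nilpotent hG
  haveI : Group.IsNilpotent (⊤ : Subgroup (Cfsg.sigmaCore H)) := Subgroup.isNilpotent _
  have hPp : IsPGroup p P := IsPGroup.of_card (n := 1) (by rw [hPc, pow_one])
  have hPσ := SigmaTools.pGroup_le_sigmaCore hG hexc.coatom hps hPH hPp
  set O := (Cfsg.pCore p (Cfsg.sigmaCore H)).map (Cfsg.sigmaCore H).subtype with hO
  have hPO : P ≤ O := fun d hd' => by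
    obtain ⟨k, hk⟩ := IsPGroup.iff_orderOf.mp hPp ⟨d, hd'⟩
    rw [Subgroup.orderOf_mk] at hk
    exact ⟨⟨d, hPσ hd'⟩, RankTwoGlobal.mem_pCore_of_mem (N := ⊤) (Subgroup.mem_top _)
      ⟨k, by rw [Subgroup.orderOf_mk, hk]⟩, rfl⟩
  have hOp : IsPGroup p O := (Solvable.Cores.isPGroup_pCore p).map _
  have hAO : A ≤ Subgroup.normalizer (O : Set G) :=
    (hexc.le.trans (SigmaTools.le_normalizer_sigmaCore H)).trans (WLine.normalizer_le_normalizer_pCore p _)
  have hc := le_centralizer_of_normalizes (N := A) hd (hOp.to_le inf_le_left) (inf_le_right : O ⊓ M ≤ M) hAM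
    ((le_inf hAO (hAM.trans Subgroup.le_normalizer)).trans Subgroup.inf_normalizer_le_normalizer_inf)
  have : P ≤ Cfsg.sigmaCore H ⊓ Subgroup.centralizer (A : Set G) :=
    le_inf hPσ ((le_inf hPO hPM).trans (Subgroup.le_centralizer_iff.mp hc))
  rw [hexc.centralizer_sigma hG, le_bot_iff] at this
  exact hp.out.ne_one (by rw [← hPc, this, Subgroup.card_bot])

theorem rank_mono {I : Subgroup G} (hIH : I ≤ H) {k : ℕ} (h : Cfsg.PRankLE p k H) : Cfsg.PRankLE p k I := by
  by_contra hcon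
  obtain ⟨E, hE, hEe, hEc⟩ := UniqueTools.exists_isEA_of_not_rankLE hcon
  exact UniqueTools.not_pRankLE_of_isEA hEe hEc (hE.trans hIH) h

/-- Ranks are inherited from subgroups of `p'`-index. -/
theorem rank_of_not_dvd {I : Subgroup G} (hIH : I ≤ H) (hd : ¬ p ∣ I.relIndex H) {k : ℕ}
    (h : Cfsg.PRankLE p k I) : Cfsg.PRankLE p k H := by
  by_contra hcon
  obtain ⟨E, hE, hEe, hEc⟩ := UniqueTools.exists_isEA_of_not_rankLE hcon
  obtain ⟨T⟩ : Nonempty (Sylow p I) := inferInstance
  set T₁ : Subgroup H := ((T : Subgroup I).map I.subtype).subgroupOf H with hT₁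
  have hTI : (T : Subgroup I).map I.subtype ≤ I := Subgroup.map_subtype_le _
  have hTnd : ¬ p ∣ T₁.index := by
    intro hh
    change p ∣ ((T : Subgroup I).map I.subtype).relIndex H at hh
    rw [← Subgroup.relIndex_mul_relIndex _ I H hTI hIH, Subgroup.relIndex, Subgroup.subgroupOf,
      Subgroup.comap_map_eq_self_of_injective I.subtype_injective] at hh
    exact (hp.out.dvd_mul.mp hh).elim T.not_dvd_index hd
  obtain ⟨Q, hQ⟩ := ((Fusion.Thompson.isPGroup_isEA hEe).of_equiv (Subgroup.subgroupOfEquivOfLe hE).symm).exists_le_sylow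
  obtain ⟨n, hn⟩ := MulAction.exists_smul_eq H Q
    ((((T.isPGroup'.map I.subtype).of_equiv (Subgroup.subgroupOfEquivOfLe (hTI.trans hIH)).symm)).toSylow hTnd)
  have h1 := congrArg (fun S : Sylow p H => (S : Subgroup H).map H.subtype) hn
  simp only [Coprime.map_smul_sylow] at h1
  refine UniqueTools.not_pRankLE_of_isEA (Fusion.Thompson.isEA_map (MulAut.conj (n : G)).toMonoidHom hEe)
    (by rwa [Subgroup.card_map_of_injective (MulAut.conj (n : G)).injective]) ?_ h
  refine le_trans ?_ hTI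
  have h2 : E ≤ (Q : Subgroup H).map H.subtype := fun x hx => ⟨⟨x, hE hx⟩, hQ (Subgroup.mem_subgroupOf.mpr hx), rfl⟩
  refine ((Subgroup.map_mono h2).trans h1.le).trans (le_of_eq ?_)
  show (((T : Subgroup I).map I.subtype).subgroupOf H).map H.subtype = _
  rw [Subgroup.map_subgroupOf_eq_of_le (hTI.trans hIH)]

/-- `p` does not divide `|H'|` for `H = I K`, `K` a normal `p'`-subgroup and `p ∤ |M'|`, `I ≤ M`. -/
theorem not_dvd_derived {I K : Subgroup G} (hIH : I ≤ H) (hKH : K ≤ H)
    (hKn : H ≤ Subgroup.normalizer (K : Set G)) (hsup : H ≤ I ⊔ K) (hK : ¬ p ∣ Nat.card K) (hIM : I ≤ M)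
    (hd : ¬ p ∣ Nat.card ↥⁅M, M⁆) : ¬ p ∣ Nat.card ↥⁅H, H⁆ := by
  intro hh
  set K₀ := K.subgroupOf H with hK₀
  haveI : K₀.Normal := (Subgroup.normal_subgroupOf_iff_le_normalizer hKH).mpr hKn
  set I₀ := I.subgroupOf H with hI₀
  set f := QuotientGroup.mk' K₀ with hf
  have hI : I₀.map f = ⊤ := by
    have htop : I₀ ⊔ K₀ = ⊤ := by
      refine eq_top_iff.mpr fun x _ => ?_
      have hx : (x : G) ∈ (I₀ ⊔ K₀).map H.subtype := by
        rw [Subgroup.map_sup, Subgroup.map_subgroupOf_eq_of_le hIH, Subgroup.map_subgroupOf_eq_of_le hKH]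
        exact hsup x.2
      obtain ⟨y, hy, e⟩ := hx
      exact H.subtype_injective e ▸ hy
    rw [← Subgroup.map_top_of_surjective _ (QuotientGroup.mk'_surjective K₀), ← htop, Subgroup.map_sup,
      QuotientGroup.map_mk'_self, sup_bot_eq]
  have him : (_root_.commutator H).map f = ⁅I₀, I₀⁆.map f := by
    rw [commutator_def, Subgroup.map_commutator, Subgroup.map_commutator, hI,
      Subgroup.map_top_of_surjective _ (QuotientGroup.mk'_surjective K₀)]
  have hc := Solvable.Basic.card_map_mk_mul K₀ (_root_.commutator H)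
  rw [← Subgroup.map_subtype_commutator, Subgroup.card_map_of_injective H.subtype_injective, ← hc] at hh
  rcases hp.out.dvd_mul.mp hh with h | h
  · rw [him] at h
    refine hd ((h.trans (Subgroup.card_map_dvd _ f)).trans ?_)
    rw [← Subgroup.card_map_of_injective H.subtype_injective, Subgroup.map_commutator,
      Subgroup.map_subgroupOf_eq_of_le hIH]
    exact Subgroup.card_dvd_of_le (Subgroup.commutator_mono hIM hIM)
  · exact hK ((h.trans (Subgroup.card_dvd_of_le inf_le_left)).trans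
      (Nat.card_congr (Subgroup.subgroupOfEquivOfLe hKH).toEquiv).dvd)

/-- In the setup of `SigmaIntersection`, primes of `[N : M ∩ N]` lie in `β(N)` when `q ∈ σ(N)`. -/
theorem dvd_beta {N R : Subgroup G} (hG : Cfsg.IsMinSimpleOddOrder G) (h : SigmaIntersection.Setup q M N R)
    (hqN : q ∈ Cfsg.sigma N) {t : ℕ} (ht : t.Prime) (hd : t ∣ (M ⊓ N).relIndex N) : t ∈ Cfsg.beta N := by
  set K₀ := Cfsg.piCore (Cfsg.beta N) N with hK₀
  set I₀ := (M ⊓ N).subgroupOf N with hI₀
  have htop : I₀ ⊔ K₀ = ⊤ := by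
    refine eq_top_iff.mpr fun x _ => ?_
    have hx : (x : G) ∈ (I₀ ⊔ K₀).map N.subtype := by
      rw [Subgroup.map_sup, Subgroup.map_subgroupOf_eq_of_le inf_le_right]
      exact h.sigma_case hG hqN x.2
    obtain ⟨y, hy, e⟩ := hx
    exact N.subtype_injective e ▸ hy
  have hc := Solvable.Basic.card_sup_mul K₀ I₀
  rw [htop, Subgroup.card_top, ← Subgroup.card_mul_index I₀, mul_assoc] at hc
  have hK : I₀.index ∣ Nat.card K₀ := ⟨_, (Nat.eq_of_mul_eq_mul_left Nat.card_pos hc).symm⟩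
  exact SigmaBasics.mem_of_dvd_piCore ht (hd.trans hK)

/-- The derived subgroup of `X ≤ F'` (abelian) centralises the `p`-subgroups it normalises in `F`. -/
theorem centralizes_of_derived {F X B : Subgroup G} (hF : IsMulCommutative ↥⁅F, F⁆) (hXF : X ≤ ⁅F, F⁆)
    (hBF : B ≤ F) (hXB : X ≤ Subgroup.normalizer (B : Set G)) (hcop : (Nat.card X).Coprime (Nat.card B)) :
    B ≤ Subgroup.centralizer (X : Set G) := by
  refine Subgroup.commutator_eq_bot_iff_le_centralizer.mp (Coprime.commutator_eq_bot_of_commutator_commutator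
    (hcop.coprime_dvd_right (Subgroup.card_dvd_of_le (Subgroup.le_normalizer_iff_commutator_le_left.1 hXB))) ?_)
  refine le_bot_iff.mp ?_
  rw [← Subgroup.commutator_self_eq_bot_iff.mpr hF]
  exact Subgroup.commutator_mono (Subgroup.commutator_mono hBF (hXF.trans (SigmaComplement.derived_le_self F))) hXF

/-- A characteristic subgroup is normalised by the normalisers. -/
theorem le_normalizer_map_char {S A : Subgroup G} (hA : A ≤ Subgroup.normalizer (S : Set G)) (D : Subgroup S)
    [D.Characteristic] : A ≤ Subgroup.normalizer ((D.map S.subtype : Subgroup G) : Set G) := by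
  intro a ha
  refine Subgroup.mem_normalizer_iff_map_conj_eq.mpr (Subgroup.eq_of_le_of_card_ge ?_
    (Subgroup.card_map_of_injective (K := D.map S.subtype) (f := (MulAut.conj a).toMonoidHom) (MulAut.conj a).injective).ge)
  rintro _ ⟨_, ⟨d, hd, rfl⟩, rfl⟩
  exact ⟨Coprime.conjHom hA ⟨a, ha⟩ d, CharOmega.map_mem _ hd, Coprime.conjHom_apply hA ⟨a, ha⟩ d⟩

/-- `X = [X, R]` centralises the cyclic groups normalised by `X` and `R`. -/
theorem centralizes_cyclic {Z X R : Subgroup G} [IsCyclic Z] (hX : X ≤ Subgroup.normalizer (Z : Set G))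
    (hR : R ≤ Subgroup.normalizer (Z : Set G)) (hXR : X ≤ ⁅X, R⁆) : X ≤ Subgroup.centralizer (Z : Set G) := by
  set φ := Coprime.conjHom (V := Z) (sup_le hX hR) with hφ
  have hcomm : ∀ a b : MulAut Z, a * b = b * a := fun a b =>
    (IsCyclic.mulAutMulEquiv Z).injective (by rw [map_mul, map_mul, mul_comm])
  refine hXR.trans (Subgroup.commutator_le.mpr fun a ha b hb => Subgroup.mem_centralizer_iff.mpr fun z hz => ?_)
  have h1 : φ ⁅(⟨a, Subgroup.mem_sup_left ha⟩ : ↥(X ⊔ R)), ⟨b, Subgroup.mem_sup_right hb⟩⁆ = 1 := by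
    rw [map_commutatorElement, commutatorElement_eq_one_iff_mul_comm]
    exact hcomm _ _
  have h2 := congrArg (fun e : MulAut Z => ((e ⟨z, hz⟩ : Z) : G)) h1
  simp only [hφ, Coprime.conjHom_apply, MulAut.one_apply] at h2
  have h3 := mul_inv_eq_iff_eq_mul.mp h2
  exact h3.symm

/-- An abelian group with a fixed-point-free element centralises a `p`-group on which that element has cyclic
fixed points, centralised in order `p`. -/
theorem centralizes_of_cyclic_fix (hp2 : p ≠ 2) {T X : Subgroup G} (hT : IsPGroup p T) {x : G} {r : ℕ}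
    (hr : r.Prime) (hxr : x ^ r = 1) (hrp : r ≠ p) (hXT : X ≤ Subgroup.normalizer (T : Set G))
    (hxT : x ∈ Subgroup.normalizer (T : Set G)) (hxX : x ∈ Subgroup.normalizer (X : Set G))
    (hfpf : X ⊓ Subgroup.centralizer ({x} : Set G) = ⊥) (hcop : (Nat.card X).Coprime p)
    (hcyc : IsCyclic ↥(T ⊓ Subgroup.centralizer ({x} : Set G)))
    (hfix : ∀ c ∈ T ⊓ Subgroup.centralizer ({x} : Set G), c ^ p = 1 → c ∈ Subgroup.centralizer (X : Set G)) :
    X ≤ Subgroup.centralizer (T : Set G) := by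
  obtain ⟨D, hDc, ⟨hDp, hD2⟩, hDmax⟩ := CharOmega.exists_maximal hp2 hT
  haveI := hDc
  set D₁ := D.map T.subtype with hD₁
  have hXD : X ≤ Subgroup.normalizer (D₁ : Set G) := le_normalizer_map_char hXT D
  have hxD : x ∈ Subgroup.normalizer (D₁ : Set G) :=
    le_normalizer_map_char (A := Subgroup.zpowers x) (Subgroup.zpowers_le.mpr hxT) D (Subgroup.mem_zpowers x)
  set Z := D₁ ⊓ Subgroup.centralizer ({x} : Set G) with hZ
  have hZX : Z ≤ Subgroup.centralizer (X : Set G) := fun c hc => by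
    obtain ⟨d, hd, e⟩ := hc.1
    refine hfix c ⟨Subgroup.map_subtype_le D hc.1, hc.2⟩ ?_
    rw [← e, ← map_pow, hDp d hd, map_one]
  have hZc : IsMulCommutative Z := by
    haveI := hcyc
    exact ⟨⟨fun a b => Subtype.ext (PlaneSylow.comm_of (X := T ⊓ Subgroup.centralizer ({x} : Set G)) inferInstance
      ⟨Subgroup.map_subtype_le D a.2.1, a.2.2⟩ ⟨Subgroup.map_subtype_le D b.2.1, b.2.2⟩).eq⟩⟩
  set N := ⁅D₁, D₁⁆ ⊔ Z with hN
  have hD'c : ⁅D₁, D₁⁆ ≤ Subgroup.centralizer (D₁ : Set G) := by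
    refine Subgroup.commutator_le.mpr ?_
    rintro _ ⟨a, ha, rfl⟩ _ ⟨b, hb, rfl⟩
    refine Subgroup.mem_centralizer_iff.mpr ?_
    rintro _ ⟨d, hd, rfl⟩
    rw [← map_commutatorElement, ← map_mul, ← map_mul, Subgroup.mem_centralizer_iff.mp (hD2 a ha b hb) d hd]
  have hND : N ≤ D₁ := sup_le (SigmaComplement.derived_le_self D₁) inf_le_left
  have hNc : IsMulCommutative N := by
    refine Subgroup.le_centralizer_iff_isMulCommutative.mp (sup_le ?_ ?_)
    · exact hD'c.trans (Subgroup.centralizer_le (SetLike.coe_subset_coe.mpr hND))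
    · refine Subgroup.le_centralizer_iff.mp (sup_le ?_ ?_)
      · exact hD'c.trans (Subgroup.centralizer_le (SetLike.coe_subset_coe.mpr inf_le_left))
      · exact Subgroup.le_centralizer_iff_isMulCommutative.mpr hZc
  have hnN : ∀ g ∈ Subgroup.normalizer (D₁ : Set G), g ∈ Subgroup.normalizer (Z : Set G) →
      g ∈ Subgroup.normalizer (N : Set G) := fun g hg hgZ => Subgroup.mem_normalizer_iff_map_conj_eq.mpr (by
    have h1 := Subgroup.mem_normalizer_iff_map_conj_eq.mp hg
    have h2 := Subgroup.mem_normalizer_iff_map_conj_eq.mp hgZ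
    rw [hN, Subgroup.map_sup, Subgroup.map_commutator]
    erw [h1, h2])
  have hXZ : X ≤ Subgroup.normalizer (Z : Set G) :=
    (Subgroup.le_centralizer_iff.mp hZX).trans (Subgroup.centralizer_le_normalizer _)
  have hxZ : x ∈ Subgroup.normalizer (Z : Set G) := Subgroup.centralizer_le_normalizer _
    (Subgroup.mem_centralizer_iff.mpr fun c hc => Subgroup.mem_centralizer_singleton_iff.mp hc.2)
  have hDpg : IsPGroup p D₁ := hT.to_le (Subgroup.map_subtype_le D)
  have hcopD : ∀ Y : Subgroup G, IsPGroup p Y → (Nat.card Y).Coprime (Nat.card X) ∧ (Nat.card Y).Coprime r := by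
    intro Y hY
    obtain ⟨k, hk⟩ := hY.exists_card_eq
    rw [hk]
    exact ⟨(hcop.symm).pow_left k, ((Nat.coprime_primes hp.out hr).mpr hrp.symm).pow_left k⟩
  -- `[D, X] ≤ N` and `[N, X] ≤ Z`
  have s1 : ⁅D₁, X⁆ ≤ N := by
    by_contra hnc
    exact FrobeniusFixed.inf_centralizer_not_le (W := D₁) hND le_sup_left hr hxr hxD hXD (hnN x hxD hxZ)
      (fun a ha => hnN a (hXD ha) (hXZ ha)) hxX hfpf (hcopD D₁ hDpg).1 (hcopD D₁ hDpg).2 hnc le_sup_right
  have s2 : ⁅N, X⁆ ≤ Z := by
    by_contra hnc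
    exact FrobeniusFixed.inf_centralizer_not_le (W := N) le_sup_right
      ((Subgroup.commutator_self_eq_bot_iff.mpr hNc).le.trans bot_le) hr hxr (hnN x hxD hxZ)
      (fun a ha => hnN a (hXD ha) (hXZ ha)) hxZ hXZ hxX hfpf (hcopD N (hDpg.to_le hND)).1
      (hcopD N (hDpg.to_le hND)).2 hnc (inf_le_inf_right _ hND)
  have s3 : ⁅N, X⁆ = ⊥ := Coprime.commutator_eq_bot_of_commutator_commutator
    ((hcopD _ (hDpg.to_le (s2.trans inf_le_left))).1.symm)
    (le_bot_iff.mp ((Subgroup.commutator_mono s2 le_rfl).trans (Subgroup.commutator_eq_bot_iff_le_centralizer.mpr hZX).le))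
  have s4 : ⁅D₁, X⁆ = ⊥ := Coprime.commutator_eq_bot_of_commutator_commutator
    ((hcopD _ (hDpg.to_le (s1.trans hND))).1.symm)
    (le_bot_iff.mp ((Subgroup.commutator_mono s1 le_rfl).trans s3.le))
  intro a ha
  refine NarrowAction.centralizes_of_fix hp2 hT hXT D hDmax ⟨a, ha⟩ (hcop.coprime_dvd_left ?_) fun d hd => ?_
  · exact orderOf_dvd_natCard _
  · refine Subtype.ext ?_
    rw [Coprime.conjHom_apply, mul_inv_eq_iff_eq_mul]
    exact Subgroup.mem_centralizer_iff.mp (Subgroup.commutator_eq_bot_iff_le_centralizer.mp s4 ⟨d, hd, rfl⟩) a ha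

end CfsgLib.OddOrder.PrimeActionTools
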