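import Cfsg.Agent.Lib.OddOrder.SigmaA
import Cfsg.Agent.Lib.OddOrder.FrobeniusFormulaGroup
import Cfsg.Agent.S1429
import Mathlib

set_option autoImplicit false
set_option linter.style.haveILetI false
set_option linter.unusedSectionVars false

/-!
The case `U ≠ 1`: `M_σ` is nilpotent, `U` has no fixed points, `K` has prime order.
-/

namespace CfsgLib.OddOrder.PrimeK

open scoped commutatorElement
open KappaHall (Str rest)

variable {G : Type*} [Group G] [Finite G] {M E K U : Subgroup G}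

/-- The image of a Sylow subgroup of a Hall subgroup is a Sylow subgroup. -/
theorem sylow_of_hall {π : Set ℕ} {H : Subgroup G} {p : ℕ} [hp : Fact p.Prime] (hH : Cfsg.IsPiHallOf π H M)
    (hpπ : p ∈ π) : ∃ S : Sylow p M, (S : Subgroup M).map M.subtype ≤ H := by
  obtain ⟨T⟩ : Nonempty (Sylow p H) := inferInstance
  set R := (T : Subgroup H).map (Subgroup.inclusion hH.1) with hR
  obtain ⟨P, hP⟩ := (T.isPGroup'.map (Subgroup.inclusion hH.1) : IsPGroup p R).exists_le_sylow
  have hPR : R = (P : Subgroup M) := by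
    refine Subgroup.eq_of_le_of_card_ge hP (le_of_eq ?_)
    rw [P.card_eq_multiplicity, hR, Subgroup.card_map_of_injective (Subgroup.inclusion_injective hH.1),
      T.card_eq_multiplicity, ← Coprime.card_mul_relIndex_eq hH.1, Nat.factorization_mul Nat.card_pos.ne'
        (Nat.pos_of_mul_pos_left (Coprime.card_mul_relIndex_eq hH.1 ▸ Nat.card_pos)).ne',
      Finsupp.add_apply, Nat.factorization_eq_zero_of_not_dvd (hH.2.2 p hp.out hpπ), add_zero]
  refine ⟨P, ?_⟩
  rintro _ ⟨x, hx, rfl⟩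
  obtain ⟨t, -, rfl⟩ := hPR.ge hx
  exact t.2

/-- `U` has no fixed points and `M_σ` is nilpotent. -/
theorem fixed_of_hall (hG : Cfsg.IsMinSimpleOddOrder G) (hM : IsCoatom M) (hU : Cfsg.IsPiHallOf (rest M) U M)
    (hU1 : U ≠ ⊥) :
    Group.IsNilpotent (Cfsg.sigmaCore M) ∧ Cfsg.sigmaCore M ⊓ Subgroup.centralizer (U : Set G) = ⊥ := by
  obtain ⟨p, hp, hpU⟩ := Nat.exists_prime_and_dvd (mt Subgroup.card_eq_one.mp hU1)
  haveI := Fact.mk hp
  have hr := hU.2.1 p hp hpU
  have hpM : p ∣ Nat.card M := hpU.trans (Subgroup.card_dvd_of_le hU.1)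
  obtain ⟨S, hS⟩ := sylow_of_hall hU hr
  obtain ⟨-, hC, hn⟩ := Cfsg.Agent.S1429.result hG M hM (fun h => hr.2.1 (h p hp hpM hr.2.2)) p hpM
    (fun h => h.elim hr.2.2 hr.2.1) S
  exact ⟨hn, le_bot_iff.mp ((inf_le_inf_left _ (Subgroup.centralizer_le (SetLike.coe_subset_coe.mpr
    ((Subgroup.closure_le U).mpr fun x hx => hS hx.1)))).trans hC.le)⟩

/-- BG 14.7: if `U ≠ 1` then `|K|` is prime and `|M_σ| = |K*| ^ |K|`. -/
theorem prime_K (hG : Cfsg.IsMinSimpleOddOrder G) (hM : IsCoatom M) (h : Str M E K U) (hK1 : K ≠ ⊥) (hU1 : U ≠ ⊥) :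
    (Nat.card K).Prime ∧ Nat.card (Cfsg.sigmaCore M) =
      Nat.card ↥(Cfsg.sigmaCore M ⊓ Subgroup.centralizer (K : Set G)) ^ Nat.card K := by
  obtain ⟨hn, hfix⟩ := fixed_of_hall hG hM h.hall hU1
  have hcopσ : ∀ H : Subgroup G, H ≤ E → (Nat.card H).Coprime (Nat.card (Cfsg.sigmaCore M)) := fun H hH =>
    Nat.coprime_of_dvd fun t ht h1 h2 => by
      haveI := Fact.mk ht
      exact SigmaComplement.not_dvd_card hG hM h.compl (SigmaTools.mem_sigma_of_card h2)
        (h1.trans (Subgroup.card_dvd_of_le hH))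
  have hEN : E ≤ Subgroup.normalizer (Cfsg.sigmaCore M : Set G) :=
    h.compl.1.trans (SigmaTools.le_normalizer_sigmaCore M)
  have hform : ∀ R : Subgroup G, R ≤ K → R ≠ ⊥ → Nat.card (Cfsg.sigmaCore M) =
      Nat.card ↥(Cfsg.sigmaCore M ⊓ Subgroup.centralizer (K : Set G)) ^ Nat.card R := fun R hR hR1 => by
    have hdata : FrobeniusFormulaGroup.FData U R (Cfsg.sigmaCore M) :=
      { hKR := hR.trans (h.le.trans h.normal)
        hKM := h.Ule.trans hEN
        hRM := hR.trans (h.le.trans hEN)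
        hfpf := fun r hr hr1 u hu hc => Subgroup.mem_bot.mp ((h.free r (hR hr) hr1).le
          ⟨hu, Subgroup.mem_centralizer_singleton_iff.mpr hc.symm.eq⟩)
        hsolv := hG.2.2.2 U fun e => hM.1 (top_le_iff.mp (e ▸ h.Ule.trans h.compl.1))
        hcop := hcopσ U h.Ule
        hcopR := hcopσ R (hR.trans h.le) }
    rw [(FrobeniusFormulaGroup.main _ G U R (Cfsg.sigmaCore M) le_rfl hdata hn hfix).1]
    congr 2
    obtain ⟨r, hr, hr1⟩ := R.bot_or_exists_ne_one.resolve_left hR1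
    have e : Cfsg.sigmaCore M ⊓ Subgroup.centralizer (R : Set G) =
        Cfsg.sigmaCore M ⊓ Subgroup.centralizer (K : Set G) :=
      le_antisymm ((inf_le_inf_left _ (Subgroup.centralizer_le (Set.singleton_subset_iff.mpr hr))).trans
        (h.fix r (hR hr) hr1).le) (inf_le_inf_left _ (Subgroup.centralizer_le (SetLike.coe_subset_coe.mpr hR)))
    rw [e]
  refine ⟨?_, hform K le_rfl hK1⟩
  obtain ⟨f, hf, hfp⟩ := KappaHall.exists_prime_elem hK1
  have hne : Subgroup.zpowers f ≠ ⊥ := Subgroup.zpowers_ne_bot.mpr fun e => hfp.ne_one (e ▸ orderOf_one)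
  have h1 := hform (Subgroup.zpowers f) (Subgroup.zpowers_le.mpr hf) hne
  rw [hform K le_rfl hK1, Nat.card_zpowers] at h1
  have hD : 1 < Nat.card ↥(Cfsg.sigmaCore M ⊓ Subgroup.centralizer (K : Set G)) := by
    by_contra hle
    exact h.ne_bot (Subgroup.card_eq_one.mp (le_antisymm (Nat.not_lt.mp hle) Nat.card_pos))
  rw [Nat.pow_right_injective hD h1]
  exact hfp

end CfsgLib.OddOrder.PrimeK
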