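import Cfsg.Agent.Lib.OddOrder.SigmaDisjoint
import Cfsg.Agent.Lib.OddOrder.FrobeniusFixed
import Cfsg.Agent.Lib.OddOrder.FPFTools
import Mathlib

set_option autoImplicit false
set_option linter.style.haveILetI false
set_option linter.unusedSectionVars false

/-!
Tools for primes of rank one: lines in normal subgroups, subgroups centralised by a complement, and fixed points
of Frobenius actions on solvable groups.
-/

namespace CfsgLib.OddOrder.RankOneTools

open scoped commutatorElement
open SigmaFusion (cj)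

variable {G : Type*} [Group G] [Finite G] {q r : ℕ} [hqf : Fact q.Prime] [hrf : Fact r.Prime] {M : Subgroup G}

theorem isPGroup_of_card {Y : Subgroup G} (hY : Nat.card Y = r) : IsPGroup r Y :=
  IsPGroup.of_card (n := 1) (by rw [hY, pow_one])

theorem ne_bot_of_card {Y : Subgroup G} (hY : Nat.card Y = r) : Y ≠ ⊥ := fun e =>
  hrf.out.ne_one (by rw [← hY, e, Subgroup.card_bot])

theorem line_of_orderOf {y : G} (hy : orderOf y = r) : Nat.card (Subgroup.zpowers y) = r := by
  rw [Nat.card_zpowers, hy]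

/-- In rank one a line lies in every normal subgroup of order divisible by `r`. -/
theorem mem_of_rank_one (hodd : Odd (Nat.card G)) {H N Y : Subgroup G} (hHM : H ≤ M) (hr1 : Cfsg.PRankLE r 1 M)
    (hNH : N ≤ H) (hHN : H ≤ Subgroup.normalizer (N : Set G)) (hd : r ∣ Nat.card N) (hY : Nat.card Y = r)
    (hYH : Y ≤ H) : Y ≤ N := by
  obtain ⟨z, hz⟩ := exists_prime_orderOf_dvd_card' (G := N) r hd
  set Z := Subgroup.zpowers (z : G) with hZ
  have hZc : Nat.card Z = r := line_of_orderOf (by rw [Subgroup.orderOf_coe, hz])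
  have hZN : Z ≤ N := Subgroup.zpowers_le.mpr z.2
  obtain ⟨T₁, hT₁⟩ := ((isPGroup_of_card hZc).of_equiv
    (Subgroup.subgroupOfEquivOfLe (hZN.trans hNH)).symm).exists_le_sylow
  obtain ⟨T₂, hT₂⟩ := ((isPGroup_of_card hY).of_equiv (Subgroup.subgroupOfEquivOfLe hYH).symm).exists_le_sylow
  obtain ⟨h, hh⟩ := MulAction.exists_smul_eq H T₁ T₂
  have h1 := congrArg (fun T : Sylow r H => (T : Subgroup H).map H.subtype) hh
  simp only [Coprime.map_smul_sylow] at h1
  set R := (T₂ : Subgroup H).map H.subtype with hR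
  haveI : IsCyclic R := SigmaComplement.isCyclic_of_rank_one hodd ((Subgroup.map_subtype_le _).trans hHM)
    (T₂.isPGroup'.map _) hr1
  have hY' : Y ≤ R := fun x hx => ⟨⟨x, hYH hx⟩, hT₂ (Subgroup.mem_subgroupOf.mpr hx), rfl⟩
  have hZ' : cj (h : G) Z ≤ R := by
    refine le_trans (Subgroup.map_mono fun x hx => ?_) h1.le
    exact ⟨⟨x, hNH (hZN hx)⟩, hT₁ (Subgroup.mem_subgroupOf.mpr hx), rfl⟩
  rw [← Solvable.SupersolvableCriteria.eq_of_card_eq_of_le_cyclic (A := R) hZ' hY'
    (by rw [Subgroup.card_map_of_injective (MulAut.conj (h : G)).injective, hZc, hY])]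
  exact (Subgroup.map_mono hZN).trans (Subgroup.mem_normalizer_iff_map_conj_eq.mp (hHN h.2)).le

/-- For a prime outside `σ(M)` dividing `|M'|`, a complement contains an element of that order in `M'`. -/
theorem exists_derived_elem (hG : Cfsg.IsMinSimpleOddOrder G) (hM : IsCoatom M) {E : Subgroup G}
    (hE : Cfsg.IsComplIn E (Cfsg.sigmaCore M) M) (hrs : r ∉ Cfsg.sigma M) (hd : r ∣ Nat.card ↥⁅M, M⁆) :
    ∃ y ∈ ⁅E, E⁆, orderOf y = r := by
  have h := SigmaComplement.dvd_card_derived hG hM hE hrs hd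
  rw [← Subgroup.card_map_of_injective E.subtype_injective, Subgroup.map_subtype_commutator] at h
  obtain ⟨y, hy⟩ := exists_prime_orderOf_dvd_card' (G := ↥⁅E, E⁆) r h
  exact ⟨y, y.2, by rw [Subgroup.orderOf_coe, hy]⟩

/-- A complement centralises a `q`-subgroup `Q` of `W` when its lines in `M'` centralise `W` and its lines outside
`M'` centralise `Q`. -/
theorem le_centralizer_of_lines (hG : Cfsg.IsMinSimpleOddOrder G) (hM : IsCoatom M) (hqM : q ∈ Cfsg.sigma M)
    {E J Q W : Subgroup G} (hE : Cfsg.IsComplIn E (Cfsg.sigmaCore M) M)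
    (hJ : Cfsg.IsPiHallOf {s | ¬ s ∣ Nat.card ↥⁅M, M⁆} J E) (hW : IsPGroup q W) (hWM : W ≤ M)
    (hEW : E ≤ Subgroup.normalizer (W : Set G)) (hQW : Q ≤ W) (hJQ : J ≤ Subgroup.normalizer (Q : Set G))
    (hder : ∀ y ∈ E, y ∈ ⁅M, M⁆ → (orderOf y).Prime → W ≤ Subgroup.centralizer ({y} : Set G))
    (hfix : ∀ y ∈ J, (orderOf y).Prime → Q ≤ Subgroup.centralizer ({y} : Set G))
    (hrank : ∀ s : ℕ, s.Prime → s ∉ Cfsg.sigma M → ¬ Cfsg.PRankLE s 1 M → ∀ R : Subgroup G, IsPGroup s R →
      R ≤ E → R ≤ Subgroup.centralizer (Q : Set G)) : E ≤ Subgroup.centralizer (Q : Set G) := by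
  suffices h : E ≤ E ⊓ Subgroup.centralizer (Q : Set G) from h.trans inf_le_right
  rw [← Subgroup.relIndex_eq_one]
  by_contra hne
  obtain ⟨s, hs, hd⟩ := Nat.exists_prime_and_dvd hne
  haveI := Fact.mk hs
  have hsE : s ∣ Nat.card E := hd.trans (Subgroup.index_dvd_card _)
  have hss : s ∉ Cfsg.sigma M := (ComplementHall.isHall hG hM hE).2.1 s hs hsE
  suffices h : ∃ R : Subgroup G, R ≤ E ⊓ Subgroup.centralizer (Q : Set G) ∧ ¬ s ∣ R.relIndex E by
    obtain ⟨R, hR, hRd⟩ := h
    exact hRd (hd.trans (Subgroup.relIndex_dvd_of_le_left _ hR))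
  have hsyl : ∀ T : Sylow s E, ¬ s ∣ ((T : Subgroup E).map E.subtype).relIndex E := fun T => by
    rw [Subgroup.relIndex, Subgroup.subgroupOf, Subgroup.comap_map_eq_self_of_injective E.subtype_injective]
    exact T.not_dvd_index
  by_cases hs1 : Cfsg.PRankLE s 1 M
  swap
  · obtain ⟨T⟩ : Nonempty (Sylow s E) := inferInstance
    exact ⟨_, le_inf (Subgroup.map_subtype_le _)
      (hrank s hs hss hs1 _ (T.isPGroup'.map _) (Subgroup.map_subtype_le _)), hsyl T⟩
  by_cases hsd : s ∣ Nat.card ↥⁅M, M⁆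
  · obtain ⟨y, hy, hyo⟩ := exists_derived_elem hG hM hE hss hsd
    have hyE : y ∈ E := SigmaComplement.derived_le_self E hy
    obtain ⟨T, hT⟩ := ((isPGroup_of_card (line_of_orderOf hyo)).of_equiv
      (Subgroup.subgroupOfEquivOfLe (Subgroup.zpowers_le.mpr hyE)).symm).exists_le_sylow
    set R := (T : Subgroup E).map E.subtype with hR
    have hRE : R ≤ E := Subgroup.map_subtype_le _
    have hyR : y ∈ R := ⟨⟨y, hyE⟩, hT (Subgroup.mem_subgroupOf.mpr (Subgroup.mem_zpowers y)), rfl⟩
    have hWR := CyclicFix.centralizes hG hM hss hs1 hqM hW hWM (T.isPGroup'.map E.subtype) (hRE.trans hE.1)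
      (hRE.trans hEW) hyR hyo (hder y hyE (Subgroup.commutator_mono hE.1 hE.1 hy) (hyo ▸ hs))
    exact ⟨R, le_inf hRE (Subgroup.le_centralizer_iff.mp (hQW.trans hWR)), hsyl T⟩
  · obtain ⟨T⟩ : Nonempty (Sylow s J) := inferInstance
    set R := (T : Subgroup J).map J.subtype with hR
    have hRJ : R ≤ J := Subgroup.map_subtype_le _
    have hRd : ¬ s ∣ R.relIndex E := fun h => by
      rw [← Subgroup.relIndex_mul_relIndex R J E hRJ hJ.1, hR, Subgroup.relIndex, Subgroup.subgroupOf,
        Subgroup.comap_map_eq_self_of_injective J.subtype_injective] at h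
      exact (hs.dvd_mul.mp h).elim T.not_dvd_index (hJ.2.2 s hs hsd)
    have hRc : s ∣ Nat.card R := by
      rcases (T.isPGroup'.map J.subtype).card_eq_or_dvd with h | h
      · exfalso
        refine hRd ?_
        have hh := Coprime.card_mul_relIndex_eq (hRJ.trans hJ.1)
        rw [h, one_mul] at hh
        exact hh ▸ hsE
      · exact h
    obtain ⟨y, hy⟩ := exists_prime_orderOf_dvd_card' (G := R) s hRc
    have hyo : orderOf (y : G) = s := by rw [Subgroup.orderOf_coe, hy]
    exact ⟨R, le_inf (hRJ.trans hJ.1) (Subgroup.le_centralizer_iff.mp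
      (CyclicFix.centralizes hG hM hss hs1 hqM (hW.to_le hQW) (hQW.trans hWM) (T.isPGroup'.map J.subtype)
        ((hRJ.trans hJ.1).trans hE.1) (hRJ.trans hJQ) y.2 hyo (hfix y (hRJ y.2) (hyo ▸ hs)))), hRd⟩

/-- If `x` acts fixed point freely on `A` and its fixed points on the solvable group `V` are centralised by `A`,
then `A` centralises `V`. -/
theorem centralizes_of_fix_le {V A : Subgroup G} [Group.IsSolvable V] {x : G} (hr : r.Prime) (hxr : x ^ r = 1)
    (hxV : x ∈ Subgroup.normalizer (V : Set G)) (hAV : A ≤ Subgroup.normalizer (V : Set G))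
    (hxA : x ∈ Subgroup.normalizer (A : Set G)) (hfpf : A ⊓ Subgroup.centralizer ({x} : Set G) = ⊥)
    (hcop : (Nat.card V).Coprime (Nat.card A)) (hcopx : (Nat.card V).Coprime r)
    (hfix : V ⊓ Subgroup.centralizer ({x} : Set G) ≤ Subgroup.centralizer (A : Set G)) :
    A ≤ Subgroup.centralizer (V : Set G) := by
  set D : ℕ → Subgroup G := fun i => (derivedSeries V i).map V.subtype with hD
  have hDn : ∀ i, Subgroup.normalizer (V : Set G) ≤ Subgroup.normalizer (D i : Set G) := by
    intro i g hg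
    refine NormalizerFusion.mem_normalizer_of_conj ?_
    have hmap := Subgroup.mem_normalizer_iff_map_conj_eq.mp hg
    let e : V ≃* V := ((MulAut.conj g).subgroupMap V).trans (MulEquiv.subgroupCongr hmap)
    rintro _ ⟨v, hv, rfl⟩
    exact ⟨e v, (Subgroup.characteristic_iff_map_le.mp inferInstance e) ⟨v, hv, rfl⟩, by rfl⟩
  have hDle : ∀ i, D i ≤ V := fun i => Subgroup.map_subtype_le _
  have step : ∀ i, A ≤ Subgroup.centralizer (D (i + 1) : Set G) → A ≤ Subgroup.centralizer (D i : Set G) := by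
    intro i ih
    set N := D i ⊓ Subgroup.centralizer (A : Set G) with hN
    have hder : ⁅D i, D i⁆ ≤ N := by
      have e : D (i + 1) = ⁅D i, D i⁆ := by simp only [hD, derivedSeries_succ, Subgroup.map_commutator]
      exact le_inf (SigmaComplement.derived_le_self _) (e ▸ Subgroup.le_centralizer_iff.mp ih)
    have hnC : Subgroup.normalizer (A : Set G) ≤
        Subgroup.normalizer ((Subgroup.centralizer (A : Set G) : Subgroup G) : Set G) :=
      WLine.normalizer_le_normalizer_centralizer A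
    have hnN : ∀ g ∈ Subgroup.normalizer (V : Set G), g ∈ Subgroup.normalizer (A : Set G) →
        g ∈ Subgroup.normalizer (N : Set G) := fun g hg hgA =>
      Subgroup.inf_normalizer_le_normalizer_inf ⟨hDn i hg, hnC hgA⟩
    have hcom : ⁅D i, A⁆ ≤ N := by
      by_contra hnc
      refine FrobeniusFixed.inf_centralizer_not_le inf_le_left hder hr hxr (hDn i hxV) (hAV.trans (hDn i))
        (hnN x hxV hxA) (fun a ha => hnN a (hAV ha) (Subgroup.le_normalizer ha)) hxA hfpf
        (hcop.coprime_dvd_left (Subgroup.card_dvd_of_le (hDle i)))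
        (hcopx.coprime_dvd_left (Subgroup.card_dvd_of_le (hDle i))) hnc ?_
      exact le_inf inf_le_left ((inf_le_inf_right _ (hDle i)).trans hfix)
    intro a ha
    refine Subgroup.mem_centralizer_iff.mpr fun k hk => ?_
    refine (Coprime.commute_of_stabilizes (N := N) ?_ ?_ ?_).eq.symm
    · exact ((hcop.coprime_dvd_left (Subgroup.card_dvd_of_le (inf_le_left.trans (hDle i)))).symm).coprime_dvd_left
        (Subgroup.orderOf_dvd_natCard A ha)
    · exact Subgroup.centralizer_le (SetLike.coe_subset_coe.mpr inf_le_right)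
        (Subgroup.mem_centralizer_iff.mpr fun c hc => (Subgroup.mem_centralizer_iff.mp hc a ha).symm)
    · exact Coprime.commutatorElement_mem_iff.2 (hcom (Subgroup.commutator_mem_commutator hk ha))
  obtain ⟨n, hn⟩ := Group.IsSolvable.solvable (G := V)
  have key : ∀ i, i ≤ n → A ≤ Subgroup.centralizer (D i : Set G) := by
    intro i hi
    induction hi using Nat.decreasingInduction with
    | self =>
      intro a _
      refine Subgroup.mem_centralizer_iff.mpr fun b hb => ?_
      simp only [hD, hn, Subgroup.map_bot, SetLike.mem_coe, Subgroup.mem_bot] at hb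
      simp [hb]
    | of_succ i _ ih => exact step i ih
  have h0 : D 0 = V := by
    simp only [hD, derivedSeries_zero, ← MonoidHom.range_eq_map, Subgroup.range_subtype]
  exact h0 ▸ key 0 (Nat.zero_le n)

end CfsgLib.OddOrder.RankOneTools
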