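import Cfsg.Agent.Lib.OddOrder.PStable
import Cfsg.Agent.Lib.OddOrder.Stabilize
import Cfsg.Agent.Lib.OddOrder.PLengthOne
import Cfsg.Agent.Lib.Coprime.Action
import Cfsg.Agent.Lib.Coprime.Generation

set_option autoImplicit false

/-!
Subgroups of order prime to `p` normalised by a self-centralising abelian `p`-subgroup.
-/

namespace CfsgLib.OddOrder.SCNInvariant

open scoped commutatorElement

variable {X : Type*} [Group X] [Finite X] {p : ℕ} [Fact p.Prime]

theorem coprime_card_isPGroup {L T : Subgroup X} (hL : (Nat.card L).Coprime p) (hT : IsPGroup p T) :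
    (Nat.card L).Coprime (Nat.card T) := by
  obtain ⟨k, hk⟩ := hT.exists_card_eq
  rw [hk]; exact hL.pow_right k

theorem centralizer_pCore_quotient_le [Group.IsSolvable X] :
    Subgroup.centralizer (Cfsg.pCore p (X ⧸ Cfsg.pPrimeCore p X) : Set (X ⧸ Cfsg.pPrimeCore p X)) ≤
      Cfsg.pCore p (X ⧸ Cfsg.pPrimeCore p X) :=
  CfsgLib.Fusion.PSolvable.centralizer_pCore_le CfsgLib.Fusion.PSolvable.psolvable_of_solvable
    CfsgLib.Components.pPrimeCore_quotient_eq_bot

/-- A `p'`-subgroup of `C(W)` normalised by `C(W)` lies in `O_{p'}(X)` (`X` solvable, `W` a `p`-group). -/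
theorem balance [Group.IsSolvable X] (W D : Subgroup X) (hW : IsPGroup p W)
    (hDW : D ≤ Subgroup.centralizer (W : Set X)) (hD : (Nat.card D).Coprime p)
    (hn : Subgroup.centralizer (W : Set X) ≤ Subgroup.normalizer (D : Set X)) :
    D ≤ Cfsg.pPrimeCore p X := by
  set O := Cfsg.pPrimeCore p X with hO
  set q := QuotientGroup.mk' O with hq
  set T := Cfsg.pCore p (X ⧸ O) with hT
  have hTp : IsPGroup p T := Solvable.Cores.isPGroup_pCore p
  have hDcop : (Nat.card (D.map q)).Coprime p := hD.coprime_dvd_left (D.card_map_dvd q)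
  haveI := hW.isNilpotent
  have hfix : T ⊓ Subgroup.centralizer ((W.map q : Subgroup _) : Set (X ⧸ O)) ≤
      Subgroup.centralizer ((D.map q : Subgroup _) : Set (X ⧸ O)) := by
    rintro t ⟨htT, htW⟩
    obtain ⟨x, rfl⟩ := QuotientGroup.mk'_surjective O t
    obtain ⟨n, hn', hnx⟩ := CfsgLib.Coprime.exists_mul_mem_centralizer (A := W) (N := O) (k := x)
      (by rw [Subgroup.normalizer_eq_top]; exact le_top)
      (coprime_card_isPGroup (Solvable.Cores.coprime_card_pPrimeCore p) hW).symm (.inl inferInstance)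
      (fun w hw => by
        refine (QuotientGroup.eq_one_iff _).mp ?_
        show q ⁅w, x⁆ = 1
        rw [map_commutatorElement]
        exact commutatorElement_eq_one_iff_mul_comm.mpr
          (Subgroup.mem_centralizer_iff.mp htW (q w) ⟨w, hw, rfl⟩))
    rw [Subgroup.mem_centralizer_iff]
    rintro _ ⟨d, hd, rfl⟩
    have hqx : q (n * x) = q x := by
      rw [map_mul, show q n = 1 from (QuotientGroup.eq_one_iff n).mpr hn', one_mul]
    have h1 : ⁅q (n * x), q d⁆ ∈ D.map q := by
      rw [← map_commutatorElement]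
      exact ⟨_, mul_mem ((Subgroup.mem_normalizer_iff.mp (hn hnx) d).mp hd) (inv_mem hd), rfl⟩
    rw [hqx] at h1
    have h2 : ⁅q x, q d⁆ ∈ T := by
      have := mul_mem htT ((inferInstance : T.Normal).conj_mem _ (inv_mem htT) (q d))
      rw [commutatorElement_def]
      rwa [← mul_assoc, ← mul_assoc] at this
    have h3 : ⁅q x, q d⁆ ∈ D.map q ⊓ T := ⟨h1, h2⟩
    rw [Subgroup.inf_eq_bot_of_coprime (coprime_card_isPGroup hDcop hTp), Subgroup.mem_bot] at h3
    exact (commutatorElement_eq_one_iff_mul_comm.mp h3).symm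
  have hprod := CfsgLib.Coprime.le_centralizer_of_prod (P := W.map q) (Q := D.map q) (G := T)
    (hW.map q) hDcop (by
      rw [← Subgroup.map_commutator, Subgroup.map_eq_bot_iff]
      exact ((Subgroup.commutator_eq_bot_iff_le_centralizer.mpr
        (Subgroup.le_centralizer_iff.mp hDW)).le).trans bot_le)
    hTp (by rw [Subgroup.normalizer_eq_top]; exact le_top)
    (by rw [Subgroup.normalizer_eq_top]; exact le_top) hfix
  have hbot : D.map q = ⊥ := le_bot_iff.mp ((le_inf le_rfl (hprod.trans centralizer_pCore_quotient_le)).trans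
    (Subgroup.inf_eq_bot_of_coprime (coprime_card_isPGroup hDcop hTp)).le)
  rw [Subgroup.map_eq_bot_iff, QuotientGroup.ker_mk'] at hbot
  exact hbot

theorem eq_bot_of_normalized (hodd : Odd (Nat.card X)) (A T L : Subgroup X) [T.Normal]
    [IsMulCommutative A] (hAp : IsPGroup p A) (hTp : IsPGroup p T)
    (hcons : Subgroup.centralizer (T : Set X) ≤ T)
    (hself : T ⊓ Subgroup.centralizer (A : Set X) ≤ A)
    (hTA : ⁅T, A⁆ ≤ Subgroup.normalizer (A : Set X)) (hL : (Nat.card L).Coprime p)
    (hAL : A ≤ Subgroup.normalizer (L : Set X)) : L = ⊥ := by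
  have hLT := coprime_card_isPGroup hL hTp
  have hbotLT := Subgroup.inf_eq_bot_of_coprime hLT
  set D := A ⊓ T with hD
  set C := T ⊓ Subgroup.centralizer (D : Set X) with hC
  haveI : Group.IsNilpotent T := hTp.isNilpotent
  have hTn : ∀ H : Subgroup X, H ≤ Subgroup.normalizer (T : Set X) := fun H => by
    rw [Subgroup.normalizer_eq_top]; exact le_top
  have hLD : L ≤ Subgroup.centralizer (D : Set X) := by
    rw [← Subgroup.commutator_eq_bot_iff_le_centralizer, eq_bot_iff, ← hbotLT]
    exact le_inf (Subgroup.le_normalizer_iff_commutator_le_left.mp (inf_le_left.trans hAL))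
      ((Subgroup.commutator_mono le_rfl inf_le_right).trans (Subgroup.commutator_le_right L T))
  have hAD : A ≤ Subgroup.centralizer (D : Set X) :=
    A.le_centralizer.trans (Subgroup.centralizer_le inf_le_left)
  have hDC : D ≤ C := le_inf inf_le_right (inf_le_left.trans hAD)
  have hnC : ∀ H : Subgroup X, H ≤ Subgroup.centralizer (D : Set X) →
      H ≤ Subgroup.normalizer (C : Set X) := fun H hH =>
    (le_inf (hTn H) (hH.trans Subgroup.le_normalizer)).trans Subgroup.inf_normalizer_le_normalizer_inf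
  set H := Subgroup.normalizer (C : Set X) ⊓ Subgroup.normalizer (D : Set X) with hH
  have hCH : C ≤ H := le_inf Subgroup.le_normalizer (inf_le_right.trans (Subgroup.centralizer_le_normalizer _))
  have hAH : A ≤ H := le_inf (hnC A hAD) (hAD.trans (Subgroup.centralizer_le_normalizer _))
  have hLH : L ≤ H := le_inf (hnC L hLD) (hLD.trans (Subgroup.centralizer_le_normalizer _))
  set Cs := C.subgroupOf H with hCs
  set Ds := D.subgroupOf H with hDs
  set As := A.subgroupOf H with hAs
  haveI : Cs.Normal := (Subgroup.normal_subgroupOf_iff_le_normalizer hCH).mpr inf_le_left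
  haveI : Ds.Normal := (Subgroup.normal_subgroupOf_iff_le_normalizer (hDC.trans hCH)).mpr inf_le_right
  set q := QuotientGroup.mk' Ds with hq
  set P := Cs.map q with hP
  haveI : P.Normal := (inferInstance : Cs.Normal).map q (QuotientGroup.mk'_surjective Ds)
  have hPp : IsPGroup p P :=
    (IsPGroup.comap_of_injective (hTp.to_le inf_le_left) H.subtype H.subtype_injective).map q
  have hquad : ⁅⁅P, As.map q⁆, As.map q⁆ = ⊥ := by
    rw [hP, ← Subgroup.map_commutator, ← Subgroup.map_commutator, Subgroup.map_eq_bot_iff,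
      QuotientGroup.ker_mk', hDs, Subgroup.subgroupOf, ← Subgroup.map_le_iff_le_comap,
      Subgroup.map_commutator, Subgroup.map_commutator, hCs, hAs,
      Subgroup.map_subgroupOf_eq_of_le hCH, Subgroup.map_subgroupOf_eq_of_le hAH]
    refine le_inf ?_ ?_
    · exact Subgroup.le_normalizer_iff_commutator_le_right.mp
        ((Subgroup.commutator_mono inf_le_left le_rfl).trans hTA)
    · refine le_trans (Subgroup.commutator_mono (le_trans (Subgroup.commutator_mono inf_le_left le_rfl)
        (Subgroup.commutator_le_left T A)) le_rfl) (Subgroup.commutator_le_left T A)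
  set C1 := Subgroup.centralizer (P : Set (H ⧸ Ds)) with hC1
  haveI : C1.Normal := inferInstance
  have hodd' : Odd (Nat.card (H ⧸ Ds)) :=
    Odd.of_dvd_nat hodd ((Subgroup.card_quotient_dvd_card Ds).trans (Subgroup.card_subgroup_dvd_card H))
  have hmap := PStable.map_le_pCore hodd' P hPp C1 hC1 (As.map q) hquad
  have hgen : ∀ l ∈ L, ∀ a ∈ A, ⁅l, a⁆ = 1 := by
    intro l hl a ha
    have hgL : ⁅l, a⁆ ∈ L := by
      have h := (Subgroup.mem_normalizer_iff.mp (hAL ha) l⁻¹).mp (inv_mem hl)
      simpa [commutatorElement_def, mul_assoc] using mul_mem hl h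
    set r := (QuotientGroup.mk' C1).comp q with hr
    have haT : r ⟨a, hAH ha⟩ ∈ Cfsg.pCore p ((H ⧸ Ds) ⧸ C1) :=
      hmap ⟨q ⟨a, hAH ha⟩, ⟨⟨a, hAH ha⟩, ha, rfl⟩, rfl⟩
    set g : H := ⁅(⟨l, hLH hl⟩ : H), (⟨a, hAH ha⟩ : H)⁆ with hg
    have hgv : (g : X) = ⁅l, a⁆ := rfl
    have hrg : r g ∈ Cfsg.pCore p ((H ⧸ Ds) ⧸ C1) := by
      rw [hg, map_commutatorElement, commutatorElement_def]
      exact mul_mem ((inferInstance : (Cfsg.pCore p ((H ⧸ Ds) ⧸ C1)).Normal).conj_mem _ haT _) (inv_mem haT)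
    have hcopg : (orderOf g).Coprime p := by
      rw [← Subgroup.orderOf_coe, hgv]
      exact hL.coprime_dvd_left (Subgroup.orderOf_dvd_natCard _ hgL)
    have hr1 : r g = 1 := by
      obtain ⟨k, hk⟩ := Solvable.Cores.isPGroup_pCore p (G := (H ⧸ Ds) ⧸ C1) ⟨r g, hrg⟩
      exact orderOf_eq_one_iff.mp (Nat.eq_one_of_dvd_coprimes (hcopg.pow_right k)
        (orderOf_map_dvd r g) (orderOf_dvd_of_pow_eq_one (congrArg Subtype.val hk)))
    have hgC1 : q g ∈ C1 := (QuotientGroup.eq_one_iff _).mp hr1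
    have hgD : ⁅l, a⁆ ∈ Subgroup.centralizer (D : Set X) := hLD hgL
    have hgC : ∀ c ∈ C, Commute ⁅l, a⁆ c := by
      intro c hc
      refine CfsgLib.Coprime.commute_of_stabilizes (N := D) ?_ hgD ?_
      · exact (coprime_card_isPGroup hL (hTp.to_le inf_le_right)).coprime_dvd_left
          (Subgroup.orderOf_dvd_natCard _ hgL)
      · have h1 := Subgroup.mem_centralizer_iff.mp hgC1 (q ⟨c, hCH hc⟩) ⟨⟨c, hCH hc⟩, hc, rfl⟩
        have h2 : q ⁅g, ⟨c, hCH hc⟩⁆ = 1 := by
          rw [map_commutatorElement]; exact commutatorElement_eq_one_iff_mul_comm.mpr h1.symm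
        exact ((QuotientGroup.eq_one_iff (N := Ds) _).mp h2 : ⁅g, (⟨c, hCH hc⟩ : H)⁆ ∈ Ds)
    have hz := Stabilize.le_centralizer_of_selfcentralizing (H := T) (A := Subgroup.zpowers ⁅l, a⁆) (C := C)
      (hTn _) (hLT.coprime_dvd_left (Subgroup.card_dvd_of_le (Subgroup.zpowers_le.mpr hgL))) inf_le_left
      (Subgroup.zpowers_le.mpr (Subgroup.mem_centralizer_iff.mpr fun c hc => (hgC c hc).symm.eq))
      (le_inf inf_le_left (inf_le_right.trans (Subgroup.centralizer_le hDC)))
    have : ⁅l, a⁆ ∈ L ⊓ T := ⟨hgL, hcons (hz (Subgroup.mem_zpowers _))⟩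
    rwa [hbotLT, Subgroup.mem_bot] at this
  have hALbot : ⁅A, L⁆ = ⊥ := by
    rw [Subgroup.commutator_eq_bot_iff_le_centralizer]
    intro a ha
    rw [Subgroup.mem_centralizer_iff]
    exact fun l hl => commutatorElement_eq_one_iff_mul_comm.mp (hgen l hl a ha)
  have hLcT := CfsgLib.Coprime.le_centralizer_of_prod (P := A) (Q := L) (G := T) hAp hL hALbot hTp
    (hTn A) (hTn L) (by
      intro t ht
      exact Subgroup.mem_centralizer_iff.mpr fun l hl =>
        (Subgroup.mem_centralizer_iff.mp (hLD hl) t ⟨hself ht, ht.1⟩).symm)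
  exact le_bot_iff.mp ((le_inf le_rfl (hLcT.trans hcons)).trans hbotLT.le)

/-- A `p'`-subgroup normalised by an abelian subgroup `A` that is self-centralising in a Sylow subgroup `S`
with `[S, A] ≤ N(A)` lies in `O_{p'}`. -/
theorem le_pPrimeCore [Group.IsSolvable X] (hodd : Odd (Nat.card X)) (S : Sylow p X) (A L : Subgroup X)
    [IsMulCommutative A] (hAS : A ≤ (S : Subgroup X))
    (hself : (S : Subgroup X) ⊓ Subgroup.centralizer (A : Set X) ≤ A)
    (hSA : ⁅(S : Subgroup X), A⁆ ≤ Subgroup.normalizer (A : Set X)) (hL : (Nat.card L).Coprime p)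
    (hAL : A ≤ Subgroup.normalizer (L : Set X)) : L ≤ Cfsg.pPrimeCore p X := by
  set O := Cfsg.pPrimeCore p X with hO
  set q := QuotientGroup.mk' O with hq
  set T := Cfsg.pCore p (X ⧸ O) with hT
  have hTS : T ≤ (S : Subgroup X).map q := by
    have := Solvable.Cores.pCore_le_sylow (S.mapSurjective (QuotientGroup.mk'_surjective O))
    rwa [Sylow.coe_mapSurjective] at this
  have hAcomm : IsMulCommutative (A.map q) := by
    refine Subgroup.le_centralizer_iff_isMulCommutative.mp ?_
    rintro _ ⟨a, ha, rfl⟩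
    rw [Subgroup.mem_centralizer_iff]
    rintro _ ⟨b, hb, rfl⟩
    rw [← map_mul, ← map_mul, Subgroup.mem_centralizer_iff.mp (A.le_centralizer ha) b hb]
  have hbot := eq_bot_of_normalized (X := X ⧸ O) (p := p)
    (Odd.of_dvd_nat hodd (Subgroup.card_quotient_dvd_card O)) (A.map q) T (L.map q)
    ((S.isPGroup'.to_le hAS).map q) (Solvable.Cores.isPGroup_pCore p) centralizer_pCore_quotient_le
    (by
      rintro t ⟨htT, htA⟩
      obtain ⟨s, hs, rfl⟩ := hTS htT
      refine ⟨s, hself ⟨hs, Subgroup.mem_centralizer_iff.mpr fun a ha => ?_⟩, rfl⟩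
      have h1 := Subgroup.mem_centralizer_iff.mp htA (q a) ⟨a, ha, rfl⟩
      rw [← map_mul, ← map_mul] at h1
      have h2 : (a * s)⁻¹ * (s * a) ∈ O := QuotientGroup.eq.mp h1
      have h3 : (a * s)⁻¹ * (s * a) ∈ (S : Subgroup X) :=
        mul_mem (inv_mem (mul_mem (hAS ha) hs)) (mul_mem hs (hAS ha))
      exact inv_mul_eq_one.mp (PLengthOne.eq_one_of_mem S h3 h2))
    (by
      refine le_trans ?_ ((Subgroup.map_mono hSA).trans (Subgroup.le_normalizer_map q))
      rw [Subgroup.map_commutator]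
      exact Subgroup.commutator_mono hTS le_rfl)
    (hL.coprime_dvd_left (L.card_map_dvd q))
    ((Subgroup.map_mono hAL).trans (Subgroup.le_normalizer_map q))
  rw [Subgroup.map_eq_bot_iff, QuotientGroup.ker_mk'] at hbot
  exact hbot

end CfsgLib.OddOrder.SCNInvariant
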