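import Cfsg.Agent.Lib.Fusion.Alperin
import Cfsg.Agent.Lib.Fusion.Transfer
import Cfsg.Agent.Lib.OddOrder.Uniqueness
import Mathlib

set_option autoImplicit false

/-!
`N(Z(J(P)))` controls fusion when all `p`-local subgroups are solvable of odd order.
-/

namespace CfsgLib.OddOrder.ZJControl

open scoped Pointwise

variable {G : Type*} [Group G] {p : ℕ}

/-- Conjugation by `g` agrees on `A` with conjugation by an element of `H`. -/
def ActsLike (H : Subgroup G) (A : Set G) (g : G) : Prop := ∃ h ∈ H, ∀ a ∈ A, h⁻¹ * a * h = g⁻¹ * a * g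

theorem ncard_image_conj (g : G) (A : Set G) : ((fun a => g⁻¹ * a * g) '' A).ncard = A.ncard :=
  Set.ncard_image_of_injective A fun a b h => by simpa using h

variable [Finite G] [Fact p.Prime]

theorem chain_acts (P : Sylow p G) (H : Subgroup G) {A : Set G} {g : G} (hc : Fusion.Alperin.Chain P A g)
    (hstep : ∀ (Q : Sylow p G) (B : Set G) (x : G), Fusion.Alperin.Tame P Q →
      x ∈ Subgroup.normalizer ((((P : Subgroup G) ⊓ (Q : Subgroup G)) : Subgroup G) : Set G) →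
      B ⊆ (((P : Subgroup G) ⊓ (Q : Subgroup G) : Subgroup G) : Set G) → B.ncard = A.ncard → ActsLike H B x) :
    ActsLike H A g := by
  induction hc with
  | nil A hA => exact ⟨1, one_mem _, fun a _ => rfl⟩
  | cons A Q x g ht hx hA _ ih =>
    obtain ⟨h₁, hh₁, he₁⟩ := hstep Q A x ht hx hA rfl
    obtain ⟨h₂, hh₂, he₂⟩ := ih fun Q' B y h1 h2 h3 h4 => hstep Q' B y h1 h2 h3 (h4.trans (ncard_image_conj x A))
    refine ⟨h₁ * h₂, mul_mem hh₁ hh₂, fun a ha => ?_⟩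
    calc (h₁ * h₂)⁻¹ * a * (h₁ * h₂) = h₂⁻¹ * (h₁⁻¹ * a * h₁) * h₂ := by group
      _ = h₂⁻¹ * (x⁻¹ * a * x) * h₂ := by rw [he₁ a ha]
      _ = g⁻¹ * (x⁻¹ * a * x) * g := he₂ _ ⟨a, ha, rfl⟩
      _ = (x * g)⁻¹ * a * (x * g) := by group

/-- A `p`-subgroup of index prime to `p` in `N` is a Sylow subgroup of `N`. -/
theorem exists_sylow_of_not_dvd {N R : Subgroup G} (hRN : R ≤ N) (hR : IsPGroup p R)
    (h : ¬ p ∣ R.relIndex N) : ∃ S : Sylow p N, (S : Subgroup N).map N.subtype = R := by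
  refine Uniqueness.exists_sylow_of_max hRN hR fun V hV hRV hVN => ?_
  have hp := (Fact.out : p.Prime)
  have h1 : R.relIndex V ∣ R.relIndex N := Dvd.intro _ (Subgroup.relIndex_mul_relIndex R V N hRV hVN)
  have h2 : R.relIndex V ∣ Nat.card V := Subgroup.index_dvd_card _
  obtain ⟨k, hk⟩ := hV.exists_card_eq
  rw [hk] at h2
  obtain ⟨j, -, hj⟩ := (Nat.dvd_prime_pow hp).mp h2
  have hj0 : j = 0 := by
    by_contra hne
    exact h ((dvd_pow_self p hne).trans (hj ▸ h1))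
  rw [hj0, pow_zero] at hj
  exact le_antisymm (Subgroup.relIndex_eq_one.mp hj) hRV

variable (hodd : Odd (Nat.card G)) (P : Sylow p G)
  (hloc : ∀ U : Subgroup G, IsPGroup p U → U ≠ ⊥ → Group.IsSolvable (Subgroup.normalizer (U : Set G)))
include hodd hloc

theorem acts_normalizer (k : ℕ) : ∀ U : Subgroup G, IsPGroup p U → U ≠ ⊥ →
    ¬ p ∣ ((P : Subgroup G) ⊓ Subgroup.normalizer (U : Set G)).relIndex (Subgroup.normalizer (U : Set G)) →
    Nat.card (P : Subgroup G) - Nat.card ↥((P : Subgroup G) ⊓ Subgroup.normalizer (U : Set G)) = k →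
    ∀ y ∈ Subgroup.normalizer (U : Set G), ∀ S : Set G,
      S ⊆ (((P : Subgroup G) ⊓ Subgroup.normalizer (U : Set G) : Subgroup G) : Set G) →
      (fun a => y⁻¹ * a * y) '' S ⊆ (((P : Subgroup G) ⊓ Subgroup.normalizer (U : Set G) : Subgroup G) : Set G) →
      ActsLike (Subgroup.normalizer (Cfsg.centerThompsonOf p (P : Subgroup G) : Set G)) S y := by
  induction k using Nat.strong_induction_on with
  | _ k ih =>
  intro U hU hU1 hsyl hk y hy S hS hSy
  subst hk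
  have hp := (Fact.out : p.Prime)
  set H := Subgroup.normalizer (Cfsg.centerThompsonOf p (P : Subgroup G) : Set G) with hH
  set N := Subgroup.normalizer (U : Set G) with hN
  set R := (P : Subgroup G) ⊓ N with hR
  have hRp : IsPGroup p R := P.isPGroup'.to_le inf_le_left
  obtain ⟨SN, hSN⟩ := exists_sylow_of_not_dvd (inf_le_right : R ≤ N) hRp hsyl
  have hR1 : R ≠ ⊥ := by
    intro hb
    apply hsyl
    rw [hb, Subgroup.relIndex_bot_left]
    exact (hU.card_eq_or_dvd.resolve_left fun h1 => hU1 (Subgroup.eq_bot_of_card_eq _ h1)).trans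
      (Subgroup.card_dvd_of_le Subgroup.le_normalizer)
  haveI : Group.IsSolvable N := hloc U hU hU1
  set Z₁ := Cfsg.centerThompsonOf p R with hZ₁
  set O := (Cfsg.pPrimeCore p N).map N.subtype with hO
  set N₁ := N ⊓ Subgroup.normalizer (Z₁ : Set G) with hN₁
  have hRN₁ : R ≤ N₁ := le_inf inf_le_right (Subgroup.le_normalizer.trans (ZJ.centerThompsonOf_normalizer R))
  have hON : O ≤ N := Subgroup.map_subtype_le _
  have hNO : N ≤ Subgroup.normalizer (O : Set G) := SylowLocal.le_normalizer_coreOf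
  have hNdec : N ≤ N₁ ⊔ O := by
    refine SylowLocal.le_of_center_thompson (Uniqueness.odd_of_le hodd N) SN le_sup_right ?_
    rw [hSN]; exact le_sup_left
  -- write `y = n * o`
  have hsupN : N₁ ⊔ O ≤ N := sup_le inf_le_left hON
  obtain ⟨n, hn, o, ho, rfl⟩ : ∃ n ∈ N₁, ∃ o ∈ O, y = n * o := by
    have h := hNdec hy
    rw [← SetLike.mem_coe, Subgroup.coe_mul_of_left_le_normalizer_right N₁ O (inf_le_left.trans hNO)] at h
    obtain ⟨n, hn, o, ho, he⟩ := Set.mem_mul.mp h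
    exact ⟨n, hn, o, ho, he.symm⟩
  set D := Subgroup.closure S with hD
  have hDR : D ≤ R := (Subgroup.closure_le R).mpr hS
  set D₁ := D.map (MulAut.conj n⁻¹).toMonoidHom with hD₁
  set D₂ := D.map (MulAut.conj (n * o)⁻¹).toMonoidHom with hD₂
  have hD₂R : D₂ ≤ R := by
    rw [hD₂, hD, MonoidHom.map_closure, Subgroup.closure_le]
    rintro _ ⟨a, ha, rfl⟩
    refine hSy ⟨a, ha, ?_⟩
    simp [mul_assoc]
  have hD₁N : D₁ ≤ N₁ := by
    rintro _ ⟨d, hd, rfl⟩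
    simpa using mul_mem (mul_mem (inv_mem hn) (hRN₁ (hDR hd))) hn
  set K := O ⊓ N₁ with hK
  have hN₁K : N₁ ≤ Subgroup.normalizer (K : Set G) :=
    le_trans (le_inf (inf_le_left.trans hNO) Subgroup.le_normalizer) Subgroup.inf_normalizer_le_normalizer_inf
  have hcong : ∀ d ∈ D, (n⁻¹ * d * n)⁻¹ * ((n * o)⁻¹ * d * (n * o)) ∈ O := by
    intro d hd
    have hd' : n⁻¹ * d * n ∈ N := (hD₁N ⟨d, hd, by simp [mul_assoc]⟩).1
    have h1 : (n⁻¹ * d * n)⁻¹ * o⁻¹ * (n⁻¹ * d * n) ∈ O :=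
      (Subgroup.mem_normalizer_iff''.mp (hNO hd') _).mp (inv_mem ho)
    have h2 := mul_mem h1 ho
    convert h2 using 1
    group
  have hsup : D₁ ≤ K ⊔ D₂ := by
    rintro _ ⟨d, hd, rfl⟩
    have h2 : (n * o)⁻¹ * d * (n * o) ∈ D₂ := ⟨d, hd, by simp [mul_assoc]⟩
    have h1 : n⁻¹ * d * n ∈ N₁ := hD₁N ⟨d, hd, by simp [mul_assoc]⟩
    have hk1 : (n⁻¹ * d * n)⁻¹ * ((n * o)⁻¹ * d * (n * o)) ∈ K :=
      Subgroup.mem_inf.mpr ⟨hcong d hd, Subgroup.mul_mem _ (Subgroup.inv_mem _ h1) (hRN₁ (hD₂R h2))⟩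
    have hk2 : (n⁻¹ * d * n) * ((n⁻¹ * d * n)⁻¹ * ((n * o)⁻¹ * d * (n * o)))⁻¹ * (n⁻¹ * d * n)⁻¹ ∈ K :=
      (Subgroup.mem_normalizer_iff.mp (hN₁K h1) _).mp (inv_mem hk1)
    have h3 : n⁻¹ * d * n ∈ K ⊔ D₂ := by
      have := mul_mem (Subgroup.mem_sup_left (T := D₂) hk2) (Subgroup.mem_sup_right (S := K) h2)
      convert this using 1
      group
    simpa [mul_assoc] using h3
  have hcopO : ∀ {W : Subgroup G}, IsPGroup p W → (Nat.card O).Coprime (Nat.card W) := fun {W} hW => by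
    obtain ⟨j, hj⟩ := hW.exists_card_eq
    rw [hj]; exact SylowLocal.coreOf_coprime.pow_right j
  have hD₁p : IsPGroup p D₁ := (hRp.to_le hDR).map _
  obtain ⟨m, hm, hmap⟩ := Coprime.exists_conj_eq (N := K) (H := D₁) (K := D₂)
    (Or.inl (Coprime.isSolvable_of_le (inf_le_right.trans inf_le_left) inferInstance))
    (hD₁N.trans hN₁K) ((hD₂R.trans hRN₁).trans hN₁K) hsup
    (by rw [Subgroup.card_map_of_injective (MulAut.conj n⁻¹).injective,
      Subgroup.card_map_of_injective (MulAut.conj (n * o)⁻¹).injective])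
    ((hcopO hD₁p).coprime_dvd_left (Subgroup.card_dvd_of_le inf_le_left))
  -- `n * m⁻¹` acts as `y`
  set n' := n * m⁻¹ with hn'
  have hn'N : n' ∈ N₁ := mul_mem hn (inv_mem hm.2)
  have hact : ∀ a ∈ S, n'⁻¹ * a * n' = (n * o)⁻¹ * a * (n * o) := by
    intro a ha
    have haD : a ∈ D := Subgroup.subset_closure ha
    set a₁ := n⁻¹ * a * n with ha₁
    set a₂ := (n * o)⁻¹ * a * (n * o) with ha₂
    have h1 : n'⁻¹ * a * n' ∈ D₂ := hmap ▸ ⟨a₁, ⟨a, haD, by simp [ha₁, mul_assoc]⟩, by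
      simp [hn', ha₁, mul_assoc]⟩
    have h2 : a₂ ∈ D₂ := ⟨a, haD, by simp [ha₂, mul_assoc]⟩
    have hO1 : a₁⁻¹ * a₂ ∈ O := hcong a haD
    have ha₁N : a₁ ∈ N := (hD₁N ⟨a, haD, by simp [ha₁, mul_assoc]⟩).1
    have hO2 : a₁⁻¹ * (n'⁻¹ * a * n') ∈ O := by
      have h3 : a₁⁻¹ * m * a₁ ∈ O := (Subgroup.mem_normalizer_iff''.mp (hNO ha₁N) _).mp hm.1
      have h4 := mul_mem h3 (inv_mem hm.1)
      convert h4 using 1
      simp only [hn', ha₁]; group
    have h5 : (n'⁻¹ * a * n')⁻¹ * a₂ ∈ O ⊓ R := by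
      refine Subgroup.mem_inf.mpr ⟨?_, hD₂R (mul_mem (inv_mem h1) h2)⟩
      have := Subgroup.mul_mem _ (Subgroup.inv_mem _ hO2) hO1
      rwa [show (a₁⁻¹ * (n'⁻¹ * a * n'))⁻¹ * (a₁⁻¹ * a₂) = (n'⁻¹ * a * n')⁻¹ * a₂ by group] at this
    rw [Subgroup.inf_eq_bot_of_coprime (hcopO hRp), Subgroup.mem_bot] at h5
    exact (inv_mul_eq_one.mp h5)
  by_cases hRP : R = (P : Subgroup G)
  · refine ⟨n', ?_, hact⟩
    have h := hn'N.2
    rwa [hZ₁, hRP] at h
  -- go up to the normalizer of `Z₁`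
  set M₁ := (P : Subgroup G) ⊓ Subgroup.normalizer (Z₁ : Set G) with hM₁
  have hRM₁ : Nat.card R < Nat.card M₁ :=
    lt_of_lt_of_le (Set.ncard_lt_ncard (SetLike.coe_ssubset_coe.mpr
      (Coprime.lt_normalizer_inf_of_lt P.isPGroup' (lt_of_le_of_ne inf_le_left hRP))))
      (Subgroup.card_le_of_le (inf_le_inf_left _ (ZJ.centerThompsonOf_normalizer R)))
  set L := Subgroup.normalizer (Z₁ : Set G) with hL
  obtain ⟨T, hT⟩ := ((P.isPGroup'.to_le (inf_le_left : M₁ ≤ _)).comap_of_injective L.subtype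
    L.subtype_injective).exists_le_sylow
  obtain ⟨Q, hQ⟩ := (T.isPGroup'.map L.subtype).exists_le_sylow
  obtain ⟨d, hd⟩ := MulAction.exists_smul_eq G Q P
  set T' := ((T : Subgroup L).map L.subtype).map (MulAut.conj d).toMonoidHom with hT'
  have hT'P : T' ≤ (P : Subgroup G) := by
    rw [hT', ← hd, Sylow.coe_subgroup_smul]; exact Subgroup.map_mono hQ
  have hM₁T : M₁.map (MulAut.conj d).toMonoidHom ≤ T' :=
    Subgroup.map_mono fun x hx => ⟨⟨x, hx.2⟩, hT hx, rfl⟩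
  set c := d⁻¹ with hc
  have hMimg : (fun a => c⁻¹ * a * c) '' (M₁ : Set G) ⊆ (P : Set G) := by
    rintro _ ⟨a, ha, rfl⟩
    exact hT'P (hM₁T ⟨a, ha, by simp [hc]⟩)
  have hM₁card : (M₁ : Set G).ncard = Nat.card M₁ := (Nat.card_coe_set_eq _).symm
  have hclift : ActsLike H (M₁ : Set G) c := by
    refine chain_acts P H (Fusion.Alperin.chain_of_conj P _ c
      (fun a ha => ha.1) hMimg) fun Q B x ht hx hB hcard => ?_
    set D' := (P : Subgroup G) ⊓ (Q : Subgroup G) with hD'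
    have hBP : B ⊆ (((P : Subgroup G) ⊓ Subgroup.normalizer (D' : Set G) : Subgroup G) : Set G) := fun a ha =>
      ⟨(hB ha).1, Subgroup.le_normalizer (hB ha)⟩
    have hbig : Nat.card M₁ ≤ Nat.card ↥((P : Subgroup G) ⊓ Subgroup.normalizer (D' : Set G)) := by
      rw [← hM₁card, ← hcard, ← Nat.card_coe_set_eq B]
      exact Nat.card_mono (Set.toFinite _) hBP
    have hD'1 : D' ≠ ⊥ := by
      intro hb
      have h1 : B.ncard ≤ 1 := by
        refine (Set.ncard_le_one (Set.toFinite B)).mpr fun a ha b hb' => ?_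
        have ha' := hB ha
        have hb'' := hB hb'
        rw [hb, SetLike.mem_coe, Subgroup.mem_bot] at ha' hb''
        rw [ha', hb'']
      have hpos := Nat.card_pos (α := R)
      omega
    refine ih _ ?_ D' (P.isPGroup'.to_le inf_le_left) hD'1 ht.1 rfl x hx B hBP ?_
    · have h2 : Nat.card ↥((P : Subgroup G) ⊓ Subgroup.normalizer (D' : Set G)) ≤ Nat.card (P : Subgroup G) :=
        Subgroup.card_le_of_le inf_le_left
      omega
    · rintro _ ⟨a, ha, rfl⟩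
      have hxa : x⁻¹ * a * x ∈ D' := (Subgroup.mem_normalizer_iff''.mp hx a).mp (hB ha)
      exact ⟨hxa.1, Subgroup.le_normalizer hxa⟩
  obtain ⟨hc', hc'H, hc'e⟩ := hclift
  set U' := Z₁.map (MulAut.conj d).toMonoidHom with hU'
  have hNU' : Subgroup.normalizer (U' : Set G) = L.map (MulAut.conj d).toMonoidHom :=
    (Subgroup.map_normalizer_eq_of_bijective Z₁ (f := (MulAut.conj d).toMonoidHom) (MulAut.conj d).bijective).symm
  have hT'N : T' ≤ (P : Subgroup G) ⊓ Subgroup.normalizer (U' : Set G) := by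
    rw [hNU']; exact le_inf hT'P (Subgroup.map_mono (Subgroup.map_subtype_le _))
  have hsyl' : ¬ p ∣ ((P : Subgroup G) ⊓ Subgroup.normalizer (U' : Set G)).relIndex
      (Subgroup.normalizer (U' : Set G)) := by
    intro hdvd
    have h1 := hdvd.trans (Subgroup.relIndex_dvd_of_le_left (Subgroup.normalizer (U' : Set G)) hT'N)
    rw [hNU', hT', Subgroup.relIndex_map_map_of_injective _ _ (MulAut.conj d).injective, Subgroup.relIndex,
      Subgroup.subgroupOf, Subgroup.comap_map_eq_self_of_injective L.subtype_injective] at h1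
    exact T.not_dvd_index h1
  have hZ₁1 : Z₁ ≠ ⊥ := SylowLocal.centerThompsonOf_ne_bot hRp hR1
  have hU'1 : U' ≠ ⊥ := fun h =>
    hZ₁1 ((Subgroup.map_eq_bot_iff_of_injective _ (MulAut.conj d).injective).mp h)
  have hU'p : IsPGroup p U' :=
    (hRp.to_le (inf_le_left.trans (Fusion.Thompson.thompsonSubgroupOf_le R))).map _
  have hlt : Nat.card (P : Subgroup G) - Nat.card ↥((P : Subgroup G) ⊓ Subgroup.normalizer (U' : Set G)) <
      Nat.card (P : Subgroup G) - Nat.card R := by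
    have h1 : Nat.card M₁ ≤ Nat.card ↥((P : Subgroup G) ⊓ Subgroup.normalizer (U' : Set G)) := by
      rw [← Subgroup.card_map_of_injective (f := (MulAut.conj d).toMonoidHom) (MulAut.conj d).injective (K := M₁)]
      exact Subgroup.card_le_of_le (hM₁T.trans hT'N)
    have h2 : Nat.card ↥((P : Subgroup G) ⊓ Subgroup.normalizer (U' : Set G)) ≤ Nat.card (P : Subgroup G) :=
      Subgroup.card_le_of_le inf_le_left
    omega
  have hSM : S ⊆ (M₁ : Set G) := fun a ha => ⟨(hS ha).1, (hRN₁ (hS ha)).2⟩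
  have himM : ∀ a ∈ S, (n * o)⁻¹ * a * (n * o) ∈ M₁ := fun a ha =>
    ⟨(hSy ⟨a, ha, rfl⟩).1, (hRN₁ (hSy ⟨a, ha, rfl⟩)).2⟩
  have hmemU' : ∀ a ∈ M₁, c⁻¹ * a * c ∈ (P : Subgroup G) ⊓ Subgroup.normalizer (U' : Set G) := fun a ha =>
    hT'N (hM₁T ⟨a, ha, by simp [hc]⟩)
  obtain ⟨h', hh', he'⟩ := ih _ hlt U' hU'p hU'1 hsyl' rfl (c⁻¹ * n' * c)
    (by rw [hNU']; exact ⟨n', hn'N.2, by simp [hc]⟩) ((fun a => c⁻¹ * a * c) '' S)
    (by rintro _ ⟨a, ha, rfl⟩; exact hmemU' a (hSM ha))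
    (by
      rintro _ ⟨_, ⟨a, ha, rfl⟩, rfl⟩
      have := hmemU' _ (himM a ha)
      rw [← hact a ha] at this
      show (c⁻¹ * n' * c)⁻¹ * (c⁻¹ * a * c) * (c⁻¹ * n' * c) ∈ _
      rw [show (c⁻¹ * n' * c)⁻¹ * (c⁻¹ * a * c) * (c⁻¹ * n' * c) = c⁻¹ * (n'⁻¹ * a * n') * c by group]
      exact this)
  refine ⟨hc' * h' * hc'⁻¹, mul_mem (mul_mem hc'H hh') (inv_mem hc'H), fun a ha => ?_⟩
  calc (hc' * h' * hc'⁻¹)⁻¹ * a * (hc' * h' * hc'⁻¹)
      = hc' * (h'⁻¹ * (hc'⁻¹ * a * hc') * h') * hc'⁻¹ := by group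
    _ = hc' * (h'⁻¹ * (c⁻¹ * a * c) * h') * hc'⁻¹ := by rw [hc'e a (hSM ha)]
    _ = hc' * ((c⁻¹ * n' * c)⁻¹ * (c⁻¹ * a * c) * (c⁻¹ * n' * c)) * hc'⁻¹ := by rw [he' _ ⟨a, ha, rfl⟩]
    _ = hc' * (c⁻¹ * (n'⁻¹ * a * n') * c) * hc'⁻¹ := by group
    _ = hc' * (c⁻¹ * ((n * o)⁻¹ * a * (n * o)) * c) * hc'⁻¹ := by rw [hact a ha]
    _ = hc' * (hc'⁻¹ * ((n * o)⁻¹ * a * (n * o)) * hc') * hc'⁻¹ := by rw [hc'e _ (himM a ha)]
    _ = _ := by group

/-- `N(Z(J(P)))` controls fusion in `P`. -/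
theorem acts_like {A : Set G} {g : G} (hA : A ⊆ (P : Set G)) (hAg : (fun a => g⁻¹ * a * g) '' A ⊆ (P : Set G)) :
    ActsLike (Subgroup.normalizer (Cfsg.centerThompsonOf p (P : Subgroup G) : Set G)) A g := by
  refine chain_acts P _ (Fusion.Alperin.chain_of_conj P A g hA hAg) fun Q B x ht hx hB _ => ?_
  set D' := (P : Subgroup G) ⊓ (Q : Subgroup G) with hD'
  by_cases hb : D' = ⊥
  · refine ⟨1, one_mem _, fun a ha => ?_⟩
    have ha' := hB ha
    rw [hb, SetLike.mem_coe, Subgroup.mem_bot] at ha'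
    rw [ha']; group
  refine acts_normalizer hodd P hloc _ D' (P.isPGroup'.to_le inf_le_left) hb ht.1 rfl x hx B
    (fun a ha => ⟨(hB ha).1, Subgroup.le_normalizer (hB ha)⟩) ?_
  rintro _ ⟨a, ha, rfl⟩
  have hxa : x⁻¹ * a * x ∈ D' := (Subgroup.mem_normalizer_iff''.mp hx a).mp (hB ha)
  exact ⟨hxa.1, Subgroup.le_normalizer hxa⟩

theorem controls :
    Fusion.Transfer.Controls (P : Subgroup G)
      (Subgroup.normalizer (Cfsg.centerThompsonOf p (P : Subgroup G) : Set G)) := by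
  intro x hx g hg
  obtain ⟨h, hh, he⟩ := acts_like hodd P hloc (A := {x}) (g := g⁻¹) (Set.singleton_subset_iff.mpr hx)
    (by rintro _ ⟨a, rfl, rfl⟩; show _ ∈ (P : Subgroup G); simpa using hg)
  exact ⟨h⁻¹, inv_mem hh, by simpa using he x rfl⟩

end CfsgLib.OddOrder.ZJControl
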