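import Cfsg.Agent.Lib.OddOrder.SCNUniqueAux
import Cfsg.Agent.Lib.OddOrder.CharOmega
import Cfsg.Agent.Lib.OddOrder.ZJControl
import Cfsg.Agent.Lib.OddOrder.PStable
import Cfsg.Agent.Lib.Coprime.Generation
import Cfsg.Agent.S1393
import Cfsg.Agent.S1396
import Cfsg.Agent.S1398
import Cfsg.Agent.S1401
import Mathlib

set_option autoImplicit false

/-!
An `SCN_3` subgroup of a Sylow subgroup of a minimal simple group of odd order lies in a unique maximal
subgroup.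
-/

namespace CfsgLib.OddOrder.SCNUnique

open scoped commutatorElement

variable {G : Type*} [Group G] [Finite G]

theorem centralizer_singleton_ne_top (hG : Cfsg.IsMinimalSimple G) {x : G} (hx : x ≠ 1) :
    Subgroup.centralizer ({x} : Set G) ≠ ⊤ := by
  intro h
  haveI := hG.1
  have hc : x ∈ Subgroup.center G := Subgroup.mem_center_iff.mpr fun g =>
    Subgroup.mem_centralizer_singleton_iff.mp (h ▸ Subgroup.mem_top g : g ∈ Subgroup.centralizer ({x} : Set G))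
  rcases (inferInstance : (Subgroup.center G).Normal).eq_bot_or_eq_top with hb | ht
  · rw [hb, Subgroup.mem_bot] at hc; exact hx hc
  · exact hG.2.1 (⟨⟨fun a b => (Subgroup.mem_center_iff.mp (ht ▸ Subgroup.mem_top a) b).symm⟩⟩)

/-- A maximal subgroup over `A` whose Fitting subgroup has `q`-rank at least three. -/
structure Local (p q : ℕ) (A M : Subgroup G) : Prop where
  coatom : IsCoatom M
  le : A ≤ M
  prime : q.Prime
  ne : q ≠ p
  rank : ¬ Cfsg.PRankLE q 2 (Cfsg.fittingOf M)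

variable {p q : ℕ} {A M : Subgroup G}

theorem Local.exists_rank3 (hM : Local p q A M) :
    ∃ E' : Subgroup G, E' ≤ Bender.part q M ∧ Cfsg.IsElementaryAbelian q E' ∧ q ^ 3 ≤ Nat.card E' := by
  haveI := Fact.mk hM.prime
  obtain ⟨E', hE', hEe, hE3⟩ := UniqueTools.exists_isEA_of_not_rankLE hM.rank
  refine ⟨E', fun x hx => Bender.mem_part (r := q) (hE' hx) ?_, hEe, hE3⟩
  obtain ⟨k, hk⟩ := IsPGroup.iff_orderOf.mp (Fusion.Thompson.isPGroup_isEA hEe) ⟨x, hx⟩
  exact ⟨k, by rwa [Subgroup.orderOf_mk] at hk⟩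

theorem Local.unique_rank3 (hG : Cfsg.IsMinSimpleOddOrder G) (hM : Local p q A M) {X : Subgroup G}
    (hX : Cfsg.IsElementaryAbelian q X) (hX3 : q ^ 3 ≤ Nat.card X) : Cfsg.InUniqueMaximal X := by
  haveI := Fact.mk hM.prime
  exact Cfsg.Agent.S1401.result hG M hM.coatom q hM.rank X (Fusion.Thompson.isPGroup_isEA hX) hX.1
    (UniqueTools.not_pRankLE_of_isEA hX hX3 le_rfl)

theorem Local.le_of_rank3 (hG : Cfsg.IsMinSimpleOddOrder G) (hM : Local p q A M) {X Y : Subgroup G}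
    (hX : Cfsg.IsElementaryAbelian q X) (hX3 : q ^ 3 ≤ Nat.card X) (hXM : X ≤ M) (hXY : X ≤ Y) (hY : Y ≠ ⊤) :
    Y ≤ M :=
  UniqueTools.le_of_unique (hM.unique_rank3 hG hX hX3) hM.coatom hXM hXY hY

theorem Local.exists_subgroup (hG : Cfsg.IsMinSimpleOddOrder G) (hM : Local p q A M) :
    ∃ T : Subgroup G, T ≤ M ∧ IsPGroup q T ∧ A ≤ Subgroup.normalizer (T : Set G) ∧ q ^ 2 ≤ Nat.card T ∧
      (∀ x ∈ T, x ≠ 1 → Subgroup.centralizer ({x} : Set G) ≤ M) ∧
      ∀ Y : Subgroup G, Y ≤ T → q ^ 2 ≤ Nat.card Y → Cfsg.InUniqueMaximal Y := by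
  haveI := Fact.mk hM.prime
  have hq := hM.prime
  obtain ⟨E', hE'R, hE'e, hE'3⟩ := hM.exists_rank3
  set R := Bender.part q M with hR
  have hRp : IsPGroup q R := Bender.isPGroup_part q M
  have hRM : R ≤ M := Bender.part_le q M
  have hR3 : ¬ Cfsg.PRankLE q 2 R := UniqueTools.not_pRankLE_of_isEA hE'e hE'3 hE'R
  have hq2 := UniqueTools.ne_two hG.1 hR3
  obtain ⟨T₀, hT₀c, hT₀g, hbig⟩ := CharOmega.exists_char hq2 hRp hR3
  haveI := hT₀c
  set T := T₀.map R.subtype with hT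
  have hTR : T ≤ R := Subgroup.map_subtype_le _
  have hTc : Nat.card T = Nat.card T₀ := Subgroup.card_map_of_injective R.subtype_injective
  refine ⟨T, hTR.trans hRM, hRp.to_le hTR,
    (hM.le.trans (Bender.le_normalizer_part q M)).trans (PStable.normalizer_le_normalizer_map R T₀), ?_, ?_, ?_⟩
  · rw [hTc]
    exact hbig.elim (fun h => h.2) fun h => (Nat.pow_le_pow_right hq.pos (by norm_num)).trans h
  · rintro _ ⟨x, hx, rfl⟩ hx1
    obtain ⟨X, hXC, hXe, hX3⟩ := UniqueTools.exists_isEA_of_not_rankLE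
      (CharOmega.rich_elem hRp hR3 hT₀g hbig hx)
    refine hM.le_of_rank3 hG (X := X.map R.subtype) (Fusion.Thompson.isEA_map _ hXe)
      (by rwa [Subgroup.card_map_of_injective R.subtype_injective]) ((Subgroup.map_subtype_le _).trans hRM) ?_
      (centralizer_singleton_ne_top hG.2 hx1)
    rintro _ ⟨y, hy, rfl⟩
    exact Subgroup.mem_centralizer_singleton_iff.mpr
      (congrArg R.subtype (Subgroup.mem_centralizer_singleton_iff.mp (hXC hy)))
  · intro Y hYT hY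
    have hYp : IsPGroup q Y := hRp.to_le (hYT.trans hTR)
    have hexp : ∀ y ∈ Y, y ^ q = 1 := fun y hy => by
      obtain ⟨y₀, hy₀, rfl⟩ := hYT hy
      rw [← map_pow, hT₀g.1 y₀ hy₀, map_one]
    have hnc : ¬ IsCyclic Y := fun hc => by
      haveI := hc
      have h1 : Nat.card Y ∣ q := by
        rw [← IsCyclic.exponent_eq_card (α := Y)]
        exact Monoid.exponent_dvd_of_forall_pow_eq_one fun a => Subtype.ext (by simpa using hexp a a.2)
      exact absurd ((hY.trans (Nat.le_of_dvd hq.pos h1))) (not_le.mpr (by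
        simpa using Nat.pow_lt_pow_right hq.one_lt one_lt_two))
    obtain ⟨Y₁, hY₁Y, hY₁e, hY₁c⟩ := UniqueTools.exists_isEA_sq hq2 hYp hnc
    have hY₁T : Y₁.subgroupOf R ≤ T₀ := fun z hz => by
      obtain ⟨z₀, hz₀, hze⟩ := hYT (hY₁Y hz)
      exact R.subtype_injective hze ▸ hz₀
    have hc₁ : q ^ 2 ≤ Nat.card (Y₁.subgroupOf R) := by
      rwa [Nat.card_congr (Subgroup.subgroupOfEquivOfLe ((hY₁Y.trans hYT).trans hTR)).toEquiv]
    obtain ⟨X, hXC, hXe, hX3⟩ := UniqueTools.exists_isEA_of_not_rankLE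
      (CharOmega.rich_sq hRp hR3 hT₀g hbig hY₁T (Fusion.Thompson.isEA_subgroupOf hY₁e R) hc₁)
    have hX3' : ¬ Cfsg.PRankLE q 2 ↥(Subgroup.centralizer (Y₁ : Set G)) := by
      refine UniqueTools.not_pRankLE_of_isEA (E := X.map R.subtype) (Fusion.Thompson.isEA_map _ hXe)
        (by rwa [Subgroup.card_map_of_injective R.subtype_injective]) ?_
      rintro _ ⟨y, hy, rfl⟩
      refine Subgroup.mem_centralizer_iff.mpr fun z hz => ?_
      exact congrArg R.subtype (Subgroup.mem_centralizer_iff.mp (hXC hy)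
        ⟨z, ((hY₁Y.trans hYT).trans hTR) hz⟩ hz)
    have hY₁nc : ¬ IsCyclic Y₁ := SCNTransitivity.not_isCyclic_of_card hY₁e
      (lt_of_lt_of_le (by simpa using Nat.pow_lt_pow_right hq.one_lt one_lt_two) hY₁c)
    haveI := hE'e.1
    have h := UniqueTools.noncyclic_unique hG hq2 (Fusion.Thompson.isPGroup_isEA hE'e) hE'e.1
      (UniqueTools.not_pRankLE_of_isEA hE'e hE'3 le_rfl) (hM.unique_rank3 hG hE'e hE'3)
      (Fusion.Thompson.isPGroup_isEA hY₁e) hY₁nc hX3'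
    refine UniqueTools.unique_mono h hY₁Y fun htop => ?_
    exact hM.coatom.1 (top_le_iff.mp (htop ▸ hYT.trans (hTR.trans hRM)))

/-- A line of `T` fixed by a large subgroup of `E`, but not by `E`. -/
def Weight (p q : ℕ) (A E M V : Subgroup G) : Prop :=
  Nat.card V = q ∧ A ≤ Subgroup.normalizer (V : Set G) ∧
    (∃ B : Subgroup G, B ≤ E ∧ p ^ 2 ≤ Nat.card B ∧ V ≤ Subgroup.centralizer (B : Set G)) ∧
    ¬ E ≤ Subgroup.centralizer (V : Set G) ∧
    (∀ x ∈ V, x ≠ 1 → Subgroup.centralizer ({x} : Set G) ≤ M) ∧ V ≤ M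

variable [hp : Fact p.Prime] {E : Subgroup G}

theorem inter_nontrivial (hEe : Cfsg.IsElementaryAbelian p E) (hE3 : Nat.card E = p ^ 3) {B B' : Subgroup G}
    (hB : B ≤ E) (hB2 : p ^ 2 ≤ Nat.card B) (hB' : B' ≤ E) (hB'2 : p ^ 2 ≤ Nat.card B') :
    ∃ e ∈ B ⊓ B', e ≠ 1 := by
  haveI := hEe.1
  by_contra hn
  push Not at hn
  have hb : B ⊓ B' = ⊥ := eq_bot_iff.mpr fun e he => Subgroup.mem_bot.mpr (hn e he)
  have h1 := Fusion.Thompson.card_sup_mul_card_inf (N := B) (K := B')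
    ((hB'.trans (E.le_centralizer.trans (Subgroup.centralizer_le hB))).trans (Subgroup.centralizer_le_normalizer _))
  rw [hb, Subgroup.card_bot, mul_one] at h1
  have h2 : Nat.card ↥(B ⊔ B') ≤ p ^ 3 := hE3 ▸ Subgroup.card_le_of_le (sup_le hB hB')
  have h3 : p ^ 4 ≤ p ^ 3 := by
    calc p ^ 4 = p ^ 2 * p ^ 2 := by rw [← pow_add]
      _ ≤ Nat.card B * Nat.card B' := Nat.mul_le_mul hB2 hB'2
      _ ≤ _ := h1 ▸ h2
  exact absurd h3 (not_le.mpr (Nat.pow_lt_pow_right hp.out.one_lt (by norm_num)))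

theorem exists_weights (hG : Cfsg.IsMinSimpleOddOrder G) (hM : Local p q A M) (hAp : IsPGroup p A)
    (hAc : IsMulCommutative A) (hAU : ¬ Cfsg.InUniqueMaximal A) (hEA : E ≤ A)
    (hEe : Cfsg.IsElementaryAbelian p E) (hE3 : Nat.card E = p ^ 3) :
    ∃ V₁ V₂ : Subgroup G, Weight p q A E M V₁ ∧ Weight p q A E M V₂ ∧ Cfsg.InUniqueMaximal (V₁ ⊔ V₂) := by
  have hq := hM.prime
  haveI := Fact.mk hq
  haveI := hEe.1
  haveI := hAc
  obtain ⟨T, hTM, hTp, hAT, hT2, hTC, hTU⟩ := hM.exists_subgroup hG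
  have hcop : (Nat.card E).Coprime (Nat.card T) := by
    obtain ⟨j, hj⟩ := hTp.exists_card_eq
    rw [hE3, hj]; exact ((Nat.coprime_primes hp.out hq).mpr hM.ne.symm).pow 3 j
  have hgen := Coprime.iSup_centralizer_of_cyclic_quotient (A := E) (hEA.trans hAT) hcop
  have hB2 : ∀ B : Subgroup G, B ≤ E → (∃ a ∈ E, B ⊔ Subgroup.zpowers a = E) → p ^ 2 ≤ Nat.card B := by
    rintro B hBE ⟨a, haE, hBa⟩
    have h1 := Fusion.Thompson.card_sup_mul_card_inf (N := B) (K := Subgroup.zpowers a)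
      (Subgroup.zpowers_le.mpr (Subgroup.centralizer_le_normalizer _
        (Subgroup.mem_centralizer_iff.mpr fun b hb =>
          Subgroup.mem_centralizer_iff.mp (E.le_centralizer haE) b (hBE hb))))
    rw [hBa, hE3] at h1
    have h2 : Nat.card (Subgroup.zpowers a) ≤ p := by
      rw [Nat.card_zpowers]; exact orderOf_le_of_pow_eq_one hp.out.pos (hEe.2 a haE)
    have h4 : p ^ 3 ≤ Nat.card B * p :=
      ((Nat.le_mul_of_pos_right _ Nat.card_pos).trans h1.le).trans (Nat.mul_le_mul_left _ h2)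
    rw [pow_succ] at h4
    exact Nat.le_of_mul_le_mul_right h4 hp.out.pos
  set S := {B : Subgroup G | B ≤ E ∧ ∃ a ∈ E, B ⊔ Subgroup.zpowers a = E} with hS
  set c : Subgroup G → Subgroup G := fun B => T ⊓ Subgroup.centralizer (B : Set G) with hc
  have hsmall : ∀ B ∈ S, c B ≠ ⊥ → Nat.card (c B) = q := by
    intro B hB hne
    obtain ⟨j, hj⟩ := (hTp.to_le (inf_le_left : c B ≤ T)).exists_card_eq
    rcases j with _ | _ | j
    · exact absurd (Subgroup.eq_bot_of_card_eq _ (hj.trans (pow_zero q))) hne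
    · exact hj.trans (pow_one q)
    exfalso
    have hB2' := hB2 B hB.1 hB.2
    have hU := hTU (c B) inf_le_left (hj ▸ Nat.pow_le_pow_right hq.pos (by omega))
    have hBnc : ¬ IsCyclic B := SCNTransitivity.not_isCyclic_of_card (Fusion.Thompson.isEA_le hEe hB.1)
      (lt_of_lt_of_le (by simpa using Nat.pow_lt_pow_right hp.out.one_lt one_lt_two) hB2')
    refine hAU (UniqueTools.unique_mono (Cfsg.Agent.S1398.result hG M hM.coatom p B
      ((hB.1.trans hEA).trans hM.le) (Fusion.Thompson.isEA_le hEe hB.1) hBnc (Or.inl fun b hb hb1 => ?_))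
      (hB.1.trans hEA) fun h => hM.coatom.1 (top_le_iff.mp (h ▸ hM.le)))
    refine UniqueTools.le_of_unique hU hM.coatom (inf_le_left.trans hTM) ?_ (centralizer_singleton_ne_top hG.2 hb1)
    exact fun x hx => Subgroup.mem_centralizer_singleton_iff.mpr
      (Subgroup.mem_centralizer_iff.mp hx.2 b hb).symm
  have hw : ∀ B ∈ S, c B ≠ ⊥ → ¬ E ≤ Subgroup.centralizer (c B : Set G) →
      Weight p q A E M (c B) := fun B hB hne hnE =>
    ⟨hsmall B hB hne, (le_inf hAT ((A.le_centralizer.trans (Subgroup.centralizer_le (hB.1.trans hEA))).trans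
        Subgroup.le_normalizer)).trans Subgroup.inf_normalizer_le_normalizer_inf,
      ⟨B, hB.1, hB2 B hB.1 hB.2, inf_le_right⟩, hnE, fun x hx hx1 => hTC x hx.1 hx1, inf_le_left.trans hTM⟩
  -- two different lines
  obtain ⟨B₁, hB₁, h₁⟩ : ∃ B ∈ S, c B ≠ ⊥ := by
    by_contra hn
    push Not at hn
    have hT1 : T = ⊥ := le_bot_iff.mp (hgen.ge.trans (iSup₂_le fun B hB => (hn B hB).le))
    rw [hT1, Subgroup.card_bot] at hT2
    exact absurd hT2 (not_le.mpr (Nat.one_lt_pow (by norm_num) hq.one_lt))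
  obtain ⟨B₂, hB₂, h₂, h12⟩ : ∃ B ∈ S, c B ≠ ⊥ ∧ c B ≠ c B₁ := by
    by_contra hn
    push Not at hn
    have hle : T ≤ c B₁ := hgen.ge.trans (iSup₂_le fun B hB => by
      by_cases h0 : c B = ⊥
      · exact h0.le.trans bot_le
      · exact (hn B hB h0).le)
    have := hT2.trans ((Subgroup.card_le_of_le hle).trans (hsmall B₁ hB₁ h₁).le)
    exact absurd this (not_le.mpr (by simpa using Nat.pow_lt_pow_right hq.one_lt one_lt_two))
  have hnE : ∀ B B' : Subgroup G, B ∈ S → B' ∈ S → c B ≠ ⊥ → c B' ≠ ⊥ → c B ≠ c B' →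
      ¬ E ≤ Subgroup.centralizer (c B : Set G) := by
    intro B B' hB hB' hne hne' hd hE
    refine hd (Subgroup.eq_of_le_of_card_ge (le_inf inf_le_left ?_) ((hsmall B' hB' hne').le.trans (hsmall B hB hne).ge))
    exact (Subgroup.le_centralizer_iff.mp hE).trans (Subgroup.centralizer_le hB'.1)
  refine ⟨c B₁, c B₂, hw B₁ hB₁ h₁ (hnE B₁ B₂ hB₁ hB₂ h₁ h₂ h12.symm),
    hw B₂ hB₂ h₂ (hnE B₂ B₁ hB₂ hB₁ h₂ h₁ h12), hTU _ (sup_le inf_le_left inf_le_left) ?_⟩
  obtain ⟨j, hj⟩ := (hTp.to_le (sup_le inf_le_left inf_le_left : c B₁ ⊔ c B₂ ≤ T)).exists_card_eq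
  have hlt : Nat.card (c B₁) < Nat.card ↥(c B₁ ⊔ c B₂) :=
    Set.ncard_lt_ncard (SetLike.coe_ssubset_coe.mpr (lt_of_le_of_ne le_sup_left fun h => h12
      (Subgroup.eq_of_le_of_card_ge (h.ge.trans' le_sup_right)
        ((hsmall B₁ hB₁ h₁).le.trans (hsmall B₂ hB₂ h₂).ge))))
  rw [hsmall B₁ hB₁ h₁, hj] at hlt
  rw [hj]
  exact Nat.pow_le_pow_right hq.pos ((Nat.pow_lt_pow_iff_right hq.one_lt).mp (by rwa [pow_one]))

theorem centralizer_le (hG : Cfsg.IsMinSimpleOddOrder G) (hM : Local p q A M) (hEA : E ≤ A)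
    (hEe : Cfsg.IsElementaryAbelian p E) (hE3 : Nat.card E = p ^ 3) {V₁ V₂ : Subgroup G}
    (h₁ : Weight p q A E M V₁) (h₂ : Weight p q A E M V₂) (hU : Cfsg.InUniqueMaximal (V₁ ⊔ V₂)) :
    Subgroup.centralizer (A : Set G) ≤ M := by
  obtain ⟨B₁, hB₁, hB₁2, hV₁⟩ := h₁.2.2.1
  obtain ⟨B₂, hB₂, hB₂2, hV₂⟩ := h₂.2.2.1
  obtain ⟨e, he, he1⟩ := inter_nontrivial hEe hE3 hB₁ hB₁2 hB₂ hB₂2
  refine le_trans (Subgroup.centralizer_le (Set.singleton_subset_iff.mpr (hEA (hB₁ he.1)))) ?_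
  refine UniqueTools.le_of_unique hU hM.coatom (sup_le h₁.2.2.2.2.2 h₂.2.2.2.2.2) (sup_le ?_ ?_)
    (centralizer_singleton_ne_top hG.2 he1)
  · exact fun x hx => Subgroup.mem_centralizer_singleton_iff.mpr
      (Subgroup.mem_centralizer_iff.mp (hV₁ hx) e he.1).symm
  · exact fun x hx => Subgroup.mem_centralizer_singleton_iff.mpr
      (Subgroup.mem_centralizer_iff.mp (hV₂ hx) e he.2).symm

variable {P : Sylow p G}

theorem not_rankLE_one_of_three (hA3 : ¬ Cfsg.PRankLE p 2 A) : ¬ Cfsg.PRankLE p 1 A := fun h => hA3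
  fun B h1 h2 => (h B h1 h2).trans (Nat.pow_le_pow_right hp.out.pos one_le_two)

/-- Invariant `q`-subgroups lie in `M`. -/
theorem qinv_le (hG : Cfsg.IsMinSimpleOddOrder G) (hA : Cfsg.IsSCN (P : Subgroup G) A)
    (hA3 : ¬ Cfsg.PRankLE p 2 A) (hM : Local p q A M) (hC : Subgroup.centralizer (A : Set G) ≤ M)
    {Y : Subgroup G} (hY : IsPGroup q Y) (hAY : A ≤ Subgroup.normalizer (Y : Set G)) : Y ≤ M := by
  have hq := hM.prime
  haveI := Fact.mk hq
  haveI hAc := SCNTransitivity.isMulCommutative_of_scn hA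
  have hAp : IsPGroup p A := P.isPGroup'.to_le hA.1
  obtain ⟨k, hk⟩ := hAp.exists_card_eq
  have hqA : ¬ q ∣ Nat.card A := fun h =>
    hM.ne ((Nat.prime_dvd_prime_iff_eq hq hp.out).mp (hq.dvd_of_dvd_pow (hk ▸ h)))
  obtain ⟨E', hE'R, hE'e, hE'3⟩ := hM.exists_rank3
  have hpG : p ∣ Nat.card G := by
    obtain ⟨E₀, -, hE₀e, hE₀3⟩ := UniqueTools.exists_isEA_of_not_rankLE hA3
    refine ((Fusion.Thompson.isPGroup_isEA hE₀e).card_eq_or_dvd.resolve_left fun h1 => ?_).trans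
      E₀.card_subgroup_dvd_card
    rw [h1] at hE₀3
    exact absurd hE₀3 (not_le.mpr (Nat.one_lt_pow (by norm_num) hp.out.one_lt))
  have hT := Cfsg.Agent.S1396.result hG p hpG A hAp hAc (Or.inr ⟨P, hA, not_rankLE_one_of_three hA3⟩)
  have hZ : ¬ Cfsg.RankLE 2 ↥(A ⊓ Subgroup.centralizer (A : Set G)) := by
    rw [inf_eq_left.mpr A.le_centralizer]; exact fun h => hA3 (h p hp.out)
  obtain ⟨Q₀, hQ₀, hRQ₀⟩ := Transitivity.exists_max hq (Bender.isPGroup_part q M)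
    (hM.le.trans (Bender.le_normalizer_part q M))
  have hQ₀p := ((Transitivity.mem_inv_top hq).mp hQ₀.1).1
  have hQ₀M : Q₀ ≤ M := hM.le_of_rank3 hG hE'e hE'3 (hE'R.trans (Bender.part_le q M)) (hE'R.trans hRQ₀) (by
    intro h
    haveI := hQ₀p.isNilpotent
    refine Uniqueness.normalizer_ne_top hG.2 (P := Q₀) (fun hb => ?_) inferInstance ?_
    · rw [hb] at hRQ₀
      rw [le_bot_iff.mp (hE'R.trans hRQ₀), Subgroup.card_bot] at hE'3
      exact absurd hE'3 (not_le.mpr (Nat.one_lt_pow (by norm_num) hq.one_lt))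
    · rw [h]; exact Subgroup.normalizer_eq_top_iff.mpr inferInstance)
  obtain ⟨Q, hQ, hYQ⟩ := Transitivity.exists_max hq hY hAY
  obtain ⟨c, hc, rfl⟩ := Cfsg.Agent.S1393.result hG A hT hZ q hq hqA Q₀ hQ₀ Q hQ
  have hcM : c ∈ M := hC (Transitivity.piCoreOf_le _ _ hc)
  refine hYQ.trans ?_
  rintro _ ⟨x, hx, rfl⟩
  exact mul_mem (mul_mem hcM (hQ₀M hx)) (inv_mem hcM)

/-- A `p'`-subgroup normalised by `A` of a maximal subgroup `L ≠ M` has `q`-rank at most two. -/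
theorem rank_le (hG : Cfsg.IsMinSimpleOddOrder G) (hA : Cfsg.IsSCN (P : Subgroup G) A)
    (hA3 : ¬ Cfsg.PRankLE p 2 A) (hM : Local p q A M) (hC : Subgroup.centralizer (A : Set G) ≤ M)
    {K L : Subgroup G} (hL : IsCoatom L) (hne : L ≠ M) (hKL : K ≤ L) (hKp : (Nat.card K).Coprime p)
    (hAK : A ≤ Subgroup.normalizer (K : Set G)) : Cfsg.PRankLE q 2 K := by
  haveI := Fact.mk hM.prime
  have hAp : IsPGroup p A := P.isPGroup'.to_le hA.1
  by_contra hn
  obtain ⟨X, hXK, hXe, hX3⟩ := UniqueTools.exists_isEA_of_not_rankLE hn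
  obtain ⟨k, hk⟩ := hAp.exists_card_eq
  haveI := hAp.isNilpotent
  obtain ⟨S, hS⟩ := Coprime.exists_invariant_sylow hAK (by rw [hk]; exact hKp.symm.pow_left k)
    (Or.inl inferInstance) q
  set Q := (S : Subgroup K).map K.subtype with hQ
  obtain ⟨S', hS'⟩ := ((Fusion.Thompson.isPGroup_isEA hXe).comap_subtype (K := K)).exists_le_sylow
  obtain ⟨g, hg⟩ := MulAction.exists_smul_eq K S' S
  set X' := X.map (MulAut.conj (g : G)).toMonoidHom with hX'
  have hX'Q : X' ≤ Q := by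
    rw [hQ, ← hg, Coprime.map_smul_sylow]
    exact Subgroup.map_mono fun x hx => ⟨⟨x, hXK hx⟩, hS' (show (⟨x, hXK hx⟩ : K) ∈ X.comap K.subtype from hx), rfl⟩
  have hX'M : X' ≤ M := hX'Q.trans (qinv_le hG hA hA3 hM hC (S.isPGroup'.map _) hS)
  have hu := hM.unique_rank3 hG (X := X') (Fusion.Thompson.isEA_map _ hXe)
    (by rwa [hX', Subgroup.card_map_of_injective (MulAut.conj (g : G)).injective])
  obtain ⟨M₀, -, hun⟩ := hu
  exact hne ((hun L ⟨hL, hX'Q.trans ((Subgroup.map_subtype_le _).trans hKL)⟩).trans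
    (hun M ⟨hM.coatom, hX'M⟩).symm)

end CfsgLib.OddOrder.SCNUnique
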