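import Cfsg.Agent.Lib.OddOrder.RankTwoGlobal
import Cfsg.Agent.Lib.OddOrder.Bender
import Mathlib

set_option autoImplicit false

/-!
Preparations for the uniqueness of `SCN_3` subgroups: two commutators of prime order commute modulo a core
when the ranks are small.
-/

namespace CfsgLib.OddOrder.SCNUniqueAux

open scoped commutatorElement

variable {G : Type*} [Group G] [Finite G]

/-- The rank does not grow modulo a normal subgroup of coprime order. -/
theorem card_le_of_map {q : ℕ} [hq : Fact q.Prime] {K N : Subgroup G} [N.Normal] (hNK : N ≤ K)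
    (hNc : (Nat.card N).Coprime q) (hr : Cfsg.PRankLE q 2 K) {X : Subgroup (G ⧸ N)}
    (hX : Cfsg.IsElementaryAbelian q X) (hXK : X ≤ K.map (QuotientGroup.mk' N)) : Nat.card X ≤ q ^ 2 := by
  set f := QuotientGroup.mk' N with hf
  have hsurj : Function.Surjective f := QuotientGroup.mk'_surjective N
  set J := X.comap f with hJ
  have hJK : J ≤ K := by
    refine (Subgroup.comap_mono hXK).trans (le_of_eq (Subgroup.comap_map_eq_self ?_))
    rw [hf, QuotientGroup.ker_mk']; exact hNK
  have hJc : Nat.card J = Nat.card X * Nat.card N := by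
    have h1 : Nat.card J * J.index = Nat.card G := Subgroup.card_mul_index J
    have h2 : J.index = X.index := Subgroup.index_comap_of_surjective X hsurj
    have h3 : Nat.card G = Nat.card (G ⧸ N) * Nat.card N := Subgroup.card_eq_card_quotient_mul_card_subgroup N
    have h4 : Nat.card X * X.index = Nat.card (G ⧸ N) := Subgroup.card_mul_index X
    have h5 : 0 < X.index := Nat.pos_of_ne_zero Subgroup.index_ne_zero_of_finite
    refine Nat.eq_of_mul_eq_mul_right h5 ?_
    calc Nat.card J * X.index = Nat.card G := h2 ▸ h1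
      _ = Nat.card X * X.index * Nat.card N := by rw [h3, h4]
      _ = _ := by ring
  obtain ⟨k, hk⟩ := (Fusion.Thompson.isPGroup_isEA hX).exists_card_eq
  obtain ⟨P⟩ : Nonempty (Sylow q J) := inferInstance
  set Y := (P : Subgroup J).map J.subtype with hY
  have hcard : Nat.card X ≤ Nat.card Y := by
    rw [hY, Subgroup.card_map_of_injective J.subtype_injective, P.card_eq_multiplicity, hk]
    refine Nat.pow_le_pow_right hq.out.pos ((hq.out.pow_dvd_iff_le_factorization Nat.card_pos.ne').mp ?_)
    rw [hJc, hk]; exact Dvd.intro _ rfl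
  have hYN : Y ⊓ N = ⊥ := by
    obtain ⟨j, hj⟩ := (P.isPGroup'.map J.subtype).exists_card_eq
    refine Subgroup.inf_eq_bot_of_coprime ?_
    rw [hj]; exact hNc.symm.pow_left j
  haveI := hX.1
  have hYe : Cfsg.IsElementaryAbelian q Y := by
    refine ⟨⟨⟨fun a b => Subtype.ext (commutatorElement_eq_one_iff_commute.mp ?_)⟩⟩, fun a ha => ?_⟩
    · have hmem : ⁅(a : G), (b : G)⁆ ∈ Y ⊓ N := by
        refine Subgroup.mem_inf.mpr ⟨?_, (QuotientGroup.eq_one_iff _).mp ?_⟩
        · rw [commutatorElement_def]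
          exact mul_mem (mul_mem (mul_mem a.2 b.2) (inv_mem a.2)) (inv_mem b.2)
        · show f ⁅(a : G), (b : G)⁆ = 1
          have ha : f a ∈ X := Subgroup.mem_comap.mp (Subgroup.map_subtype_le _ a.2)
          have hb : f b ∈ X := Subgroup.mem_comap.mp (Subgroup.map_subtype_le _ b.2)
          rw [map_commutatorElement, commutatorElement_eq_one_iff_commute]
          exact congrArg Subtype.val (mul_comm' (⟨f a, ha⟩ : X) ⟨f b, hb⟩)
      rwa [hYN, Subgroup.mem_bot] at hmem
    · have hmem : a ^ q ∈ Y ⊓ N := by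
        refine Subgroup.mem_inf.mpr ⟨pow_mem ha q, (QuotientGroup.eq_one_iff _).mp ?_⟩
        show f (a ^ q) = 1
        rw [map_pow]
        exact hX.2 _ (Subgroup.mem_comap.mp (Subgroup.map_subtype_le _ ha))
      rwa [hYN, Subgroup.mem_bot] at hmem
  exact hcard.trans (RankTwo.card_le_sq hr hYe ((Subgroup.map_subtype_le _).trans hJK))

/-- Two commutators of orders `q`, `s` in `[K, E]` commute modulo the `{q, s}'`-core of `K`. -/
theorem commute_mod [Group.IsSolvable G] (hodd : Odd (Nat.card G)) {p q s : ℕ} [hp : Fact p.Prime]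
    [hq : Fact q.Prime] [hs : Fact s.Prime] (hqp : q ≠ p) (hsp : s ≠ p) (hqs : q ≠ s)
    {K E N : Subgroup G} [hKn : K.Normal] [N.Normal] (hKp : (Nat.card K).Coprime p)
    (hEe : Cfsg.IsElementaryAbelian p E) (hE3 : Nat.card E ≤ p ^ 3) (hKE : K ⊔ E = ⊤)
    (hNK : N ≤ K) (hNc : (Nat.card N).Coprime (q * s))
    (hmax : ∀ J : Subgroup G, J.Normal → J ≤ K → (Nat.card J).Coprime (q * s) → J ≤ N)
    (hrq : Cfsg.PRankLE q 2 K) (hrs : Cfsg.PRankLE s 2 K)
    {v v₀ e w w₀ e' : G} (hv₀ : v₀ ∈ K) (he : e ∈ E) (hv : v = ⁅v₀, e⁆) (hvo : orderOf v = q)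
    (hw : w = ⁅w₀, e'⁆) (hwo : orderOf w = s) : ⁅v, w⁆ ∈ N := by
  set f := QuotientGroup.mk' N with hf
  have hsurj : Function.Surjective f := QuotientGroup.mk'_surjective N
  set K' := K.map f with hK'
  haveI hK'n : K'.Normal := hKn.map f hsurj
  have hK'c : (Nat.card K').Coprime p := hKp.coprime_dvd_left (Subgroup.card_map_dvd K f)
  have hsup : K' ⊔ E.map f = ⊤ := by
    rw [hK', ← Subgroup.map_sup, hKE, Subgroup.map_top_of_surjective f hsurj]
  have hoddQ : Odd (Nat.card (G ⧸ N)) := hodd.of_dvd_nat (Subgroup.card_quotient_dvd_card N)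
  haveI : Group.IsSolvable (G ⧸ N) := Group.isSolvable_of_surjective hsurj
  have hidx : ∀ {t : ℕ}, t.Prime → t ≠ p → ∀ X : Subgroup (G ⧸ N), IsPGroup t X → X ≤ K' := by
    intro t ht htp X hX x hx
    haveI := Fact.mk ht
    obtain ⟨a, ha⟩ := hX ⟨x, hx⟩
    have ha' : x ^ t ^ a = 1 := congrArg Subtype.val ha
    have hmem : x ∈ K' ⊔ E.map f := hsup ▸ Subgroup.mem_top x
    obtain ⟨c, hc, d, hd, rfl⟩ := Subgroup.mem_sup_of_normal_left.mp hmem
    have h1 : (QuotientGroup.mk (c * d) : (G ⧸ N) ⧸ K') ^ p = 1 := by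
      obtain ⟨d₀, hd₀, rfl⟩ := hd
      rw [QuotientGroup.mk_mul, (QuotientGroup.eq_one_iff c).mpr hc, one_mul, ← QuotientGroup.mk_pow,
        ← map_pow, hEe.2 d₀ hd₀, map_one, QuotientGroup.mk_one]
    have h2 : (QuotientGroup.mk (c * d) : (G ⧸ N) ⧸ K') ^ t ^ a = 1 := by
      rw [← QuotientGroup.mk_pow, ha', QuotientGroup.mk_one]
    exact (QuotientGroup.eq_one_iff _).mp (orderOf_eq_one_iff.mp (Nat.eq_one_of_dvd_coprimes
      (((Nat.coprime_primes ht hp.out).mpr htp).pow_left a).symm (orderOf_dvd_of_pow_eq_one h1)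
      (orderOf_dvd_of_pow_eq_one h2)))
  have hvN : v ∉ N := fun h => by
    have h1 := Subgroup.orderOf_dvd_natCard N h
    rw [hvo] at h1
    exact hq.out.ne_one (Nat.eq_one_of_dvd_coprimes (hNc.coprime_dvd_right (Dvd.intro _ rfl)) h1 dvd_rfl)
  have hrank : ∀ t : ℕ, t.Prime → Cfsg.PRankLE t 2 (Cfsg.pCore t (G ⧸ N)) := by
    intro t ht
    haveI := Fact.mk ht
    set O := Cfsg.pCore t (G ⧸ N) with hO
    intro X₀ hX₀c hX₀e
    have hOp : IsPGroup t O := Solvable.Cores.isPGroup_pCore t
    set X := X₀.map O.subtype with hX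
    have hXe : Cfsg.IsElementaryAbelian t X := Fusion.Thompson.isEA_map _ ⟨hX₀c, hX₀e⟩
    have hXO : X ≤ O := Subgroup.map_subtype_le _
    rw [← Subgroup.card_map_of_injective O.subtype_injective (K := X₀), ← hX]
    by_cases htp : t = p
    · subst htp
      by_contra hlt
      push Not at hlt
      have hdis : K' ⊓ O = ⊥ := by
        obtain ⟨j, hj⟩ := hOp.exists_card_eq
        exact Subgroup.inf_eq_bot_of_coprime (by rw [hj]; exact hK'c.pow_right j)
      have hKO : O ≤ Subgroup.centralizer (K' : Set (G ⧸ N)) := fun o ho =>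
        Subgroup.mem_centralizer_iff.mpr fun c hc =>
          Subgroup.commute_of_normal_of_disjoint K' O hK'n inferInstance (disjoint_iff.mpr hdis) c o hc ho
      have hO3 : t ^ 3 ≤ Nat.card O := by
        obtain ⟨j, hj⟩ := hOp.exists_card_eq
        have h1 := lt_of_lt_of_le hlt (Subgroup.card_le_of_le hXO)
        rw [hj] at h1 ⊢
        exact Nat.pow_le_pow_right ht.pos ((Nat.pow_lt_pow_iff_right ht.one_lt).mp h1)
      have hcardQ : Nat.card (G ⧸ N) ≤ Nat.card K' * t ^ 3 := by
        have h1 := Fusion.Thompson.card_sup_mul_card_inf (N := K') (K := E.map f)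
          (by rw [Subgroup.normalizer_eq_top]; exact le_top)
        rw [hsup, Subgroup.card_top] at h1
        calc Nat.card (G ⧸ N) ≤ Nat.card (G ⧸ N) * Nat.card (K' ⊓ E.map f : Subgroup (G ⧸ N)) :=
              Nat.le_mul_of_pos_right _ Nat.card_pos
          _ = Nat.card K' * Nat.card (E.map f) := h1
          _ ≤ _ := Nat.mul_le_mul_left _ ((Nat.le_of_dvd Nat.card_pos (Subgroup.card_map_dvd E f)).trans hE3)
      have htop : K' ⊔ O = ⊤ := by
        refine Subgroup.eq_top_of_le_card _ ?_
        have h1 := Fusion.Thompson.card_sup_mul_card_inf (N := K') (K := O)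
          (by rw [Subgroup.normalizer_eq_top]; exact le_top)
        rw [hdis, Subgroup.card_bot, mul_one] at h1
        rw [h1]
        exact hcardQ.trans (Nat.mul_le_mul_left _ hO3)
      obtain ⟨c, hc, o, ho, hco⟩ := Subgroup.mem_sup_of_normal_left.mp (htop ▸ Subgroup.mem_top (f e) : f e ∈ K' ⊔ O)
      have hcomm : Commute c o := Subgroup.mem_centralizer_iff.mp (hKO ho) c hc
      have hcp : c ^ t = 1 := by
        have h1 : c ^ t ∈ K' ⊓ O := by
          refine Subgroup.mem_inf.mpr ⟨pow_mem hc t, ?_⟩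
          have h2 : c ^ t * o ^ t = 1 := by
            rw [← hcomm.mul_pow, hco, ← map_pow, hEe.2 e he, map_one]
          rw [eq_inv_of_mul_eq_one_left h2]
          exact inv_mem (pow_mem ho t)
        rwa [hdis, Subgroup.mem_bot] at h1
      have hc1 : c = 1 := orderOf_eq_one_iff.mp (Nat.eq_one_of_dvd_coprimes hK'c
        (Subgroup.orderOf_dvd_natCard K' hc) (orderOf_dvd_of_pow_eq_one hcp))
      subst hc1
      rw [one_mul] at hco
      refine hvN ((QuotientGroup.eq_one_iff v).mp ?_)
      show f v = 1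
      rw [hv, map_commutatorElement, commutatorElement_eq_one_iff_commute, ← hco]
      exact Subgroup.mem_centralizer_iff.mp (hKO ho) (f v₀) (Subgroup.mem_map_of_mem f hv₀)
    · have hOK : O ≤ K' := hidx ht htp O hOp
      by_cases htq : t = q
      · subst htq
        exact card_le_of_map hNK (hNc.coprime_dvd_right (Dvd.intro _ rfl)) hrq hXe (hXO.trans hOK)
      by_cases hts : t = s
      · subst hts
        exact card_le_of_map hNK (hNc.coprime_dvd_right (Dvd.intro_left _ rfl)) hrs hXe (hXO.trans hOK)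
      have hJN : O.comap f ≤ N := by
        have hOn : O.Normal := by rw [hO]; infer_instance
        refine hmax _ (hOn.comap f) ((Subgroup.comap_mono hOK).trans (le_of_eq (Subgroup.comap_map_eq_self ?_))) ?_
        · rw [hf, QuotientGroup.ker_mk']; exact hNK
        · obtain ⟨j, hj⟩ := hOp.exists_card_eq
          have h1 : Nat.card (O.comap f) ∣ Nat.card N * t ^ j := by
            have h2 : Nat.card (O.comap f) * (O.comap f).index = Nat.card G := Subgroup.card_mul_index _
            rw [Subgroup.index_comap_of_surjective O hsurj] at h2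
            have h3 : Nat.card G = Nat.card (G ⧸ N) * Nat.card N := Subgroup.card_eq_card_quotient_mul_card_subgroup N
            have h4 : Nat.card O * O.index = Nat.card (G ⧸ N) := Subgroup.card_mul_index O
            refine dvd_of_eq (Nat.eq_of_mul_eq_mul_right (Nat.pos_of_ne_zero (Subgroup.index_ne_zero_of_finite (H := O))) ?_)
            rw [h2, h3, ← h4, ← hj]; ring
          refine (Nat.Coprime.mul_left hNc (Nat.Coprime.pow_left j ?_)).coprime_dvd_left h1
          exact Nat.Coprime.mul_right ((Nat.coprime_primes ht hq.out).mpr htq) ((Nat.coprime_primes ht hs.out).mpr hts)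
      have hOb : O = ⊥ := le_bot_iff.mp (by
        rw [← Subgroup.map_comap_eq_self_of_surjective hsurj O]
        refine (Subgroup.map_mono hJN).trans ?_
        rintro _ ⟨x, hx, rfl⟩
        exact Subgroup.mem_bot.mpr ((QuotientGroup.eq_one_iff x).mpr hx))
      calc Nat.card X ≤ Nat.card O := Subgroup.card_le_of_le hXO
        _ = 1 := by rw [hOb, Subgroup.card_bot]
        _ ≤ _ := Nat.one_le_pow _ _ ht.pos
  refine (QuotientGroup.eq_one_iff _).mp ?_
  show f ⁅v, w⁆ = 1
  rw [map_commutatorElement, commutatorElement_eq_one_iff_commute]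
  have hder : ∀ a b : G, f ⁅a, b⁆ ∈ commutator (G ⧸ N) := fun a b => by
    rw [map_commutatorElement]
    exact Subgroup.commutator_mem_commutator (Subgroup.mem_top _) (Subgroup.mem_top _)
  have hord : ∀ {t : ℕ}, t.Prime → ∀ x : G, orderOf x = t → ∃ k, orderOf (f x) = t ^ k := by
    intro t ht x hx
    have h := orderOf_map_dvd f x
    rw [hx] at h
    rcases ht.eq_one_or_self_of_dvd _ h with h1 | h1
    · exact ⟨0, by rw [pow_zero]; exact h1⟩
    · exact ⟨1, by rw [pow_one]; exact h1⟩
  exact RankTwoGlobal.commute_derived hoddQ hrank hq.out hs.out hqs (hv ▸ hder v₀ e) (hord hq.out v hvo)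
    (hw ▸ hder w₀ e') (hord hs.out w hwo)

/-- When every `O_t(L)` has rank at most two, commutators lie in the nilpotent Fitting subgroup. -/
theorem commutator_mem_fittingOf (hodd : Odd (Nat.card G)) {L : Subgroup G} (hL : Group.IsSolvable L)
    (hr : ∀ t : ℕ, t.Prime → Cfsg.PRankLE t 2 (Cfsg.fittingOf L)) {a b : G} (ha : a ∈ L) (hb : b ∈ L) :
    ⁅a, b⁆ ∈ Cfsg.fittingOf L := by
  haveI := hL
  have hrank : ∀ t : ℕ, t.Prime → Cfsg.PRankLE t 2 (Cfsg.pCore t L) := by
    intro t ht
    haveI := Fact.mk ht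
    intro X₀ hX₀c hX₀e
    have hXe := Fusion.Thompson.isEA_map (Cfsg.pCore t L).subtype ⟨hX₀c, hX₀e⟩
    have hXe' := Fusion.Thompson.isEA_map L.subtype hXe
    have h := RankTwo.card_le_sq (hr t ht) hXe'
      ((Subgroup.map_mono (Subgroup.map_subtype_le _)).trans (Bender.part_le_fitting L))
    rwa [Subgroup.card_map_of_injective L.subtype_injective,
      Subgroup.card_map_of_injective (Cfsg.pCore t L).subtype_injective] at h
  refine ⟨⁅(⟨a, ha⟩ : L), ⟨b, hb⟩⁆, RankTwoGlobal.derived_le_fitting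
    (hodd.of_dvd_nat L.card_subgroup_dvd_card) hrank
    (Subgroup.commutator_mem_commutator (Subgroup.mem_top _) (Subgroup.mem_top _)), ?_⟩
  simp [commutatorElement_def]

end CfsgLib.OddOrder.SCNUniqueAux
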