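import Cfsg.Agent.Lib.OddOrder.SCNUnique
import Mathlib

set_option autoImplicit false

/-!
The main argument for the uniqueness of `SCN_3` subgroups.
-/

namespace CfsgLib.OddOrder.SCNUnique

open scoped commutatorElement

variable {G : Type*} [Group G] [Finite G] {p : ℕ} [hp : Fact p.Prime] {P : Sylow p G} {A E : Subgroup G}

/-- The weight is generated by a commutator with an element of `E`. -/
theorem Weight.exists_commutator {q : ℕ} {M V : Subgroup G} (hq : q.Prime) (hV : Weight p q A E M V)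
    (hEA : E ≤ A) :
    ∃ v₀ ∈ V, ∃ e ∈ E, orderOf ⁅v₀, e⁆ = q ∧ V = Subgroup.zpowers ⁅v₀, e⁆ := by
  obtain ⟨e, he, hne⟩ := SetLike.not_le_iff_exists.mp hV.2.2.2.1
  rw [Subgroup.mem_centralizer_iff] at hne
  push Not at hne
  obtain ⟨v₀, hv₀, hne⟩ := hne
  refine ⟨v₀, hv₀, e, he, ?_⟩
  have hmem : ⁅v₀, e⁆ ∈ V := by
    rw [commutatorElement_def, show v₀ * e * v₀⁻¹ * e⁻¹ = v₀ * (e * v₀⁻¹ * e⁻¹) by group]
    exact mul_mem hv₀ ((Subgroup.mem_normalizer_iff.mp (hV.2.1 (hEA he)) _).mp (inv_mem hv₀))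
  have hv1 : ⁅v₀, e⁆ ≠ 1 := fun h => hne (commutatorElement_eq_one_iff_commute.mp h)
  have ho : orderOf ⁅v₀, e⁆ = q := (hq.eq_one_or_self_of_dvd _
    (hV.1 ▸ Subgroup.orderOf_dvd_natCard V hmem)).resolve_left fun h => hv1 (orderOf_eq_one_iff.mp h)
  exact ⟨ho, (Subgroup.eq_of_le_of_card_ge (Subgroup.zpowers_le.mpr hmem)
    (by rw [Nat.card_zpowers, ho, hV.1])).symm⟩

/-- If two lines commute modulo a core, the second is centralised by the first up to conjugation in `C(A)`. -/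
theorem le_of_commute_mod {q s : ℕ} (hs : s.Prime) (hqs : q ≠ s) (hq : q.Prime) {M K V W N : Subgroup G}
    (hAp : IsPGroup p A) (hKp : (Nat.card K).Coprime p) (hCA : Subgroup.centralizer (A : Set G) ≤ M)
    {v : G} (hV : V = Subgroup.zpowers v) (hvo : orderOf v = q)
    (hCv : Subgroup.centralizer ({v} : Set G) ≤ M)
    (hNK : N ≤ K) (hKN : K ≤ Subgroup.normalizer (N : Set G)) (hAN : A ≤ Subgroup.normalizer (N : Set G))
    (hNc : (Nat.card N).Coprime (q * s)) (hVK : V ≤ K) (hWK : W ≤ K)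
    (hAV : A ≤ Subgroup.normalizer (V : Set G)) (hAW : A ≤ Subgroup.normalizer (W : Set G))
    (hWc : Nat.card W = s) (hcom : ∀ w ∈ W, ⁅v, w⁆ ∈ N) : W ≤ M := by
  haveI := Fact.mk hs
  haveI := hAp.isNilpotent
  set Z := N ⊔ W with hZ
  have hZK : Z ≤ K := sup_le hNK hWK
  have hWN : W ≤ Subgroup.normalizer (N : Set G) := hWK.trans hKN
  have hNW : N ⊓ W = ⊥ := Subgroup.inf_eq_bot_of_coprime (by
    rw [hWc]; exact hNc.coprime_dvd_right (Dvd.intro_left _ rfl))
  have hZc : Nat.card Z = Nat.card N * s := by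
    have h := Fusion.Thompson.card_sup_mul_card_inf (N := N) (K := W) hWN
    rwa [hNW, Subgroup.card_bot, mul_one, hWc] at h
  have hAZ : A ≤ Subgroup.normalizer (Z : Set G) :=
    (le_inf hAN hAW).trans (Subgroup.normalizer_inf_normalizer_le_normalizer_sup N W)
  have hVp : IsPGroup q V := IsPGroup.of_card (n := 1) (by rw [hV, Nat.card_zpowers, hvo, pow_one])
  have hvN : v ∈ Subgroup.normalizer (N : Set G) := hKN (hVK (hV ▸ Subgroup.mem_zpowers v))
  -- lift the generator of `W`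
  obtain ⟨w, hw, hw1⟩ : ∃ w ∈ W, w ≠ 1 := by
    refine W.bot_or_exists_ne_one.resolve_left fun h => ?_
    rw [h, Subgroup.card_bot] at hWc
    exact hs.ne_one hWc.symm
  haveI : Group.IsSolvable V := by haveI := Fact.mk hq; haveI := hVp.isNilpotent; infer_instance
  have hall : ∀ a ∈ V, ⁅a, w⁆ ∈ N := by
    intro a ha
    rw [hV] at ha
    obtain ⟨i, rfl⟩ := Subgroup.mem_zpowers_iff.mp ha
    set S : Subgroup G := (Subgroup.centralizer ({QuotientGroup.mk (s := N.subgroupOf (Subgroup.normalizer (N : Set G))) ⟨w, hWN hw⟩} : Set (↥(Subgroup.normalizer (N : Set G)) ⧸ N.subgroupOf (Subgroup.normalizer (N : Set G))))).comap (QuotientGroup.mk' _) |>.map (Subgroup.normalizer (N : Set G)).subtype with hS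
    have hv' : v ∈ S := by
      refine ⟨⟨v, hvN⟩, Subgroup.mem_comap.mpr (Subgroup.mem_centralizer_singleton_iff.mpr ?_), rfl⟩
      rw [QuotientGroup.mk'_apply]
      refine commutatorElement_eq_one_iff_commute.mp ?_
      rw [← QuotientGroup.mk'_apply, ← QuotientGroup.mk'_apply, ← map_commutatorElement, QuotientGroup.mk'_apply,
        QuotientGroup.eq_one_iff, Subgroup.mem_subgroupOf]
      simpa [commutatorElement_def] using hcom w hw
    obtain ⟨x, hx, hxe⟩ := zpow_mem hv' i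
    have hx' : Commute ((QuotientGroup.mk' (N.subgroupOf (Subgroup.normalizer (N : Set G)))) x)
        ((QuotientGroup.mk' _) ⟨w, hWN hw⟩) := Subgroup.mem_centralizer_singleton_iff.mp (Subgroup.mem_comap.mp hx)
    rw [← commutatorElement_eq_one_iff_commute, ← map_commutatorElement, QuotientGroup.mk'_apply,
      QuotientGroup.eq_one_iff, Subgroup.mem_subgroupOf] at hx'
    simpa [commutatorElement_def, ← hxe] using hx'
  obtain ⟨n, hn, hnw⟩ := Coprime.exists_mul_mem_centralizer (A := V) (N := N) (hVK.trans hKN)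
    (by rw [hV, Nat.card_zpowers, hvo]; exact (hNc.coprime_dvd_right (Dvd.intro _ rfl)).symm)
    (Or.inl inferInstance) hall
  set Z' := Z ⊓ Subgroup.centralizer (V : Set G) with hZ'
  have hcZ : n * w ∈ Z' := Subgroup.mem_inf.mpr ⟨Subgroup.mul_mem_sup hn hw, hnw⟩
  have hAZ' : A ≤ Subgroup.normalizer (Z' : Set G) :=
    (le_inf hAZ (hAV.trans (Bender.normalizer_le_normalizer_centralizer V))).trans
      Subgroup.inf_normalizer_le_normalizer_inf
  obtain ⟨k, hk⟩ := hAp.exists_card_eq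
  have hcopK : (Nat.card A).Coprime (Nat.card K) := by rw [hk]; exact hKp.symm.pow_left k
  have hcopZ : (Nat.card A).Coprime (Nat.card Z) := hcopK.coprime_dvd_right (Subgroup.card_dvd_of_le hZK)
  obtain ⟨U, hU⟩ := Coprime.exists_invariant_sylow hAZ'
    (hcopZ.coprime_dvd_right (Subgroup.card_dvd_of_le inf_le_left)) (Or.inl inferInstance) s
  set U' := (U : Subgroup Z').map Z'.subtype with hU'
  have hU'Z : U' ≤ Z := (Subgroup.map_subtype_le _).trans inf_le_left
  have hsN : ¬ s ∣ Nat.card N := fun h =>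
    hs.ne_one (Nat.eq_one_of_dvd_coprimes (hNc.coprime_dvd_right (Dvd.intro_left _ rfl)) h dvd_rfl)
  have hfac : (Nat.card Z).factorization s = 1 := by
    rw [hZc, Nat.factorization_mul Nat.card_pos.ne' hs.ne_zero, Finsupp.add_apply,
      Nat.factorization_eq_zero_of_not_dvd hsN, hs.factorization_self]
  have hsZ' : s ∣ Nat.card Z' := by
    by_contra hnd
    have hc : (orderOf (n * w)).Coprime s :=
      (((hs.coprime_iff_not_dvd).mpr hnd).symm).coprime_dvd_left (Subgroup.orderOf_dvd_natCard Z' hcZ)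
    have hws : w ^ s = 1 := by rw [← hWc]; exact congrArg Subtype.val (pow_card_eq_one' (x := (⟨w, hw⟩ : W)))
    set f := QuotientGroup.mk' (N.subgroupOf (Subgroup.normalizer (N : Set G)))
    have hfn : f ⟨n, Subgroup.le_normalizer hn⟩ = 1 := (QuotientGroup.eq_one_iff _).mpr hn
    set c : ↥(Subgroup.normalizer (N : Set G)) := ⟨n, Subgroup.le_normalizer hn⟩ * ⟨w, hWN hw⟩
    have hfc : f c = f ⟨w, hWN hw⟩ := by rw [map_mul, hfn, one_mul]
    have h1 : orderOf (f c) ∣ s := by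
      refine orderOf_dvd_of_pow_eq_one ?_
      rw [hfc, ← map_pow, show (⟨w, hWN hw⟩ : ↥(Subgroup.normalizer (N : Set G))) ^ s = 1 from Subtype.ext hws,
        map_one]
    have h2 : orderOf (f c) ∣ orderOf (n * w) := by
      refine (orderOf_map_dvd f c).trans ?_
      rw [← Subgroup.orderOf_coe]
      exact dvd_rfl
    have h3 : f ⟨w, hWN hw⟩ = 1 := hfc ▸ orderOf_eq_one_iff.mp (Nat.eq_one_of_dvd_coprimes hc h2 h1)
    have hwN : w ∈ N ⊓ W := Subgroup.mem_inf.mpr ⟨Subgroup.mem_subgroupOf.mp ((QuotientGroup.eq_one_iff _).mp h3), hw⟩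
    rw [hNW, Subgroup.mem_bot] at hwN
    exact hw1 hwN
  have hU'c : Nat.card U' = s := by
    obtain ⟨j, hj⟩ := (U.isPGroup'.map Z'.subtype).exists_card_eq
    have h1 : s ∣ Nat.card U' := by
      rw [hU', Subgroup.card_map_of_injective Z'.subtype_injective]
      exact U.dvd_card_of_dvd_card hsZ'
    have h2 : Nat.card U' ∣ Nat.card Z := Subgroup.card_dvd_of_le hU'Z
    rw [hj] at h1 h2 ⊢
    have hj1 : j ≤ 1 := hfac ▸ (hs.pow_dvd_iff_le_factorization Nat.card_pos.ne').mp h2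
    rcases j with _ | _ | j
    · rw [pow_zero] at h1; exact absurd h1 hs.not_dvd_one
    · exact pow_one s
    · omega
  obtain ⟨S₁, hS₁⟩ := Coprime.exists_sylow_map_eq hU'Z (p := s) (by rw [hU'c, hfac, pow_one])
  obtain ⟨S₂, hS₂⟩ := Coprime.exists_sylow_map_eq (le_sup_right : W ≤ Z) (p := s) (by rw [hWc, hfac, pow_one])
  obtain ⟨c, hc, hc'⟩ := Coprime.exists_centralizer_conj_sylow hAZ hcopZ (Or.inl inferInstance) S₁ S₂
    (by rw [hS₁]; exact hU) (by rw [hS₂]; exact hAW)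
  have hWeq : W = U'.map (MulAut.conj (c : G)).toMonoidHom := by
    rw [← hS₂, ← hc', Coprime.map_smul_sylow, hS₁]
  rw [hWeq]
  rintro _ ⟨u, hu, rfl⟩
  have huM : u ∈ M := hCv (Subgroup.mem_centralizer_singleton_iff.mpr
    (Subgroup.mem_centralizer_iff.mp (Subgroup.mem_inf.mp (Subgroup.map_subtype_le _ hu)).2 v
      (hV ▸ Subgroup.mem_zpowers v)).symm)
  exact mul_mem (mul_mem (hCA hc) huM) (inv_mem (hCA hc))

variable {q s : ℕ} {M H : Subgroup G}

theorem pair (hG : Cfsg.IsMinSimpleOddOrder G) (hA : Cfsg.IsSCN (P : Subgroup G) A)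
    (hA3 : ¬ Cfsg.PRankLE p 2 A) (hEA : E ≤ A) (hEe : Cfsg.IsElementaryAbelian p E) (hE3 : Nat.card E = p ^ 3)
    (hM : Local p q A M) (hH : Local p s A H) (hqs : q ≠ s)
    (hCM : Subgroup.centralizer (A : Set G) ≤ M) (hCH : Subgroup.centralizer (A : Set G) ≤ H)
    {V W : Subgroup G} (hV : Weight p q A E M V) (hW : Weight p s A E H W) : V ≤ H ∨ W ≤ M := by
  haveI := Fact.mk hM.prime
  haveI := Fact.mk hH.prime
  haveI hAc := SCNTransitivity.isMulCommutative_of_scn hA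
  have hAp : IsPGroup p A := P.isPGroup'.to_le hA.1
  obtain ⟨B, hB, hB2, hVB⟩ := hV.2.2.1
  obtain ⟨B', hB', hB'2, hWB⟩ := hW.2.2.1
  obtain ⟨e₀, he₀, he₀1⟩ := inter_nontrivial hEe hE3 hB hB2 hB' hB'2
  obtain ⟨L, hL, hCL⟩ := (eq_top_or_exists_le_coatom _).resolve_left (centralizer_singleton_ne_top hG.2 he₀1)
  have hAL : A ≤ L := le_trans (fun a ha => Subgroup.mem_centralizer_singleton_iff.mpr
    (Subgroup.mem_centralizer_iff.mp (A.le_centralizer ha) e₀ (hEA (hB he₀.1))).symm) hCL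
  have hVL : V ≤ L := le_trans (fun x hx => Subgroup.mem_centralizer_singleton_iff.mpr
    (Subgroup.mem_centralizer_iff.mp (hVB hx) e₀ he₀.1).symm) hCL
  have hWL : W ≤ L := le_trans (fun x hx => Subgroup.mem_centralizer_singleton_iff.mpr
    (Subgroup.mem_centralizer_iff.mp (hWB hx) e₀ he₀.2).symm) hCL
  by_cases hLM : L = M
  · exact Or.inr (hLM ▸ hWL)
  by_cases hLH : L = H
  · exact Or.inl (hLH ▸ hVL)
  refine Or.inr ?_
  haveI hsL : Group.IsSolvable L := hG.2.2.2 L hL.1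
  set K := (Cfsg.pPrimeCore p L).map L.subtype with hKdef
  have hKL : K ≤ L := Subgroup.map_subtype_le _
  have hKp : (Nat.card K).Coprime p := SylowLocal.coreOf_coprime
  have hLK : L ≤ Subgroup.normalizer (K : Set G) := SylowLocal.le_normalizer_coreOf
  have hpull : ∀ {t : ℕ}, t.Prime → t ≠ p → ∀ Y : Subgroup G, Nat.card Y = t → Y ≤ L →
      A ≤ Subgroup.normalizer (Y : Set G) → Y ≤ K := fun {t} ht htp Y hYc hYL hAY =>
    SCNTransitivity.le_pPrimeCore_of_scn hG.2 hG.1 P A hA (not_rankLE_one_of_three hA3) hL.1 hAL hYL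
      (by rw [hYc]; exact (Nat.coprime_primes ht hp.out).mpr htp) hAY
  have hVK : V ≤ K := hpull hM.prime hM.ne V hV.1 hVL hV.2.1
  have hWK : W ≤ K := hpull hH.prime hH.ne W hW.1 hWL hW.2.1
  have hrq := rank_le hG hA hA3 hM hCM hL hLM hKL hKp (hAL.trans hLK)
  have hrs := rank_le hG hA hA3 hH hCH hL hLH hKL hKp (hAL.trans hLK)
  obtain ⟨v₀, hv₀, e, he, hvo, hVv⟩ := hV.exists_commutator hM.prime hEA
  obtain ⟨w₀, hw₀, e', he', hwo, hWw⟩ := hW.exists_commutator hH.prime hEA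
  set N := Cfsg.piCoreOf (Cfsg.primesNotDvd (q * s)) K with hNdef
  have hNK : N ≤ K := Transitivity.piCoreOf_le _ _
  have hKN : K ≤ Subgroup.normalizer (N : Set G) := Transitivity.le_normalizer_piCoreOf _ _
  have hLN : L ≤ Subgroup.normalizer (N : Set G) := hLK.trans (Transitivity.normalizer_le_normalizer_piCoreOf _ _)
  set Λ := K ⊔ E with hΛ
  have hΛL : Λ ≤ L := sup_le hKL (hEA.trans hAL)
  haveI : (K.subgroupOf Λ).Normal :=
    (Subgroup.normal_subgroupOf_iff_le_normalizer le_sup_left).mpr (hΛL.trans hLK)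
  haveI : (N.subgroupOf Λ).Normal :=
    (Subgroup.normal_subgroupOf_iff_le_normalizer (hNK.trans le_sup_left)).mpr (hΛL.trans hLN)
  haveI : Group.IsSolvable Λ := Coprime.isSolvable_of_le hΛL hsL
  have hrank : ∀ {t : ℕ}, Cfsg.PRankLE t 2 K → Cfsg.PRankLE t 2 (K.subgroupOf Λ) := by
    intro t h X₀ hXc hXe
    have hXe' := Fusion.Thompson.isEA_map Λ.subtype (Fusion.Thompson.isEA_map (K.subgroupOf Λ).subtype
      (p := t) ⟨hXc, hXe⟩)
    have := RankTwo.card_le_sq h hXe' (by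
      rintro _ ⟨y, hy, rfl⟩
      exact Subgroup.mem_subgroupOf.mp (Subgroup.map_subtype_le _ hy))
    rwa [Subgroup.card_map_of_injective Λ.subtype_injective,
      Subgroup.card_map_of_injective (K.subgroupOf Λ).subtype_injective] at this
  have hvK : v₀ ∈ K := hVK hv₀
  have hwK : w₀ ∈ K := hWK hw₀
  have key : ⁅(⁅(⟨v₀, Subgroup.mem_sup_left hvK⟩ : Λ), (⟨e, Subgroup.mem_sup_right he⟩ : Λ)⁆ : Λ),
      (⁅(⟨w₀, Subgroup.mem_sup_left hwK⟩ : Λ), (⟨e', Subgroup.mem_sup_right he'⟩ : Λ)⁆ : Λ)⁆ ∈ N.subgroupOf Λ := by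
    refine SCNUniqueAux.commute_mod (K := K.subgroupOf Λ) (E := E.subgroupOf Λ)
      (hG.1.of_dvd_nat Λ.card_subgroup_dvd_card) hM.ne hH.ne hqs
      (by rw [Nat.card_congr (Subgroup.subgroupOfEquivOfLe (le_sup_left : K ≤ Λ)).toEquiv]; exact hKp)
      (Fusion.Thompson.isEA_subgroupOf hEe Λ)
      (by rw [Nat.card_congr (Subgroup.subgroupOfEquivOfLe (le_sup_right : E ≤ Λ)).toEquiv]; exact hE3.le)
      ?_ (fun x hx => hNK hx) ?_ ?_ (hrank hrq) (hrank hrs)
      (v₀ := ⟨v₀, Subgroup.mem_sup_left hvK⟩) (e := ⟨e, Subgroup.mem_sup_right he⟩)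
      (w₀ := ⟨w₀, Subgroup.mem_sup_left hwK⟩) (e' := ⟨e', Subgroup.mem_sup_right he'⟩) hvK he rfl ?_ rfl ?_
    · rw [← Subgroup.subgroupOf_sup le_sup_left le_sup_right, Subgroup.subgroupOf_self]
    · rw [Nat.card_congr (Subgroup.subgroupOfEquivOfLe (hNK.trans le_sup_left : N ≤ Λ)).toEquiv]
      exact Transitivity.coprime_piCoreOf _ _
    · intro J hJn hJK hJc x hx
      show (x : G) ∈ N
      refine Transitivity.le_piCoreOf (N := J.map Λ.subtype) ?_ ?_
        (by rwa [Subgroup.card_map_of_injective Λ.subtype_injective]) ⟨x, hx, rfl⟩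
      · rintro _ ⟨y, hy, rfl⟩; exact hJK hy
      · have h := Subgroup.le_normalizer_map (H := J) Λ.subtype
        rw [Subgroup.normalizer_eq_top (H := J), ← MonoidHom.range_eq_map, Subgroup.range_subtype] at h
        exact (le_sup_left : K ≤ Λ).trans h
    · rw [← Subgroup.orderOf_coe]; simpa [commutatorElement_def] using hvo
    · rw [← Subgroup.orderOf_coe]; simpa [commutatorElement_def] using hwo
  have key' : ⁅⁅v₀, e⁆, ⁅w₀, e'⁆⁆ ∈ N := by
    simpa [Subgroup.mem_subgroupOf, commutatorElement_def] using key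
  have hvV : ⁅v₀, e⁆ ∈ V := hVv ▸ Subgroup.mem_zpowers _
  refine le_of_commute_mod hH.prime hqs hM.prime hAp hKp hCM hVv hvo
    (hV.2.2.2.2.1 _ hvV fun h => hM.prime.ne_one (by rw [← hvo, h, orderOf_one]))
    hNK hKN (hAL.trans hLN) (Transitivity.coprime_piCoreOf _ _) hVK hWK hV.2.1 hW.2.1 hW.1 fun w hw => ?_
  rw [hWw] at hw
  obtain ⟨i, rfl⟩ := Subgroup.mem_zpowers_iff.mp hw
  -- powers of a generator
  set v := ⁅v₀, e⁆
  set w := ⁅w₀, e'⁆
  have hwK' : w ∈ K := hWK (hWw ▸ Subgroup.mem_zpowers _)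
  haveI : (N.subgroupOf K).Normal := (Subgroup.normal_subgroupOf_iff_le_normalizer hNK).mpr hKN
  set f := QuotientGroup.mk' (N.subgroupOf K)
  have h1 : Commute (f ⟨v, hVK hvV⟩) (f ⟨w, hwK'⟩) := by
    rw [← commutatorElement_eq_one_iff_commute, ← map_commutatorElement]
    exact (QuotientGroup.eq_one_iff _).mpr (by simpa [Subgroup.mem_subgroupOf, commutatorElement_def] using key')
  have h2 := h1.zpow_right i
  rw [← map_zpow, ← commutatorElement_eq_one_iff_commute, ← map_commutatorElement] at h2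
  have h3 := (QuotientGroup.eq_one_iff _).mp h2
  simpa [Subgroup.mem_subgroupOf, commutatorElement_def] using h3

theorem good_unique (hG : Cfsg.IsMinSimpleOddOrder G) (hA : Cfsg.IsSCN (P : Subgroup G) A)
    (hA3 : ¬ Cfsg.PRankLE p 2 A) (hAU : ¬ Cfsg.InUniqueMaximal A) (hEA : E ≤ A)
    (hEe : Cfsg.IsElementaryAbelian p E) (hE3 : Nat.card E = p ^ 3)
    (hM : Local p q A M) (hH : Local p s A H) : M = H := by
  have hAp : IsPGroup p A := P.isPGroup'.to_le hA.1
  have hAc := SCNTransitivity.isMulCommutative_of_scn hA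
  obtain ⟨V₁, V₂, hV₁, hV₂, hVU⟩ := exists_weights hG hM hAp hAc hAU hEA hEe hE3
  obtain ⟨W₁, W₂, hW₁, hW₂, hWU⟩ := exists_weights hG hH hAp hAc hAU hEA hEe hE3
  have hCM := centralizer_le hG hM hEA hEe hE3 hV₁ hV₂ hVU
  have hCH := centralizer_le hG hH hEA hEe hE3 hW₁ hW₂ hWU
  by_cases hqs : q = s
  · subst hqs
    obtain ⟨E', hE'R, hE'e, hE'3⟩ := hH.exists_rank3
    have hRM := qinv_le hG hA hA3 hM hCM (Bender.isPGroup_part q H) (hH.le.trans (Bender.le_normalizer_part q H))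
    obtain ⟨M₀, -, hu⟩ := hM.unique_rank3 hG hE'e hE'3
    exact (hu M ⟨hM.coatom, hE'R.trans hRM⟩).trans (hu H ⟨hH.coatom, hE'R.trans (Bender.part_le q H)⟩).symm
  by_contra hne
  have hnW : ¬ (W₁ ≤ M ∧ W₂ ≤ M) := fun h => by
    obtain ⟨M₀, -, hu⟩ := hWU
    exact hne ((hu M ⟨hM.coatom, sup_le h.1 h.2⟩).trans
      (hu H ⟨hH.coatom, sup_le hW₁.2.2.2.2.2 hW₂.2.2.2.2.2⟩).symm)
  obtain ⟨W, hW, hWM⟩ : ∃ W, Weight p s A E H W ∧ ¬ W ≤ M := by
    by_cases h : W₁ ≤ M
    · exact ⟨W₂, hW₂, fun h' => hnW ⟨h, h'⟩⟩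
    · exact ⟨W₁, hW₁, h⟩
  have h1 := (pair hG hA hA3 hEA hEe hE3 hM hH hqs hCM hCH hV₁ hW).resolve_right hWM
  have h2 := (pair hG hA hA3 hEA hEe hE3 hM hH hqs hCM hCH hV₂ hW).resolve_right hWM
  obtain ⟨M₀, -, hu⟩ := hVU
  exact hne ((hu M ⟨hM.coatom, sup_le hV₁.2.2.2.2.2 hV₂.2.2.2.2.2⟩).trans (hu H ⟨hH.coatom, sup_le h1 h2⟩).symm)

theorem exists_local (hG : Cfsg.IsMinSimpleOddOrder G) (hA : Cfsg.IsSCN (P : Subgroup G) A)
    (hA3 : ¬ Cfsg.PRankLE p 2 A) (hp' : ∀ L : Subgroup G, IsCoatom L → Cfsg.PRankLE p 2 (Cfsg.fittingOf L)) :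
    ∃ M q, Local p q A M := by
  haveI := hG.2.1
  set Z := Cfsg.centerThompsonOf p (P : Subgroup G) with hZdef
  obtain ⟨E₀, hE₀A, hE₀e, hE₀3⟩ := UniqueTools.exists_isEA_of_not_rankLE hA3
  have hA1 : A ≠ ⊥ := fun h => by
    rw [h] at hE₀A
    rw [le_bot_iff.mp hE₀A, Subgroup.card_bot] at hE₀3
    exact absurd hE₀3 (not_le.mpr (Nat.one_lt_pow (by norm_num) hp.out.one_lt))
  have hP1 : (P : Subgroup G) ≠ ⊥ := fun h => hA1 (le_bot_iff.mp (h ▸ hA.1))
  have hZ1 : Z ≠ ⊥ := SylowLocal.centerThompsonOf_ne_bot P.isPGroup' hP1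
  have hZp : IsPGroup p Z := P.isPGroup'.to_le (inf_le_left.trans (Fusion.Thompson.thompsonSubgroupOf_le _))
  obtain ⟨M, hM, hNM⟩ := Uniqueness.exists_coatom_normalizer hG.2 hZ1 hZp
  have hPN : (P : Subgroup G) ≤ Subgroup.normalizer (Z : Set G) :=
    Subgroup.le_normalizer.trans (ZJ.centerThompsonOf_normalizer _)
  have hPM : (P : Subgroup G) ≤ M := hPN.trans hNM
  by_contra hn
  push Not at hn
  have hrank : ∀ t : ℕ, t.Prime → Cfsg.PRankLE t 2 (Cfsg.fittingOf M) := fun t ht => by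
    by_contra hr
    by_cases htp : t = p
    · exact hr (htp ▸ hp' M hM)
    · exact hn M t ⟨hM, hA.1.trans hPM, ht, htp, hr⟩
  have hctrl := ZJControl.controls (hodd := hG.1) P (fun U hU hU1 => by
    haveI := hU.isNilpotent
    exact hG.2.2.2 _ (Uniqueness.normalizer_ne_top hG.2 hU1 inferInstance))
  have heq := Fusion.Transfer.commutator_inf_eq_of_controls P hPN hctrl
  have htop : _root_.commutator G = ⊤ := by
    rcases (inferInstance : (_root_.commutator G).Normal).eq_bot_or_eq_top with hb | ht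
    · refine absurd (⟨⟨fun a b => commutatorElement_eq_one_iff_commute.mp (Subgroup.mem_bot.mp (hb ▸ ?_))⟩⟩ : IsMulCommutative G) hG.2.2.1
      exact Subgroup.commutator_mem_commutator (Subgroup.mem_top a) (Subgroup.mem_top b)
    · exact ht
  rw [htop, top_inf_eq] at heq
  have hPF : (P : Subgroup G) ≤ Cfsg.fittingOf M := by
    refine (heq.le.trans inf_le_left).trans (Subgroup.commutator_le.mpr fun a ha b hb => ?_)
    exact SCNUniqueAux.commutator_mem_fittingOf hG.1 (hG.2.2.2 M hM.1) hrank (hNM ha) (hNM hb)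
  exact hA3 fun B h1 h2 => by
    have := RankTwo.card_le_sq (hrank p hp.out) (Fusion.Thompson.isEA_map A.subtype (p := p) ⟨h1, h2⟩)
      (((Subgroup.map_subtype_le _).trans hA.1).trans hPF)
    rwa [Subgroup.card_map_of_injective A.subtype_injective] at this

/-- `SCN_3` subgroups are contained in a unique maximal subgroup. -/
theorem unique (hG : Cfsg.IsMinSimpleOddOrder G) (hA : Cfsg.IsSCN (P : Subgroup G) A)
    (hA3 : ¬ Cfsg.PRankLE p 2 A) : Cfsg.InUniqueMaximal A := by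
  by_contra hAU
  haveI hAc := SCNTransitivity.isMulCommutative_of_scn hA
  have hAp : IsPGroup p A := P.isPGroup'.to_le hA.1
  obtain ⟨E₀, hE₀A, hE₀e, hE₀3⟩ := UniqueTools.exists_isEA_of_not_rankLE hA3
  have hp' : ∀ L : Subgroup G, IsCoatom L → Cfsg.PRankLE p 2 (Cfsg.fittingOf L) := fun L hL => by
    by_contra hr
    exact hAU (Cfsg.Agent.S1401.result hG L hL p hr A hAp hAc hA3)
  obtain ⟨j, hj⟩ := (Fusion.Thompson.isPGroup_isEA hE₀e).exists_card_eq
  have hdvd : p ^ 3 ∣ Nat.card E₀ := by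
    rw [hj] at hE₀3 ⊢
    exact pow_dvd_pow p ((Nat.pow_le_pow_iff_right hp.out.one_lt).mp hE₀3)
  obtain ⟨E₁, hE₁⟩ := Sylow.exists_subgroup_card_pow_prime (G := E₀) p hdvd
  set E := E₁.map E₀.subtype with hEdef
  have hEe : Cfsg.IsElementaryAbelian p E := Fusion.Thompson.isEA_le hE₀e (Subgroup.map_subtype_le _)
  have hE3 : Nat.card E = p ^ 3 := by
    rw [hEdef, Subgroup.card_map_of_injective E₀.subtype_injective, hE₁]
  have hEA : E ≤ A := (Subgroup.map_subtype_le _).trans hE₀A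
  obtain ⟨M, q, hM⟩ := exists_local hG hA hA3 hp'
  obtain ⟨V₁, V₂, hV₁, hV₂, hVU⟩ := exists_weights hG hM hAp hAc hAU hEA hEe hE3
  have hCM := centralizer_le hG hM hEA hEe hE3 hV₁ hV₂ hVU
  haveI := Fact.mk hM.prime
  haveI := hAp.isNilpotent
  obtain ⟨k, hk⟩ := hAp.exists_card_eq
  have hA1 : A ≠ ⊥ := fun h => by
    rw [h] at hEA
    rw [le_bot_iff.mp hEA, Subgroup.card_bot] at hE3
    exact absurd hE3.symm (Nat.one_lt_pow (by norm_num) hp.out.one_lt).ne'
  refine hAU (Uniqueness.unique_of_invariant hG hM.coatom hM.le hAp hA1 fun Y hY hAY => ?_)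
  have hcopY : (Nat.card A).Coprime (Nat.card Y) := by rw [hk]; exact hY.symm.pow_left k
  -- it is enough to treat primary subgroups
  have hprim : ∀ r : ℕ, r.Prime → ∀ Q : Subgroup G, IsPGroup r Q → (Nat.card Q).Coprime p →
      A ≤ Subgroup.normalizer (Q : Set G) → Q ≤ M := by
    intro r hr Q hQ hQc hAQ
    by_cases hrq : r = q
    · subst hrq; exact qinv_le hG hA hA3 hM hCM hQ hAQ
    haveI := Fact.mk hr
    haveI := hEe.1
    have hcopQ : (Nat.card E).Coprime (Nat.card Q) := by rw [hE3]; exact hQc.symm.pow_left 3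
    rw [← Coprime.iSup_centralizer_of_cyclic_quotient (A := E) (hEA.trans hAQ) hcopQ]
    refine iSup₂_le fun B' hB' => ?_
    obtain ⟨hB'E, a, haE, hB'a⟩ := hB'
    set X := Q ⊓ Subgroup.centralizer (B' : Set G) with hXdef
    have hB'2 : p ^ 2 ≤ Nat.card B' := by
      have h1 := Fusion.Thompson.card_sup_mul_card_inf (N := B') (K := Subgroup.zpowers a)
        (Subgroup.zpowers_le.mpr (Subgroup.centralizer_le_normalizer _
          (Subgroup.mem_centralizer_iff.mpr fun b hb =>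
            Subgroup.mem_centralizer_iff.mp (E.le_centralizer haE) b (hB'E hb))))
      rw [hB'a, hE3] at h1
      have h2 : Nat.card (Subgroup.zpowers a) ≤ p := by
        rw [Nat.card_zpowers]; exact orderOf_le_of_pow_eq_one hp.out.pos (hEe.2 a haE)
      have h4 : p ^ 3 ≤ Nat.card B' * p :=
        ((Nat.le_mul_of_pos_right _ Nat.card_pos).trans h1.le).trans (Nat.mul_le_mul_left _ h2)
      rw [pow_succ] at h4
      exact Nat.le_of_mul_le_mul_right h4 hp.out.pos
    obtain ⟨B₁, hB₁, hB₁2, hV₁B⟩ := hV₁.2.2.1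
    obtain ⟨e₀, he₀, he₀1⟩ := inter_nontrivial hEe hE3 hB'E hB'2 hB₁ hB₁2
    obtain ⟨L, hL, hCL⟩ := (eq_top_or_exists_le_coatom _).resolve_left (centralizer_singleton_ne_top hG.2 he₀1)
    have hAL : A ≤ L := le_trans (fun x hx => Subgroup.mem_centralizer_singleton_iff.mpr
      (Subgroup.mem_centralizer_iff.mp (A.le_centralizer hx) e₀ (hEA (hB'E he₀.1))).symm) hCL
    have hXL : X ≤ L := le_trans (fun x hx => Subgroup.mem_centralizer_singleton_iff.mpr
      (Subgroup.mem_centralizer_iff.mp hx.2 e₀ he₀.1).symm) hCL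
    by_cases hloc : ∀ t : ℕ, t.Prime → Cfsg.PRankLE t 2 (Cfsg.fittingOf L)
    swap
    · push Not at hloc
      obtain ⟨t, ht, hr'⟩ := hloc
      have hLM : M = L := good_unique hG hA hA3 hAU hEA hEe hE3 hM
        (⟨hL, hAL, ht, fun h => hr' (h ▸ hp' L hL), hr'⟩ : Local p t A L)
      exact hLM ▸ hXL
    obtain ⟨v₀, hv₀, e, he, hvo, hVv⟩ := hV₁.exists_commutator hM.prime hEA
    set v := ⁅v₀, e⁆ with hvdef
    have hvV : v ∈ V₁ := hVv ▸ Subgroup.mem_zpowers _
    have hv₀L : v₀ ∈ L := hCL (Subgroup.mem_centralizer_singleton_iff.mpr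
      (Subgroup.mem_centralizer_iff.mp (hV₁B hv₀) e₀ he₀.2).symm)
    haveI := Basic.fittingOf_isNilpotent (M := L)
    have hvF : v ∈ Cfsg.fittingOf L :=
      SCNUniqueAux.commutator_mem_fittingOf hG.1 (hG.2.2.2 L hL.1) hloc hv₀L (hAL (hEA he))
    have hAX : A ≤ Subgroup.normalizer (X : Set G) :=
      (le_inf hAQ ((A.le_centralizer.trans (Subgroup.centralizer_le (hB'E.trans hEA))).trans
        Subgroup.le_normalizer)).trans Subgroup.inf_normalizer_le_normalizer_inf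
    have hcopX : (Nat.card A).Coprime (Nat.card X) := by
      rw [hk]; exact ((hQc.coprime_dvd_left (Subgroup.card_dvd_of_le inf_le_left)).symm).pow_left k
    rw [← Coprime.commutator_sup_centralizer hAX hcopX (Or.inl inferInstance)]
    refine sup_le ?_ (inf_le_right.trans hCM)
    have hXA : ⁅X, A⁆ ≤ X := Subgroup.le_normalizer_iff_commutator_le_left.1 hAX
    have hXF : ⁅X, A⁆ ≤ Cfsg.fittingOf L := Subgroup.commutator_le.mpr fun x hx y hy =>
      SCNUniqueAux.commutator_mem_fittingOf hG.1 (hG.2.2.2 L hL.1) hloc (hXL hx) (hAL hy)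
    refine fun x hx => hV₁.2.2.2.2.1 v hvV (fun h => hM.prime.ne_one (by rw [← hvo, h, orderOf_one]))
      (Subgroup.mem_centralizer_singleton_iff.mpr ?_)
    refine (Basic.commute_of_mem_nilpotent (hXF hx) hvF ?_).eq
    obtain ⟨i, hi⟩ := (hQ.to_le (hXA.trans inf_le_left)).exists_card_eq
    rw [hvo]
    exact (((Nat.coprime_primes hr hM.prime).mpr hrq).pow_left i).coprime_dvd_left
      (hi ▸ Subgroup.orderOf_dvd_natCard _ hx)
  have htop : M.subgroupOf Y = ⊤ := by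
    refine Solvable.Cores.eq_top_of_sylow_le _ fun r hr => ?_
    haveI := Fact.mk hr
    obtain ⟨S, hS⟩ := Coprime.exists_invariant_sylow hAY hcopY (Or.inl inferInstance) r
    exact ⟨S, fun x hx => hprim r hr _ (S.isPGroup'.map _)
      (hY.coprime_dvd_left (Subgroup.card_dvd_of_le (Subgroup.map_subtype_le _))) hS ⟨x, hx, rfl⟩⟩
  exact Subgroup.subgroupOf_eq_top.mp htop

end CfsgLib.OddOrder.SCNUnique
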