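import Mathlib.GroupTheory.Nilpotent

set_option autoImplicit false

open scoped commutatorElement

namespace CfsgLib.OddOrder.SelfCentralizing

variable {G : Type*} [Group G]

/-- A normal abelian subgroup of a nilpotent group that is maximal such is self-centralizing. -/
theorem centralizer_eq_of_maximal [Group.IsNilpotent G] {A : Subgroup G} [A.Normal] [IsMulCommutative A]
    (hmax : ∀ B : Subgroup G, B.Normal → IsMulCommutative B → A ≤ B → B = A) :
    Subgroup.centralizer (A : Set G) = A := by
  refine le_antisymm ?_ A.le_centralizer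
  by_contra hne
  haveI : (Subgroup.centralizer (A : Set G)).Normal := inferInstance
  obtain ⟨n, hn⟩ := Group.IsNilpotent.nilpotent G
  have hex : ∃ n, ¬ Subgroup.centralizer (A : Set G) ⊓ Subgroup.upperCentralSeries G n ≤ A :=
    ⟨n, by rwa [hn, inf_top_eq]⟩
  classical
  obtain ⟨m, hm1, hm2⟩ : ∃ m, (Subgroup.centralizer (A : Set G) ⊓ Subgroup.upperCentralSeries G m ≤ A) ∧
      ¬ Subgroup.centralizer (A : Set G) ⊓ Subgroup.upperCentralSeries G (m + 1) ≤ A := by
    rcases Nat.eq_zero_or_pos (Nat.find hex) with h | h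
    · exact absurd (by simp [h]) (Nat.find_spec hex)
    · refine ⟨Nat.find hex - 1, not_not.mp (Nat.find_min hex (by omega)), ?_⟩
      rw [Nat.sub_add_cancel h]
      exact Nat.find_spec hex
  obtain ⟨x, hx, hxA⟩ := SetLike.not_le_iff_exists.mp hm2
  have hxc : x ∈ Subgroup.centralizer (A : Set G) := hx.1
  set B := A ⊔ Subgroup.zpowers x with hB
  have hBn : B.Normal := by
    rw [← Subgroup.commutator_top_left_le_iff, Subgroup.commutator_comm,
      ← Subgroup.le_normalizer_iff_commutator_le_left]
    intro g _
    rw [Subgroup.mem_normalizer_iff_map_conj_eq]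
    have key : ∀ h : G, B.map (MulAut.conj h).toMonoidHom ≤ B := by
      intro h
      rw [Subgroup.map_le_iff_le_comap]
      refine sup_le (fun a ha => ?_) (Subgroup.zpowers_le.mpr ?_)
      · exact Subgroup.mem_sup_left (‹A.Normal›.conj_mem a ha h)
      · show h * x * h⁻¹ ∈ B
        have h1 : ⁅x, h⁆ ∈ A := hm1 ⟨by
            rw [commutatorElement_def, mul_assoc, mul_assoc]
            refine mul_mem hxc ?_
            rw [← mul_assoc]
            exact Subgroup.Normal.conj_mem inferInstance _ (inv_mem hxc) h,
          Subgroup.mem_upperCentralSeries_succ_iff.mp hx.2 h⟩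
        have e : h * x * h⁻¹ = ⁅x, h⁆⁻¹ * x := by simp [commutatorElement_def, mul_assoc]
        rw [e]
        exact mul_mem (Subgroup.mem_sup_left (inv_mem h1)) (Subgroup.mem_sup_right (Subgroup.mem_zpowers x))
    refine le_antisymm (key g) fun y hy => ?_
    refine ⟨g⁻¹ * y * g, ?_, by simp [mul_assoc]⟩
    have := key g⁻¹ ⟨y, hy, rfl⟩
    simpa using this
  have hBc : IsMulCommutative B := by
    have hcomm : ∀ a ∈ B, ∀ b ∈ B, a * b = b * a := by
      have h1 : B ≤ Subgroup.centralizer (B : Set G) := by
        rw [hB]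
        refine sup_le ?_ (Subgroup.zpowers_le.mpr ?_) <;>
          rw [Subgroup.sup_eq_closure, Subgroup.centralizer_closure]
        · intro a ha
          rw [Subgroup.mem_centralizer_iff]
          rintro z (hz | hz)
          · exact Subgroup.mem_centralizer_iff.mp (A.le_centralizer ha) z hz
          · obtain ⟨k, rfl⟩ := Subgroup.mem_zpowers_iff.mp hz
            exact ((show Commute a x from Subgroup.mem_centralizer_iff.mp hxc a ha).zpow_right k).symm
        · rw [Subgroup.mem_centralizer_iff]
          rintro z (hz | hz)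
          · exact Subgroup.mem_centralizer_iff.mp hxc z hz
          · obtain ⟨k, rfl⟩ := Subgroup.mem_zpowers_iff.mp hz
            exact ((Commute.refl x).zpow_left k)
      intro a ha b hb
      exact Subgroup.mem_centralizer_iff.mp (h1 hb) a ha
    exact ⟨⟨fun a b => Subtype.ext (hcomm a a.2 b b.2)⟩⟩
  have := hmax B hBn hBc le_sup_left
  exact hxA (this ▸ Subgroup.mem_sup_right (Subgroup.mem_zpowers x))

/-- A nilpotent finite group has a self-centralizing normal abelian subgroup above any given one. -/
theorem exists_selfcentralizing [Finite G] [Group.IsNilpotent G] (A₀ : Subgroup G) [A₀.Normal]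
    [hA : IsMulCommutative A₀] :
    ∃ A : Subgroup G, A₀ ≤ A ∧ A.Normal ∧ IsMulCommutative A ∧ Subgroup.centralizer (A : Set G) = A := by
  classical
  obtain ⟨A, hle, ⟨hn, hc⟩, hmax⟩ := (Set.toFinite {B : Subgroup G | B.Normal ∧ IsMulCommutative B}).exists_le_maximal
    (show A₀ ∈ _ from ⟨‹A₀.Normal›, hA⟩)
  haveI := hn
  haveI := hc
  exact ⟨A, hle, hn, hc, centralizer_eq_of_maximal fun B h1 h2 h3 => le_antisymm (hmax ⟨h1, h2⟩ h3) h3⟩

end CfsgLib.OddOrder.SelfCentralizing
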