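import Cfsg.Agent.Lib.OddOrder.SigmaUnique
import Cfsg.Agent.Lib.Solvable.SupersolvableCriteria
import Mathlib

set_option autoImplicit false
set_option linter.style.haveILetI false
set_option linter.unusedSectionVars false

/-!
How `σ(M)`-subgroups of `M` embed in other maximal subgroups.
-/

namespace CfsgLib.OddOrder.SigmaEmbedding

open SigmaFusion (cj)

variable {G : Type*} [Group G] [Finite G] {q : ℕ} [hq : Fact q.Prime] {M N : Subgroup G}

theorem ne_two (hG : Cfsg.IsMinSimpleOddOrder G) (hqs : q ∈ Cfsg.sigma M) : q ≠ 2 := fun e =>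
  Nat.not_even_iff_odd.mpr hG.1 (even_iff_two_dvd.mpr (e ▸ SigmaTools.sigma_dvd hqs))

/-- Normalisers of noncyclic `σ(M)`-subgroups of `M` lie in `M`. -/
theorem normalizer_le_of_noncyclic (hG : Cfsg.IsMinSimpleOddOrder G) (hM : IsCoatom M) (hqs : q ∈ Cfsg.sigma M)
    {P : Subgroup G} (hP : IsPGroup q P) (hnc : ¬ IsCyclic P) (hPM : P ≤ M) :
    Subgroup.normalizer (P : Set G) ≤ M := by
  rw [(SigmaFusion.main hG hM hqs hP (fun e => hnc (by subst e; infer_instance)) hPM).2]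
  exact sup_le inf_le_left (NonabelianUnique.centralizer_le_of_noncyclic hG hM (ne_two hG hqs) hP hnc hPM)

/-- The Sylow subgroups of `M` for `σ(M)` are Sylow in `G` with normalizer in `M`. -/
theorem normalizer_sylow_le (hqs : q ∈ Cfsg.sigma M) {S : Subgroup G} (hS : IsPGroup q S) (hSM : S ≤ M)
    (hmax : ∀ T : Subgroup G, IsPGroup q T → T ≤ M → S ≤ T → T = S) :
    Subgroup.normalizer (S : Set G) ≤ M := by
  obtain ⟨P, hPM, -⟩ := SigmaFusion.exists_sylow_sigma hqs
  obtain ⟨Q, hQ⟩ := (hS.of_equiv (Subgroup.subgroupOfEquivOfLe hSM).symm).exists_le_sylow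
  obtain ⟨m, hm⟩ := MulAction.exists_smul_eq M (P.subtype hPM) Q
  have hQM : ((m : G) • P : Sylow q G).toSubgroup ≤ M := by
    rw [Sylow.coe_subgroup_smul]
    exact (Subgroup.map_mono hPM).trans (Subgroup.mem_normalizer_iff_map_conj_eq.mp (Subgroup.le_normalizer m.2)).le
  have h1 := congrArg (fun S : Sylow q M => (S : Subgroup M).map M.subtype) hm
  simp only [Coprime.map_smul_sylow, Sylow.coe_subtype, Subgroup.subgroupOf_map_subtype] at h1
  rw [inf_eq_left.2 hPM] at h1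
  have hle : S ≤ ((m : G) • P : Sylow q G).toSubgroup := by
    rw [Sylow.coe_subgroup_smul]
    exact fun x hx => h1.ge ⟨⟨x, hSM hx⟩, hQ (show (⟨x, hSM hx⟩ : M) ∈ S.subgroupOf M from hx), rfl⟩
  rw [← hmax _ ((m : G) • P : Sylow q G).isPGroup' hQM hle]
  exact SigmaTools.normalizer_sylow_le hqs _ hQM

theorem normalizer_le_of_cyclic {S X : Subgroup G} [IsCyclic S] (hXS : X ≤ S) :
    Subgroup.normalizer (S : Set G) ≤ Subgroup.normalizer (X : Set G) := fun g hg => by
  refine Subgroup.mem_normalizer_iff_map_conj_eq.mpr (Solvable.SupersolvableCriteria.eq_of_card_eq_of_le_cyclic (A := S)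
    ((Subgroup.map_mono hXS).trans (Subgroup.mem_normalizer_iff_map_conj_eq.mp hg).le) hXS
    (Subgroup.card_map_of_injective (MulAut.conj g).injective))

/-- **Embedding of a `q`-subgroup of `M`, `q ∈ σ(M)`.** -/
theorem main (hG : Cfsg.IsMinSimpleOddOrder G) (hM : IsCoatom M) (hqs : q ∈ Cfsg.sigma M) {X : Subgroup G}
    (hXq : IsPGroup q X) (hX1 : X ≠ ⊥) (hXM : X ≤ M) (hN : IsCoatom N) (hne : N ≠ M)
    (hNX : Subgroup.normalizer (X : Set G) ≤ N) (S : Sylow q ↥(M ⊓ N))
    (hXS : X ≤ (S : Subgroup ↥(M ⊓ N)).map (M ⊓ N).subtype) :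
    (∀ g : G, N ≠ M.map (MulAut.conj g).toMonoidHom) ∧
      Subgroup.normalizer (((S : Subgroup ↥(M ⊓ N)).map (M ⊓ N).subtype : Subgroup G) : Set G) ≤ M ∧
      ¬ q ∣ ((S : Subgroup ↥(M ⊓ N)).map (M ⊓ N).subtype).relIndex N := by
  set R := (S : Subgroup ↥(M ⊓ N)).map (M ⊓ N).subtype with hR
  have hRq : IsPGroup q R := S.isPGroup'.map _
  have hRI : R ≤ M ⊓ N := Subgroup.map_subtype_le _
  have hmax : ∀ T : Subgroup G, IsPGroup q T → T ≤ M ⊓ N → R ≤ T → T = R := by
    intro T hT hTI hRT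
    refine le_antisymm (fun x hx => ?_) hRT
    have h1 := S.is_maximal' (hT.of_equiv (Subgroup.subgroupOfEquivOfLe hTI).symm)
      (fun y hy => Subgroup.mem_subgroupOf.mpr (hRT ⟨y, hy, rfl⟩))
    exact ⟨⟨x, hTI hx⟩, h1.le (Subgroup.mem_subgroupOf.mpr hx), rfl⟩
  have hconj : ∀ g : G, N ≠ M.map (MulAut.conj g).toMonoidHom := by
    intro g e
    change N = cj g M at e
    have hXg : X.map (MulAut.conj g⁻¹).toMonoidHom ≤ M := by
      refine (Subgroup.map_mono (hXS.trans (hRI.trans inf_le_right))).trans (le_of_eq ?_)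
      show cj g⁻¹ N = M
      rw [e, SigmaFusion.cj_cj, inv_mul_cancel, SigmaFusion.cj_one]
    obtain ⟨m, hm, c, hc, hmc⟩ := (SigmaFusion.main hG hM hqs hXq hX1 hXM).1 g⁻¹ hXg
    have hcN : c ∈ N := hNX (Subgroup.centralizer_le_normalizer _ hc)
    have hg : g = c⁻¹ * m⁻¹ := by rw [← mul_inv_rev, ← hmc, inv_inv]
    apply hne
    calc N = cj c N := (SigmaFusion.cj_eq_self (Subgroup.le_normalizer hcN)).symm
      _ = cj m⁻¹ M := by rw [e, SigmaFusion.cj_cj, hg, mul_inv_cancel_left]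
      _ = M := SigmaFusion.cj_eq_self (Subgroup.le_normalizer (inv_mem hm))
  have hNR : Subgroup.normalizer (R : Set G) ≤ M := by
    by_cases hc : IsCyclic R
    · haveI := hc
      refine normalizer_sylow_le hqs hRq (hRI.trans inf_le_left) fun T hT hTM hRT => ?_
      by_contra hne'
      have h1 := Coprime.lt_normalizer_inf_of_lt hT (lt_of_le_of_ne hRT (Ne.symm hne'))
      exact h1.ne' (hmax _ (hT.to_le inf_le_left) (le_inf (inf_le_left.trans hTM)
        (inf_le_right.trans ((normalizer_le_of_cyclic hXS).trans hNX))) h1.le)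
    · exact normalizer_le_of_noncyclic hG hM hqs hRq hc (hRI.trans inf_le_left)
  refine ⟨hconj, hNR, fun hd => ?_⟩
  obtain ⟨Q, hQ⟩ := (hRq.of_equiv (Subgroup.subgroupOfEquivOfLe (hRI.trans inf_le_right)).symm).exists_le_sylow
  set T := (Q : Subgroup N).map N.subtype with hT
  have hRT : R ≤ T := fun x hx => ⟨⟨x, (hRI hx).2⟩, hQ (Subgroup.mem_subgroupOf.mpr hx), rfl⟩
  rcases hRT.eq_or_lt with e | hlt
  · refine Q.not_dvd_index ?_
    rwa [Subgroup.relIndex, e, hT, Subgroup.subgroupOf, Subgroup.comap_map_eq_self_of_injective N.subtype_injective] at hd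
  · have h1 := Coprime.lt_normalizer_inf_of_lt (Q.isPGroup'.map N.subtype) hlt
    exact h1.ne' (hmax _ ((Q.isPGroup'.map N.subtype).to_le inf_le_left) (le_inf (inf_le_right.trans hNR)
      (inf_le_left.trans (Subgroup.map_subtype_le _))) h1.le)

end CfsgLib.OddOrder.SigmaEmbedding
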