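import Cfsg.Agent.Lib.OddOrder.UniquenessTheorem
import Mathlib

set_option autoImplicit false

/-!
For a prime `p ∈ σ(M)`, the centraliser of a non-trivial `p`-subgroup `X` is transitive on the conjugates of
`M` containing `X`.
-/

namespace CfsgLib.OddOrder.SigmaFusion

variable {G : Type*} [Group G]

/-- The conjugate of `H` by `g`. -/
abbrev cj (g : G) (H : Subgroup G) : Subgroup G := H.map (MulAut.conj g).toMonoidHom

theorem cj_one (H : Subgroup G) : cj 1 H = H := by
  simp [cj]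
  exact Subgroup.map_id H

theorem cj_cj (a b : G) (H : Subgroup G) : cj a (cj b H) = cj (a * b) H := by
  simp only [cj, Subgroup.map_map]
  congr 1
  ext x
  simp [mul_assoc]

theorem cj_eq_self {g : G} {H : Subgroup G} (h : g ∈ Subgroup.normalizer (H : Set G)) : cj g H = H :=
  Subgroup.mem_normalizer_iff_map_conj_eq.mp h

theorem isCoatom_cj {M : Subgroup G} (hM : IsCoatom M) (g : G) : IsCoatom (cj g M) :=
  (OrderIso.isCoatom_iff (MulEquiv.mapSubgroup (MulAut.conj g)) M).mpr hM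

variable [Finite G] {p : ℕ} [hp : Fact p.Prime]

theorem normalizer_eq_self (hG : Cfsg.IsMinimalSimple G) {M : Subgroup G} (hM : IsCoatom M) (hM1 : M ≠ ⊥) :
    Subgroup.normalizer (M : Set G) = M :=
  (hM.le_iff.mp Subgroup.le_normalizer).resolve_left (Uniqueness.normalizer_ne_top hG hM1 (hG.2.2 M hM.1))

/-- The Sylow subgroups of `M` are Sylow subgroups of `G` when `p ∈ σ(M)`. -/
theorem exists_sylow_sigma {M : Subgroup G} (hp' : p ∈ Cfsg.sigma M) :
    ∃ P : Sylow p G, (P : Subgroup G) ≤ M ∧ Subgroup.normalizer ((P : Subgroup G) : Set G) ≤ M := by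
  obtain ⟨-, -, P₀, hP₀⟩ := hp'
  set R := (P₀ : Subgroup M).map M.subtype with hR
  obtain ⟨S, hS⟩ := (P₀.isPGroup'.map M.subtype).exists_le_sylow
  have hSR : (S : Subgroup G) = R := by
    by_contra hne
    have h1 := Coprime.lt_normalizer_inf_of_lt S.isPGroup' (lt_of_le_of_ne hS (Ne.symm hne))
    set U := (S : Subgroup G) ⊓ Subgroup.normalizer (R : Set G) with hU
    have hUM : U ≤ M := inf_le_right.trans hP₀
    have h2 : (P₀ : Subgroup M) ≤ U.subgroupOf M := fun x hx => h1.le (Subgroup.mem_map_of_mem _ hx)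
    have h3 := P₀.is_maximal' ((S.isPGroup'.to_le inf_le_left).of_equiv
      (Subgroup.subgroupOfEquivOfLe hUM).symm) h2
    refine h1.ne (le_antisymm h1.le fun x hx => ?_)
    exact ⟨⟨x, hUM hx⟩, h3.le hx, rfl⟩
  exact ⟨S, hSR.le.trans (Subgroup.map_subtype_le _), hSR ▸ hP₀⟩

/-- The rank of a group is that of a Sylow subgroup. -/
theorem pRankLE_of_sylow {H : Type*} [Group H] [Finite H] {k : ℕ} (S : Sylow p H)
    (h : Cfsg.PRankLE p k (S : Subgroup H)) : Cfsg.PRankLE p k H := by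
  intro A hAc hAe
  obtain ⟨S', hS'⟩ := (Fusion.Thompson.isPGroup_isEA (⟨hAc, hAe⟩ : Cfsg.IsElementaryAbelian p A)).exists_le_sylow
  obtain ⟨g, hg⟩ := MulAction.exists_smul_eq H S' S
  set A' := A.map (MulAut.conj g).toMonoidHom with hA'
  have hle : A' ≤ (S : Subgroup H) := by
    rw [← hg, Sylow.coe_subgroup_smul]
    exact Subgroup.map_mono hS'
  have h1 := Fusion.Thompson.isEA_subgroupOf
    (Fusion.Thompson.isEA_map (MulAut.conj g).toMonoidHom (p := p) ⟨hAc, hAe⟩) (S : Subgroup H)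
  have h2 := h _ h1.1 h1.2
  rwa [Nat.card_congr (Subgroup.subgroupOfEquivOfLe hle).toEquiv,
    Subgroup.card_map_of_injective (MulAut.conj g).injective] at h2

theorem transitive (hG : Cfsg.IsMinSimpleOddOrder G) {M : Subgroup G} (hM : IsCoatom M)
    (hp' : p ∈ Cfsg.sigma M) : ∀ X : Subgroup G, IsPGroup p X → X ≠ ⊥ → ∀ a b : G, X ≤ cj a M → X ≤ cj b M →
      ∃ c ∈ Subgroup.centralizer (X : Set G), cj b M = cj c (cj a M) := by
  haveI := hG.2.1
  obtain ⟨P, hPM, hPN⟩ := exists_sylow_sigma hp'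
  have hMN : Subgroup.normalizer (M : Set G) = M := normalizer_eq_self hG.2 hM fun h => by
    obtain ⟨-, hdvd, -⟩ := hp'
    rw [h, Subgroup.card_bot] at hdvd
    exact hp.out.not_dvd_one hdvd
  -- every `p`-subgroup lies in a conjugate of `M`
  have hcov : ∀ Q : Subgroup G, IsPGroup p Q → ∃ d : G, Q ≤ cj d M := by
    intro Q hQ
    obtain ⟨S, hS⟩ := hQ.exists_le_sylow
    obtain ⟨d, hd⟩ := MulAction.exists_smul_eq G P S
    refine ⟨d, hS.trans ?_⟩
    rw [← hd, Sylow.coe_subgroup_smul]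
    exact Subgroup.map_mono hPM
  intro X
  induction hk : Nat.card G - Nat.card X using Nat.strong_induction_on generalizing X with
  | _ k ih =>
  subst hk
  intro hXp hX1 a₁ a₂ h₁ h₂
  have hIH : ∀ Y : Subgroup G, IsPGroup p Y → X < Y → ∀ a b : G, Y ≤ cj a M → Y ≤ cj b M →
      ∃ c ∈ Subgroup.centralizer (X : Set G), cj b M = cj c (cj a M) := by
    intro Y hY hlt a b ha hb
    have h1 : Nat.card X < Nat.card Y := Set.ncard_lt_ncard (SetLike.coe_ssubset_coe.mpr hlt)
    have h2 : Nat.card Y ≤ Nat.card G := Subgroup.card_le_card_group Y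
    obtain ⟨c, hc, he⟩ := ih _ (by omega) Y rfl hY (fun h => by rw [h] at hlt; exact not_lt_bot hlt) a b ha hb
    exact ⟨c, Subgroup.centralizer_le hlt.le hc, he⟩
  by_cases hsyl : ∃ S : Sylow p G, (S : Subgroup G) = X
  · obtain ⟨S, rfl⟩ := hsyl
    refine ⟨1, one_mem _, ?_⟩
    rw [cj_one]
    -- `N(X) ≤ M^a` for every conjugate containing `X`
    have key : ∀ a : G, (S : Subgroup G) ≤ cj a M → ∀ g : G, (S : Subgroup G) = cj g (P : Subgroup G) →
        cj g M = cj a M := by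
      intro a ha g hg
      have h3 : cj (a⁻¹ * g) (P : Subgroup G) ≤ M := by
        rw [← cj_cj, ← hg]
        refine (Subgroup.map_mono ha).trans ?_
        show cj a⁻¹ (cj a M) ≤ M
        rw [cj_cj, inv_mul_cancel, cj_one]
      set T : Sylow p G := (a⁻¹ * g) • P with hT
      have hTM : (T : Subgroup G) ≤ M := by rw [hT, Sylow.coe_subgroup_smul]; exact h3
      obtain ⟨m, hm⟩ := MulAction.exists_smul_eq M (P.subtype hPM) (T.subtype hTM)
      have h4 : (m : G) • P = T := by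
        refine Sylow.ext ?_
        have h5 := congrArg (fun U : Sylow p M => (U : Subgroup M).map M.subtype) hm
        simp only [Coprime.map_smul_sylow, Sylow.coe_subtype, Subgroup.subgroupOf_map_subtype,
          inf_eq_left.mpr hPM, inf_eq_left.mpr hTM] at h5
        rw [Sylow.coe_subgroup_smul]
        exact h5
      have h6 : (m : G)⁻¹ * (a⁻¹ * g) ∈ Subgroup.normalizer ((P : Subgroup G) : Set G) := by
        refine Subgroup.mem_normalizer_iff_map_conj_eq.mpr ?_
        show cj _ (P : Subgroup G) = _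
        rw [← cj_cj, show cj (a⁻¹ * g) (P : Subgroup G) = cj (m : G) (P : Subgroup G) by
          have h7 := congrArg (fun U : Sylow p G => (U : Subgroup G)) (h4.trans hT)
          simp only [Sylow.coe_subgroup_smul] at h7
          exact h7.symm, cj_cj, inv_mul_cancel, cj_one]
      have h8 : a⁻¹ * g ∈ M := by
        have := mul_mem m.2 (hPN h6)
        rwa [mul_inv_cancel_left] at this
      calc cj g M = cj a (cj (a⁻¹ * g) M) := by rw [cj_cj, mul_inv_cancel_left]
        _ = cj a M := by rw [cj_eq_self (H := M) (hMN.ge h8)]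
    obtain ⟨g, hg⟩ := MulAction.exists_smul_eq G P S
    have hg' : (S : Subgroup G) = cj g (P : Subgroup G) := by rw [← hg, Sylow.coe_subgroup_smul]; rfl
    rw [← key a₁ h₁ g hg', key a₂ h₂ g hg']
  -- `X` is not a Sylow subgroup
  set N := Subgroup.normalizer (X : Set G) with hN
  obtain ⟨S₀, hS₀⟩ := (hXp.comap_of_injective N.subtype N.subtype_injective).exists_le_sylow
  set Q := (S₀ : Subgroup N).map N.subtype with hQ
  have hQN : Q ≤ N := Subgroup.map_subtype_le _
  have hQp : IsPGroup p Q := S₀.isPGroup'.map _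
  have hXQ : X ≤ Q := fun x hx => ⟨⟨x, Subgroup.le_normalizer hx⟩, hS₀ hx, rfl⟩
  -- move a conjugate containing `X` to one containing `Q`
  have hmove : ∀ a : G, X ≤ cj a M → ∃ P₁ : Subgroup G, IsPGroup p P₁ ∧ X < P₁ ∧ P₁ ≤ cj a M ∧
      ∃ n ∈ N, cj n P₁ ≤ Q := by
    intro a ha
    obtain ⟨T, hT⟩ := (hXp.comap_of_injective (cj a M).subtype (Subgroup.subtype_injective _)).exists_le_sylow
    set T' := (T : Subgroup ↥(cj a M)).map (cj a M).subtype with hT'
    have hXT : X ≤ T' := fun x hx => ⟨⟨x, ha hx⟩, hT hx, rfl⟩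
    have hne : X ≠ T' := by
      intro he
      apply hsyl
      set Pa : Sylow p G := a • P with hPa
      have hPaM : (Pa : Subgroup G) ≤ cj a M := by
        rw [hPa, Sylow.coe_subgroup_smul]; exact Subgroup.map_mono hPM
      obtain ⟨m, hm⟩ := MulAction.exists_smul_eq ↥(cj a M) (Pa.subtype hPaM) T
      refine ⟨(m : G) • Pa, ?_⟩
      rw [he, hT', ← hm, Coprime.map_smul_sylow, Sylow.coe_subtype, Subgroup.subgroupOf_map_subtype,
        inf_eq_left.mpr hPaM, Sylow.coe_subgroup_smul]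
      rfl
    have hlt := Coprime.lt_normalizer_inf_of_lt (T.isPGroup'.map _) (lt_of_le_of_ne hXT hne)
    set P₁ := T' ⊓ N with hP₁
    refine ⟨P₁, (T.isPGroup'.map _).to_le inf_le_left, hlt, inf_le_left.trans (Subgroup.map_subtype_le _), ?_⟩
    obtain ⟨S₁, hS₁⟩ := (((T.isPGroup'.map _).to_le inf_le_left : IsPGroup p P₁).comap_of_injective N.subtype
      N.subtype_injective).exists_le_sylow
    obtain ⟨n, hn⟩ := MulAction.exists_smul_eq N S₁ S₀
    refine ⟨n, n.2, ?_⟩
    rw [hQ, ← hn, Coprime.map_smul_sylow]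
    exact Subgroup.map_mono fun x hx => ⟨⟨x, inf_le_right (a := T') hx⟩, hS₁ hx, rfl⟩
  obtain ⟨P₁, hP₁p, hXP₁, hP₁M, n₁, hn₁, hn₁Q⟩ := hmove a₁ h₁
  have hXQlt : X < Q := by
    refine lt_of_le_of_ne hXQ fun he => ?_
    have h1 := Subgroup.card_le_of_le hn₁Q
    rw [Subgroup.card_map_of_injective (MulAut.conj n₁).injective] at h1
    have h2 : Nat.card X < Nat.card P₁ := Set.ncard_lt_ncard (SetLike.coe_ssubset_coe.mpr hXP₁)
    rw [he] at h2
    exact absurd h1 (not_le.mpr h2)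
  obtain ⟨d, hd⟩ := hcov Q hQp
  set M₃ := cj d M with hM₃
  have hnconj : ∀ n ∈ N, ∀ c ∈ Subgroup.centralizer (X : Set G), n⁻¹ * c * n ∈ Subgroup.centralizer (X : Set G) := by
    intro n hn c hc
    refine Subgroup.mem_centralizer_iff.mpr fun x hx => ?_
    have hx' : n * x * n⁻¹ ∈ X := (Subgroup.mem_normalizer_iff.mp hn x).mp hx
    have h := Subgroup.mem_centralizer_iff.mp hc _ hx'
    calc x * (n⁻¹ * c * n) = n⁻¹ * ((n * x * n⁻¹) * c) * n := by group
      _ = n⁻¹ * (c * (n * x * n⁻¹)) * n := by rw [h]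
      _ = _ := by group
  -- `N(X) = C(X) N_{M₃}(X)` up to the stabiliser of `M₃`
  have horbit : ∀ n ∈ N, ∃ c ∈ Subgroup.centralizer (X : Set G), cj n M₃ = cj c M₃ := by
    intro n hn
    have hNtop : N ≠ ⊤ := Uniqueness.normalizer_ne_top hG.2 hX1 (by haveI := hXp.isNilpotent; infer_instance)
    obtain ⟨L, hL, hNL⟩ := (eq_top_or_exists_le_coatom N).resolve_left hNtop
    have hQL : Q ≤ L := hQN.trans hNL
    by_cases hLc : ∃ e : G, L = cj e M
    · obtain ⟨e, rfl⟩ := hLc
      obtain ⟨c, hc, he⟩ := hIH Q hQp hXQlt e d hQL hd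
      have hcL : c ∈ cj e M := hNL (Subgroup.centralizer_le_normalizer _ hc)
      have hself : M₃ = cj e M := he.trans (cj_eq_self (Subgroup.le_normalizer hcL))
      exact ⟨1, one_mem _, by rw [cj_one, hself, cj_eq_self (Subgroup.le_normalizer (hNL hn))]⟩
    have hrQ : Cfsg.PRankLE p 2 Q := by
      by_contra hr
      obtain ⟨E, hEQ, hEe, hE3⟩ := UniqueTools.exists_isEA_of_not_rankLE hr
      obtain ⟨M₀, -, hu⟩ := UniquenessTheorem.rank_three hG hEe hE3
      exact hLc ⟨d, (hu L ⟨hL, hEQ.trans hQL⟩).trans (hu M₃ ⟨isCoatom_cj hM d, hEQ.trans hd⟩).symm⟩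
    haveI : Group.IsSolvable N := hG.2.2.2 N hNtop
    have hrN : Cfsg.PRankLE p 2 N := pRankLE_of_sylow S₀ fun A hAc hAe => by
      have := RankTwo.card_le_sq hrQ
        (Fusion.Thompson.isEA_map N.subtype (Fusion.Thompson.isEA_map (S₀ : Subgroup N).subtype (p := p) ⟨hAc, hAe⟩))
        (Subgroup.map_mono (Subgroup.map_subtype_le _))
      rwa [Subgroup.card_map_of_injective N.subtype_injective,
        Subgroup.card_map_of_injective (S₀ : Subgroup N).subtype_injective] at this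
    have hp2 : p ≠ 2 := fun h => Nat.not_even_iff_odd.mpr hG.1 (even_iff_two_dvd.mpr (h ▸
      (hXp.card_eq_or_dvd.resolve_left fun h1 => hX1 (Subgroup.eq_bot_of_card_eq _ h1)).trans
        X.card_subgroup_dvd_card))
    obtain ⟨-, hidx, -⟩ := RankTwo.main (Uniqueness.odd_of_le hG.1 N) hp2 hrN
    haveI hPPn : (Cfsg.pPrimePCore p N).Normal := by rw [Cfsg.pPrimePCore]; infer_instance
    have hOle : Cfsg.pPrimeCore p N ≤ Cfsg.pPrimePCore p N := fun x hx => Subgroup.mem_comap.mpr (by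
      rw [QuotientGroup.mk'_apply, (QuotientGroup.eq_one_iff x).mpr hx]; exact one_mem _)
    have hS₀le : (S₀ : Subgroup N) ≤ Cfsg.pPrimePCore p N := fun x hx => by
      obtain ⟨k, hk⟩ := S₀.isPGroup' ⟨x, hx⟩
      refine (QuotientGroup.eq_one_iff x).mp (orderOf_eq_one_iff.mp (Nat.eq_one_of_dvd_coprimes
        (hidx.pow_right k) ?_ ?_))
      · rw [Subgroup.index_eq_card]; exact orderOf_dvd_natCard _
      · refine orderOf_dvd_of_pow_eq_one ?_
        rw [← QuotientGroup.mk_pow, show x ^ p ^ k = 1 from congrArg Subtype.val hk, QuotientGroup.mk_one]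
    haveI : (Cfsg.pPrimeCore p N ⊔ (S₀ : Subgroup N)).Normal := by
      have heq : Cfsg.pPrimeCore p N ⊔ (S₀ : Subgroup N) = Cfsg.pPrimePCore p N := by
        refine le_antisymm (sup_le hOle hS₀le) ?_
        refine ZJ.le_of_isPGroup_map (C := Cfsg.pPrimeCore p N) hOle ?_ S₀ le_sup_left
          (le_trans inf_le_left le_sup_right)
        exact (Solvable.Cores.isPGroup_pCore p).to_le (Subgroup.map_comap_le _ _)
      rw [heq]; exact hPPn
    have hfrat := SylowLocal.pPrimeCore_sup_normalizer (S₀ : Subgroup N) S₀.isPGroup'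
    obtain ⟨k, hk, m, hm, hkm⟩ := Subgroup.mem_sup_of_normal_left.mp
      (hfrat.symm ▸ Subgroup.mem_top (⟨n, hn⟩ : N) :
        (⟨n, hn⟩ : N) ∈ Cfsg.pPrimeCore p N ⊔ Subgroup.normalizer ((S₀ : Subgroup N) : Set N))
    have hmQ : cj (m : G) Q = Q := by
      refine cj_eq_self ?_
      exact Subgroup.le_normalizer_map (H := (S₀ : Subgroup N)) N.subtype ⟨m, hm, rfl⟩
    obtain ⟨c, hc, he⟩ := hIH Q hQp hXQlt d ((m : G) * d) hd (by
      rw [← cj_cj, ← hmQ]; exact Subgroup.map_mono hd)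
    have hkC : (k : G) ∈ Subgroup.centralizer (X : Set G) := by
      refine Subgroup.mem_centralizer_iff.mpr fun x hx => ?_
      haveI : (X.subgroupOf N).Normal := (Subgroup.normal_subgroupOf_iff_le_normalizer Subgroup.le_normalizer).mpr le_rfl
      have hdis : Cfsg.pPrimeCore p N ⊓ X.subgroupOf N = ⊥ := by
        obtain ⟨j, hj⟩ := hXp.exists_card_eq
        refine Subgroup.inf_eq_bot_of_coprime ?_
        rw [Nat.card_congr (Subgroup.subgroupOfEquivOfLe (Subgroup.le_normalizer : X ≤ N)).toEquiv, hj]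
        exact (Solvable.Cores.coprime_card_pPrimeCore p).pow_right j
      exact (congrArg Subtype.val (Subgroup.commute_of_normal_of_disjoint (Cfsg.pPrimeCore p N) (X.subgroupOf N)
        inferInstance inferInstance (disjoint_iff.mpr hdis) k ⟨x, Subgroup.le_normalizer hx⟩ hk hx).eq).symm
    refine ⟨(k : G) * c, mul_mem hkC hc, ?_⟩
    rw [show n = (k : G) * m from (congrArg Subtype.val hkm).symm, ← cj_cj, hM₃, cj_cj (m : G) d M, he, cj_cj, ← hM₃]
  have hfin : ∀ a : G, X ≤ cj a M → ∃ c ∈ Subgroup.centralizer (X : Set G), cj a M = cj c M₃ := by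
    intro a ha
    obtain ⟨P₁, hP₁p, hXP₁, hP₁M, n, hn, hnQ⟩ := hmove a ha
    have h3 : P₁ ≤ cj (n⁻¹ * d) M := by
      rw [← cj_cj]
      calc P₁ = cj n⁻¹ (cj n P₁) := by rw [cj_cj, inv_mul_cancel, cj_one]
        _ ≤ _ := Subgroup.map_mono (hnQ.trans hd)
    obtain ⟨c, hc, he⟩ := hIH P₁ hP₁p hXP₁ (n⁻¹ * d) a h3 hP₁M
    obtain ⟨c', hc', he'⟩ := horbit n⁻¹ (inv_mem hn)
    refine ⟨c * c', mul_mem hc hc', ?_⟩
    rw [he, ← cj_cj n⁻¹ d M, ← hM₃, he', cj_cj]
  obtain ⟨c₁, hc₁, he₁⟩ := hfin a₁ h₁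
  obtain ⟨c₂, hc₂, he₂⟩ := hfin a₂ h₂
  refine ⟨c₂ * c₁⁻¹, mul_mem hc₂ (inv_mem hc₁), ?_⟩
  rw [he₂, he₁, cj_cj (c₂ * c₁⁻¹) c₁ M₃, inv_mul_cancel_right]

theorem main (hG : Cfsg.IsMinSimpleOddOrder G) {M : Subgroup G} (hM : IsCoatom M)
    (hp' : p ∈ Cfsg.sigma M) {X : Subgroup G} (hXp : IsPGroup p X) (hX1 : X ≠ ⊥) (hXM : X ≤ M) :
    (∀ g : G, X.map (MulAut.conj g).toMonoidHom ≤ M →
      ∃ m ∈ M, ∃ c ∈ Subgroup.centralizer (X : Set G), g = m * c) ∧
    Subgroup.normalizer (X : Set G) =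
      (M ⊓ Subgroup.normalizer (X : Set G)) ⊔ Subgroup.centralizer (X : Set G) := by
  have hMN : Subgroup.normalizer (M : Set G) = M :=
    normalizer_eq_self hG.2 hM fun h => hX1 (le_bot_iff.mp (h ▸ hXM))
  have hA : ∀ g : G, X.map (MulAut.conj g).toMonoidHom ≤ M →
      ∃ m ∈ M, ∃ c ∈ Subgroup.centralizer (X : Set G), g = m * c := by
    intro g hg
    have h2 : X ≤ cj g⁻¹ M := by
      calc X = cj g⁻¹ (cj g X) := by rw [cj_cj, inv_mul_cancel, cj_one]
        _ ≤ _ := Subgroup.map_mono hg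
    obtain ⟨c, hc, he⟩ := transitive hG hM hp' X hXp hX1 1 g⁻¹ (by rw [cj_one]; exact hXM) h2
    rw [cj_one] at he
    have hgc : g * c ∈ M := by
      have h1 : g * c ∈ Subgroup.normalizer (M : Set G) := Subgroup.mem_normalizer_iff_map_conj_eq.mpr (by
        show cj (g * c) M = M
        rw [← cj_cj, ← he, cj_cj, mul_inv_cancel, cj_one])
      rwa [hMN] at h1
    exact ⟨g * c, hgc, c⁻¹, inv_mem hc, by rw [mul_inv_cancel_right]⟩
  refine ⟨hA, le_antisymm (fun g hg => ?_) (sup_le inf_le_right (Subgroup.centralizer_le_normalizer _))⟩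
  obtain ⟨m, hm, c, hc, rfl⟩ := hA g (by rw [show X.map _ = cj g X from rfl, cj_eq_self hg]; exact hXM)
  have hmN : m ∈ Subgroup.normalizer (X : Set G) := by
    have := mul_mem hg (inv_mem (Subgroup.centralizer_le_normalizer _ hc))
    rwa [mul_inv_cancel_right] at this
  exact Subgroup.mul_mem_sup ⟨hm, hmN⟩ hc

end CfsgLib.OddOrder.SigmaFusion
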