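import Cfsg.Agent.Lib.OddOrder.SigmaEmbedding
import Cfsg.Agent.Lib.OddOrder.ComplementHall
import Cfsg.Agent.Lib.OddOrder.SylowCentral
import Mathlib

set_option autoImplicit false
set_option linter.style.haveILetI false
set_option linter.unusedSectionVars false

/-!
The intersection of `M` with a maximal subgroup over the normalizer of a `σ(M)`-subgroup of `M`.
-/

namespace CfsgLib.OddOrder.SigmaIntersection

open SigmaFusion (cj)

variable {G : Type*} [Group G] [Finite G] {q : ℕ} [hq : Fact q.Prime] {M N : Subgroup G}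

/-- The common hypotheses: `R` is a Sylow `q`-subgroup of `M ⊓ N` and of `N`, and `N_G(R) ≤ M`. -/
structure Setup (q : ℕ) (M N R : Subgroup G) : Prop where
  hM : IsCoatom M
  hN : IsCoatom N
  hqs : q ∈ Cfsg.sigma M
  not_conj : ∀ g : G, N ≠ cj g M
  pGroup : IsPGroup q R
  le : R ≤ M ⊓ N
  ne_bot : R ≠ ⊥
  normalizer_le : Subgroup.normalizer (R : Set G) ≤ M
  not_dvd : ¬ q ∣ R.relIndex N
  cyclic_normalizer : IsCyclic R → Subgroup.normalizer (R : Set G) ≤ N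

theorem exists_setup (hG : Cfsg.IsMinSimpleOddOrder G) (hM : IsCoatom M) (hqs : q ∈ Cfsg.sigma M)
    {X : Subgroup G} (hXq : IsPGroup q X) (hX1 : X ≠ ⊥) (hXM : X ≤ M) (hN : IsCoatom N) (hne : N ≠ M)
    (hNX : Subgroup.normalizer (X : Set G) ≤ N) : ∃ R : Subgroup G, X ≤ R ∧ Setup q M N R := by
  have hXI : X ≤ M ⊓ N := le_inf hXM (Subgroup.le_normalizer.trans hNX)
  obtain ⟨S, hS⟩ := (hXq.of_equiv (Subgroup.subgroupOfEquivOfLe hXI).symm).exists_le_sylow
  have hXS : X ≤ (S : Subgroup ↥(M ⊓ N)).map (M ⊓ N).subtype := fun x hx =>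
    ⟨⟨x, hXI hx⟩, hS (Subgroup.mem_subgroupOf.mpr hx), rfl⟩
  obtain ⟨h1, h2, h3⟩ := SigmaEmbedding.main hG hM hqs hXq hX1 hXM hN hne hNX S hXS
  exact ⟨_, hXS, hM, hN, hqs, h1, S.isPGroup'.map _, Subgroup.map_subtype_le _,
    fun e => hX1 (le_bot_iff.mp (hXS.trans e.le)), h2, h3, fun hc => by
      haveI := hc
      exact (SigmaEmbedding.normalizer_le_of_cyclic hXS).trans hNX⟩

theorem Setup.not_alpha (hG : Cfsg.IsMinSimpleOddOrder G) {R : Subgroup G} (h : Setup q M N R) {r : ℕ}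
    [Fact r.Prime] (hrs : r ∈ Cfsg.sigma M) : r ∉ Cfsg.alpha N := fun ha => by
  obtain ⟨x, hx⟩ := SigmaTools.exists_cj_of_alpha hG h.hN h.hM ha hrs
  exact h.not_conj x⁻¹ (by rw [hx, SigmaFusion.cj_cj, inv_mul_cancel, SigmaFusion.cj_one])

/-- If `q ∈ σ(N)` then `N = (M ⊓ N) N_β`. -/
theorem Setup.sigma_case (hG : Cfsg.IsMinSimpleOddOrder G) {R : Subgroup G} (h : Setup q M N R)
    (hqN : q ∈ Cfsg.sigma N) : N ≤ (M ⊓ N) ⊔ Cfsg.piCoreOf (Cfsg.beta N) N := by
  have hRN : R ≤ N := h.le.trans inf_le_right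
  have hb : q ∉ Cfsg.beta N := fun hb => h.not_alpha hG h.hqs hb.1
  have hDN : ⁅N, N⁆ ≤ N := SigmaComplement.derived_le_self N
  have hRD : R ≤ ⁅N, N⁆ := (SigmaTools.pGroup_le_sigmaCore hG h.hN hqN hRN h.pGroup).trans
    (SigmaCore.le_derived hG h.hN)
  have hDsol : Group.IsSolvable ↥⁅N, N⁆ := hG.2.2.2 _ fun e => h.hN.1 (top_le_iff.mp (e ▸ hDN))
  obtain ⟨H, hH, hRH⟩ := Coprime.exists_hall_ge {t | t ∉ Cfsg.beta N} hDsol hRD (fun t ht hd => by
    obtain ⟨k, hk⟩ := h.pGroup.exists_card_eq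
    rw [hk] at hd
    exact (Nat.prime_dvd_prime_iff_eq ht hq.out).mp (ht.dvd_of_dvd_pow hd) ▸ hb)
  haveI := BetaCore.isNilpotent_of_le_derived hG h.hN hH.1 hH.2.1
  have hHR : H ≤ Subgroup.normalizer (R : Set G) := by
    have hnd : ¬ q ∣ (R.subgroupOf H).index := fun hd => h.not_dvd (by
      refine dvd_trans hd ?_
      rw [← Subgroup.relIndex_mul_relIndex R H N hRH (hH.1.trans hDN)]
      exact dvd_mul_right _ _)
    have hn := ((h.pGroup.of_equiv (Subgroup.subgroupOfEquivOfLe hRH).symm).toSylow hnd).normal_of_normalizerCondition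
      Group.normalizerCondition_of_isNilpotent
    exact (Subgroup.normal_subgroupOf_iff_le_normalizer hRH).mp hn
  set K := Cfsg.piCoreOf (Cfsg.beta N) N with hK
  have hHI : H ≤ M ⊓ N := le_inf (hHR.trans h.normalizer_le) (hH.1.trans hDN)
  have hD : ⁅N, N⁆ ≤ (M ⊓ N) ⊔ K := by
    suffices hle : ((K ⊔ H) ⊓ ⁅N, N⁆).relIndex ⁅N, N⁆ = 1 from
      (Subgroup.relIndex_eq_one.mp hle).trans (inf_le_left.trans (sup_le le_sup_right (hHI.trans le_sup_left)))
    set J := (K ⊔ H) ⊓ ⁅N, N⁆ with hJ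
    by_contra hne
    obtain ⟨t, ht, hd⟩ := Nat.exists_prime_and_dvd hne
    haveI := Fact.mk ht
    by_cases htb : t ∈ Cfsg.beta N
    · obtain ⟨T⟩ : Nonempty (Sylow t ↥⁅N, N⁆) := inferInstance
      have hT : T.toSubgroup.map ⁅N, N⁆.subtype ≤ J := by
        refine le_inf (le_trans ?_ le_sup_left) (Subgroup.map_subtype_le _)
        have hTN : T.toSubgroup.map ⁅N, N⁆.subtype ≤ N := (Subgroup.map_subtype_le _).trans hDN
        suffices hs : (T.toSubgroup.map ⁅N, N⁆.subtype).subgroupOf N ≤ Cfsg.piCore (Cfsg.beta N) N from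
          fun x hx => ⟨⟨x, hTN hx⟩, hs hx, rfl⟩
        refine SigmaCore.le_of_coprime_index (Nat.coprime_of_dvd fun s hs h1 h2 => ?_)
        rw [Nat.card_congr (Subgroup.subgroupOfEquivOfLe hTN).toEquiv,
          Subgroup.card_map_of_injective ⁅N, N⁆.subtype_injective] at h1
        obtain ⟨k, hk⟩ := T.isPGroup'.exists_card_eq
        rw [hk] at h1
        obtain rfl := (Nat.prime_dvd_prime_iff_eq hs ht).mp (hs.dvd_of_dvd_pow h1)
        exact BetaCore.not_dvd_index hG h.hN htb h2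
      refine T.not_dvd_index (hd.trans ?_)
      have h1 : T.toSubgroup ≤ J.subgroupOf ⁅N, N⁆ := fun x hx => hT ⟨x, hx, rfl⟩
      exact Subgroup.index_dvd_of_le h1
    · exact hH.2.2 t ht htb (hd.trans (Subgroup.relIndex_dvd_of_le_left _ (le_inf le_sup_right hH.1)))
  intro x hx
  set R₀ := R.subgroupOf N with hR₀
  have hR₀D : R₀ ≤ _root_.commutator N := fun y hy => by
    obtain ⟨z, hz, e⟩ := (Subgroup.map_subtype_commutator N).ge (hRD hy)
    exact N.subtype_injective e ▸ hz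
  have hnd : ¬ q ∣ (R₀.subgroupOf (_root_.commutator N)).index := fun hd => h.not_dvd (by
    refine dvd_trans hd ?_
    show _ ∣ R₀.index
    rw [← Subgroup.relIndex_mul_index hR₀D]
    exact dvd_mul_right _ _)
  have hF := Sylow.normalizer_sup_eq_top ((((h.pGroup.of_equiv (Subgroup.subgroupOfEquivOfLe hRN).symm)).of_equiv
    (Subgroup.subgroupOfEquivOfLe hR₀D).symm).toSylow hnd)
  have hx' : (⟨x, hx⟩ : N) ∈ Subgroup.normalizer (R₀ : Set N) ⊔ _root_.commutator N := by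
    have e := Subgroup.map_subgroupOf_eq_of_le hR₀D
    rw [IsPGroup.toSylow_coe, e] at hF
    rw [hF]; exact Subgroup.mem_top _
  obtain ⟨a, ha, d, hd, hxe⟩ := Subgroup.mem_sup_of_normal_right.mp hx'
  rw [show x = (a : G) * d from (congrArg Subtype.val hxe).symm]
  refine mul_mem (Subgroup.mem_sup_left ⟨h.normalizer_le ?_, a.2⟩) (hD ((Subgroup.map_subtype_commutator N).le ⟨d, hd, rfl⟩))
  refine Subgroup.mem_normalizer_iff.mpr fun y => ⟨fun hy => ?_, fun hy => ?_⟩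
  · exact (Subgroup.mem_normalizer_iff.mp ha ⟨y, hRN hy⟩).mp hy
  · have hyN : y ∈ N := by
      have := mul_mem (mul_mem (inv_mem a.2) (hRN hy)) a.2
      simpa [mul_assoc] using this
    exact (Subgroup.mem_normalizer_iff.mp ha ⟨y, hyN⟩).mpr hy

/-- If `q ∉ σ(N)` then `q ∈ τ₂(N)` and a complement to `N_σ` in `N` lies in `M`. -/
theorem Setup.tau_case (hG : Cfsg.IsMinSimpleOddOrder G) {R : Subgroup G} (h : Setup q M N R)
    (hqN : q ∉ Cfsg.sigma N) : q ∈ Cfsg.tau2 N ∧ Group.IsNilpotent (Cfsg.sigmaCore N) ∧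
      ∃ E : Subgroup G, Cfsg.IsComplIn E (Cfsg.sigmaCore N) N ∧ E ≤ M := by
  have hRN : R ≤ N := h.le.trans inf_le_right
  have hRd : q ∣ Nat.card R := h.pGroup.card_eq_or_dvd.resolve_left fun e => h.ne_bot (Subgroup.eq_bot_of_card_eq _ e)
  have hnc : ¬ IsCyclic R := by
    intro hc
    refine hqN ⟨hq.out, hRd.trans (Subgroup.card_dvd_of_le hRN),
      (h.pGroup.of_equiv (Subgroup.subgroupOfEquivOfLe hRN).symm).toSylow h.not_dvd, ?_⟩
    show Subgroup.normalizer (((R.subgroupOf N).map N.subtype : Subgroup G) : Set G) ≤ N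
    rw [Subgroup.map_subgroupOf_eq_of_le hRN]
    exact h.cyclic_normalizer hc
  have hr2 : Cfsg.PRankLE q 2 N := by
    by_contra hcon
    exact h.not_alpha hG h.hqs ⟨hq.out, hcon⟩
  have hq2 := SigmaEmbedding.ne_two hG h.hqs
  obtain ⟨A, hAR, hAe, hA2⟩ := NonabelianUnique.exists_plane_le hq2 h.pGroup hnc
  obtain ⟨A₀, hexc⟩ := TauTwoStructure.exists_exc hG h.hN hqN (hAR.trans hRN) hAe hA2
  refine ⟨⟨hq.out, hqN, hr2, fun hr1 => UniqueTools.not_pRankLE_of_isEA hAe hA2.ge (hAR.trans hRN) hr1⟩,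
    hexc.sigma_nilpotent hG, ?_⟩
  obtain ⟨E, hE, hRE⟩ := Coprime.exists_hall_ge {t | t ∉ Cfsg.sigma N} (hG.2.2.2 N h.hN.1) hRN (fun t ht hd => by
    obtain ⟨k, hk⟩ := h.pGroup.exists_card_eq
    rw [hk] at hd
    exact (Nat.prime_dvd_prime_iff_eq ht hq.out).mp (ht.dvd_of_dvd_pow hd) ▸ hqN)
  have hE' := SylowCentral.isComplIn_of_hall hG h.hN hE
  have hAnc : ¬ IsCyclic A := SCNTransitivity.not_isCyclic_of_card hAe
    (by rw [hA2]; simpa using Nat.pow_lt_pow_right hq.out.one_lt (show 1 < 2 by norm_num))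
  exact ⟨E, hE', (TauTwoStructure.normal_in_complement hG hexc hE' (hAR.trans hRE)).trans
    (SigmaEmbedding.normalizer_le_of_noncyclic hG h.hM h.hqs (h.pGroup.to_le hAR) hAnc
      ((hAR.trans h.le).trans inf_le_left))⟩

/-- The index of `M ⊓ N` in `N` is a `σ(M)'`-number. -/
theorem Setup.not_dvd_relIndex (hG : Cfsg.IsMinSimpleOddOrder G) {R : Subgroup G} (h : Setup q M N R) {r : ℕ}
    [hr : Fact r.Prime] (hrs : r ∈ Cfsg.sigma M) : ¬ r ∣ (M ⊓ N).relIndex N := fun hd => by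
  by_cases hqN : q ∈ Cfsg.sigma N
  · set K₀ := Cfsg.piCore (Cfsg.beta N) N with hK₀
    set I₀ := (M ⊓ N).subgroupOf N with hI₀
    have htop : I₀ ⊔ K₀ = ⊤ := by
      refine eq_top_iff.mpr fun x _ => ?_
      have hx : (x : G) ∈ (I₀ ⊔ K₀).map N.subtype := by
        rw [Subgroup.map_sup, Subgroup.map_subgroupOf_eq_of_le inf_le_right]
        exact h.sigma_case hG hqN x.2
      obtain ⟨y, hy, e⟩ := hx
      exact N.subtype_injective e ▸ hy
    have hc := Solvable.Basic.card_sup_mul K₀ I₀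
    rw [htop, Subgroup.card_top, ← Subgroup.card_mul_index I₀, mul_assoc] at hc
    have hK : I₀.index ∣ Nat.card K₀ := ⟨_, (Nat.eq_of_mul_eq_mul_left Nat.card_pos hc).symm⟩
    exact h.not_alpha hG hrs (SigmaBasics.mem_of_dvd_piCore hr.out (hd.trans hK)).1
  · obtain ⟨-, hn, E, hE, hEM⟩ := h.tau_case hG hqN
    haveI := hn
    have hrN : r ∈ Cfsg.sigma N := by
      by_contra hrN
      exact (ComplementHall.isHall hG h.hN hE).2.2 r hr.out hrN
        (hd.trans (Subgroup.relIndex_dvd_of_le_left _ (le_inf hEM hE.1)))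
    obtain ⟨x, hx⟩ := PlaneMaximal.exists_cj_of_nilpotent hG h.hN hrN h.hM hrs
    exact h.not_conj x⁻¹ (by rw [hx, SigmaFusion.cj_cj, inv_mul_cancel, SigmaFusion.cj_one])

/-- A `σ(M)`-subgroup with a nontrivial normal `q`-subgroup inside `M` is conjugate into `M`. -/
theorem conj_le_of_normal (hG : Cfsg.IsMinSimpleOddOrder G) (hM : IsCoatom M) (hqs : q ∈ Cfsg.sigma M)
    {X Y : Subgroup G} (hY : ∀ t : ℕ, t.Prime → t ∣ Nat.card Y → t ∈ Cfsg.sigma M) (hXq : IsPGroup q X)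
    (hX1 : X ≠ ⊥) (hXM : X ≤ M) (hYX : Y ≤ Subgroup.normalizer (X : Set G)) : ∃ g : G, cj g Y ≤ M := by
  haveI : Group.IsNilpotent X := hXq.isNilpotent
  obtain ⟨N, hN, hNX⟩ := (eq_top_or_exists_le_coatom _).resolve_left
    (Uniqueness.normalizer_ne_top hG.2 (P := X) hX1 inferInstance)
  by_cases hne : N = M
  · exact ⟨1, by rw [SigmaFusion.cj_one, ← hne]; exact hYX.trans hNX⟩
  obtain ⟨R, -, h⟩ := exists_setup hG hM hqs hXq hX1 hXM hN hne hNX
  have hsol : Group.IsSolvable N := hG.2.2.2 N hN.1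
  obtain ⟨U, hU⟩ := Coprime.exists_hall (Cfsg.sigma M) (G := M ⊓ N)
    (hG.2.2.2 _ fun e => hN.1 (top_le_iff.mp (e ▸ inf_le_right)))
  have hUN : Cfsg.IsPiHallOf (Cfsg.sigma M) U N := ⟨hU.1.trans inf_le_right, hU.2.1, fun t ht hts hd => by
    haveI := Fact.mk ht
    rw [← Subgroup.relIndex_mul_relIndex U (M ⊓ N) N hU.1 inf_le_right] at hd
    exact (ht.dvd_mul.mp hd).elim (hU.2.2 t ht hts) (h.not_dvd_relIndex hG hts)⟩
  obtain ⟨H, hH, hYH⟩ := Coprime.exists_hall_ge (Cfsg.sigma M) hsol (hYX.trans hNX) hY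
  obtain ⟨n, -, hn⟩ := Coprime.hall_conj hsol hH hUN
  exact ⟨n, (Subgroup.map_mono hYH).trans (hn.le.trans (hU.1.trans inf_le_left))⟩

end CfsgLib.OddOrder.SigmaIntersection
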