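import Cfsg.Agent.Lib.OddOrder.RankOneTools
import Cfsg.Agent.S1420
import Mathlib

set_option autoImplicit false
set_option linter.style.haveILetI false
set_option linter.unusedSectionVars false

/-!
Elements of `M_σ` centralised by elements outside `σ(M)`: the maximal subgroups over their centralisers.
-/

namespace CfsgLib.OddOrder.SigmaMutual

open scoped commutatorElement
open SigmaFusion (cj)
open Exceptional (Exc)
open RankOneTools (isPGroup_of_card ne_bot_of_card line_of_orderOf)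

variable {G : Type*} [Group G] [Finite G] {p q : ℕ} [hp : Fact p.Prime] [hqf : Fact q.Prime]
  {M L N : Subgroup G}

theorem pow_eq_one_of_card {r : ℕ} {Y : Subgroup G} (hY : Nat.card Y = r) {y : G} (hy : y ∈ Y) : y ^ r = 1 := by
  have := pow_card_eq_one' (x := (⟨y, hy⟩ : Y))
  rw [hY] at this
  exact congrArg Subtype.val this

theorem not_sigma_of_nonconj (hG : Cfsg.IsMinSimpleOddOrder G) (hM : IsCoatom M) (hL : IsCoatom L)
    (hnc : ∀ g : G, L ≠ cj g M) (hqs : q ∈ Cfsg.sigma M) : q ∉ Cfsg.sigma L := fun h => by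
  obtain ⟨g, hg⟩ := SigmaDisjoint.main hG hM hL hqs h
  exact hnc g hg

theorem nonconj_of_sigma (hpL : p ∈ Cfsg.sigma L) (hpM : p ∉ Cfsg.sigma M) : ∀ g : G, L ≠ cj g M :=
  fun g e => SigmaTools.not_sigma_cj hpM g (e ▸ hpL)

theorem sigmaCore_inf_eq_bot (hG : Cfsg.IsMinSimpleOddOrder G) (hM : IsCoatom M) (hL : IsCoatom L)
    (hnc : ∀ g : G, L ≠ cj g M) : Cfsg.sigmaCore M ⊓ Cfsg.sigmaCore L = ⊥ := by
  refine (Subgroup.disjoint_of_coprime_natCard (Nat.coprime_of_dvd fun s hs h1 h2 => ?_)).eq_bot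
  haveI := Fact.mk hs
  exact not_sigma_of_nonconj hG hM hL hnc (SigmaTools.mem_sigma_of_card h1) (SigmaTools.mem_sigma_of_card h2)

/-- `L_σ ∩ M` centralises `M_σ ∩ L`. -/
theorem inf_le_centralizer (hG : Cfsg.IsMinSimpleOddOrder G) (hM : IsCoatom M) (hL : IsCoatom L)
    (hnc : ∀ g : G, L ≠ cj g M) :
    Cfsg.sigmaCore L ⊓ M ≤ Subgroup.centralizer ((Cfsg.sigmaCore M ⊓ L : Subgroup G) : Set G) := by
  refine Subgroup.commutator_eq_bot_iff_le_centralizer.mp (le_bot_iff.mp ?_)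
  refine le_trans (le_inf ?_ ?_) (sigmaCore_inf_eq_bot hG hM hL hnc).le
  · exact (Subgroup.commutator_mono inf_le_right inf_le_left).trans
      (Subgroup.le_normalizer_iff_commutator_le_right.1 (SigmaTools.le_normalizer_sigmaCore M))
  · exact (Subgroup.commutator_mono inf_le_left inf_le_right).trans
      (Subgroup.le_normalizer_iff_commutator_le_left.1 (SigmaTools.le_normalizer_sigmaCore L))

/-- A maximal subgroup `N ≠ M` over the normalizer of a `σ(M)`-subgroup: `M ∩ N` is a complement to `N_σ`. -/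
theorem embedded (hG : Cfsg.IsMinSimpleOddOrder G) (hM : IsCoatom M) (hqs : q ∈ Cfsg.sigma M) {X : Subgroup G}
    (hXq : IsPGroup q X) (hX1 : X ≠ ⊥) (hXM : X ≤ M) (hN : IsCoatom N) (hne : N ≠ M)
    (hNX : Subgroup.normalizer (X : Set G) ≤ N) :
    (∀ g : G, N ≠ cj g M) ∧ q ∈ Cfsg.tau2 N ∧ Group.IsNilpotent (Cfsg.sigmaCore N) ∧
      Cfsg.IsComplIn (M ⊓ N) (Cfsg.sigmaCore N) N ∧ Cfsg.sigmaCore N ⊓ M = ⊥ := by
  obtain ⟨R, -, h⟩ := SigmaIntersection.exists_setup hG hM hqs hXq hX1 hXM hN hne hNX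
  obtain ⟨hτ, hnil, E, hE, hEM⟩ := h.tau_case hG (not_sigma_of_nonconj hG hM hN h.not_conj hqs)
  obtain ⟨A, hAE, hAe, hA2⟩ := TauTwoAbelian.exists_plane hE hτ
  obtain ⟨A₀, hexc⟩ := TauTwoStructure.exists_exc hG hN hτ.2.1 (hAE.trans hE.1) hAe hA2
  have hbot := TauTwoStructure.inter_eq_bot hG hexc hM hne.symm (hAE.trans hEM)
  refine ⟨h.not_conj, hτ, hnil, ?_, hbot⟩
  have heq : M ⊓ N = E := by
    refine le_antisymm (fun m hm => ?_) (le_inf hEM hE.1)
    obtain ⟨a, ha, b, hb, rfl⟩ := hE.2.2.2 m hm.2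
    have hbM : b ∈ M := by
      have := mul_mem (inv_mem (hEM ha)) hm.1
      rwa [inv_mul_cancel_left] at this
    have : b ∈ Cfsg.sigmaCore N ⊓ M := ⟨hb, hbM⟩
    rw [hbot, Subgroup.mem_bot] at this
    rw [this, mul_one]
    exact ha
  rw [heq]
  exact hE

/-- No plane centralises an element of `M_σ` centralised by a line whose prime has rank one in `M`. -/
theorem centralizer_rank_one (hG : Cfsg.IsMinSimpleOddOrder G) (hM : IsCoatom M) (hps : p ∉ Cfsg.sigma M)
    (hr1 : Cfsg.PRankLE p 1 M) (hqs : q ∈ Cfsg.sigma M) {P X B : Subgroup G} (hP : Nat.card P = p) (hPM : P ≤ M)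
    (hX : Nat.card X = q) (hXM : X ≤ M) (hPX : P ≤ Subgroup.centralizer (X : Set G))
    (hBe : Cfsg.IsElementaryAbelian p B) (hBc : p ^ 2 ≤ Nat.card B)
    (hBX : B ≤ Subgroup.centralizer (X : Set G)) : False := by
  obtain ⟨N, hN, hNX⟩ := Uniqueness.exists_coatom_normalizer (p := q) hG.2 (ne_bot_of_card hX) (isPGroup_of_card hX)
  have hCN := (Subgroup.centralizer_le_normalizer _).trans hNX
  by_cases hne : N = M
  · exact UniqueTools.not_pRankLE_of_isEA hBe hBc (hne ▸ hBX.trans hCN) hr1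
  obtain ⟨-, -, -, hE, -⟩ := embedded hG hM hqs (isPGroup_of_card hX) (ne_bot_of_card hX) hXM hN hne hNX
  by_cases hpN : p ∈ Cfsg.sigma N
  · exact SigmaComplement.not_dvd_card hG hN hE hpN (hP ▸ Subgroup.card_dvd_of_le (le_inf hPM (hPX.trans hCN)))
  · obtain ⟨n, -, hn⟩ := ComplementHall.exists_conj_le hG hN hE (hBX.trans hCN) fun s hs hd => by
      rwa [PrimeAction.pGroup_dvd (Fusion.Thompson.isPGroup_isEA hBe) hs hd]
    refine UniqueTools.not_pRankLE_of_isEA (Fusion.Thompson.isEA_map (MulAut.conj n).toMonoidHom hBe)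
      (by rwa [Subgroup.card_map_of_injective (MulAut.conj n).injective]) (hn.trans inf_le_left) hr1

/-- The contradiction behind `mem_sigma_of_fixed`. -/
theorem false_of_exc (hG : Cfsg.IsMinSimpleOddOrder G) (hM : IsCoatom M) (hps : p ∉ Cfsg.sigma M)
    (hr1 : Cfsg.PRankLE p 1 M) (hqs : q ∈ Cfsg.sigma M) {P X : Subgroup G} (hP : Nat.card P = p) (hPM : P ≤ M)
    (hX : Nat.card X = q) (hXM : X ≤ M) (hXP : X ≤ Subgroup.centralizer (P : Set G)) (hL : IsCoatom L)
    (hNP : Subgroup.normalizer (P : Set G) ≤ L) (hpL : p ∉ Cfsg.sigma L) : False := by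
  have hPp := isPGroup_of_card hP
  have hXp := isPGroup_of_card hX
  have hqp : q ≠ p := fun e => hps (e ▸ hqs)
  have hPX := Subgroup.le_centralizer_iff.mp hXP
  obtain ⟨B₁, hB₁⟩ := CyclicFix.exists_exc_through hG hL hpL hP hNP
  have hpG : p ∣ Nat.card G := hP ▸ Subgroup.card_subgroup_dvd_card P
  have hp2 : p ≠ 2 := fun e => Nat.not_even_iff_odd.mpr hG.1 (even_iff_two_dvd.mpr (e ▸ hpG))
  have hpτ : p ∈ Cfsg.tau2 L :=
    ⟨hp.out, hpL, hB₁.rank_two hG, UniqueTools.not_pRankLE_of_isEA hB₁.ea hB₁.card.ge hB₁.le⟩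
  have hncL : ∀ g : G, L ≠ cj g M := fun g e => by
    refine UniqueTools.not_pRankLE_of_isEA (Fusion.Thompson.isEA_map (MulAut.conj g⁻¹).toMonoidHom hB₁.ea)
      (by rw [Subgroup.card_map_of_injective (MulAut.conj g⁻¹).injective, hB₁.card]) ?_ hr1
    refine (Subgroup.map_mono hB₁.le).trans (le_of_eq ?_)
    show cj g⁻¹ L = M
    rw [e, SigmaFusion.cj_cj, inv_mul_cancel, SigmaFusion.cj_one]
  have hqL := not_sigma_of_nonconj hG hM hL hncL hqs
  have hPL : P ≤ L := Subgroup.le_normalizer.trans hNP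
  have hCL := (Subgroup.centralizer_le_normalizer _).trans hNP
  have hbotPX : Disjoint P X := Subgroup.disjoint_of_coprime_natCard (by
    rw [hP, hX]; exact (Nat.coprime_primes hp.out hqf.out).mpr hqp.symm)
  -- a complement in `L`
  obtain ⟨F, hF₀, hle⟩ := Coprime.exists_hall_ge {t | t ∉ Cfsg.sigma L} (hG.2.2.2 L hL.1)
    (sup_le hPL (hXP.trans hCL)) (fun t ht hd => by
      rw [Coprime.card_sup_of_le_normalizer (hXP.trans (Subgroup.centralizer_le_normalizer _)) hbotPX, hP, hX] at hd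
      rcases ht.dvd_mul.mp hd with h | h
      · exact (Nat.prime_dvd_prime_iff_eq ht hp.out).mp h ▸ hpL
      · exact (Nat.prime_dvd_prime_iff_eq ht hqf.out).mp h ▸ hqL)
  have hF := SylowCentral.isComplIn_of_hall hG hL hF₀
  obtain ⟨hPF, hXF⟩ := sup_le_iff.mp hle
  obtain ⟨B, hBF, hBe, hBc⟩ := TauTwoAbelian.exists_plane hF hpτ
  obtain ⟨B₀, hB₀⟩ := TauTwoStructure.exists_exc hG hL hpL (hBF.trans hF.1) hBe hBc
  have hFB := TauTwoStructure.normal_in_complement hG hB₀ hF hBF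
  have hPB : P ≤ B := fun x hx => (hB₀.maxPlane hG).mem_of_commute
    (pow_eq_one_of_card hP hx) (TauTwoStructure.pGroup_le_centralizer hG hB₀ hPp hPL (hPF.trans hFB) hx)
  have hexc : Exc p L B P := ⟨hL, hpL, hBF.trans hF.1, hBe, hBc, hPB, hP, hNP⟩
  have hBnX : ¬ B ≤ Subgroup.centralizer (X : Set G) := fun h =>
    centralizer_rank_one hG hM hps hr1 hqs hP hPM hX hXM hPX hBe hBc.ge h
  -- the prime `q` has rank one in `L`
  have hq1L : Cfsg.PRankLE q 1 L := by
    by_contra hcon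
    have hqτ : q ∈ Cfsg.tau2 L := ⟨hqf.out, hqL, (by
      by_contra h2
      exact hqL (SigmaBasics.mem_sigma_of_alpha hG hL ⟨hqf.out, h2⟩)), hcon⟩
    obtain ⟨A, hAF, hAe, hAc⟩ := TauTwoAbelian.exists_plane hF hqτ
    obtain ⟨A₀, hA⟩ := TauTwoStructure.exists_exc hG hL hqL (hAF.trans hF.1) hAe hAc
    have hFA := TauTwoStructure.normal_in_complement hG hA hF hAF
    have hXA : X ≤ A := fun x hx => (hA.maxPlane hG).mem_of_commute
      (pow_eq_one_of_card hX hx)
      (TauTwoStructure.pGroup_le_centralizer hG hA hXp (hXF.trans hF.1) (hXF.trans hFA) hx)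
    refine hBnX (Subgroup.commutator_eq_bot_iff_le_centralizer.mp (le_bot_iff.mp ?_))
    refine le_trans (le_inf ((Subgroup.commutator_mono le_rfl hXA).trans
      (Subgroup.le_normalizer_iff_commutator_le_left.1 (hAF.trans hFB)))
      ((Subgroup.commutator_mono le_rfl hXA).trans
      (Subgroup.le_normalizer_iff_commutator_le_right.1 (hBF.trans hFA)))) ?_
    refine (Subgroup.disjoint_of_coprime_natCard ?_).eq_bot.le
    rw [hBc, hAc]
    exact ((Nat.coprime_primes hp.out hqf.out).mpr hqp.symm).pow 2 2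
  -- the Sylow subgroup
  obtain ⟨S₀⟩ : Nonempty (Sylow p G) := inferInstance
  obtain ⟨H₀, hH₀, hNS₀⟩ := Uniqueness.exists_coatom_normalizer (p := p) hG.2
    (fun (e : (S₀ : Subgroup G) = ⊥) => S₀.not_dvd_index (by rw [e, Subgroup.index_bot]; exact hpG)) S₀.isPGroup'
  obtain ⟨S₁, hBS₁⟩ := (hexc.maxPlane hG).isPGroup.exists_le_sylow
  obtain ⟨g, hg⟩ := MulAction.exists_smul_eq G S₀ S₁
  set H := cj g H₀ with hH
  have hHc : IsCoatom H := SigmaFusion.isCoatom_cj hH₀ g
  have hpH : p ∈ Cfsg.sigma H := SigmaTools.sigma_cj (SigmaTools.mem_sigma_of_sylow hpG hNS₀) g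
  have hS₁H : (S₁ : Subgroup G) ≤ H := by
    rw [← hg, Sylow.coe_subgroup_smul]
    exact Subgroup.map_mono (Subgroup.le_normalizer.trans hNS₀)
  have hncH : ∀ x : G, H ≠ cj x M := nonconj_of_sigma hpH hps
  have hqH := not_sigma_of_nonconj hG hM hHc hncH hqs
  have hHL : H ≠ L := fun e => hpL (e ▸ hpH)
  have hBH : B ≤ H := hBS₁.trans hS₁H
  have hBnc : ¬ IsCyclic B := FPFTools.not_isCyclic (hexc.maxPlane hG)
  have hXH : X ≤ H := (hXF.trans hFB).trans
    (SigmaEmbedding.normalizer_le_of_noncyclic hG hHc hpH (hexc.maxPlane hG).isPGroup hBnc hBH)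
  obtain ⟨T, hBT, hTσ, hXT⟩ := SigmaTools.exists_invariant_sylow hG hHc hpH (A := X) (Q₀ := B) hXH
    (by rw [hX]; exact (SigmaTools.coprime_sigmaCore hqH).symm) hBH (hexc.maxPlane hG).isPGroup (hXF.trans hFB)
  have hTH : (T : Subgroup G) ≤ H := hTσ.trans (SigmaTools.sigmaCore_le H)
  have hTd : (T : Subgroup G) ≤ ⁅H, H⁆ := hTσ.trans (SigmaCore.le_derived hG hHc)
  have hpb : p ∉ Cfsg.beta H := fun hb => (TauTwo.of_normalizer_le hG hL hpL hP hNP).2.1 hb.2
  obtain ⟨E, hE, hEI, hXE⟩ := SigmaDisjoint.exists_compl hG hHc hpH T hTH (Y := X) (le_inf hXH hXT)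
    (fun s hs hd => by
      rw [hX] at hd
      exact (Nat.prime_dvd_prime_iff_eq hs hqf.out).mp hd ▸ hqH)
  have hET : E ≤ Subgroup.normalizer ((T : Subgroup G) : Set G) := hEI.trans inf_le_right
  have hEhall := ComplementHall.isHall hG hHc hE
  have hderT : ∀ y ∈ E, y ∈ ⁅H, H⁆ → (orderOf y).Prime →
      (T : Subgroup G) ≤ Subgroup.centralizer ({y} : Set G) := fun y hy hyd hyo => by
    haveI := Fact.mk hyo
    have hne : p ≠ orderOf y := fun e => hEhall.2.1 p hp.out
      (e ▸ (Nat.card_zpowers y ▸ Subgroup.card_dvd_of_le (Subgroup.zpowers_le.mpr hy))) hpH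
    rw [← SigmaTools.centralizer_zpowers, Subgroup.le_centralizer_iff]
    exact CyclicFix.centralizes_of_not_beta hG hHc hne hpb T.isPGroup' (isPGroup_of_card (Nat.card_zpowers y))
      hTd (Subgroup.zpowers_le.mpr hyd) (Subgroup.zpowers_le.mpr (hET hy))
  have hEdT : ⁅E, E⁆ ≤ Subgroup.centralizer ((T : Subgroup G) : Set G) := by
    haveI : Group.IsNilpotent ↥⁅E, E⁆ := SigmaComplement.derived_isNilpotent hG hHc hE
    suffices h : ⁅E, E⁆ ≤ ⁅E, E⁆ ⊓ Subgroup.centralizer ((T : Subgroup G) : Set G) from h.trans inf_le_right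
    rw [← Subgroup.relIndex_eq_one]
    by_contra hne
    obtain ⟨s, hs, hd⟩ := Nat.exists_prime_and_dvd hne
    haveI := Fact.mk hs
    obtain ⟨R⟩ : Nonempty (Sylow s ↥⁅E, E⁆) := inferInstance
    have hRE : (R : Subgroup ↥⁅E, E⁆).map ⁅E, E⁆.subtype ≤ E :=
      (Subgroup.map_subtype_le _).trans (SigmaComplement.derived_le_self E)
    have hsp : p ≠ s := fun e => hEhall.2.1 p hp.out
      (e ▸ (hd.trans (Subgroup.index_dvd_card _)).trans (Subgroup.card_dvd_of_le (SigmaComplement.derived_le_self E))) hpH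
    have hle : (R : Subgroup ↥⁅E, E⁆).map ⁅E, E⁆.subtype ≤
        ⁅E, E⁆ ⊓ Subgroup.centralizer ((T : Subgroup G) : Set G) :=
      le_inf (Subgroup.map_subtype_le _) (CyclicFix.centralizes_of_not_beta hG hHc hsp hpb T.isPGroup'
        (R.isPGroup'.map _) hTd ((Subgroup.map_subtype_le _).trans (Subgroup.commutator_mono hE.1 hE.1))
        (hRE.trans hET))
    refine R.not_dvd_index (hd.trans ((Subgroup.relIndex_dvd_of_le_left _ hle).trans (dvd_of_eq ?_)))
    rw [Subgroup.relIndex, Subgroup.subgroupOf,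
      Subgroup.comap_map_eq_self_of_injective ⁅E, E⁆.subtype_injective]
  -- `E` normalises the cyclic group `C_T(X)` and hence `P`
  set C := (T : Subgroup G) ⊓ Subgroup.centralizer (X : Set G) with hC
  have hPC : P ≤ C := le_inf (hPB.trans hBT) hPX
  have hCcyc : IsCyclic C := by
    by_contra hnc
    obtain ⟨D, hD, hDe, hDc⟩ := UniqueTools.exists_isEA_sq hp2 (T.isPGroup'.to_le inf_le_left) hnc
    exact centralizer_rank_one hG hM hps hr1 hqs hP hPM hX hXM hPX hDe hDc (hD.trans inf_le_right)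
  have hEC : E ≤ Subgroup.normalizer (C : Set G) := fun e he => by
    refine NormalizerFusion.mem_normalizer_of_conj fun c hc => ⟨?_, ?_⟩
    · exact (Subgroup.mem_normalizer_iff.mp (hET he) c).mp hc.1
    · refine Subgroup.mem_centralizer_iff.mpr fun x hx => ?_
      have hd : x⁻¹ * (e⁻¹ * x * e) ∈ ⁅E, E⁆ := by
        have := Subgroup.commutator_mem_commutator (inv_mem (hXE hx)) (inv_mem he)
        rw [commutatorElement_def, inv_inv, inv_inv] at this
        simpa [mul_assoc] using this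
      have h1 := Subgroup.mem_centralizer_iff.mp (hEdT hd) c hc.1
      have h2 := Subgroup.mem_centralizer_iff.mp hc.2 x hx
      have h3 : e⁻¹ * x * e * c = c * (e⁻¹ * x * e) := by
        calc e⁻¹ * x * e * c = x * (x⁻¹ * (e⁻¹ * x * e) * c) := by group
          _ = x * (c * (x⁻¹ * (e⁻¹ * x * e))) := by rw [h1]
          _ = (x * c) * (x⁻¹ * (e⁻¹ * x * e)) := by group
          _ = (c * x) * (x⁻¹ * (e⁻¹ * x * e)) := by rw [h2]
          _ = c * (e⁻¹ * x * e) := by group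
      show x * (e * c * e⁻¹) = e * c * e⁻¹ * x
      calc x * (e * c * e⁻¹) = e * (e⁻¹ * x * e * c) * e⁻¹ := by group
        _ = e * (c * (e⁻¹ * x * e)) * e⁻¹ := by rw [h3]
        _ = _ := by group
  haveI := hCcyc
  have hEP : E ≤ Subgroup.normalizer (P : Set G) := hEC.trans (SigmaEmbedding.normalizer_le_of_cyclic hPC)
  have hEL : E ≤ L := hEP.trans hNP
  have hrk : ∀ s : ℕ, s.Prime → s ∉ Cfsg.sigma H → ¬ Cfsg.PRankLE s 1 H → s ∈ Cfsg.tau2 H := fun s hs hss h => by
    haveI := Fact.mk hs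
    refine ⟨hs, hss, ?_, h⟩
    by_contra h2
    exact hss (SigmaBasics.mem_sigma_of_alpha hG hHc ⟨hs, h2⟩)
  have hq1H : Cfsg.PRankLE q 1 H := by
    by_contra hcon
    obtain ⟨A, hAE, hAe, hAc⟩ := TauTwoAbelian.exists_plane hE (hrk q hqf.out hqH hcon)
    exact UniqueTools.not_pRankLE_of_isEA hAe hAc.ge (hAE.trans hEL) hq1L
  have hqd : ¬ q ∣ Nat.card ↥⁅H, H⁆ := fun hd => by
    obtain ⟨y, hy, hyo⟩ := RankOneTools.exists_derived_elem hG hHc hE hqH hd
    have hXd : X ≤ ⁅E, E⁆ := RankOneTools.mem_of_rank_one hG.1 hE.1 hq1H (SigmaComplement.derived_le_self E)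
      (WLine.le_normalizer_derived E) (by
        rw [← hyo]
        exact Subgroup.orderOf_dvd_natCard _ hy) hX hXE
    exact hBnX (hBT.trans (Subgroup.le_centralizer_iff.mp (hXd.trans hEdT)))
  obtain ⟨J, hJ, hXJ⟩ := Coprime.exists_hall_ge {s | ¬ s ∣ Nat.card ↥⁅H, H⁆}
    (hG.2.2.2 E fun e => hHc.1 (top_le_iff.mp (e ▸ hE.1))) hXE (fun s hs hd => by
      rw [hX] at hd
      rw [(Nat.prime_dvd_prime_iff_eq hs hqf.out).mp hd]
      exact hqd)
  have hqτH : q ∈ Cfsg.tau1 H := ⟨hqf.out, hqH, hX ▸ Subgroup.card_dvd_of_le hXH, hqd, hq1H⟩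
  have hJab : J ≤ Subgroup.centralizer (J : Set G) := by
    refine Subgroup.commutator_eq_bot_iff_le_centralizer.mp (Subgroup.eq_bot_of_card_eq _ ?_)
    by_contra hne
    obtain ⟨r, hr, hd⟩ := Nat.exists_prime_and_dvd hne
    exact hJ.2.1 r hr (hd.trans (Subgroup.card_dvd_of_le (SigmaComplement.derived_le_self J)))
      (hd.trans (Subgroup.card_dvd_of_le (Subgroup.commutator_mono (hJ.1.trans hE.1) (hJ.1.trans hE.1))))
  have hEQ : E ≤ Subgroup.centralizer (P : Set G) := by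
    refine RankOneTools.le_centralizer_of_lines hG hHc hpH hE hJ T.isPGroup' hTH hET (hPB.trans hBT)
      (hJ.1.trans hEP) hderT (fun y hy hyo => ?_) ?_
    · haveI := Fact.mk hyo
      rw [← SigmaTools.centralizer_zpowers]
      refine le_trans (le_inf ((hPB.trans hBT).trans hTσ) hPX) (PrimeActionMain.main hG hHc hqτH (r := orderOf y) ?_
        hXH hX (Subgroup.zpowers_le.mpr (hE.1 (hJ.1 hy))) (Nat.card_zpowers y)
        ((Subgroup.zpowers_le.mpr hy).trans (hJab.trans (Subgroup.centralizer_le (SetLike.coe_subset_coe.mpr hXJ)))))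
      exact hEhall.2.1 _ hyo (Nat.card_zpowers y ▸ Subgroup.card_dvd_of_le (Subgroup.zpowers_le.mpr (hJ.1 hy)))
    · intro r hr hrs hr1' R hR hRE
      haveI := Fact.mk hr
      have hrp : r ≠ p := fun e => hrs (e ▸ hpH)
      have hRn : R ≤ Subgroup.normalizer (P : Set G) := hRE.trans hEP
      have hRL : R ≤ L := hRE.trans hEL
      refine Subgroup.le_centralizer_iff.mp ?_
      refine Subgroup.commutator_eq_bot_iff_le_centralizer.mp (le_bot_iff.mp ?_)
      by_cases hrL : r ∈ Cfsg.sigma L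
      · have h1 : ⁅P, R⁆ ≤ P := Subgroup.le_normalizer_iff_commutator_le_left.1 hRn
        have h2 : ⁅P, R⁆ ≤ Cfsg.sigmaCore L :=
          (Subgroup.commutator_mono hPL (SigmaTools.pGroup_le_sigmaCore hG hL hrL hRL hR)).trans
            (Subgroup.le_normalizer_iff_commutator_le_right.1 (SigmaTools.le_normalizer_sigmaCore L))
        refine (le_inf h1 h2).trans (le_of_eq (Subgroup.disjoint_of_coprime_natCard ?_).eq_bot)
        rw [hP]
        exact (SigmaTools.coprime_sigmaCore hpL).symm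
      obtain ⟨A₁, hA₁E, hA₁e, hA₁c⟩ := TauTwoAbelian.exists_plane hE (hrk r hr hrs hr1')
      have hrτ : r ∈ Cfsg.tau2 L := ⟨hr, hrL, (by
        by_contra h2
        exact hrL (SigmaBasics.mem_sigma_of_alpha hG hL ⟨hr, h2⟩)),
        UniqueTools.not_pRankLE_of_isEA hA₁e hA₁c.ge (hA₁E.trans hEL)⟩
      obtain ⟨F', hF'₀, hle'⟩ := Coprime.exists_hall_ge {t | t ∉ Cfsg.sigma L} (hG.2.2.2 L hL.1)
        (sup_le hPL hRL) (fun t ht hd => by
          have hbot : Disjoint P R := by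
            obtain ⟨j, hj⟩ := hR.exists_card_eq
            refine Subgroup.disjoint_of_coprime_natCard ?_
            rw [hP, hj]
            exact ((Nat.coprime_primes hp.out hr).mpr hrp.symm).pow_right j
          rw [Coprime.card_sup_of_le_normalizer hRn hbot, hP] at hd
          rcases ht.dvd_mul.mp hd with h | h
          · exact (Nat.prime_dvd_prime_iff_eq ht hp.out).mp h ▸ hpL
          · exact PrimeAction.pGroup_dvd hR ht h ▸ hrL)
      have hF' := SylowCentral.isComplIn_of_hall hG hL hF'₀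
      obtain ⟨hPF', hRF'⟩ := sup_le_iff.mp hle'
      obtain ⟨A, hAF, hAe, hAc⟩ := TauTwoAbelian.exists_plane hF' hrτ
      obtain ⟨A₀, hA⟩ := TauTwoStructure.exists_exc hG hL hrL (hAF.trans hF'.1) hAe hAc
      have hFA := TauTwoStructure.normal_in_complement hG hA hF' hAF
      obtain ⟨B', hB'F, hB'e, hB'c⟩ := TauTwoAbelian.exists_plane hF' hpτ
      obtain ⟨B'₀, hB'⟩ := TauTwoStructure.exists_exc hG hL hpL (hB'F.trans hF'.1) hB'e hB'c
      have hFB' := TauTwoStructure.normal_in_complement hG hB' hF' hB'F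
      have hPB' : P ≤ B' := fun x hx => (hB'.maxPlane hG).mem_of_commute
        (pow_eq_one_of_card hP hx)
        (TauTwoStructure.pGroup_le_centralizer hG hB' hPp hPL (hPF'.trans hFB') hx)
      have hB'A : B' ≤ Subgroup.centralizer (A : Set G) := by
        refine Subgroup.commutator_eq_bot_iff_le_centralizer.mp (le_bot_iff.mp ?_)
        refine le_trans (le_inf (Subgroup.le_normalizer_iff_commutator_le_left.1 (hAF.trans hFB'))
          (Subgroup.le_normalizer_iff_commutator_le_right.1 (hB'F.trans hFA))) ?_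
        refine (Subgroup.disjoint_of_coprime_natCard ?_).eq_bot.le
        rw [hB'c, hAc]
        exact ((Nat.coprime_primes hp.out hr).mpr hrp.symm).pow 2 2
      obtain ⟨S, hAS⟩ := (hA.maxPlane hG).isPGroup.exists_le_sylow
      have hab := TauTwoAbelian.abelian_of_two hG hF' hA hAF hpτ hrp.symm hAS
      have hRS := SylowCentral.mem_sylow hG hA hAS hab hR
        (TauTwoStructure.pGroup_le_centralizer hG hA hR hRL (hRF'.trans hFA))
      rw [Subgroup.commutator_eq_bot_iff_le_centralizer.mpr ((hPB'.trans hB'A).trans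
        ((SylowCentral.centralizer_le hG hA hAS hab).trans (Subgroup.centralizer_le (SetLike.coe_subset_coe.mpr hRS))))]
  have hPd : P ≤ ⁅Cfsg.sigmaCore H, Cfsg.sigmaCore H⁆ :=
    (le_inf ((hPB.trans hBT).trans hTσ) (Subgroup.le_centralizer_iff.mp hEQ)).trans
      (SigmaCommutator.main hG hHc hE).2
  by_cases hab : IsMulCommutative (T : Subgroup G)
  · refine ne_bot_of_card hP (le_bot_iff.mp fun x hx => ?_)
    have hnpc := NarrowMaximal.npc_of_le_derived hG hHc hpH.2.1 hpb (SigmaCore.le_derived hG hHc)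
    have hxK : x ∈ Cfsg.sigmaCore H := hTσ (hBT (hPB hx))
    obtain ⟨z, hz, e⟩ := (Subgroup.map_subtype_commutator (Cfsg.sigmaCore H)).ge (hPd hx)
    have hzx : z = ⟨x, hxK⟩ := (Cfsg.sigmaCore H).subtype_injective e
    have h2 := SigmaUnique.inf_derived_le hnpc (T.subtype hTσ) (x := ⟨x, hxK⟩)
      ⟨show (⟨x, hxK⟩ : Cfsg.sigmaCore H) ∈ (T : Subgroup G).subgroupOf (Cfsg.sigmaCore H) from hBT (hPB hx),
        hzx ▸ hz⟩
    have h3 : ⁅((T.subtype hTσ : Sylow p (Cfsg.sigmaCore H)) : Subgroup (Cfsg.sigmaCore H)),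
        ((T.subtype hTσ : Sylow p (Cfsg.sigmaCore H)) : Subgroup (Cfsg.sigmaCore H))⁆ = ⊥ :=
      Subgroup.commutator_eq_bot_iff_le_centralizer.mpr fun a ha => Subgroup.mem_centralizer_iff.mpr fun b hb =>
        Subtype.ext (PlaneSylow.comm_of hab hb ha).eq
    rw [h3, Subgroup.mem_bot] at h2
    exact Subgroup.mem_bot.mpr (congrArg Subtype.val h2)
  · obtain ⟨R₀⟩ : Nonempty (Sylow p ↥(Cfsg.sigmaCore H)) := inferInstance
    have hCH := (SigmaUnique.main hG hHc hpH ((hPB.trans hBH)) hP R₀ (Or.inr hPd)).1.1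
    have hLH : Cfsg.sigmaCore L ≤ H :=
      (TauTwoNonabelian.centralizes₀ hG hexc hBT hab).trans hCH
    have := TauTwoStructure.inter_eq_bot hG hexc hHc hHL hBH
    rw [inf_eq_left.2 hLH] at this
    exact SigmaCore.sigmaCore_ne_bot hG hL this

/-- A line outside `σ(M)` of rank one with a fixed point on `M_σ` lies in `σ` of the maximal subgroups over its
normalizer. -/
theorem mem_sigma_of_fixed (hG : Cfsg.IsMinSimpleOddOrder G) (hM : IsCoatom M) (hps : p ∉ Cfsg.sigma M)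
    (hr1 : Cfsg.PRankLE p 1 M) {P : Subgroup G} (hP : Nat.card P = p) (hPM : P ≤ M)
    (hfix : Cfsg.sigmaCore M ⊓ Subgroup.centralizer (P : Set G) ≠ ⊥) (hL : IsCoatom L)
    (hNP : Subgroup.normalizer (P : Set G) ≤ L) : p ∈ Cfsg.sigma L := by
  by_contra hpL
  obtain ⟨s, hs, hd⟩ := Nat.exists_prime_and_dvd (mt Subgroup.card_eq_one.mp hfix)
  haveI := Fact.mk hs
  obtain ⟨y, hy⟩ := exists_prime_orderOf_dvd_card'
    (G := ↥(Cfsg.sigmaCore M ⊓ Subgroup.centralizer (P : Set G))) s hd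
  exact false_of_exc hG hM hps hr1 (q := s)
    (SigmaTools.mem_sigma_of_card (hd.trans (Subgroup.card_dvd_of_le inf_le_left))) hP hPM
    (line_of_orderOf (by rw [Subgroup.orderOf_coe, hy])) (Subgroup.zpowers_le.mpr (SigmaTools.sigmaCore_le M y.2.1))
    (Subgroup.zpowers_le.mpr y.2.2) hL hNP hpL

/-- **Mutual fixed points.** Commuting elements of prime order in `M_σ` and `L_σ`, both in `M ∩ L`. -/
theorem mutual_fix (hG : Cfsg.IsMinSimpleOddOrder G) (hM : IsCoatom M) (hL : IsCoatom L) (hnc : ∀ g : G, L ≠ cj g M)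
    (hqs : q ∈ Cfsg.sigma M) (hps : p ∈ Cfsg.sigma L) {x y : G} (hx : orderOf x = q) (hy : orderOf y = p)
    (hxM : x ∈ M) (hxL : x ∈ L) (hyM : y ∈ M) (hyL : y ∈ L) (hxy : Commute x y) :
    Cfsg.PRankLE q 1 L ∧ Subgroup.normalizer (Subgroup.zpowers x : Set G) ≤ M := by
  set X := Subgroup.zpowers x with hX
  have hXc : Nat.card X = q := line_of_orderOf hx
  have hXL : X ≤ L := Subgroup.zpowers_le.mpr hxL
  have hyp : IsPGroup p (Subgroup.zpowers y) := isPGroup_of_card (line_of_orderOf hy)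
  have hyX : y ∈ Subgroup.centralizer (X : Set G) := by
    rw [hX, SigmaTools.centralizer_zpowers]
    exact Subgroup.mem_centralizer_singleton_iff.mpr hxy.symm.eq
  have hqL := not_sigma_of_nonconj hG hM hL hnc hqs
  have hyσ : y ∈ Cfsg.sigmaCore L :=
    SigmaTools.pGroup_le_sigmaCore hG hL hps (Subgroup.zpowers_le.mpr hyL) hyp (Subgroup.mem_zpowers y)
  have hy1 : y ≠ 1 := fun e => hp.out.ne_one (by rw [← hy, e, orderOf_one])
  have huniq : ¬ Cfsg.PRankLE q 1 L → Subgroup.centralizer ({x} : Set G) ≤ L ∧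
      ∀ N : Subgroup G, IsCoatom N → Subgroup.centralizer ({x} : Set G) ≤ N → N = L := fun h => by
    obtain ⟨F, hF⟩ := Coprime.exists_hall {t | t ∉ Cfsg.sigma L} (hG.2.2.2 L hL.1)
    refine (Cfsg.Agent.S1420.result hG L hL F (SylowCentral.isComplIn_of_hall hG hL hF)).2.2.2 x hxL
      (fun e => hqf.out.ne_one (by rw [← hx, e, orderOf_one])) (fun s hs hd => ?_) ⟨hxL, y, hyσ, hy1, hxy.eq⟩
    rw [hx] at hd
    rw [(Nat.prime_dvd_prime_iff_eq hs hqf.out).mp hd]
    refine ⟨hqf.out, hqL, ?_, h⟩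
    by_contra h2
    exact hqL (SigmaBasics.mem_sigma_of_alpha hG hL ⟨hqf.out, h2⟩)
  obtain ⟨N, hN, hNX⟩ := Uniqueness.exists_coatom_normalizer (p := q) hG.2 (ne_bot_of_card hXc) (isPGroup_of_card hXc)
  have hCN : Subgroup.centralizer ({x} : Set G) ≤ N :=
    (SigmaTools.centralizer_zpowers x).ge.trans ((Subgroup.centralizer_le_normalizer _).trans hNX)
  have hNM : N = M := by
    by_contra hne
    obtain ⟨-, hτN, -, hE, -⟩ := embedded hG hM hqs (isPGroup_of_card hXc) (ne_bot_of_card hXc)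
      (Subgroup.zpowers_le.mpr hxM) hN hne hNX
    have hyE : y ∈ M ⊓ N := ⟨hyM, hNX (Subgroup.centralizer_le_normalizer _ hyX)⟩
    have hpN : p ∉ Cfsg.sigma N := fun h =>
      SigmaComplement.not_dvd_card hG hN hE h (hy ▸ Subgroup.orderOf_dvd_natCard _ hyE)
    by_cases hr : Cfsg.PRankLE q 1 L
    · refine hτN.2.1 (mem_sigma_of_fixed hG hL hqL hr hXc hXL ?_ hN hNX)
      intro e
      have : y ∈ Cfsg.sigmaCore L ⊓ Subgroup.centralizer (X : Set G) := ⟨hyσ, hyX⟩
      rw [e, Subgroup.mem_bot] at this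
      exact hy1 this
    · exact hpN ((huniq hr).2 N hN hCN ▸ hps)
  subst hNM
  refine ⟨?_, hNX⟩
  by_contra hr
  exact hnc 1 (by rw [SigmaFusion.cj_one, (huniq hr).2 _ hN hCN])

end CfsgLib.OddOrder.SigmaMutual
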