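import Cfsg.Agent.Lib.OddOrder.StarNormalizer
import Mathlib

set_option autoImplicit false
set_option linter.style.haveILetI false
set_option linter.unusedSectionVars false

/-!
The centralizer of `K` in `M*`.
-/

namespace CfsgLib.OddOrder.StarCentral

open scoped commutatorElement
open KappaHall (Str)
open StarPartner (Dstar)
open StarPair (Pair)

variable {G : Type*} [Group G] [Finite G] {M L E K U W : Subgroup G}

theorem derived_fix (hG : Cfsg.IsMinSimpleOddOrder G) (hM : IsCoatom M) (hs : Str M E K U) {k : G} (hk : k ∈ K)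
    (hk1 : k ≠ 1) : (U ⊔ Cfsg.sigmaCore M) ⊓ Subgroup.centralizer ({k} : Set G) ≤ Dstar M K := by
  intro w hw
  have hkE := hs.le hk
  have hUσ : U ≤ Subgroup.normalizer (Cfsg.sigmaCore M : Set G) :=
    (hs.Ule.trans hs.compl.1).trans (SigmaTools.le_normalizer_sigmaCore M)
  have hw1 : w ∈ ((U ⊔ Cfsg.sigmaCore M : Subgroup G) : Set G) := hw.1
  rw [Subgroup.coe_mul_of_left_le_normalizer_right U _ hUσ] at hw1
  obtain ⟨u, hu, s, hs', rfl⟩ := Set.mem_mul.mp hw1
  have hcop : (Nat.card (Subgroup.zpowers k)).Coprime (Nat.card U) := by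
    rw [Nat.card_zpowers]
    exact Nat.coprime_of_dvd fun t ht h1 h2 =>
      (hs.hall.2.1 t ht h2).2.1 (hs.kappa t ht (h1.trans (Subgroup.orderOf_dvd_natCard K hk)))
  obtain ⟨u', hu', s', hs'', e⟩ := Coprime.centralizer_of_mul (A := Subgroup.zpowers k) (U := U) (V := Cfsg.sigmaCore M)
    (Subgroup.zpowers_le.mpr (hs.normal hkE))
    (Subgroup.zpowers_le.mpr (SigmaTools.le_normalizer_sigmaCore M (hs.compl.1 hkE))) hcop
    (.inl (Coprime.isSolvable_zpowers k)) hu hs' (by rw [SigmaTools.centralizer_zpowers]; exact hw.2)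
  rw [SigmaTools.centralizer_zpowers, hs.free k hk hk1, Subgroup.mem_bot] at hu'
  rw [SigmaTools.centralizer_zpowers] at hs''
  rw [e, hu', one_mul]
  exact (hs.fix k hk hk1).le hs''

theorem coprime_derived (hG : Cfsg.IsMinSimpleOddOrder G) (hM : IsCoatom M) (hd : Cfsg.IsSigmaDecomposition M K U) :
    (Nat.card K).Coprime (Nat.card ↥(U ⊔ Cfsg.sigmaCore M)) :=
  Nat.coprime_of_dvd fun t ht h1 h2 => (SigmaA.sup_primes hG hM hd t ht h2).elim
    (fun h => h.2.1 (hd.hall.2.1 t ht h1)) (fun h => SigmaDecomp.kappa_not_sigma (hd.hall.2.1 t ht h1) h)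

theorem exists_factor (hG : Cfsg.IsMinSimpleOddOrder G) (hM : IsCoatom M) (hd : Cfsg.IsSigmaDecomposition M K U)
    {g : G} (hg : g ∈ M) : ∃ w ∈ U ⊔ Cfsg.sigmaCore M, ∃ d ∈ K, g = w * d := by
  obtain ⟨e, he, s, hs, rfl⟩ := (SigmaDecomp.compl_sup hG hM hd).2.2.2 g hg
  rw [← SetLike.mem_coe, Subgroup.coe_mul_of_right_le_normalizer_left U K hd.normal] at he
  obtain ⟨u, hu, k, hk, rfl⟩ := Set.mem_mul.mp he
  refine ⟨u * (k * s * k⁻¹), Subgroup.mul_mem_sup hu ?_, k, hk, by group⟩
  exact (Subgroup.mem_normalizer_iff.mp (SigmaTools.le_normalizer_sigmaCore M (SigmaDecomp.K_le hd hk)) s).mp hs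

/-- `N(K) = C(K)`. -/
theorem normalizer_le_centralizer (hG : Cfsg.IsMinSimpleOddOrder G) (h : Pair M K L) :
    Subgroup.normalizer (K : Set G) ≤ Subgroup.centralizer (K : Set G) := by
  have hL := h.right.coatom
  obtain ⟨UL, hd⟩ := StarDerived.exists_decomp' hG h.symm
  have hs := SigmaDecomp.str hG hL hd h.right.ne
  haveI := h.cyclic hG
  letI := IsCyclic.commGroup (α := K)
  set W := UL ⊔ Cfsg.sigmaCore L with hW
  have hDC : Dstar M K ≤ Subgroup.centralizer (K : Set G) := inf_le_right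
  have hKC : K ≤ Subgroup.centralizer (K : Set G) := fun a ha => Subgroup.mem_centralizer_iff.mpr fun b hb =>
    (congrArg Subtype.val (mul_comm (⟨b, hb⟩ : K) ⟨a, ha⟩) :)
  intro g hg
  obtain ⟨w, hw, d, hdD, rfl⟩ := exists_factor hG hL hd (StarNormalizer.normalizer_K_le hG h hg)
  refine mul_mem ?_ (hDC hdD)
  have hwN : w ∈ Subgroup.normalizer (K : Set G) := by
    simpa using mul_mem hg (inv_mem (Subgroup.centralizer_le_normalizer _ (hDC hdD)))
  set N' := W ⊓ Subgroup.normalizer (K : Set G) with hN'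
  set C' := W ⊓ Subgroup.centralizer (K : Set G) with hC'
  have hDW : Dstar M K ≤ Subgroup.normalizer (W : Set G) :=
    (SigmaDecomp.K_le hd).trans (SigmaDecomp.le_normalizer_sup hG hL hd)
  have hDC' : Dstar M K ≤ Subgroup.normalizer (C' : Set G) :=
    (le_inf hDW (hDC.trans Subgroup.le_normalizer)).trans Subgroup.inf_normalizer_le_normalizer_inf
  have hkey := Coprime.le_sup_centralizer (A := Dstar M K) (K := N') (N := C') hDC'
    (inf_le_inf_left _ (Subgroup.centralizer_le_normalizer _))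
    ((coprime_derived hG hL hd).coprime_dvd_right (Subgroup.card_dvd_of_le inf_le_left))
    (.inl (hG.2.2.2 _ fun e => hL.1 (top_le_iff.mp (e ▸ SigmaDecomp.K_le hd)))) ?_
  swap
  · intro a ha n hn
    refine ⟨?_, ?_⟩
    · rw [commutatorElement_def]
      exact W.mul_mem ((Subgroup.mem_normalizer_iff.mp (hDW ha) n).mp hn.1) (W.inv_mem hn.1)
    · refine Subgroup.mem_centralizer_iff.mpr fun k hk => ?_
      set k' := n⁻¹ * k * n with hk'
      have hk'K : k' ∈ K := (Subgroup.mem_normalizer_iff''.mp hn.2 k).mp hk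
      have e1 : k * a = a * k := Subgroup.mem_centralizer_iff.mp (hDC ha) k hk
      have e2 : k' * a = a * k' := Subgroup.mem_centralizer_iff.mp (hDC ha) k' hk'K
      have e3 : k * n = n * k' := by rw [hk']; group
      have e4 : k' * n⁻¹ = n⁻¹ * k := by rw [hk']; group
      have e5 : k' * a⁻¹ = a⁻¹ * k' := ((show Commute k' a from e2).inv_right).eq
      rw [commutatorElement_def]
      calc k * (a * n * a⁻¹ * n⁻¹) = (k * a) * n * a⁻¹ * n⁻¹ := by group
        _ = a * (k * n) * a⁻¹ * n⁻¹ := by rw [e1]; group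
        _ = a * n * (k' * a⁻¹) * n⁻¹ := by rw [e3]; group
        _ = a * n * a⁻¹ * (k' * n⁻¹) := by rw [e5]; group
        _ = a * n * a⁻¹ * n⁻¹ * k := by rw [e4]; group
  refine (show C' ⊔ N' ⊓ Subgroup.centralizer (Dstar M K : Set G) ≤ Subgroup.centralizer (K : Set G) from
    sup_le inf_le_right ?_) (hkey ⟨hw, hwN⟩)
  intro y hy
  obtain ⟨f, hf, hf1⟩ := (Dstar M K).bot_or_exists_ne_one.resolve_left h.right.ne
  exact hKC (h.eq.le (derived_fix hG hL hs hf hf1 ⟨hy.1.1, Subgroup.mem_centralizer_singleton_iff.mpr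
    (Subgroup.mem_centralizer_iff.mp hy.2 f hf).symm⟩))

/-- `C_{M*'}(K)` is nilpotent. -/
theorem nilpotent_centralizer (hG : Cfsg.IsMinSimpleOddOrder G) (h : Pair M K L)
    (hd : Cfsg.IsSigmaDecomposition L (Dstar M K) U) :
    Group.IsNilpotent ↥((U ⊔ Cfsg.sigmaCore L) ⊓ Subgroup.centralizer (K : Set G)) := by
  have hL := h.right.coatom
  have hs := SigmaDecomp.str hG hL hd h.right.ne
  obtain ⟨d, hdD, hdp⟩ := KappaHall.exists_prime_elem h.right.ne
  set W := U ⊔ Cfsg.sigmaCore L with hW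
  set X := L ⊓ Subgroup.centralizer (K : Set G) with hX
  set N := W ⊓ Subgroup.centralizer (K : Set G) with hN
  have hWL : W ≤ L := sup_le (SigmaDecomp.U_le hd) (SigmaTools.sigmaCore_le L)
  have hNX : N ≤ X := inf_le_inf_right _ hWL
  have hKσ : K ≤ Cfsg.sigmaCore L := h.eq.ge.trans inf_le_left
  haveI := h.cyclic hG
  letI := IsCyclic.commGroup (α := K)
  have hKC : K ≤ Subgroup.centralizer (K : Set G) := fun a ha => Subgroup.mem_centralizer_iff.mpr fun b hb =>
    (congrArg Subtype.val (mul_comm (⟨b, hb⟩ : K) ⟨a, ha⟩) :)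
  have hKX : K ≤ X := le_inf (hKσ.trans (SigmaTools.sigmaCore_le L)) hKC
  haveI : (N.subgroupOf X).Normal := Subgroup.normal_subgroupOf_of_le_normalizer
    ((le_inf (inf_le_left.trans (SigmaDecomp.le_normalizer_sup hG hL hd))
      (inf_le_right.trans Subgroup.le_normalizer)).trans Subgroup.inf_normalizer_le_normalizer_inf)
  haveI : (K.subgroupOf X).Normal :=
    Subgroup.normal_subgroupOf_of_le_normalizer (inf_le_right.trans (Subgroup.centralizer_le_normalizer _))
  have hdX : d ∈ X := ⟨SigmaDecomp.K_le hd hdD, hdD.2⟩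
  have hnil := StarFitting.isNilpotent_map (V := N.subgroupOf X) (N := K.subgroupOf X) (p := orderOf d) hdp
    (k := ⟨d, hdX⟩) (Subtype.ext (pow_orderOf_eq_one d)) ?_ ?_
  · let π := QuotientGroup.mk' (K.subgroupOf X)
    haveI := hnil
    have hker : (π.subgroupMap (N.subgroupOf X)).ker ≤ Subgroup.center ↥(N.subgroupOf X) := by
      intro y hy
      have hyK : ((y : X) : G) ∈ K := (QuotientGroup.eq_one_iff (N := K.subgroupOf X) (y : X)).mp (congrArg Subtype.val hy)
      refine Subgroup.mem_center_iff.mpr fun z => Subtype.ext (Subtype.ext ?_)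
      exact (Subgroup.mem_centralizer_iff.mp ((z : X).2.2) ((y : X) : G) hyK).symm
    haveI : Group.IsNilpotent ↥(N.subgroupOf X) := Subgroup.isNilpotent_of_ker_le_center _ hker
    exact Group.nilpotent_of_mulEquiv (Subgroup.subgroupOfEquivOfLe hNX)
  · rw [Nat.card_congr (Subgroup.subgroupOfEquivOfLe hNX).toEquiv]
    exact ((coprime_derived hG hL hd).symm.coprime_dvd_left (Subgroup.card_dvd_of_le inf_le_left)).coprime_dvd_right
      (Subgroup.orderOf_dvd_natCard _ hdD)
  · rintro y ⟨hy, hyc⟩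
    refine h.eq.le (derived_fix hG hL hs hdD (fun e => hdp.ne_one (e ▸ orderOf_one)) ⟨(hy : (y : G) ∈ N).1, ?_⟩)
    exact Subgroup.mem_centralizer_singleton_iff.mpr
      (congrArg Subtype.val (Subgroup.mem_centralizer_singleton_iff.mp hyc))

/-- A normal nilpotent `L`-invariant subgroup of `M_σ` containing a Sylow subgroup of `M_σ`: the Sylow subgroup is invariant. -/
theorem le_normalizer_sylow {p : ℕ} [hp : Fact p.Prime] {F : Subgroup G} (hFn : Group.IsNilpotent F) (hFW : F ≤ W)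
    (hLF : M ≤ Subgroup.normalizer (F : Set G)) (S : Sylow p W) (hS : (S : Subgroup W).map W.subtype ≤ F) :
    M ≤ Subgroup.normalizer ((S : Subgroup W).map W.subtype : Set G) := by
  set S₁ := (S : Subgroup W).map W.subtype with hS₁
  set O := (Cfsg.pCore p F).map F.subtype with hO
  haveI := hFn
  haveI : Group.IsNilpotent (⊤ : Subgroup F) := Subgroup.isNilpotent _
  have hOp : IsPGroup p O := (Solvable.Cores.isPGroup_pCore p).map _
  have hmemO : ∀ x ∈ F, ∀ j : ℕ, x ^ p ^ j = 1 → x ∈ O := fun x hx j hj =>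
    ⟨⟨x, hx⟩, RankTwoGlobal.mem_pCore_of_mem (N := ⊤) (Subgroup.mem_top _)
      (((Nat.dvd_prime_pow hp.out).mp (orderOf_dvd_of_pow_eq_one (x := (⟨x, hx⟩ : F)) (n := p ^ j)
        (Subtype.ext (by simpa using hj)))).imp fun _ h => h.2), rfl⟩
  have hSO : S₁ ≤ O := fun x hx => by
    obtain ⟨j, hj⟩ := (S.isPGroup'.map W.subtype) ⟨x, hx⟩
    exact hmemO x (hS hx) j (by simpa using congrArg (fun z : ↥S₁ => (z : G)) hj)
  have hOW : O ≤ W := (Subgroup.map_subtype_le _).trans hFW
  have he : O.subgroupOf W = (S : Subgroup W) :=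
    S.3 (hOp.of_equiv (Subgroup.subgroupOfEquivOfLe hOW).symm) fun y hy => hSO ⟨y, hy, rfl⟩
  have e : S₁ = O := by rw [hS₁, ← he, Subgroup.map_subgroupOf_eq_of_le hOW]
  rw [e]
  exact hLF.trans (WLine.normalizer_le_normalizer_pCore p F)

end CfsgLib.OddOrder.StarCentral
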