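import Cfsg.Agent.Lib.OddOrder.StarFacts
import Mathlib

set_option autoImplicit false
set_option linter.style.haveILetI false
set_option linter.unusedSectionVars false

/-!
`M' = U M_σ` and `κ(M) = τ₁(M)`.
-/

namespace CfsgLib.OddOrder.StarDerived

open scoped commutatorElement
open SigmaFusion (cj)
open KappaHall (Str rest)
open StarPartner (Dstar Zsub Pk)
open StarPair (Pair)

variable {G : Type*} [Group G] [Finite G] {M L E K U : Subgroup G}

/-- Every element of `U` is a commutator. -/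
theorem U_le_derived (h : Str M E K U) (hK1 : K ≠ ⊥) : U ≤ ⁅M, M⁆ := by
  obtain ⟨f, hf, hf1⟩ := K.bot_or_exists_ne_one.resolve_left hK1
  intro u hu
  have hfU : f ∈ Subgroup.normalizer (U : Set G) := h.normal (h.le hf)
  have hmap : ∀ x : U, ⁅(x : G), f⁆ ∈ U := fun x => by
    rw [show ⁅(x : G), f⁆ = x * (f * (x : G)⁻¹ * f⁻¹) by simp [commutatorElement_def, mul_assoc]]
    exact U.mul_mem x.2 ((Subgroup.mem_normalizer_iff.mp hfU _).mp (U.inv_mem x.2))
  have hinj : Function.Injective fun x : U => (⟨⁅(x : G), f⁆, hmap x⟩ : U) := by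
    intro a b hab
    have e : ⁅(a : G), f⁆ = ⁅(b : G), f⁆ := congrArg Subtype.val hab
    simp only [commutatorElement_def, mul_left_inj] at e
    have hm : (b : G)⁻¹ * a ∈ U ⊓ Subgroup.centralizer ({f} : Set G) := by
      refine ⟨U.mul_mem (U.inv_mem b.2) a.2, Subgroup.mem_centralizer_singleton_iff.mpr ?_⟩
      calc (b : G)⁻¹ * a * f = (b : G)⁻¹ * ((a : G) * f * (a : G)⁻¹) * a := by group
        _ = (b : G)⁻¹ * ((b : G) * f * (b : G)⁻¹) * a := by rw [e]
        _ = f * ((b : G)⁻¹ * a) := by group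
    rw [h.free f hf hf1, Subgroup.mem_bot] at hm
    exact Subtype.ext (inv_mul_eq_one.mp hm).symm
  obtain ⟨x, hx⟩ := (Finite.injective_iff_surjective.mp hinj) ⟨u, hu⟩
  rw [show u = ⁅(x : G), f⁆ from (congrArg Subtype.val hx).symm]
  exact Subgroup.commutator_mem_commutator (h.compl.1 (h.Ule x.2)) (h.compl.1 (h.le hf))

theorem derived_eq (hG : Cfsg.IsMinSimpleOddOrder G) (hM : IsCoatom M) (h : Cfsg.IsSigmaDecomposition M K U)
    (hK1 : K ≠ ⊥) : ⁅M, M⁆ = U ⊔ Cfsg.sigmaCore M := by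
  refine le_antisymm ?_ (sup_le (U_le_derived (SigmaDecomp.str hG hM h hK1) hK1) (SigmaCore.le_derived hG hM))
  set H := U ⊔ Cfsg.sigmaCore M with hH
  haveI : (H.subgroupOf M).Normal :=
    (Subgroup.normal_subgroupOf_iff_le_normalizer (sup_le (SigmaDecomp.U_le h) (SigmaTools.sigmaCore_le M))).mpr
      (SigmaDecomp.le_normalizer_sup hG hM h)
  set π := QuotientGroup.mk' (H.subgroupOf M)
  have hrep : ∀ a : M, ∃ k : M, (k : G) ∈ K ∧ π a = π k := fun a => by
    obtain ⟨e, he, s, hs, hae⟩ := (SigmaDecomp.compl_sup hG hM h).2.2.2 a a.2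
    rw [← SetLike.mem_coe, sup_comm U K, Subgroup.coe_mul_of_left_le_normalizer_right K U h.normal] at he
    obtain ⟨k, hk, u, hu, rfl⟩ := Set.mem_mul.mp he
    refine ⟨⟨k, SigmaDecomp.K_le h hk⟩, hk, (QuotientGroup.eq.mpr ?_).symm⟩
    rw [Subgroup.mem_subgroupOf]
    show k⁻¹ * (a : G) ∈ H
    rw [hae, mul_assoc k u s, inv_mul_cancel_left]
    exact Subgroup.mul_mem_sup hu hs
  refine Subgroup.commutator_le.mpr fun a ha b hb => ?_
  obtain ⟨k, hk, hak⟩ := hrep ⟨a, ha⟩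
  obtain ⟨k', hk', hbk⟩ := hrep ⟨b, hb⟩
  haveI := h.cyclic
  letI := IsCyclic.commGroup (α := K)
  have hkk : Commute k k' := Subtype.ext (congrArg Subtype.val (mul_comm (⟨k, hk⟩ : K) ⟨k', hk'⟩) : ((k : G)) * k' = k' * k)
  have hcomm : ⁅k, k'⁆ = 1 := commutatorElement_eq_one_iff_commute.mpr hkk
  have h1 : π ⁅(⟨a, ha⟩ : M), ⟨b, hb⟩⁆ = 1 := by
    rw [map_commutatorElement, hak, hbk, ← map_commutatorElement, hcomm, map_one]
  exact Subgroup.mem_subgroupOf.mp ((QuotientGroup.eq_one_iff (N := H.subgroupOf M) _).mp h1)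

theorem exists_decomp' (hG : Cfsg.IsMinSimpleOddOrder G) (h : Pair M K L) :
    ∃ U, Cfsg.IsSigmaDecomposition M K U :=
  SigmaDecomp.exists_decomp hG h.left.coatom (h.cyclic hG) h.left.hall

/-- `κ(M) = τ₁(M)`. -/
theorem kappa_eq_tau1 (hG : Cfsg.IsMinSimpleOddOrder G) (h : Pair M K L) : Cfsg.kappa M = Cfsg.tau1 M := by
  have hM := h.left.coatom
  obtain ⟨U, hd⟩ := exists_decomp' hG h
  have hder := derived_eq hG hM hd h.left.ne
  ext t
  constructor
  · intro hk
    haveI := Fact.mk hk.1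
    refine ⟨hk.1, hk.2.2.1, hk.2.1, fun hdv => ?_, KappaHall.kappa_rank_one hk⟩
    rw [hder] at hdv
    exact (SigmaA.sup_primes hG hM hd t hk.1 hdv).elim (fun hr => hr.2.1 hk) hk.2.2.1
  · rintro ⟨ht, hσ, htM, hdv, -⟩
    by_contra hk
    refine hdv ((KappaHall.dvd_card_of_hall (SigmaDecomp.U_hall hG hM hd) ht ⟨ht, hk, hσ⟩ htM).trans
      (Subgroup.card_dvd_of_le ?_))
    rw [hder]
    exact le_sup_left

end CfsgLib.OddOrder.StarDerived
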