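import Cfsg.Agent.Lib.OddOrder.StarPartner
import Cfsg.Agent.Lib.OddOrder.PrimeK
import Mathlib

set_option autoImplicit false
set_option linter.style.haveILetI false
set_option linter.unusedSectionVars false

/-!
The counting argument of BG 14.7.
-/

namespace CfsgLib.OddOrder.StarFamily

open scoped commutatorElement
open SigmaFusion (cj)
open KappaHall (Str)
open StarPartner (Dstar Zsub Pk commute exists_mul mem_K core_inf_Z card_Z)
open SupportCosets (sigma_number parts_eq)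

variable {G : Type*} [Group G] [Finite G] {M L L' K K' : Subgroup G}

/-- A member of the family of `Z`. -/
def Member (M K L : Subgroup G) : Prop :=
  L = M ∨ ∃ f ∈ K, (orderOf f).Prime ∧ IsCoatom L ∧ Subgroup.centralizer ({f} : Set G) ≤ L

/-- The elements of `Z` outside all factors. -/
def Zhat (M K : Subgroup G) : Set G := {z | z ∈ Zsub M K ∧ ∀ L, Member M K L → z ∉ Cfsg.sigmaCore L}

theorem member_data (hG : Cfsg.IsMinSimpleOddOrder G) (h : Pk M K) (hL : Member M K L) :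
    ∃ K', Pk L K' ∧ Zsub L K' = Zsub M K := by
  rcases hL with rfl | ⟨f, hf, hfp, hL, hCL⟩
  · exact ⟨K, h, rfl⟩
  · obtain ⟨L₀, K₀, h₀, -, hfD, -, -, hZ⟩ := StarPartner.exists_partner hG h hf hfp
    rw [(StarPartner.centralizer_le hG h₀ hfD hfp).2 L hL hCL]
    exact ⟨K₀, h₀, hZ⟩

theorem member_coatom (hG : Cfsg.IsMinSimpleOddOrder G) (h : Pk M K) (hL : Member M K L) : IsCoatom L :=
  (member_data hG h hL).choose_spec.1.coatom

theorem member_nonconj (hG : Cfsg.IsMinSimpleOddOrder G) (h : Pk M K) (hL : Member M K L) (hL' : Member M K L')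
    {g : G} (e : L' = cj g L) : L' = L := by
  obtain ⟨K₁, h₁, hZ₁⟩ := member_data hG h hL
  obtain ⟨K₂, h₂, hZ₂⟩ := member_data hG h hL'
  obtain ⟨E, U, hs⟩ := h₂.str hG
  obtain ⟨y, hy, hyp⟩ := KappaHall.exists_prime_elem hs.ne_bot
  haveI := Fact.mk hyp
  have hσ : orderOf y ∈ Cfsg.sigma L := (SupportCosets.sigma_cj_iff hyp L g).mp (e ▸ sigma_number hy.1 _ hyp dvd_rfl)
  have hyZ : y ∈ Zsub L K₁ := by
    rw [hZ₁, ← hZ₂]
    exact Subgroup.mem_sup_right hy
  have hyD : y ∈ Dstar L K₁ := by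
    rw [← core_inf_Z h₁]
    exact ⟨Subgroup.zpowers_le.mp (SigmaTools.pGroup_le_sigmaCore hG h₁.coatom hσ
      (Subgroup.zpowers_le.mpr (StarPartner.Z_le h₁ hyZ))
      (RankOneTools.isPGroup_of_card (RankOneTools.line_of_orderOf rfl))), hyZ⟩
  exact ((StarPartner.centralizer_le hG h₁ hyD hyp).2 L' h₂.coatom (StarPartner.centralizer_le hG h₂ hy hyp).1)

theorem member_disjoint (hG : Cfsg.IsMinSimpleOddOrder G) (h : Pk M K) (hL : Member M K L) (hL' : Member M K L')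
    (hne : L ≠ L') {t : ℕ} (ht : t.Prime) (htL : t ∈ Cfsg.sigma L) : t ∉ Cfsg.sigma L' :=
  SupportCosets.disjoint hG (member_coatom hG h hL) (member_coatom hG h hL')
    (fun _ e => hne (member_nonconj hG h hL hL' e).symm) ht htL

/-- Elements of `Ẑ` have two nontrivial parts for some member. -/
theorem split (hG : Cfsg.IsMinSimpleOddOrder G) (h : Pk M K) {z : G} (hz : z ∈ Zhat M K) :
    ∃ L K', Pk L K' ∧ Zsub L K' = Zsub M K ∧ ∃ k ∈ K', ∃ d ∈ Dstar L K', k ≠ 1 ∧ d ≠ 1 ∧ z = k * d := by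
  obtain ⟨k, hk, d, hd, rfl⟩ := exists_mul hz.1
  by_cases hk1 : k = 1
  · exact absurd (by rw [hk1, one_mul]; exact hd.1) (hz.2 M (Or.inl rfl))
  by_cases hd1 : d = 1
  swap
  · exact ⟨M, K, h, rfl, k, hk, d, hd, hk1, hd1, rfl⟩
  subst hd1
  rw [mul_one] at hz ⊢
  obtain ⟨r, hr, hrd⟩ := Nat.exists_prime_and_dvd (mt orderOf_eq_one_iff.mp hk1)
  set f := k ^ (orderOf k / r) with hf
  have hfo : orderOf f = r := orderOf_pow_orderOf_div (orderOf_pos k).ne' hrd
  obtain ⟨L, K', h', -, hfD, -, -, hZ⟩ := StarPartner.exists_partner hG h (f := f) (pow_mem hk _) (hfo.symm ▸ hr)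
  have hLm : Member M K L := Or.inr ⟨f, pow_mem hk _, hfo.symm ▸ hr, h'.coatom,
    (StarPartner.centralizer_le hG h' hfD (hfo.symm ▸ hr)).1⟩
  have hkZ : k ∈ Zsub L K' := hZ.symm ▸ Subgroup.mem_sup_left hk
  obtain ⟨k', hk', d', hd', e⟩ := exists_mul hkZ
  refine ⟨L, K', h', hZ, k', hk', d', hd', fun e1 => ?_, fun e1 => ?_, e⟩
  · exact hz.2 L hLm (by rw [e, e1, one_mul]; exact hd'.1)
  · rw [e1, mul_one] at e
    exact (h'.sigma' (z := f) (by rw [hf, e]; exact pow_mem hk' _) r hr (hfo.symm ▸ dvd_rfl)).2.2.1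
      (sigma_number hfD.1 r hr (hfo.symm ▸ dvd_rfl))

theorem kappaType (hG : Cfsg.IsMinSimpleOddOrder G) (h : Pk M K) {z : G} (hz : z ∈ Zhat M K) :
    SigmaCover.KappaType z := by
  obtain ⟨L, K', h', -, k, hk, d, hd, hk1, hd1, rfl⟩ := split hG h hz
  exact ⟨L, d, k, h'.coatom, hd.1, hd1,
    ⟨h'.hall.1 hk, Subgroup.mem_centralizer_singleton_iff.mpr (commute hk hd).eq⟩, hk1, h'.sigma' hk,
    (commute hk hd).eq⟩

/-- `Ẑ` is a TI-subset with normalizer `Z`. -/
theorem mem_Z_of_conj (hG : Cfsg.IsMinSimpleOddOrder G) (h : Pk M K) {z g : G} (hz : z ∈ Zhat M K)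
    (hg : g * z * g⁻¹ ∈ Zsub M K) : g ∈ Zsub M K := by
  obtain ⟨L, K', h', hZ, k, hk, d, hd, hk1, hd1, rfl⟩ := split hG h hz
  rw [← hZ] at hg ⊢
  obtain ⟨E, U, hs⟩ := h'.str hG
  obtain ⟨k₂, hk₂, d₂, hd₂, e⟩ := exists_mul hg
  have hco : ∀ b : G, orderOf (g * b * g⁻¹) = orderOf b := fun b => MulEquiv.orderOf_eq (MulAut.conj g) b
  obtain ⟨hdd, hkk⟩ := parts_eq (π := Cfsg.sigma L) (a := g * d * g⁻¹) (b := g * k * g⁻¹) (c := d₂) (d := k₂)
    ((commute hk hd).symm.map (MulAut.conj g).toMonoidHom) (commute hk₂ hd₂).symm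
    (by rw [show g * d * g⁻¹ * (g * k * g⁻¹) = g * (d * k) * g⁻¹ by group, ← (commute hk hd).eq, e,
      (commute hk₂ hd₂).eq])
    (fun t ht htd => sigma_number hd.1 t ht (hco d ▸ htd))
    (fun t ht htd => (h'.sigma' hk t ht (hco k ▸ htd)).2.2.1)
    (fun t ht htd => sigma_number hd₂.1 t ht htd) fun t ht htd => (h'.sigma' hk₂ t ht htd).2.2.1
  have hgL : g ∈ L := by
    by_contra hgL
    refine hd1 (conj_eq_one_iff.mp (Subgroup.mem_bot.mp ((KappaStar.ti hG h'.coatom hs h'.ne hgL).le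
      ⟨hdd ▸ hd₂, ⟨d, SigmaTools.sigmaCore_le L hd.1, rfl⟩⟩)))
  by_contra hgZ
  exact hk1 (conj_eq_one_iff.mp (Subgroup.mem_bot.mp ((KappaStar.ti_K hs hgL hgZ).le
    ⟨hkk ▸ hk₂, ⟨k, hk, rfl⟩⟩)))

theorem conj_mem (hG : Cfsg.IsMinSimpleOddOrder G) (h : Pk M K) {z w : G} (hz : z ∈ Zhat M K) (hw : w ∈ Zsub M K) :
    w * z * w⁻¹ ∈ Zhat M K := by
  refine ⟨mul_mem (mul_mem hw hz.1) (inv_mem hw), fun L hL hmem => hz.2 L hL ?_⟩
  obtain ⟨K', h', hZ⟩ := member_data hG h hL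
  exact (Subgroup.mem_normalizer_iff.mp (SigmaTools.le_normalizer_sigmaCore L
    (StarPartner.Z_le h' (hZ.symm ▸ hw))) z).mpr hmem

/-- The conjugates of `Ẑ`. -/
def conjSet (M K : Subgroup G) : Set G := {a | ∃ g : G, ∃ z ∈ Zhat M K, a = g * z * g⁻¹}

theorem card_conjSet (hG : Cfsg.IsMinSimpleOddOrder G) (h : Pk M K) :
    Set.ncard (conjSet M K) * Nat.card ↥(Zsub M K) = Nat.card G * Set.ncard (Zhat M K) := by
  classical
  let y : conjSet M K → G := fun a => Classical.choose a.2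
  have hy : ∀ a : conjSet M K, (y a)⁻¹ * a.1 * y a ∈ Zhat M K := fun a => by
    obtain ⟨z, hz, e⟩ := Classical.choose_spec a.2
    rw [show (y a)⁻¹ * a.1 * y a = z by rw [e]; simp only [y]; group]
    exact hz
  rw [← Nat.card_coe_set_eq, ← Nat.card_coe_set_eq, ← Nat.card_prod, ← Nat.card_prod]
  refine Nat.card_congr (Equiv.ofBijective (fun p => (y p.1 * p.2.1,
    ⟨(y p.1 * p.2.1)⁻¹ * p.1.1 * (y p.1 * p.2.1), ?_⟩)) ⟨?_, ?_⟩)
  · have := conj_mem hG h (hy p.1) (inv_mem p.2.2)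
    rwa [inv_inv, show p.2.1⁻¹ * ((y p.1)⁻¹ * p.1.1 * y p.1) * p.2.1 = (y p.1 * p.2.1)⁻¹ * p.1.1 * (y p.1 * p.2.1) by
      group] at this
  · rintro ⟨a, w⟩ ⟨a', w'⟩ e
    obtain ⟨e1, e2⟩ := Prod.ext_iff.mp e
    have e2' := congrArg Subtype.val e2
    dsimp only at e1 e2'
    rw [e1] at e2'
    have haa : a = a' := Subtype.ext (mul_left_cancel (mul_right_cancel e2'))
    subst haa
    rw [mul_right_inj] at e1
    exact Prod.ext rfl (Subtype.ext e1)
  · rintro ⟨g, z, hz⟩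
    let a : conjSet M K := ⟨g * z * g⁻¹, g, z, hz, rfl⟩
    have hw : (y a)⁻¹ * g ∈ Zsub M K := mem_Z_of_conj hG h hz (by
      have := (hy a).1
      rwa [show (y a)⁻¹ * a.1 * y a = (y a)⁻¹ * g * z * ((y a)⁻¹ * g)⁻¹ by simp only [a]; group] at this)
    refine ⟨(a, ⟨_, hw⟩), Prod.ext ?_ (Subtype.ext ?_)⟩
    · show y a * ((y a)⁻¹ * g) = g
      group
    · show (y a * ((y a)⁻¹ * g))⁻¹ * a.1 * (y a * ((y a)⁻¹ * g)) = z
      simp only [a]
      group

theorem card_Zhat (hG : Cfsg.IsMinSimpleOddOrder G) (h : Pk M K) [DecidableEq (Subgroup G)]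
    (F : Finset (Subgroup G)) (hF : ∀ L, L ∈ F ↔ Member M K L) :
    (Set.ncard (Zhat M K) : ℚ) = (Nat.card ↥(Zsub M K) : ℚ) - 1 -
      ∑ L ∈ F, ((Nat.card ↥(Cfsg.sigmaCore L ⊓ Zsub M K) : ℚ) - 1) := by
  classical
  haveI := Fintype.ofFinite G
  set S := F.biUnion (fun L => (((Cfsg.sigmaCore L ⊓ Zsub M K : Subgroup G) : Set G).toFinset).erase 1) with hS
  have hSc : S.card = ∑ L ∈ F, ((((Cfsg.sigmaCore L ⊓ Zsub M K : Subgroup G) : Set G).toFinset).erase 1).card := by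
    refine Finset.card_biUnion fun L hL L' hL' hne => Finset.disjoint_left.mpr fun x hx hx' => ?_
    simp only [Finset.mem_erase, Set.mem_toFinset, SetLike.mem_coe] at hx hx'
    obtain ⟨t, ht, htd⟩ := Nat.exists_prime_and_dvd (mt orderOf_eq_one_iff.mp hx.1)
    exact member_disjoint hG h ((hF L).mp hL) ((hF L').mp hL') hne ht (sigma_number hx.2.1 t ht htd)
      (sigma_number hx'.2.1 t ht htd)
  have hsub : insert 1 S ⊆ ((Zsub M K : Subgroup G) : Set G).toFinset := by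
    intro x hx
    simp only [hS, Finset.mem_insert, Finset.mem_biUnion, Finset.mem_erase, Set.mem_toFinset, SetLike.mem_coe] at hx ⊢
    rcases hx with rfl | ⟨L, -, -, hx⟩
    · exact one_mem _
    · exact hx.2
  have h1S : (1 : G) ∉ S := by simp [hS]
  have heq : Zhat M K = ↑(((Zsub M K : Subgroup G) : Set G).toFinset \ insert 1 S) := by
    ext x
    simp only [Zhat, hS, Set.mem_ofPred_eq, Finset.coe_sdiff, Set.mem_diff, Set.coe_toFinset, SetLike.mem_coe,
      Finset.coe_insert, Set.mem_insert_iff, Finset.mem_biUnion, Finset.mem_erase, Set.mem_toFinset]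
    refine and_congr_right fun hxZ => ⟨fun hx hx' => ?_, fun hx L hL hxL => ?_⟩
    · rcases hx' with rfl | ⟨L, hL, -, hxL⟩
      · exact hx M (Or.inl rfl) (one_mem _)
      · exact hx L ((hF L).mp hL) hxL.1
    · by_cases hx1 : x = 1
      · exact hx (Or.inl hx1)
      · exact hx (Or.inr ⟨L, (hF L).mpr hL, hx1, hxL, hxZ⟩)
  rw [heq, Set.ncard_coe_finset, Finset.card_sdiff_of_subset hsub, Finset.card_insert_of_notMem h1S,
    Nat.cast_sub ((Finset.card_insert_of_notMem h1S).ge.trans (Finset.card_le_card hsub)), hSc, ← Set.ncard_eq_toFinset_card',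
    ← Nat.card_coe_set_eq]
  push_cast
  rw [← sub_sub, sub_right_comm]
  congr 1
  refine Finset.sum_congr rfl fun L _ => ?_
  rw [Finset.card_erase_of_mem (by simp), ← Set.ncard_eq_toFinset_card', ← Nat.card_coe_set_eq]
  show ((Nat.card ↥(Cfsg.sigmaCore L ⊓ Zsub M K) - 1 : ℕ) : ℚ) = _
  rw [Nat.cast_sub (Nat.one_le_iff_ne_zero.mpr Nat.card_pos.ne'), Nat.cast_one]

theorem not_inTilde_one (hG : Cfsg.IsMinSimpleOddOrder G) (hL : IsCoatom L) :
    (1 : G) ∉ Cfsg.tildeOf L ((Cfsg.sigmaCore L : Set G) \ {1}) := by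
  rintro ⟨a, ⟨ha, ha1⟩, r, hr, y, e⟩
  have ha1' : a ≠ 1 := fun e' => ha1 (Set.mem_singleton_iff.mpr e')
  have har : a * r = 1 * 1 := by
    rw [mul_one, ← conj_eq_one_iff (a := y)]
    exact e.symm
  have hone : ∀ P : ℕ → Prop, ∀ t : ℕ, t.Prime → t ∣ orderOf (1 : G) → P t := fun P t ht htd =>
    absurd (Nat.dvd_one.mp (orderOf_one (G := G) ▸ htd)) ht.ne_one
  exact ha1' (parts_eq (π := Cfsg.sigma L) (SupportCosets.support_commute hG hL ha ha1' hr) (Commute.one_left _) har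
    (sigma_number ha) (SupportCosets.support_number hG hL ha ha1' hr) (hone _) (hone _)).1

/-- The density bound. -/
theorem sum_lt (hG : Cfsg.IsMinSimpleOddOrder G) (h : Pk M K) (F : Finset (Subgroup G))
    (hF : ∀ L, L ∈ F → Member M K L) :
    (∑ L ∈ F, ((Nat.card (Cfsg.sigmaCore L) : ℚ) - 1) / Nat.card L) +
      (Set.ncard (Zhat M K) : ℚ) / Nat.card ↥(Zsub M K) < 1 := by
  classical
  haveI := Fintype.ofFinite G
  set T : Subgroup G → Finset G := fun L => (Cfsg.tildeOf L ((Cfsg.sigmaCore L : Set G) \ {1})).toFinset with hT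
  set C : Finset G := (conjSet M K).toFinset with hC
  have hdisj : Disjoint (F.biUnion T) C := Finset.disjoint_left.mpr fun x hx hx' => by
    simp only [hT, hC, Finset.mem_biUnion, Set.mem_toFinset] at hx hx'
    obtain ⟨L, hL, hxL⟩ := hx
    obtain ⟨g, z, hz, rfl⟩ := hx'
    refine SigmaCover.exclusive hG (kappaType hG h hz) ⟨L, member_coatom hG h (hF L hL), ?_⟩
    obtain ⟨a, ha, r, hr, y, e⟩ := hxL
    exact ⟨a, ha, r, hr, g⁻¹ * y, by
      calc z = g⁻¹ * (g * z * g⁻¹) * g := by group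
        _ = g⁻¹ * (y * (a * r) * y⁻¹) * g := by rw [e]
        _ = _ := by group⟩
  have hsub : (F.biUnion T ∪ C) ⊆ Finset.univ.erase 1 := by
    intro x hx
    simp only [hT, hC, Finset.mem_union, Finset.mem_biUnion, Set.mem_toFinset] at hx
    simp only [Finset.mem_erase, Finset.mem_univ, and_true]
    rintro rfl
    rcases hx with ⟨L, hL, hxL⟩ | ⟨g, z, hz, e⟩
    · exact not_inTilde_one hG (member_coatom hG h (hF L hL)) hxL
    · exact hz.2 M (Or.inl rfl) (by rw [conj_eq_one_iff.mp e.symm]; exact one_mem _)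
  have hb : (F.biUnion T).card = ∑ L ∈ F, (T L).card := by
    refine Finset.card_biUnion fun L hL L' hL' hne => Finset.disjoint_left.mpr fun x hx hx' => ?_
    simp only [hT, Set.mem_toFinset] at hx hx'
    exact Set.eq_empty_iff_forall_notMem.mp (SupportCount.tilde_disjoint hG (member_coatom hG h (hF L hL))
      (member_coatom hG h (hF L' hL')) fun g e => hne (member_nonconj hG h (hF L hL) (hF L' hL') e).symm) x ⟨hx, hx'⟩
  have hcard := Finset.card_le_card hsub
  rw [Finset.card_union_of_disjoint hdisj, hb, Finset.card_erase_of_mem (Finset.mem_univ _), Finset.card_univ,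
    ← Nat.card_eq_fintype_card] at hcard
  have hg : (0 : ℚ) < Nat.card G := by exact_mod_cast Nat.card_pos
  have hlt : (∑ L ∈ F, ((T L).card : ℚ)) + C.card < Nat.card G := by
    have : (∑ L ∈ F, (T L).card) + C.card < Nat.card G := by
      have := Nat.card_pos (α := G)
      omega
    exact_mod_cast this
  have hTL : ∀ L ∈ F, ((T L).card : ℚ) = ((Nat.card (Cfsg.sigmaCore L) : ℚ) - 1) / Nat.card L * Nat.card G := by
    intro L hL
    have hm : (Nat.card L : ℚ) ≠ 0 := by exact_mod_cast Nat.card_pos.ne'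
    rw [hT, ← Set.ncard_eq_toFinset_card', SupportCount.count hG (member_coatom hG h (hF L hL)),
      ← L.card_mul_index]
    push_cast [Nat.cast_sub (Nat.card_pos (α := Cfsg.sigmaCore L))]
    field_simp
  have hCc : (C.card : ℚ) = (Set.ncard (Zhat M K) : ℚ) / Nat.card ↥(Zsub M K) * Nat.card G := by
    have hz : (Nat.card ↥(Zsub M K) : ℚ) ≠ 0 := by exact_mod_cast Nat.card_pos.ne'
    have := congrArg (Nat.cast : ℕ → ℚ) (card_conjSet hG h)
    push_cast at this
    rw [hC, ← Set.ncard_eq_toFinset_card']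
    field_simp
    linarith
  rw [Finset.sum_congr rfl hTL, hCc, ← Finset.sum_mul, ← add_mul] at hlt
  exact (mul_lt_iff_lt_one_left hg).mp hlt

theorem three_mul_le (hG : Cfsg.IsMinSimpleOddOrder G) (h : Pk M K) :
    3 * Nat.card ↥(Dstar M K) ≤ Nat.card (Cfsg.sigmaCore M) := by
  obtain ⟨E, U, hs⟩ := h.str hG
  set p := (Nat.card ↥(Dstar M K)).minFac with hp
  have hD : Nat.card ↥(Dstar M K) ≠ 1 := fun e => hs.ne_bot (Subgroup.card_eq_one.mp e)
  haveI := Fact.mk (Nat.minFac_prime hD)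
  obtain ⟨S⟩ : Nonempty (Sylow p ↥(Cfsg.sigmaCore M)) := inferInstance
  have hnot := (KappaStar.sylow hG h.coatom hs h.ne (Nat.minFac_dvd _) S).2
  have hne : (Dstar M K).relIndex (Cfsg.sigmaCore M) ≠ 1 := fun e =>
    hnot ((Subgroup.map_subtype_le _).trans (Subgroup.relIndex_eq_one.mp e))
  have hcard := Coprime.card_mul_relIndex_eq (inf_le_left : Dstar M K ≤ Cfsg.sigmaCore M)
  have hodd : Odd ((Dstar M K).relIndex (Cfsg.sigmaCore M)) :=
    Odd.of_dvd_nat (hG.1.of_dvd_nat (Cfsg.sigmaCore M).card_subgroup_dvd_card) ⟨_, hcard.symm.trans (mul_comm _ _)⟩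
  rw [← hcard, mul_comm 3]
  refine Nat.mul_le_mul_left _ ?_
  have h3 : ∀ n : ℕ, Odd n → n ≠ 1 → 3 ≤ n := fun n ⟨j, hj⟩ h1 => by omega
  exact h3 _ hodd hne

theorem card_M (h : Pk M K) {E U : Subgroup G} (hs : Str M E K U) (hU : U = ⊥) :
    Nat.card M = Nat.card K * Nat.card (Cfsg.sigmaCore M) := by
  have hEK : E = K := by rw [← hs.sup, hU, bot_sup_eq]
  rw [← Coprime.card_mul_relIndex_eq hs.compl.1, Basic.IsComplIn.relIndex_left hs.compl, hEK]

/-- BG 14.7: some member has `U ≠ 1`. -/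
theorem exists_U_ne (hG : Cfsg.IsMinSimpleOddOrder G) (h : Pk M K) :
    ∃ L K' E U, Member M K L ∧ Pk L K' ∧ Zsub L K' = Zsub M K ∧ Str L E K' U ∧ U ≠ ⊥ := by
  classical
  haveI := Fintype.ofFinite (Subgroup G)
  by_contra hcon
  push Not at hcon
  set F : Finset (Subgroup G) := Finset.univ.filter (Member M K) with hF
  have hFm : ∀ L, L ∈ F ↔ Member M K L := fun L => by simp [hF]
  have hlt := sum_lt hG h F fun L hL => (hFm L).mp hL
  set z : ℚ := (Nat.card ↥(Zsub M K) : ℚ) with hz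
  have hzpos : (0 : ℚ) < z := by rw [hz]; exact_mod_cast Nat.card_pos
  rw [card_Zhat hG h F hFm, sub_div, sub_div, Finset.sum_div, div_self hzpos.ne'] at hlt
  have hterm : ∀ L ∈ F, 2 / (3 * z) ≤ ((Nat.card (Cfsg.sigmaCore L) : ℚ) - 1) / Nat.card L -
      ((Nat.card ↥(Cfsg.sigmaCore L ⊓ Zsub M K) : ℚ) - 1) / z := by
    intro L hL
    obtain ⟨K', h', hZ⟩ := member_data hG h ((hFm L).mp hL)
    obtain ⟨E, U, hs⟩ := h'.str hG
    have hU := hcon L K' E U ((hFm L).mp hL) h' hZ hs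
    rw [card_M h' hs hU, ← hZ, core_inf_Z h', hz, ← hZ, card_Z h']
    have hv : 3 * (Nat.card ↥(Dstar L K') : ℚ) ≤ Nat.card (Cfsg.sigmaCore L) := by exact_mod_cast three_mul_le hG h'
    have hd : (0 : ℚ) < Nat.card ↥(Dstar L K') := by exact_mod_cast Nat.card_pos
    have hk : (0 : ℚ) < Nat.card K' := by exact_mod_cast Nat.card_pos
    have hvp : (0 : ℚ) < Nat.card (Cfsg.sigmaCore L) := by linarith
    push_cast
    set v : ℚ := (Nat.card (Cfsg.sigmaCore L) : ℚ)
    set d : ℚ := (Nat.card ↥(Dstar L K') : ℚ)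
    set k : ℚ := (Nat.card K' : ℚ)
    have e : (v - 1) / (k * v) - (d - 1) / (k * d) - 2 / (3 * (k * d)) = (v - 3 * d) / (3 * k * d * v) := by
      field_simp
      ring
    have h0 : 0 ≤ (v - 3 * d) / (3 * k * d * v) := div_nonneg (by linarith) (by positivity)
    linarith
  have hsum := Finset.sum_le_sum hterm
  rw [Finset.sum_sub_distrib, Finset.sum_const, nsmul_eq_mul] at hsum
  have hcard : (2 : ℚ) ≤ F.card := by
    obtain ⟨f, hf, hfp⟩ := KappaHall.exists_prime_elem h.ne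
    obtain ⟨L, K', h', hnc, hfD, -, -, -⟩ := StarPartner.exists_partner hG h hf hfp
    have hne : M ≠ L := fun e => hnc 1 (by rw [SigmaFusion.cj_one, e])
    have : ({M, L} : Finset (Subgroup G)).card ≤ F.card := Finset.card_le_card (by
      intro X hX
      rw [hFm]
      rcases Finset.mem_insert.mp hX with rfl | hX
      · exact Or.inl rfl
      · rw [Finset.mem_singleton.mp hX]
        exact Or.inr ⟨f, hf, hfp, h'.coatom, (StarPartner.centralizer_le hG h' hfD hfp).1⟩)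
    rw [Finset.card_pair hne] at this
    exact_mod_cast this
  have h3 : 4 / (3 * z) ≤ (F.card : ℚ) * (2 / (3 * z)) := by
    calc 4 / (3 * z) = 2 * (2 / (3 * z)) := by ring
      _ ≤ _ := mul_le_mul_of_nonneg_right hcard (by positivity)
  have h4 : 4 / (3 * z) - 1 / z = 1 / (3 * z) := by field_simp; ring
  have h5 : (0 : ℚ) < 1 / (3 * z) := by positivity
  linarith

end CfsgLib.OddOrder.StarFamily
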