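import Cfsg.Agent.Lib.OddOrder.StarDerived2
import Cfsg.Agent.S1445
import Cfsg.Agent.S1373
import Cfsg.Agent.Lib.Solvable.FPFOperators.Descend
import Cfsg.Agent.Lib.OddOrder.FPFTools
import Mathlib

set_option autoImplicit false
set_option linter.style.haveILetI false
set_option linter.unusedSectionVars false

/-!
`K* ≤ M_F` and `M_F` is not cyclic.
-/

namespace CfsgLib.OddOrder.StarFitting

open scoped commutatorElement
open StarPartner (Dstar)

/-- A coprime automorphism of a cyclic `p`-group fixing a nontrivial element is trivial. -/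
theorem centralizes_cyclic {G : Type*} [Group G] [Finite G] {p : ℕ} [hp : Fact p.Prime] {S : Subgroup G} [hc : IsCyclic S]
    (hS : IsPGroup p S) {k d : G} (hk : k ∈ Subgroup.normalizer (S : Set G))
    (hcop : (orderOf k).Coprime (Nat.card S)) (hd : d ∈ S) (hd1 : d ≠ 1) (hkd : Commute k d) :
    S ≤ Subgroup.centralizer ({k} : Set G) := by
  letI : CommGroup S := IsCyclic.commGroup
  have hkS : Subgroup.zpowers k ≤ Subgroup.normalizer (S : Set G) := Subgroup.zpowers_le.mpr hk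
  have hcop' : (Nat.card (Subgroup.zpowers k)).Coprime (Nat.card S) := by rwa [Nat.card_zpowers]
  haveI : IsMulCommutative S := ⟨⟨fun a b => mul_comm a b⟩⟩
  have hsup := Coprime.commutator_sup_centralizer hkS hcop' (.inl (Coprime.isSolvable_zpowers k))
  have hdis := Coprime.centralizer_inf_commutator_eq_bot hkS hcop'
  have hle : ⁅S, Subgroup.zpowers k⁆ ≤ S := Subgroup.le_normalizer_iff_commutator_le_left.1 hkS
  have hdC : d ∈ S ⊓ Subgroup.centralizer ((Subgroup.zpowers k : Subgroup G) : Set G) := by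
    refine ⟨hd, Subgroup.mem_centralizer_iff.mpr fun b hb => ?_⟩
    obtain ⟨i, rfl⟩ := Subgroup.mem_zpowers_iff.mp hb
    exact (hkd.zpow_left i).eq
  have hline : ∀ H : Subgroup G, H ≤ S → H ≠ ⊥ → ∀ a : S, a ^ p = 1 → (a : G) ∈ H := by
    intro H hH hH1 a ha
    obtain ⟨n, hn⟩ := (hS.to_le hH).exists_card_eq
    have hn0 : n ≠ 0 := fun e => hH1 (Subgroup.eq_bot_of_card_eq _ (by rw [hn, e, pow_zero]))
    obtain ⟨b, hb⟩ := exists_prime_orderOf_dvd_card' (G := H) p (hn ▸ dvd_pow_self p hn0)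
    set b' : S := ⟨b, hH b.2⟩ with hb'
    have hb'o : orderOf b' = p := by
      rw [← Subgroup.orderOf_coe]
      show orderOf ((b : H) : G) = p
      rw [Subgroup.orderOf_coe, hb]
    have he : Subgroup.zpowers b' = (powMonoidHom p : S →* S).ker := by
      refine Subgroup.eq_of_le_of_card_ge (Subgroup.zpowers_le.mpr ?_) ?_
      · show b' ^ p = 1
        rw [← hb'o, pow_orderOf_eq_one]
      · rw [Nat.card_zpowers, hb'o, IsCyclic.card_powMonoidHom_ker]
        exact Nat.le_of_dvd hp.out.pos (Nat.gcd_dvd_right _ _)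
    have ha' : a ∈ Subgroup.zpowers b' := he.ge ha
    obtain ⟨i, rfl⟩ := Subgroup.mem_zpowers_iff.mp ha'
    simpa [hb'] using H.zpow_mem b.2 i
  have h0 : ⁅S, Subgroup.zpowers k⁆ = ⊥ := by
    by_contra hne
    obtain ⟨n, hn⟩ := hS.exists_card_eq
    have hn0 : n ≠ 0 := fun e => hd1 (Subgroup.mem_bot.mp
      ((Subgroup.eq_bot_of_card_eq S (by rw [hn, e, pow_zero])).le hd))
    obtain ⟨a, ha⟩ := exists_prime_orderOf_dvd_card' (G := S) p (hn ▸ dvd_pow_self p hn0)
    have hap : a ^ p = 1 := ha ▸ pow_orderOf_eq_one a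
    have h1 := hdis.le ⟨hline _ inf_le_left (fun e => hd1 (Subgroup.mem_bot.mp (e.le hdC))) a hap, hline _ hle hne a hap⟩
    rw [Subgroup.mem_bot, OneMemClass.coe_eq_one] at h1
    rw [h1, orderOf_one] at ha
    exact hp.out.ne_one ha.symm
  rw [h0, bot_sup_eq] at hsup
  intro x hx
  exact Subgroup.mem_centralizer_singleton_iff.mpr
    (Subgroup.mem_centralizer_iff.mp (hsup.ge hx).2 k (Subgroup.mem_zpowers k)).symm

/-- Nilpotency modulo a normal subgroup containing the fixed points. -/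
theorem isNilpotent_map {X : Type*} [Group X] [Finite X] {V N : Subgroup X} [V.Normal] [N.Normal] {p : ℕ}
    (hp : p.Prime) {k : X} (hk : k ^ p = 1) (hcop : (Nat.card V).Coprime p)
    (hfix : V ⊓ Subgroup.centralizer ({k} : Set X) ≤ N) : Group.IsNilpotent (V.map (QuotientGroup.mk' N)) := by
  refine FPFTools.isNilpotent_of_fpf hp (x := QuotientGroup.mk' N k) (by rw [← map_pow, hk, map_one]) ?_ ?_
  · rw [Subgroup.normalizer_eq_top_iff.mpr (Subgroup.Normal.map inferInstance _ (QuotientGroup.mk'_surjective N))]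
    exact Subgroup.mem_top _
  refine le_bot_iff.mp ?_
  rintro _ ⟨⟨v, hv, rfl⟩, hc⟩
  have hc' : Commute (QuotientGroup.mk' N v) (QuotientGroup.mk' N k) := Subgroup.mem_centralizer_singleton_iff.mp hc
  obtain ⟨y, hy, hyc, hyv⟩ := Solvable.FPFOperators.exists_fixed_of_map (A := Subgroup.zpowers k) (Q := V) (K₀ := N)
    (by rw [Subgroup.normalizer_eq_top_iff.mpr inferInstance]; exact le_top)
    (by rw [Nat.card_zpowers]; exact hcop.symm.coprime_dvd_left (orderOf_dvd_of_pow_eq_one hk))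
    (Coprime.isSolvable_zpowers k) hv fun a ha => by
      obtain ⟨i, rfl⟩ := Subgroup.mem_zpowers_iff.mp ha
      rw [map_zpow]
      exact (hc'.symm.zpow_left i).eq
  rw [Subgroup.mem_bot, ← hyv, QuotientGroup.mk'_apply, QuotientGroup.eq_one_iff]
  exact hfix ⟨hy, Subgroup.mem_centralizer_singleton_iff.mpr (hyc k (Subgroup.mem_zpowers k)).symm⟩

variable {G : Type*} [Group G] [Finite G] {M K U : Subgroup G}

/-- In the case `U = 1`, some Sylow subgroup of `M_σ` containing `K*` is normal in `M`. -/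
theorem exists_sylow_bot (hG : Cfsg.IsMinSimpleOddOrder G) (hM : IsCoatom M) (h : Cfsg.IsSigmaDecomposition M K U)
    (hK1 : K ≠ ⊥) (hU : U = ⊥) :
    ∃ q : ℕ, q.Prime ∧ q ∣ Nat.card ↥(Dstar M K) ∧ ∃ S : Sylow q ↥(Cfsg.sigmaCore M),
      Dstar M K ≤ (S : Subgroup ↥(Cfsg.sigmaCore M)).map (Cfsg.sigmaCore M).subtype ∧
      (S : Subgroup ↥(Cfsg.sigmaCore M)).map (Cfsg.sigmaCore M).subtype ≤ Cfsg.fittingHallOf M ∧
      (q = Nat.card ↥(Dstar M K) ∧
        M ≤ Subgroup.normalizer (((S : Subgroup ↥(Cfsg.sigmaCore M)).map (Cfsg.sigmaCore M).subtype : Subgroup G) : Set G) ∧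
        ∀ D : Subgroup G, D ≤ Cfsg.sigmaCore M →
          (S : Subgroup ↥(Cfsg.sigmaCore M)).map (Cfsg.sigmaCore M).subtype ⊓ D = ⊥ → Group.IsNilpotent D) := by
  have hq := Cfsg.Agent.S1373.result hG M hM K U h hK1 hU
  set q := Nat.card ↥(Dstar M K) with hqdef
  refine ⟨q, hq, dvd_rfl, ?_⟩
  haveI := Fact.mk hq
  have hs := SigmaDecomp.str hG hM h hK1
  have hKM := SigmaDecomp.K_le h
  have hder : ⁅M, M⁆ = Cfsg.sigmaCore M := by
    rw [StarDerived.derived_eq hG hM h hK1, hU, bot_sup_eq]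
  set F := Cfsg.fittingOf (Cfsg.sigmaCore M) with hF
  have hFσ : F ≤ Cfsg.sigmaCore M := Basic.fittingOf_le
  have hsol : Group.IsSolvable M := hG.2.2.2 M hM.1
  have hDF : Dstar M K ≤ F := by
    by_contra hnot
    have hinf : Dstar M K ⊓ F = ⊥ := Subgroup.eq_bot_of_card_eq _ (((Nat.dvd_prime hq).mp
      (Subgroup.card_dvd_of_le inf_le_left)).resolve_right fun e => hnot
        ((Subgroup.eq_of_le_of_card_ge inf_le_left e.ge).ge.trans inf_le_right))
    set V := (Cfsg.sigmaCore M).subgroupOf M with hV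
    haveI : V.Normal := (Subgroup.normal_subgroupOf_iff_le_normalizer (SigmaTools.sigmaCore_le M)).mpr
      (SigmaTools.le_normalizer_sigmaCore M)
    have hFmap : ∀ x : M, x ∈ Cfsg.fittingOf V → (x : G) ∈ F := by
      rintro _ ⟨v, hv, rfl⟩
      let e : V ≃* ↥(Cfsg.sigmaCore M) := Subgroup.subgroupOfEquivOfLe (SigmaTools.sigmaCore_le M)
      have hn : ((Cfsg.fittingSubgroup V).map e.toMonoidHom).Normal :=
        Subgroup.Normal.map inferInstance _ e.surjective
      haveI : Group.IsNilpotent (Cfsg.fittingSubgroup V) := Solvable.Cores.fittingSubgroup_isNilpotent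
      exact ⟨e v, Solvable.Cores.le_fittingSubgroup (hn := hn)
        (Group.nilpotent_of_mulEquiv ((Cfsg.fittingSubgroup V).equivMapOfInjective e.toMonoidHom e.injective))
        ⟨v, hv, rfl⟩, rfl⟩
    have hcom : ⁅V, K.subgroupOf M⁆ ≤ Cfsg.fittingOf V := by
      refine Cfsg.Agent.S1445.result (hG.1.of_dvd_nat M.card_subgroup_dvd_card) V (K.subgroupOf M) ?_ ?_ ?_ ?_
      · refine top_le_iff.mp fun x _ => ?_
        obtain ⟨u, hu, w, hw, e⟩ := h.compl.2.2.2 x x.2
        rw [hU, Subgroup.mem_bot] at hu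
        rw [hu, one_mul] at e
        obtain ⟨k, hk, s, hs', e'⟩ := (SigmaDecomp.compl_K h).2.2.2 w hw
        have hx : x = ⟨k, hKM hk⟩ * ⟨s, SigmaTools.sigmaCore_le M hs'⟩ := Subtype.ext (e.trans e')
        rw [hx]
        exact mul_mem (Subgroup.mem_sup_right hk) (Subgroup.mem_sup_left hs')
      · rw [Nat.card_congr (Subgroup.subgroupOfEquivOfLe (SigmaTools.sigmaCore_le M)).toEquiv,
          Nat.card_congr (Subgroup.subgroupOfEquivOfLe hKM).toEquiv]
        exact (SigmaDecomp.coprime_K_core h).symm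
      · intro x hx hx1
        have hf := hs.fix x hx fun e => hx1 (Subtype.ext e)
        refine le_antisymm ?_ ?_
        · rintro y ⟨h1, h2⟩
          have hy : (y : G) ∈ Dstar M K := hf.le ⟨h1, Subgroup.mem_centralizer_singleton_iff.mpr
            (congrArg Subtype.val (Subgroup.mem_centralizer_singleton_iff.mp h2))⟩
          exact ⟨h1, Subgroup.mem_centralizer_iff.mpr fun c hc =>
            Subtype.ext (Subgroup.mem_centralizer_iff.mp hy.2 (c : G) hc)⟩
        · rintro y ⟨h1, h2⟩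
          exact ⟨h1, Subgroup.mem_centralizer_singleton_iff.mpr (Subgroup.mem_centralizer_iff.mp h2 x hx).symm⟩
      · refine le_bot_iff.mp fun y hy => ?_
        have hyF := hFmap y hy.1
        have : (y : G) ∈ Dstar M K ⊓ F := ⟨⟨hFσ hyF, Subgroup.mem_centralizer_iff.mpr fun k hk =>
          congrArg Subtype.val (Subgroup.mem_centralizer_iff.mp hy.2 (⟨k, hKM hk⟩ : M) hk)⟩, hyF⟩
        rw [hinf, Subgroup.mem_bot] at this
        exact Subgroup.mem_bot.mpr (Subtype.ext this)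
    have hVF : Cfsg.sigmaCore M ≤ F ⊔ Dstar M K := by
      have hsplit := Coprime.commutator_sup_centralizer (A := K) (K := Cfsg.sigmaCore M)
        (hKM.trans (SigmaTools.le_normalizer_sigmaCore M)) (SigmaDecomp.coprime_K_core h)
        (.inl (hG.2.2.2 K fun e => hM.1 (top_le_iff.mp (e ▸ hKM))))
      refine hsplit.ge.trans (sup_le_sup ?_ le_rfl)
      refine Subgroup.commutator_le.mpr fun a ha k hk => ?_
      exact hFmap _ (hcom (Subgroup.commutator_mem_commutator (H₁ := V) (g₁ := ⟨a, SigmaTools.sigmaCore_le M ha⟩)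
        (h₁ := ha) (g₂ := ⟨k, hKM hk⟩) hk))
    haveI : IsCyclic ↥(Dstar M K) := isCyclic_of_prime_card hqdef.symm
    haveI : (F.subgroupOf (Cfsg.sigmaCore M)).Normal := by
      rw [hF, Basic.subgroupOf_fittingOf]; infer_instance
    refine hnot ((StarDerived2.Dstar_le_second hG hM h hK1).trans ?_)
    rw [hder]
    refine Subgroup.commutator_le.mpr fun a ha b hb => ?_
    have hmem : ∀ (x : G) (hx : x ∈ Cfsg.sigmaCore M), ∃ (d : G) (hd : d ∈ Dstar M K),
        QuotientGroup.mk' (F.subgroupOf (Cfsg.sigmaCore M)) ⟨x, hx⟩ =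
          QuotientGroup.mk' (F.subgroupOf (Cfsg.sigmaCore M)) ⟨d, hd.1⟩ := by
      intro x hx
      have hx' := hVF hx
      rw [← SetLike.mem_coe, Subgroup.coe_mul_of_right_le_normalizer_left _ _
        ((inf_le_left.trans Basic.le_normalizer_fittingOf) : Dstar M K ≤ Subgroup.normalizer (F : Set G))] at hx'
      obtain ⟨f, hf, d, hd, rfl⟩ := Set.mem_mul.mp hx'
      refine ⟨d, hd, ?_⟩
      have : (⟨f * d, hx⟩ : ↥(Cfsg.sigmaCore M)) = ⟨f, hFσ hf⟩ * ⟨d, hd.1⟩ := rfl
      rw [this, map_mul, show QuotientGroup.mk' (F.subgroupOf (Cfsg.sigmaCore M)) ⟨f, hFσ hf⟩ = 1 from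
        (QuotientGroup.eq_one_iff _).mpr hf, one_mul]
    obtain ⟨d, hd, ea⟩ := hmem a ha
    obtain ⟨d', hd', eb⟩ := hmem b hb
    letI := IsCyclic.commGroup (α := ↥(Dstar M K))
    have hdd : (⁅(⟨d, hd.1⟩ : ↥(Cfsg.sigmaCore M)), (⟨d', hd'.1⟩ : ↥(Cfsg.sigmaCore M))⁆ : ↥(Cfsg.sigmaCore M)) = 1 := commutatorElement_eq_one_iff_mul_comm.mpr
      (Subtype.ext (congrArg Subtype.val (mul_comm (⟨d, hd⟩ : ↥(Dstar M K)) ⟨d', hd'⟩) :))
    have h1 : QuotientGroup.mk' (F.subgroupOf (Cfsg.sigmaCore M))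
        ⁅(⟨a, ha⟩ : ↥(Cfsg.sigmaCore M)), ⟨b, hb⟩⁆ = 1 := by
      rw [map_commutatorElement, ea, eb, ← map_commutatorElement, hdd, map_one]
    exact (QuotientGroup.eq_one_iff (N := F.subgroupOf (Cfsg.sigmaCore M)) _).mp h1
  set W := Cfsg.sigmaCore M with hW
  haveI hWsol : Group.IsSolvable W := hG.2.2.2 W fun e => hM.1 (top_le_iff.mp (e ▸ SigmaTools.sigmaCore_le M))
  haveI : Group.IsNilpotent (Cfsg.fittingSubgroup W) := Solvable.Cores.fittingSubgroup_isNilpotent
  have hDO : ∀ (d : G) (hd : d ∈ Dstar M K), (⟨d, hd.1⟩ : W) ∈ Cfsg.pCore q W := fun d hd => by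
    obtain ⟨v, hv, e⟩ := hDF hd
    have hv' : v = ⟨d, hd.1⟩ := Subtype.ext e
    subst hv'
    suffices hp1 : (⟨d, hd.1⟩ : W) ^ q ^ 1 = 1 by
      obtain ⟨i, -, hi⟩ := (Nat.dvd_prime_pow hq).mp (orderOf_dvd_of_pow_eq_one hp1)
      exact RankTwoGlobal.mem_pCore_of_mem hv ⟨i, hi⟩
    rw [pow_one]
    have h1 : ((⟨d, hd⟩ : ↥(Dstar M K)) ^ q : ↥(Dstar M K)) = 1 := pow_card_eq_one'
    refine Subtype.ext ?_
    simpa using congrArg (fun z : ↥(Dstar M K) => (z : G)) h1
  obtain ⟨k, hk, hkp⟩ := KappaHall.exists_prime_elem hK1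
  have hkW : k ∈ Subgroup.normalizer (W : Set G) := SigmaTools.le_normalizer_sigmaCore M (hKM hk)
  set O := (Cfsg.pCore q W).map W.subtype with hO
  have hOW : O ≤ W := Subgroup.map_subtype_le _
  have hOn : M ≤ Subgroup.normalizer (O : Set G) :=
    (SigmaTools.le_normalizer_sigmaCore M).trans (WLine.normalizer_le_normalizer_pCore q W)
  haveI hOnM : (O.subgroupOf M).Normal :=
    (Subgroup.normal_subgroupOf_iff_le_normalizer (hOW.trans (SigmaTools.sigmaCore_le M))).mpr hOn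
  have hnil : Group.IsNilpotent ((W.subgroupOf M).map (QuotientGroup.mk' (O.subgroupOf M))) := by
    haveI : (W.subgroupOf M).Normal := (Subgroup.normal_subgroupOf_iff_le_normalizer (SigmaTools.sigmaCore_le M)).mpr
      (SigmaTools.le_normalizer_sigmaCore M)
    refine isNilpotent_map hkp (k := ⟨k, hKM hk⟩) (Subtype.ext (pow_orderOf_eq_one k)) ?_ ?_
    · rw [Nat.card_congr (Subgroup.subgroupOfEquivOfLe (SigmaTools.sigmaCore_le M)).toEquiv]
      exact (SigmaDecomp.coprime_K_core h).symm.coprime_dvd_right (Subgroup.orderOf_dvd_natCard K hk)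
    · rintro y ⟨hy, hyc⟩
      have : (y : G) ∈ Dstar M K := (hs.fix k hk fun e => hkp.ne_one (e ▸ orderOf_one)).le
        ⟨hy, Subgroup.mem_centralizer_singleton_iff.mpr
          (congrArg Subtype.val (Subgroup.mem_centralizer_singleton_iff.mp hyc))⟩
      exact ⟨⟨y, this.1⟩, hDO _ this, rfl⟩
  obtain ⟨S⟩ : Nonempty (Sylow q W) := inferInstance
  have hDS : Dstar M K ≤ (S : Subgroup W).map W.subtype := fun d hd =>
    ⟨⟨d, hd.1⟩, Solvable.Cores.pCore_le_sylow S (hDO d hd), rfl⟩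
  refine ⟨S, hDS, ?_⟩
  set π := QuotientGroup.mk' (O.subgroupOf M) with hπdef
  let f : W →* ↥((W.subgroupOf M).map π) :=
    (π.comp (Subgroup.inclusion (SigmaTools.sigmaCore_le M))).codRestrict _ fun w =>
      ⟨Subgroup.inclusion (SigmaTools.sigmaCore_le M) w, w.2, rfl⟩
  have hf : Function.Surjective f := by
    rintro ⟨_, y, hy, rfl⟩
    exact ⟨⟨y, hy⟩, Subtype.ext rfl⟩
  have hker : f.ker ≤ (S : Subgroup W) := fun w hw => by
    have hw' : π (Subgroup.inclusion (SigmaTools.sigmaCore_le M) w) = 1 := congrArg Subtype.val hw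
    obtain ⟨v, hv, e⟩ := (QuotientGroup.eq_one_iff (N := O.subgroupOf M) _).mp hw'
    exact (show v = w from Subtype.ext e) ▸ Solvable.Cores.pCore_le_sylow S hv
  haveI hSn : (S : Subgroup W).Normal := by
    haveI := hnil
    rw [← Subgroup.comap_map_eq_self hker]
    exact (Sylow.normal_of_normalizerCondition Group.normalizerCondition_of_isNilpotent (S.mapSurjective hf)).comap f
  have hSc : (S : Subgroup W).map W.subtype ≤ O := fun x hx => by
    obtain ⟨v, hv, rfl⟩ := hx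
    exact ⟨v, Solvable.Cores.le_pCore S.isPGroup' hv, rfl⟩
  have hSO : (S : Subgroup W).map W.subtype = O :=
    le_antisymm hSc (Subgroup.map_mono (Solvable.Cores.pCore_le_sylow S))
  haveI := (S.isPGroup'.map W.subtype).isNilpotent
  refine ⟨?_, rfl, hSO ▸ hOn, fun D hDW hint => ?_⟩
  rotate_left
  · haveI := hnil
    have hinj : Function.Injective (f.comp (Subgroup.inclusion hDW)) := by
      rw [injective_iff_map_eq_one]
      intro d hd
      have h1 := hker (show Subgroup.inclusion hDW d ∈ f.ker from hd)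
      exact Subtype.ext (Subgroup.mem_bot.mp (hint.le ⟨⟨_, h1, rfl⟩, d.2⟩))
    exact Group.nilpotent_of_mulEquiv (MonoidHom.ofInjective hinj).symm
  refine Basic.le_fittingHallOf ((Subgroup.map_subtype_le _).trans (SigmaTools.sigmaCore_le M)) (hSO ▸ hOn) inferInstance ?_
  refine Nat.coprime_of_dvd fun t ht h1 h2 => ?_
  obtain rfl := PrimeAction.pGroup_dvd (S.isPGroup'.map W.subtype) ht h1
  rw [← Subgroup.relIndex_mul_relIndex _ W M (Subgroup.map_subtype_le _) (SigmaTools.sigmaCore_le M)] at h2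
  rcases ht.dvd_mul.mp h2 with h2 | h2
  · rw [Subgroup.relIndex, Subgroup.subgroupOf, Subgroup.comap_map_eq_self_of_injective W.subtype_injective] at h2
    exact S.not_dvd_index h2
  · exact (SigmaCore.hall hG hM).1.2.2 _ ht (SigmaTools.mem_sigma_of_card (Subgroup.card_dvd_of_le inf_le_left)) h2

theorem main (hG : Cfsg.IsMinSimpleOddOrder G) (hM : IsCoatom M) (h : Cfsg.IsSigmaDecomposition M K U) (hK1 : K ≠ ⊥) :
    IsCyclic ↥(Dstar M K) ∧ Dstar M K ≠ ⊥ ∧ Dstar M K ≤ Cfsg.fittingHallOf M ∧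
      ¬ IsCyclic (Cfsg.fittingHallOf M) := by
  obtain ⟨L, hp, -⟩ := StarPair.exists_pair hG (M := M) (K := K) ⟨hM, hK1, h.hall⟩
  have hs := SigmaDecomp.str hG hM h hK1
  have hD1 : Dstar M K ≠ ⊥ := hp.right.ne
  refine ⟨hp.symm.cyclic hG, hD1, ?_⟩
  set W := Cfsg.sigmaCore M with hW
  obtain ⟨q, hq, hqd, S, hle, hSF⟩ : ∃ q : ℕ, q.Prime ∧ q ∣ Nat.card ↥(Dstar M K) ∧ ∃ S : Sylow q W,
      Dstar M K ≤ Cfsg.fittingHallOf M ∧ (S : Subgroup W).map W.subtype ≤ Cfsg.fittingHallOf M := by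
    rcases eq_or_ne U ⊥ with hU | hU
    · obtain ⟨q, hq, hqd, S, hDS, hSF, -⟩ := exists_sylow_bot hG hM h hK1 hU
      exact ⟨q, hq, hqd, S, hDS.trans hSF, hSF⟩
    · obtain ⟨hn, -⟩ := PrimeK.fixed_of_hall hG hM hs.hall hU
      have e := SigmaCentralizer.sigmaCore_eq_fittingHallOf hG hM hn
      obtain ⟨q, hq, hqd⟩ := Nat.exists_prime_and_dvd (mt Subgroup.card_eq_one.mp hD1)
      exact ⟨q, hq, hqd, Classical.arbitrary _, inf_le_left.trans e.le, (Subgroup.map_subtype_le _).trans e.le⟩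
  refine ⟨hle, fun hc => ?_⟩
  haveI := Fact.mk hq
  set S₁ := (S : Subgroup W).map W.subtype with hS₁
  have hcS₁ : IsCyclic S₁ :=
    isCyclic_of_injective (Subgroup.inclusion hSF) (Subgroup.inclusion_injective hSF)
  obtain ⟨d, hd⟩ := exists_prime_orderOf_dvd_card' (G := ↥(Dstar M K)) q hqd
  have hdo : orderOf (d : G) = q := by rw [Subgroup.orderOf_coe, hd]
  have hqW : q ∣ Nat.card W := hqd.trans (Subgroup.card_dvd_of_le inf_le_left)
  have hFab : IsMulCommutative (Cfsg.fittingHallOf M) := by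
    haveI := hc
    exact ⟨⟨fun a b => (IsCyclic.commGroup (α := Cfsg.fittingHallOf M)).mul_comm a b⟩⟩
  haveI hnS : Group.IsNilpotent (Cfsg.fittingHallOf M) := Basic.fittingHallOf_isNilpotent
  -- `S₁` is the set of `q`-elements of `M_F`
  set O := (Cfsg.pCore q (Cfsg.fittingHallOf M)).map (Cfsg.fittingHallOf M).subtype with hOdef
  have hpel : ∀ x ∈ Cfsg.fittingHallOf M, (∃ j : ℕ, x ^ q ^ j = 1) → x ∈ S₁ := by
    intro x hx hxq
    have hOq : IsPGroup q O := (Solvable.Cores.isPGroup_pCore q).map _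
    haveI : Group.IsNilpotent (⊤ : Subgroup ↥(Cfsg.fittingHallOf M)) := Subgroup.isNilpotent _
    have hmemO : ∀ y ∈ Cfsg.fittingHallOf M, (∃ j : ℕ, y ^ q ^ j = 1) → y ∈ O := fun y hy ⟨j, hj⟩ =>
      ⟨⟨y, hy⟩, RankTwoGlobal.mem_pCore_of_mem (N := ⊤) (Subgroup.mem_top _)
        (((Nat.dvd_prime_pow hq).mp (orderOf_dvd_of_pow_eq_one (x := (⟨y, hy⟩ : ↥(Cfsg.fittingHallOf M)))
          (n := q ^ j) (Subtype.ext (by simpa using hj)))).imp fun _ h => h.2), rfl⟩
    have hS₁O : S₁ ≤ O := fun y hy => hmemO y (hSF hy) (by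
      obtain ⟨j, hj⟩ := (S.isPGroup'.map W.subtype) ⟨y, hy⟩
      exact ⟨j, by simpa using congrArg (fun z : ↥((S : Subgroup W).map W.subtype) => (z : G)) hj⟩)
    have hOW' : O ≤ W := SigmaTools.pGroup_le_sigmaCore hG hM (SigmaTools.mem_sigma_of_card hqW)
      ((Subgroup.map_subtype_le _).trans Basic.fittingHallOf_le) hOq
    have he : (S : Subgroup W) = O.subgroupOf W :=
      (S.3 (hOq.of_equiv (Subgroup.subgroupOfEquivOfLe hOW').symm) fun y hy => hS₁O ⟨y, hy, rfl⟩).symm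
    refine ⟨⟨x, hOW' (hmemO x hx hxq)⟩, ?_, rfl⟩
    show _ ∈ (S : Subgroup W)
    rw [he]
    exact hmemO x hx hxq
  obtain ⟨k, hk, hkp⟩ := KappaHall.exists_prime_elem hK1
  have hk1 : k ≠ 1 := fun e => hkp.ne_one (e ▸ orderOf_one)
  have hkF : k ∈ Subgroup.normalizer (Cfsg.fittingHallOf M : Set G) :=
    Basic.le_normalizer_fittingHallOf (SigmaDecomp.K_le h hk)
  have hkS : k ∈ Subgroup.normalizer (S₁ : Set G) := by
    refine NormalizerFusion.mem_normalizer_of_conj ?_
    rintro x hx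
    refine hpel _ ((Subgroup.mem_normalizer_iff.mp hkF x).mp (hSF hx)) ?_
    obtain ⟨j, hj⟩ := (S.isPGroup'.map W.subtype) ⟨x, hx⟩
    exact ⟨j, by rw [conj_pow, (by simpa using congrArg Subtype.val hj : x ^ q ^ j = 1), mul_one, mul_inv_cancel]⟩
  haveI := hcS₁
  have hcen := centralizes_cyclic (S.isPGroup'.map W.subtype) hkS
    (((SigmaDecomp.coprime_K_core h).coprime_dvd_left (Subgroup.orderOf_dvd_natCard K hk)).coprime_dvd_right
      (Subgroup.card_dvd_of_le (Subgroup.map_subtype_le _)))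
    (hpel d (hle d.2) ⟨1, by rw [pow_one, ← hdo, pow_orderOf_eq_one]⟩)
    (fun e => hq.ne_one (hdo ▸ e ▸ orderOf_one)) (StarPartner.commute hk d.2)
  exact (KappaStar.sylow hG hM hs hK1 hqd S).2 fun x hx =>
    (hs.fix k hk hk1).le ⟨Subgroup.map_subtype_le _ hx, hcen hx⟩

end CfsgLib.OddOrder.StarFitting
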