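import Cfsg.Agent.Lib.OddOrder.StarFamily
import Mathlib

set_option autoImplicit false
set_option linter.style.haveILetI false
set_option linter.unusedSectionVars false

/-!
BG 14.7: the pair `M`, `M*`.
-/

namespace CfsgLib.OddOrder.StarPair

open scoped commutatorElement
open SigmaFusion (cj)
open KappaHall (Str rest)
open StarPartner (Dstar Zsub Pk commute exists_mul mem_K core_inf_Z card_Z)
open StarFamily (Member)
open SupportCosets (sigma_number)

variable {G : Type*} [Group G] [Finite G] {M L L' K K' : Subgroup G}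

theorem K_eq (h : Pk M K) (h' : Pk M K') (hZ : Zsub M K' = Zsub M K) : K' = K :=
  le_antisymm (fun x hx => mem_K h (hZ ▸ Subgroup.mem_sup_left hx) fun t ht hd => (h'.sigma' hx t ht hd).2.2.1)
    fun x hx => mem_K h' (hZ.symm ▸ Subgroup.mem_sup_left hx) fun t ht hd => (h.sigma' hx t ht hd).2.2.1

theorem other_eq (hG : Cfsg.IsMinSimpleOddOrder G) (h : Pk M K) (hL : Member M K L) (hL' : Member M K L') (hne : L' ≠ L)
    (h' : Pk L K') (hZ : Zsub L K' = Zsub M K) (hp : (Nat.card K').Prime) :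
    Cfsg.sigmaCore L' ⊓ Zsub M K = K' := by
  obtain ⟨K₂, h₂, hZ₂⟩ := StarFamily.member_data hG h hL'
  obtain ⟨E, U, hs⟩ := h₂.str hG
  have hle : Cfsg.sigmaCore L' ⊓ Zsub M K ≤ K' := fun x hx => mem_K h' (hZ.symm ▸ hx.2) fun t ht hd hs' =>
    StarFamily.member_disjoint hG h hL hL' (Ne.symm hne) ht hs' (sigma_number hx.1 t ht hd)
  have hne' : Cfsg.sigmaCore L' ⊓ Zsub M K ≠ ⊥ := by
    rw [← hZ₂, core_inf_Z h₂]
    exact hs.ne_bot
  refine Subgroup.eq_of_le_of_card_ge hle ?_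
  rcases (Nat.dvd_prime hp).mp (Subgroup.card_dvd_of_le hle) with h1 | h1
  · exact absurd (Subgroup.card_eq_one.mp h1) hne'
  · exact h1.ge

theorem others_eq (hG : Cfsg.IsMinSimpleOddOrder G) (h : Pk M K) {A B : Subgroup G} (hL : Member M K L)
    (hA : Member M K A) (hB : Member M K B) (hAL : A ≠ L) (hBL : B ≠ L)
    (h' : Pk L K') (hZ : Zsub L K' = Zsub M K) (hp : (Nat.card K').Prime) : A = B := by
  by_contra hne
  have eA := other_eq hG h hL hA hAL h' hZ hp
  have eB := other_eq hG h hL hB hBL h' hZ hp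
  obtain ⟨f, hf, hfp⟩ := KappaHall.exists_prime_elem h'.ne
  exact StarFamily.member_disjoint hG h hA hB hne hfp (sigma_number (eA.ge hf).1 _ hfp dvd_rfl)
    (sigma_number (eB.ge hf).1 _ hfp dvd_rfl)

/-- The pair. -/
structure Pair (M K L : Subgroup G) : Prop where
  left : Pk M K
  right : Pk L (Dstar M K)
  eq : Dstar L (Dstar M K) = K
  nonconj : ∀ g : G, L ≠ cj g M

theorem Pair.symm (h : Pair M K L) : Pair L (Dstar M K) M where
  left := h.right
  right := h.eq.symm ▸ h.left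
  eq := by rw [h.eq]
  nonconj g e := h.nonconj g⁻¹ (by rw [e, SigmaFusion.cj_cj, inv_mul_cancel, SigmaFusion.cj_one])

theorem Pair.Z_eq (h : Pair M K L) : Zsub L (Dstar M K) = Zsub M K := by
  show Dstar M K ⊔ Dstar L (Dstar M K) = _
  rw [h.eq, sup_comm]

theorem exists_pair (hG : Cfsg.IsMinSimpleOddOrder G) (h : Pk M K) :
    ∃ L, Pair M K L ∧ ∀ A, Member M K A → A = M ∨ A = L := by
  obtain ⟨f, hf, hfp⟩ := KappaHall.exists_prime_elem h.ne
  obtain ⟨L₀, K₀, h₀, hnc, hfD, hDK₀, hD₀K, hZ₀⟩ := StarPartner.exists_partner hG h hf hfp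
  have hm₀ : Member M K L₀ := Or.inr ⟨f, hf, hfp, h₀.coatom, (StarPartner.centralizer_le hG h₀ hfD hfp).1⟩
  have hne : M ≠ L₀ := fun e => hnc 1 (by rw [SigmaFusion.cj_one, e])
  obtain ⟨A, K₁, E, U, hA, hA', hZA, hs, hU⟩ := StarFamily.exists_U_ne hG h
  have hp := (PrimeK.prime_K hG hA'.coatom hs hA'.ne hU).1
  have hall : ∀ B, Member M K B → B = M ∨ B = L₀ := by
    by_cases hAM : A = M
    · exact fun B hB => (em (B = M)).imp_right fun hBM =>
        others_eq hG h hA hB hm₀ (hAM ▸ hBM) (hAM ▸ hne.symm) hA' hZA hp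
    by_cases hAL : A = L₀
    · exact fun B hB => (em (B = L₀)).symm.imp_left fun hBL =>
        others_eq hG h hA hB (Or.inl rfl) (hAL ▸ hBL) (hAL ▸ hne) hA' hZA hp
    exact absurd (others_eq hG h hA (Or.inl rfl) hm₀ (Ne.symm hAM) (Ne.symm hAL) hA' hZA hp) hne
  have hKD : K = Dstar L₀ K₀ := by
    refine le_antisymm (fun x hx => ?_) hD₀K
    obtain ⟨k, hk, d, hd, rfl⟩ := exists_mul (hZ₀.symm ▸ Subgroup.mem_sup_left hx : x ∈ Zsub L₀ K₀)
    have hk1 : k = 1 := by
      by_contra hk1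
      obtain ⟨r, hr, hrd⟩ := Nat.exists_prime_and_dvd (mt orderOf_eq_one_iff.mp hk1)
      set f₁ := k ^ (orderOf k / r) with hf₁
      have hf₁o : orderOf f₁ = r := orderOf_pow_orderOf_div (orderOf_pos k).ne' hrd
      have hkK : k ∈ K := by simpa using K.mul_mem hx (K.inv_mem (hD₀K hd))
      obtain ⟨L₁, K₂, h₁, hnc₁, hf₁D, -, -, -⟩ := StarPartner.exists_partner hG h (f := f₁) (pow_mem hkK _)
        (hf₁o.symm ▸ hr)
      rcases hall L₁ (Or.inr ⟨f₁, pow_mem hkK _, hf₁o.symm ▸ hr, h₁.coatom,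
        (StarPartner.centralizer_le hG h₁ hf₁D (hf₁o.symm ▸ hr)).1⟩) with e | e
      · exact hnc₁ 1 (by rw [SigmaFusion.cj_one, e])
      · exact (h₀.sigma' hk r hr hrd).2.2.1 (e ▸ sigma_number hf₁D.1 r hr (hf₁o.symm ▸ dvd_rfl))
    rw [hk1, one_mul]
    exact hd
  have hD : Dstar M K = K₀ := by
    refine Subgroup.eq_of_le_of_card_ge hDK₀ ?_
    have h1 := card_Z h₀
    rw [hZ₀, card_Z h, ← hKD, mul_comm] at h1
    exact (Nat.eq_of_mul_eq_mul_right (Nat.card_pos (α := K)) h1).ge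
  exact ⟨L₀, ⟨h, hD.symm ▸ h₀, by rw [hD, ← hKD], hnc⟩, hall⟩

theorem Pair.unique (hG : Cfsg.IsMinSimpleOddOrder G) (h : Pair M K L) {L₁ : Subgroup G} (h₁ : Pk L₁ (Dstar M K))
    (he : Dstar L₁ (Dstar M K) = K) : L₁ = L := by
  obtain ⟨f, hf, hfp⟩ := KappaHall.exists_prime_elem h.left.ne
  exact (StarPartner.centralizer_le hG h.right (h.eq.symm ▸ hf) hfp).2 L₁ h₁.coatom
    (StarPartner.centralizer_le hG h₁ (he.symm ▸ hf) hfp).1

theorem U_ne_of (h : Pk M K) {E U E' U' : Subgroup G} (hs : Str M E K U) (hs' : Str M E' K U') (hU : U ≠ ⊥) :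
    U' ≠ ⊥ := fun e => hU (Subgroup.card_eq_one.mp
  ((Coprime.card_hall_eq hs.hall hs'.hall).trans (by rw [e, Subgroup.card_bot])))

/-- One of the two has `U ≠ 1`. -/
theorem Pair.U_ne (hG : Cfsg.IsMinSimpleOddOrder G) (h : Pair M K L) :
    (∀ E U, Str M E K U → U ≠ ⊥) ∨ ∀ E U, Str L E (Dstar M K) U → U ≠ ⊥ := by
  obtain ⟨A, K₁, E, U, hA, hA', hZA, hs, hU⟩ := StarFamily.exists_U_ne hG h.left
  obtain ⟨L₁, hpair, hall⟩ := exists_pair hG h.left
  obtain rfl := h.unique hG hpair.right hpair.eq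
  rcases hall A hA with rfl | rfl
  · obtain rfl := K_eq h.left hA' hZA
    exact Or.inl fun E' U' hs' => U_ne_of h.left hs hs' hU
  · obtain rfl := K_eq h.right hA' (hZA.trans h.Z_eq.symm)
    exact Or.inr fun E' U' hs' => U_ne_of h.right hs hs' hU

theorem isCyclic_of_partner (hG : Cfsg.IsMinSimpleOddOrder G) (h : Pair M K L) {E U : Subgroup G}
    (hs : Str L E (Dstar M K) U) (hU : U ≠ ⊥) : IsCyclic K := by
  have hn := (PrimeK.fixed_of_hall hG h.right.coatom hs.hall hU).1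
  have hle : K ≤ Cfsg.sigmaCore L := h.eq.ge.trans inf_le_left
  haveI := hn
  haveI : Group.IsNilpotent K := Group.nilpotent_of_mulEquiv (Subgroup.subgroupOfEquivOfLe hle)
  haveI : IsZGroup K := by
    refine ⟨fun p hp P => ?_⟩
    haveI := Fact.mk hp
    rcases P.isPGroup'.card_eq_or_dvd with h1 | h1
    · rw [Subgroup.eq_bot_of_card_eq _ h1]
      infer_instance
    · haveI := SigmaComplement.isCyclic_of_rank_one hG.1 ((Subgroup.map_subtype_le (P : Subgroup K)).trans h.left.hall.1)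
        (P.isPGroup'.map K.subtype)
        (KappaHall.kappa_rank_one (h.left.hall.2.1 p hp (h1.trans (Subgroup.card_subgroup_dvd_card _))))
      exact (Subgroup.equivMapOfInjective (P : Subgroup K) K.subtype K.subtype_injective).isCyclic.mpr ‹_›
  infer_instance

/-- `K` and `K*` are cyclic. -/
theorem Pair.cyclic (hG : Cfsg.IsMinSimpleOddOrder G) (h : Pair M K L) : IsCyclic K := by
  obtain ⟨E, U, hs⟩ := h.left.str hG
  rcases h.U_ne hG with hu | hu
  · haveI := Fact.mk (PrimeK.prime_K hG h.left.coatom hs h.left.ne (hu E U hs)).1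
    exact isCyclic_of_prime_card rfl
  · obtain ⟨E', U', hs'⟩ := h.right.str hG
    exact isCyclic_of_partner hG h hs' (hu E' U' hs')

theorem Pair.cyclic_Z (hG : Cfsg.IsMinSimpleOddOrder G) (h : Pair M K L) : IsCyclic ↥(Zsub M K) := by
  obtain ⟨k, hk⟩ := (h.cyclic hG).exists_ofOrder_eq_natCard (α := K)
  obtain ⟨d, hd⟩ := (h.symm.cyclic hG).exists_ofOrder_eq_natCard (α := Dstar M K)
  have hcop : (orderOf (k : G)).Coprime (orderOf (d : G)) := Nat.coprime_of_dvd fun t ht h1 h2 =>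
    (h.left.sigma' k.2 t ht h1).2.2.1 (sigma_number d.2.1 t ht h2)
  refine isCyclic_of_orderOf_eq_card ⟨_, Subgroup.mul_mem_sup k.2 d.2⟩ ?_
  rw [Subgroup.orderOf_mk, (commute k.2 d.2).orderOf_mul_eq_mul_orderOf_of_coprime hcop, card_Z h.left,
    Subgroup.orderOf_coe, Subgroup.orderOf_coe, hk, hd]

theorem Pair.core_inf (hG : Cfsg.IsMinSimpleOddOrder G) (h : Pair M K L) : Cfsg.sigmaCore M ⊓ L = Dstar M K := by
  refine le_antisymm (fun x hx => ?_) (le_inf inf_le_left h.right.hall.1)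
  obtain ⟨f, hf, hfp⟩ := KappaHall.exists_prime_elem h.left.ne
  obtain ⟨E, U, hs⟩ := h.left.str hG
  have hfL : f ∈ Cfsg.sigmaCore L ⊓ M := ⟨(h.eq.ge hf).1, h.left.hall.1 hf⟩
  have hc := Subgroup.mem_centralizer_iff.mp (SigmaMutual.inf_le_centralizer hG h.left.coatom h.right.coatom h.nonconj hfL) x hx
  exact (hs.fix f hf (fun e => hfp.ne_one (e ▸ orderOf_one))).le
    ⟨hx.1, Subgroup.mem_centralizer_singleton_iff.mpr hc⟩

theorem Pair.inf_eq (hG : Cfsg.IsMinSimpleOddOrder G) (h : Pair M K L) : M ⊓ L = Zsub M K := by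
  refine le_antisymm ?_ (le_inf (StarPartner.Z_le h.left)
    (h.Z_eq.ge.trans (StarPartner.Z_le h.right)))
  obtain ⟨E, U, hs⟩ := h.left.str hG
  show _ ≤ K ⊔ (Cfsg.sigmaCore M ⊓ Subgroup.centralizer (K : Set G))
  rw [← hs.inf_normalizer_K h.left.ne]
  refine le_inf inf_le_left (le_trans ?_ (le_of_eq (congrArg (fun S : Subgroup G => Subgroup.normalizer (S : Set G))
    ((h.symm.core_inf hG).trans h.eq))))
  refine le_trans ?_ Subgroup.inf_normalizer_le_normalizer_inf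
  exact le_inf (inf_le_right.trans (SigmaTools.le_normalizer_sigmaCore L)) (inf_le_left.trans Subgroup.le_normalizer)

end CfsgLib.OddOrder.StarPair
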