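import Cfsg.Agent.Lib.OddOrder.StarUnique
import Cfsg.Agent.Lib.OddOrder.SigmaCover
import Mathlib

set_option autoImplicit false
set_option linter.style.haveILetI false
set_option linter.unusedSectionVars false

/-!
The maximal subgroups over the lines of `K`.
-/

namespace CfsgLib.OddOrder.StarPartner

open scoped commutatorElement
open SigmaFusion (cj)
open RankOneTools (line_of_orderOf isPGroup_of_card ne_bot_of_card)
open KappaHall (Str)

variable {G : Type*} [Group G] [Finite G] {M L K K' : Subgroup G}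

/-- `K* = M_σ ∩ C(K)`. -/
abbrev Dstar (M K : Subgroup G) : Subgroup G := Cfsg.sigmaCore M ⊓ Subgroup.centralizer (K : Set G)

/-- `Z = K K*`. -/
abbrev Zsub (M K : Subgroup G) : Subgroup G := K ⊔ Dstar M K

/-- `M` is a maximal subgroup with Hall `κ(M)`-subgroup `K ≠ 1`. -/
structure Pk (M K : Subgroup G) : Prop where
  coatom : IsCoatom M
  ne : K ≠ ⊥
  hall : Cfsg.IsPiHallOf (Cfsg.kappa M) K M

theorem Pk.str (hG : Cfsg.IsMinSimpleOddOrder G) (h : Pk M K) : ∃ E U, Str M E K U :=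
  KappaHall.exists_str' hG h.coatom h.hall h.ne

theorem Pk.sigma' (h : Pk M K) {z : G} (hz : z ∈ K) (t : ℕ) (ht : t.Prime) (hd : t ∣ orderOf z) :
    t ∈ Cfsg.kappa M := h.hall.2.1 t ht (hd.trans (Subgroup.orderOf_dvd_natCard _ hz))

theorem commute {z d : G} (hz : z ∈ K) (hd : d ∈ Dstar M K) : Commute z d :=
  Subgroup.mem_centralizer_iff.mp hd.2 z hz

theorem exists_mul {x : G} (hx : x ∈ Zsub M K) : ∃ k ∈ K, ∃ d ∈ Dstar M K, x = k * d := by
  rw [Zsub, ← SetLike.mem_coe, Subgroup.coe_mul_of_left_le_normalizer_right K (Dstar M K)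
    ((Subgroup.le_centralizer_iff.mp (inf_le_right : Dstar M K ≤ _)).trans (Subgroup.centralizer_le_normalizer _))] at hx
  obtain ⟨k, hk, d, hd, rfl⟩ := Set.mem_mul.mp hx
  exact ⟨k, hk, d, hd, rfl⟩

theorem Z_le (h : Pk M K) : Zsub M K ≤ M := sup_le h.hall.1 (inf_le_left.trans (SigmaTools.sigmaCore_le M))

/-- A `σ(M)'`-element of `Z` lies in `K`. -/
theorem mem_K (h : Pk M K) {x : G} (hx : x ∈ Zsub M K)
    (hσ : ∀ t : ℕ, t.Prime → t ∣ orderOf x → t ∉ Cfsg.sigma M) : x ∈ K := by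
  obtain ⟨k, hk, d, hd, rfl⟩ := exists_mul hx
  have h1 := SupportCosets.parts_eq (π := Cfsg.sigma M) (a := d) (b := k) (c := 1) (d := k * d)
    (commute hk hd).symm (Commute.one_left _) (by rw [one_mul, (commute hk hd).eq])
    (SupportCosets.sigma_number hd.1) (fun t ht htd => (h.sigma' hk t ht htd).2.2.1)
    (fun t ht htd => absurd (Nat.dvd_one.mp (orderOf_one (G := G) ▸ htd)) ht.ne_one) hσ
  rw [h1.1, mul_one]
  exact hk

theorem core_inf_Z (h : Pk M K) : Cfsg.sigmaCore M ⊓ Zsub M K = Dstar M K := by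
  refine le_antisymm (fun x hx => ?_) (le_inf inf_le_left le_sup_right)
  obtain ⟨k, hk, d, hd, rfl⟩ := exists_mul hx.2
  have hk' : k ∈ Cfsg.sigmaCore M := by
    simpa using (Cfsg.sigmaCore M).mul_mem hx.1 ((Cfsg.sigmaCore M).inv_mem hd.1)
  have hk1 : k = 1 := by
    by_contra hk1
    obtain ⟨t, ht, htd⟩ := Nat.exists_prime_and_dvd (mt orderOf_eq_one_iff.mp hk1)
    exact (h.sigma' hk t ht htd).2.2.1 (SupportCosets.sigma_number hk' t ht htd)
  rw [hk1, one_mul]
  exact hd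

theorem card_Z (h : Pk M K) : Nat.card ↥(Zsub M K) = Nat.card K * Nat.card ↥(Dstar M K) := by
  have hdis : Disjoint (Dstar M K) K := disjoint_iff.mpr (le_bot_iff.mp fun x hx => by
    rw [Subgroup.mem_bot]
    by_contra hx1
    obtain ⟨t, ht, htd⟩ := Nat.exists_prime_and_dvd (mt orderOf_eq_one_iff.mp hx1)
    exact (h.sigma' hx.2 t ht htd).2.2.1 (SupportCosets.sigma_number hx.1.1 t ht htd))
  rw [Zsub, sup_comm, Coprime.card_sup_of_le_normalizer ((Subgroup.le_centralizer_iff.mp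
    (inf_le_right : Dstar M K ≤ _)).trans (Subgroup.centralizer_le_normalizer _)) hdis, mul_comm]

theorem centralizer_le (hG : Cfsg.IsMinSimpleOddOrder G) (h : Pk M K) {y : G} (hy : y ∈ Dstar M K)
    (hyp : (orderOf y).Prime) : Subgroup.centralizer ({y} : Set G) ≤ M ∧
      ∀ L : Subgroup G, IsCoatom L → Subgroup.centralizer ({y} : Set G) ≤ L → L = M := by
  haveI := Fact.mk hyp
  obtain ⟨E, U, hs⟩ := h.str hG
  exact ⟨(KappaStar.centralizer_le hG h.coatom hs h.ne hy rfl).1,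
    fun L hL hCL => StarUnique.unique hG h.coatom hs h.ne hy rfl hL hCL⟩

/-- BG 14.7: the partner of a line of `K`. -/
theorem exists_partner (hG : Cfsg.IsMinSimpleOddOrder G) (h : Pk M K) {f : G} (hf : f ∈ K) (hfp : (orderOf f).Prime) :
    ∃ L K' : Subgroup G, Pk L K' ∧ (∀ g : G, L ≠ cj g M) ∧ f ∈ Dstar L K' ∧ Dstar M K ≤ K' ∧ Dstar L K' ≤ K ∧
      Zsub L K' = Zsub M K := by
  haveI := Fact.mk hfp
  obtain ⟨E, U, hs⟩ := h.str hG
  have hM := h.coatom
  obtain ⟨L, hL, hrL, hnc, hNX, hCL⟩ := KappaStar.exists_L hG hM hs hf rfl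
  have hfL : f ∈ L := hCL (Subgroup.mem_centralizer_singleton_iff.mpr rfl)
  have hfσ : f ∈ Cfsg.sigmaCore L := Subgroup.zpowers_le.mp (SigmaTools.pGroup_le_sigmaCore hG hL hrL
    (Subgroup.zpowers_le.mpr hfL) (isPGroup_of_card (line_of_orderOf rfl)))
  have hDC : Dstar M K ≤ Subgroup.centralizer ({f} : Set G) := KappaStar.star_le hs hf
  have hDL : Dstar M K ≤ L := hDC.trans hCL
  have hkey : ∀ y ∈ Dstar M K, (orderOf y).Prime → orderOf y ∈ Cfsg.kappa L ∧
      Subgroup.normalizer (Subgroup.zpowers y : Set G) ≤ M := by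
    intro y hy hyp
    haveI := Fact.mk hyp
    have hps : orderOf y ∈ Cfsg.sigma M := SupportCosets.sigma_number hy.1 _ hyp dvd_rfl
    obtain ⟨h1, h2⟩ := SigmaMutual.mutual_fix hG hM hL hnc hps hrL rfl rfl (SigmaTools.sigmaCore_le M hy.1)
      (hDL hy) (h.hall.1 hf) hfL (commute hf hy).symm
    refine ⟨KappaHall.mem_kappa hG (SigmaMutual.not_sigma_of_nonconj hG hM hL hnc hps) h1 (hDL hy) rfl fun e => ?_, h2⟩
    exact hfp.ne_one (orderOf_eq_one_iff.mpr (Subgroup.mem_bot.mp (e.le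
      ⟨hfσ, Subgroup.mem_centralizer_singleton_iff.mpr (commute hf hy).eq⟩)))
  obtain ⟨K', hK', hDK'⟩ := Coprime.exists_hall_ge (Cfsg.kappa L) (hG.2.2.2 L hL.1) hDL fun t ht hd => by
    haveI := Fact.mk ht
    obtain ⟨y, hy⟩ := exists_prime_orderOf_dvd_card' (G := Dstar M K) t hd
    have hyo : orderOf (y : G) = t := by rw [Subgroup.orderOf_coe, hy]
    exact hyo ▸ (hkey y y.2 (hyo.symm ▸ ht)).1
  obtain ⟨y, hy, hyp⟩ := KappaHall.exists_prime_elem hs.ne_bot
  haveI := Fact.mk hyp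
  have hy1 : y ≠ 1 := fun e => hyp.ne_one (e ▸ orderOf_one)
  have h' : Pk L K' := ⟨hL, fun e => hy1 (Subgroup.mem_bot.mp (e ▸ hDK' hy)), hK'⟩
  obtain ⟨E', U', hs'⟩ := h'.str hG
  have hfD : f ∈ Dstar L K' := (hs'.fix y (hDK' hy) hy1).le
    ⟨hfσ, Subgroup.mem_centralizer_singleton_iff.mpr (commute hf hy).eq⟩
  set Y := Subgroup.zpowers y with hY
  set X := Subgroup.zpowers f with hX
  have hXc : Nat.card X = orderOf f := Nat.card_zpowers f
  have hYc : Nat.card Y = orderOf y := Nat.card_zpowers y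
  have hXK : X ≤ K := Subgroup.zpowers_le.mpr hf
  have hYK' : Y ≤ K' := Subgroup.zpowers_le.mpr (hDK' hy)
  have hZ := hs.inf_normalizer hXK (hXc.symm ▸ hfp)
  have hZ' := hs'.inf_normalizer hYK' (hYc.symm ▸ hyp)
  have hle : Zsub M K ≤ Zsub L K' := by
    refine sup_le ?_ (hDK'.trans le_sup_left)
    refine le_trans (le_inf ((hs.norm X hXK (hXc.symm ▸ hfp)).trans hNX) ?_) hZ'.le
    refine le_trans ?_ (Subgroup.centralizer_le_normalizer _)
    rw [hY, SigmaTools.centralizer_zpowers]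
    exact fun k hk => Subgroup.mem_centralizer_singleton_iff.mpr (commute hk hy).eq
  have hK'Z : K' ≤ Zsub M K := by
    refine le_trans (le_inf ((hs'.norm Y hYK' (hYc.symm ▸ hyp)).trans (hkey y hy hyp).2) ?_) hZ.le
    refine le_trans ?_ (Subgroup.centralizer_le_normalizer _)
    rw [hX, SigmaTools.centralizer_zpowers]
    exact fun k hk => Subgroup.mem_centralizer_singleton_iff.mpr (commute hk hfD).eq
  have hD'M : Dstar L K' ≤ M := fun d hd => (centralizer_le hG h hy hyp).1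
    (Subgroup.mem_centralizer_singleton_iff.mpr (commute (hDK' hy) hd).symm.eq)
  have hD'σ : ∀ x ∈ Dstar L K', ∀ t : ℕ, t.Prime → t ∣ orderOf x → t ∉ Cfsg.sigma M := fun x hx t ht hd hs' =>
    SupportCosets.disjoint hG hM hL hnc ht hs' (SupportCosets.sigma_number hx.1 t ht hd)
  have hD'K : Dstar L K' ≤ K := by
    refine KappaHall.le_of_sylows fun u hu => ?_
    haveI := Fact.mk hu
    by_cases hud : u ∣ Nat.card ↥(Dstar L K')
    swap
    · obtain ⟨R⟩ : Nonempty (Sylow u ↥(Dstar L K')) := inferInstance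
      refine ⟨R, ?_⟩
      rcases R.isPGroup'.card_eq_or_dvd with h1 | h1
      · rw [Subgroup.eq_bot_of_card_eq _ h1, Subgroup.map_bot]
        exact bot_le
      · exact absurd (h1.trans (Subgroup.card_subgroup_dvd_card _)) hud
    obtain ⟨f₀, hf₀⟩ := exists_prime_orderOf_dvd_card' (G := Dstar L K') u hud
    have hf₀o : orderOf (f₀ : G) = u := by rw [Subgroup.orderOf_coe, hf₀]
    obtain ⟨hu1, -⟩ := SigmaMutual.mutual_fix hG hL hM (fun g e => hnc g⁻¹ (by
        rw [e, SigmaFusion.cj_cj, inv_mul_cancel, SigmaFusion.cj_one]))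
      (SupportCosets.sigma_number f₀.2.1 u hu (hf₀o ▸ dvd_rfl)) (SupportCosets.sigma_number hy.1 _ hyp dvd_rfl)
      hf₀o rfl (SigmaTools.sigmaCore_le L f₀.2.1) (hD'M f₀.2) (hDL hy) (SigmaTools.sigmaCore_le M hy.1)
      (commute (hDK' hy) f₀.2).symm
    have huk : u ∈ Cfsg.kappa M := KappaHall.mem_kappa hG (hD'σ _ f₀.2 u hu (hf₀o ▸ dvd_rfl)) hu1
      (hD'M f₀.2) hf₀o fun e => hy1 (Subgroup.mem_bot.mp (e.le
        ⟨hy.1, Subgroup.mem_centralizer_singleton_iff.mpr (commute (hDK' hy) f₀.2).eq⟩))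
    obtain ⟨f', hf'⟩ := exists_prime_orderOf_dvd_card' (G := K) u (KappaHall.dvd_card_of_hall h.hall hu huk
      (hf₀o ▸ Subgroup.orderOf_dvd_natCard _ (hD'M f₀.2)))
    have hf'o : orderOf (f' : G) = u := by rw [Subgroup.orderOf_coe, hf']
    set X' := Subgroup.zpowers (f' : G) with hX'
    have hX'c : Nat.card X' = u := line_of_orderOf hf'o
    have hX'D : X' ≤ Dstar L K' := by
      rw [← core_inf_Z h']
      have hZX' : X' ≤ Zsub L K' := (Subgroup.zpowers_le.mpr f'.2).trans (le_sup_left.trans hle)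
      exact le_inf (SigmaTools.pGroup_le_sigmaCore hG hL
        (hf₀o ▸ SupportCosets.sigma_number f₀.2.1 _ (hf₀o.symm ▸ hu) dvd_rfl)
        (hZX'.trans (Z_le h')) (isPGroup_of_card hX'c)) hZX'
    obtain ⟨R, hR⟩ := ((isPGroup_of_card hX'c).of_equiv (Subgroup.subgroupOfEquivOfLe hX'D).symm).exists_le_sylow
    refine ⟨R, ?_⟩
    set R₁ := (R : Subgroup ↥(Dstar L K')).map (Dstar L K').subtype with hR₁
    have hR₁D : R₁ ≤ Dstar L K' := Subgroup.map_subtype_le _
    have hX'R : X' ≤ R₁ := fun z hz => ⟨⟨z, hX'D hz⟩, hR (Subgroup.mem_subgroupOf.mpr hz), rfl⟩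
    haveI := SigmaComplement.isCyclic_of_rank_one hG.1 (hR₁D.trans hD'M) (R.isPGroup'.map _) hu1
    letI := IsCyclic.commGroup (α := R₁)
    have hRC : R₁ ≤ Subgroup.centralizer (X' : Set G) := fun a ha => Subgroup.mem_centralizer_iff.mpr fun b hb =>
      congrArg Subtype.val (mul_comm (⟨b, hX'R hb⟩ : R₁) ⟨a, ha⟩)
    have hX'K : X' ≤ K := Subgroup.zpowers_le.mpr f'.2
    intro z hz
    have hzZ : z ∈ Zsub M K := (hs.inf_normalizer hX'K (hX'c.symm ▸ hu)).le
      ⟨hD'M (hR₁D hz), Subgroup.centralizer_le_normalizer _ (hRC hz)⟩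
    exact mem_K h hzZ (hD'σ z (hR₁D hz))
  exact ⟨L, K', h', hnc, hfD, hDK', hD'K,
    le_antisymm (sup_le hK'Z (hD'K.trans le_sup_left)) hle⟩

end CfsgLib.OddOrder.StarPartner
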