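import Cfsg.Agent.Lib.OddOrder.SigmaExponent
import Cfsg.Agent.Lib.OddOrder.Replacement
import Cfsg.Agent.S1419
import Mathlib

set_option autoImplicit false
set_option linter.style.haveILetI false
set_option linter.unusedSectionVars false

/-!
`M` is the only maximal subgroup over the centraliser of an element of prime order of `K*`.
-/

namespace CfsgLib.OddOrder.StarUnique

open scoped commutatorElement
open SigmaFusion (cj)
open RankOneTools (line_of_orderOf isPGroup_of_card ne_bot_of_card)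
open KappaHall (Str)

variable {G : Type*} [Group G] [Finite G] {p : ℕ} [hp : Fact p.Prime] {M E K U : Subgroup G}

theorem zpowers_inf_eq_bot {a b : G} (ha : orderOf a = p) (h : a ∉ Subgroup.zpowers b) :
    Subgroup.zpowers a ⊓ Subgroup.zpowers b = ⊥ := by
  rcases (Nat.dvd_prime hp.out).mp (line_of_orderOf ha ▸
    Subgroup.card_dvd_of_le (inf_le_left : Subgroup.zpowers a ⊓ Subgroup.zpowers b ≤ _)) with h1 | h1
  · exact Subgroup.eq_bot_of_card_eq _ h1
  · exact absurd (Subgroup.zpowers_le.mp ((Subgroup.eq_of_le_of_card_ge inf_le_left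
      ((line_of_orderOf ha).le.trans h1.ge)).ge.trans inf_le_right)) h

theorem sup_line {X : Subgroup G} (hX : Cfsg.IsElementaryAbelian p X) {a : G} (ha : orderOf a = p) (haX : a ∉ X)
    (hc : X ≤ Subgroup.centralizer ({a} : Set G)) :
    Cfsg.IsElementaryAbelian p (Subgroup.zpowers a ⊔ X) ∧
      Nat.card ↥(Subgroup.zpowers a ⊔ X) = p * Nat.card X := by
  have hax : Subgroup.zpowers a ≤ Subgroup.centralizer (X : Set G) :=
    Subgroup.le_centralizer_iff.mp (hc.trans (SigmaTools.centralizer_zpowers a).ge)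
  refine ⟨Replacement.isEA_sup (Replacement.isEA_zpowers (ha ▸ pow_orderOf_eq_one a)) hX hax, ?_⟩
  have hd : Disjoint (Subgroup.zpowers a) X := by
    rw [disjoint_iff]
    rcases (Nat.dvd_prime hp.out).mp (line_of_orderOf ha ▸
      Subgroup.card_dvd_of_le (inf_le_left : Subgroup.zpowers a ⊓ X ≤ _)) with h1 | h1
    · exact Subgroup.eq_bot_of_card_eq _ h1
    · exact absurd (Subgroup.zpowers_le.mp ((Subgroup.eq_of_le_of_card_ge inf_le_left
        ((line_of_orderOf ha).le.trans h1.ge)).ge.trans inf_le_right)) haX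
  rw [sup_comm, Coprime.card_sup_of_le_normalizer (hax.trans (Subgroup.centralizer_le_normalizer _)) hd.symm,
    line_of_orderOf ha, mul_comm]

/-- BG 14.7: `M` is the only maximal subgroup containing `C(y)` for `y ∈ K*` of prime order. -/
theorem unique (hG : Cfsg.IsMinSimpleOddOrder G) (hM : IsCoatom M) (h : Str M E K U) (hK1 : K ≠ ⊥) {y : G}
    (hy : y ∈ Cfsg.sigmaCore M ⊓ Subgroup.centralizer (K : Set G)) (hyo : orderOf y = p) {L : Subgroup G}
    (hL : IsCoatom L) (hCL : Subgroup.centralizer ({y} : Set G) ≤ L) : L = M := by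
  obtain ⟨hCM, L₀, -, hDL₀, hL₀1⟩ := KappaStar.centralizer_le hG hM h hK1 hy hyo
  obtain ⟨f, hfK, hfo⟩ := KappaHall.exists_prime_elem hK1
  have hf1 : f ≠ 1 := fun e => hfo.ne_one (e ▸ orderOf_one)
  set V := Cfsg.sigmaCore M with hV
  have hVM : V ≤ M := SigmaTools.sigmaCore_le M
  have hy1 : y ≠ 1 := fun e => hp.out.ne_one (by rw [← hyo, e, orderOf_one])
  have hps : p ∈ Cfsg.sigma M := SigmaTools.mem_sigma_of_card (hyo ▸ Subgroup.orderOf_dvd_natCard _ hy.1)
  have hfy : Commute f y := (show f * y = y * f from Subgroup.mem_centralizer_iff.mp hy.2 f hfK)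
  have hsol : Group.IsSolvable V := hG.2.2.2 _ fun e => hM.1 (top_le_iff.mp (e ▸ hVM))
  have hKV : K ≤ Subgroup.normalizer (V : Set G) :=
    (h.le.trans h.compl.1).trans (SigmaTools.le_normalizer_sigmaCore M)
  have hcopK : (Nat.card K).Coprime (Nat.card V) := Nat.coprime_of_dvd fun t ht h1 h2 => by
    haveI := Fact.mk ht
    exact SigmaComplement.not_dvd_card hG hM h.compl (SigmaTools.mem_sigma_of_card h2)
      (h1.trans (Subgroup.card_dvd_of_le h.le))
  obtain ⟨P, hyP, hKP⟩ := Coprime.exists_le_invariant_sylow hKV hcopK (Or.inr hsol)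
    (U := Subgroup.zpowers y) (Subgroup.zpowers_le.mpr hy.1) (isPGroup_of_card (line_of_orderOf hyo))
    (fun k hk => Subgroup.centralizer_le_normalizer _ (by
      rw [SigmaTools.centralizer_zpowers]
      exact Subgroup.mem_centralizer_singleton_iff.mpr (Subgroup.mem_centralizer_iff.mp hy.2 k hk)))
  set S := (P : Subgroup V).map V.subtype with hS
  have hSV : S ≤ V := Subgroup.map_subtype_le _
  have hSp : IsPGroup p S := P.isPGroup'.map _
  have hSy : y ∈ S := hyP (Subgroup.mem_zpowers y)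
  obtain ⟨hSu, -⟩ := KappaStar.sylow hG hM h hK1 (hyo ▸ Subgroup.orderOf_dvd_natCard _ hy) P
  have huniq : S ≤ L → L = M := fun hle => hSu.unique ⟨hL, hle⟩ ⟨hM, hSV.trans hVM⟩
  by_contra hne
  -- `y` is not central in `S`
  obtain ⟨s, hs, hsy⟩ : ∃ s ∈ S, s * y ≠ y * s := by
    by_contra hall
    push Not at hall
    exact hne (huniq (le_trans (fun s hs => Subgroup.mem_centralizer_singleton_iff.mpr (hall s hs)) hCL))
  haveI : Nontrivial S := ⟨⟨⟨y, hSy⟩, 1, fun e => hy1 (congrArg Subtype.val e)⟩⟩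
  haveI := hSp.center_nontrivial
  obtain ⟨z₀, hz₀⟩ := exists_prime_orderOf_dvd_card' (G := Subgroup.center S) p
    ((hSp.to_subgroup (Subgroup.center S)).card_eq_or_dvd.resolve_left Finite.one_lt_card.ne')
  set z := ((z₀ : S) : G) with hz
  have hzS : z ∈ S := (z₀ : S).2
  have hzo : orderOf z = p := by rw [hz, Subgroup.orderOf_coe, Subgroup.orderOf_coe, hz₀]
  have hzc : ∀ u ∈ S, u * z = z * u := fun u hu =>
    congrArg Subtype.val (Subgroup.mem_center_iff.mp z₀.2 ⟨u, hu⟩)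
  have hzy : z ∉ Subgroup.zpowers y := fun hmem => hsy (by
    obtain ⟨i, hi⟩ := Subgroup.mem_zpowers_iff.mp hmem
    have hz1 : z ≠ 1 := fun e => hp.out.ne_one (by rw [← hzo, e, orderOf_one])
    have heq := (FPFTools.line_eq_zpowers (line_of_orderOf hyo) hmem hz1).1
    obtain ⟨j, hj⟩ := Subgroup.mem_zpowers_iff.mp (heq.ge (Subgroup.mem_zpowers y))
    rw [← hj]
    exact ((show Commute s z from hzc s hs).zpow_right j).eq)
  obtain ⟨hAe, hA2⟩ := sup_line (Replacement.isEA_zpowers (hyo ▸ pow_orderOf_eq_one y)) hzo hzy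
    (Subgroup.zpowers_le.mpr (Subgroup.mem_centralizer_singleton_iff.mpr (hzc y hSy)))
  rw [line_of_orderOf hyo, ← sq] at hA2
  set A := Subgroup.zpowers z ⊔ Subgroup.zpowers y with hA
  have hzC : z ∈ Subgroup.centralizer ({y} : Set G) := Subgroup.mem_centralizer_singleton_iff.mpr (hzc y hSy).symm
  have hAC : A ≤ Subgroup.centralizer ({y} : Set G) :=
    sup_le (Subgroup.zpowers_le.mpr hzC) (Subgroup.zpowers_le.mpr (Subgroup.mem_centralizer_singleton_iff.mpr rfl))
  have hAM : A ≤ M := hAC.trans hCM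
  have hAL : A ≤ L := hAC.trans hCL
  -- `f` normalises `⟨z⟩`
  have hfz : f * z * f⁻¹ ∈ Subgroup.zpowers z := by
    by_contra hout
    set z' := f * z * f⁻¹ with hz'
    have hfS := Subgroup.mem_normalizer_iff.mp (hKP hfK)
    have hz'S : z' ∈ S := (hfS z).mp hzS
    have hz'o : orderOf z' = p := (MulEquiv.orderOf_eq (MulAut.conj f) z).trans hzo
    have hz'c : ∀ u ∈ S, u * z' = z' * u := fun u hu => by
      have h1 := hzc (f⁻¹ * u * f) ((hfS _).mpr (by simpa [mul_assoc] using hu))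
      calc u * z' = f * (f⁻¹ * u * f * z) * f⁻¹ := by rw [hz']; group
        _ = f * (z * (f⁻¹ * u * f)) * f⁻¹ := by rw [h1]
        _ = _ := by rw [hz']; group
    have hz'A : z' ∉ A := fun hmem => hout (by
      rw [hA, ← SetLike.mem_coe, Subgroup.coe_mul_of_left_le_normalizer_right _ _
        (Subgroup.zpowers_le.mpr (Subgroup.centralizer_le_normalizer _
          ((SigmaTools.centralizer_zpowers y).ge hzC)))] at hmem
      obtain ⟨a, ha, b, hb, hab⟩ := Set.mem_mul.mp hmem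
      obtain ⟨i, rfl⟩ := Subgroup.mem_zpowers_iff.mp ha
      by_cases hb1 : b = 1
      · rw [← hab, hb1, mul_one]; exact ha
      exfalso
      refine hsy ?_
      have hsb : Commute s b := by
        have h2 : Commute s (z ^ i * b) := hab.symm ▸ hz'c s hs
        have h3 : Commute s ((z ^ i)⁻¹ * (z ^ i * b)) := ((show Commute s z from hzc s hs).zpow_right i).inv_right.mul_right h2
        rwa [inv_mul_cancel_left] at h3
      obtain ⟨j, hj⟩ := Subgroup.mem_zpowers_iff.mp
        ((FPFTools.line_eq_zpowers (line_of_orderOf hyo) hb hb1).1.ge (Subgroup.mem_zpowers y))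
      rw [← hj]
      exact (hsb.zpow_right j).eq)
    obtain ⟨h3e, h3c⟩ := sup_line hAe hz'o hz'A (sup_le
      (Subgroup.zpowers_le.mpr (Subgroup.mem_centralizer_singleton_iff.mpr (hz'c z hzS)))
      (Subgroup.zpowers_le.mpr (Subgroup.mem_centralizer_singleton_iff.mpr (hz'c y hSy))))
    have h3C : Subgroup.zpowers z' ⊔ A ≤ Subgroup.centralizer ({y} : Set G) :=
      sup_le (Subgroup.zpowers_le.mpr (Subgroup.mem_centralizer_singleton_iff.mpr (hz'c y hSy).symm)) hAC
    exact hne ((UniquenessTheorem.rank_three hG h3e (by rw [h3c, hA2, pow_succ'])).unique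
      ⟨hL, h3C.trans hCL⟩ ⟨hM, h3C.trans hCM⟩)
  -- the situation in `L`
  have hnc : ∀ g : G, L ≠ cj g M := fun g e => by
    by_cases hg : g ∈ M
    · exact hne (e.trans (SigmaFusion.cj_eq_self (Subgroup.le_normalizer hg)))
    · exact hy1 (Subgroup.mem_bot.mp ((KappaStar.ti hG hM h hK1 hg).le
        ⟨hy, e ▸ hCL (Subgroup.mem_centralizer_singleton_iff.mpr rfl)⟩))
  have hpL : p ∉ Cfsg.sigma L := SigmaMutual.not_sigma_of_nonconj hG hM hL hnc hps
  have hτ : p ∈ Cfsg.tau2 L := by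
    refine ⟨hp.out, hpL, ?_, UniqueTools.not_pRankLE_of_isEA hAe hA2.ge hAL⟩
    by_contra hr
    exact hpL (SigmaBasics.mem_sigma_of_alpha hG hL ⟨hp.out, hr⟩)
  obtain ⟨A₀, hExc⟩ := TauTwoStructure.exists_exc hG hL hpL hAL hAe hA2
  have hLM : Cfsg.sigmaCore L ⊓ M = ⊥ := TauTwoStructure.inter_eq_bot hG hExc hM (Ne.symm hne) hAM
  obtain ⟨E', hE', hAE'⟩ := Coprime.exists_hall_ge {t | t ∉ Cfsg.sigma L} (hG.2.2.2 L hL.1) hAL fun t ht hd => by
    rw [hA2] at hd
    rw [(Nat.prime_dvd_prime_iff_eq ht hp.out).mp (ht.dvd_of_dvd_pow hd)]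
    exact hpL
  have hE'c := SylowCentral.isComplIn_of_hall hG hL hE'
  obtain ⟨T, hST⟩ := hSp.exists_le_sylow
  have hna : ¬ IsMulCommutative (T : Subgroup G) := fun hc =>
    hsy (PlaneSylow.comm_of hc (hST hs) (hST hSy)).eq
  obtain ⟨-, ⟨hA₀c, -⟩, -⟩ := Cfsg.Agent.S1419.result hG L hL E' hE'c p hτ
    (fun S' => FrobeniusCriterion.nonabelian_all hna) A ⟨hAE', hAe, hA2⟩
  set B := A ⊓ Subgroup.centralizer (Cfsg.sigmaCore L : Set G) with hB
  have hLB : Cfsg.sigmaCore L ≤ Subgroup.centralizer (B : Set G) :=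
    Subgroup.le_centralizer_iff.mp inf_le_right
  have hB1 : B ≠ ⊥ := ne_bot_of_card hA₀c
  have hBy : y ∉ B := fun hmem => SigmaCore.sigmaCore_ne_bot hG hL (by
    rw [← hLM, eq_comm, inf_eq_left]
    exact hLB.trans ((Subgroup.centralizer_le (Set.singleton_subset_iff.mpr hmem)).trans hCM))
  have hBz : z ∉ B := fun hmem => by
    obtain ⟨hCBL, -⟩ := (Cfsg.Agent.S1418.result hG L hL E' hE'c p hτ A ⟨hAE', hAe, hA2⟩).2.2 B inf_le_left hA₀c
      (by rw [inf_eq_left.mpr hLB]; exact SigmaCore.sigmaCore_ne_bot hG hL)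
    refine hne (huniq ?_)
    have hz1 : z ≠ 1 := fun e => hp.out.ne_one (by rw [← hzo, e, orderOf_one])
    rw [← (FPFTools.line_eq_zpowers hA₀c hmem hz1).1, SigmaTools.centralizer_zpowers] at hCBL
    exact le_trans (fun s hs => Subgroup.mem_centralizer_singleton_iff.mpr (hzc s hs)) hCBL
  -- `f` normalises `B`, so it centralises `z`
  have hfC : f ∈ Subgroup.centralizer ({y} : Set G) := Subgroup.mem_centralizer_singleton_iff.mpr hfy.eq
  have hyz : ∀ a ∈ A, ∃ i j : ℤ, a = z ^ i * y ^ j := fun a ha => by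
    rw [hA, ← SetLike.mem_coe, Subgroup.coe_mul_of_left_le_normalizer_right _ _
      (Subgroup.zpowers_le.mpr (Subgroup.centralizer_le_normalizer _
        ((SigmaTools.centralizer_zpowers y).ge hzC)))] at ha
    obtain ⟨u, hu, v, hv, rfl⟩ := Set.mem_mul.mp ha
    obtain ⟨i, rfl⟩ := Subgroup.mem_zpowers_iff.mp hu
    obtain ⟨j, rfl⟩ := Subgroup.mem_zpowers_iff.mp hv
    exact ⟨i, j, rfl⟩
  obtain ⟨b, hb, hb1⟩ := B.bot_or_exists_ne_one.resolve_left hB1
  obtain ⟨i, j, hbe⟩ := hyz b hb.1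
  have hconj : f * b * f⁻¹ = (f * z ^ i * f⁻¹) * y ^ j := by
    rw [hbe]
    calc f * (z ^ i * y ^ j) * f⁻¹ = f * z ^ i * f⁻¹ * (f * y ^ j * f⁻¹) := by group
      _ = _ := by rw [(hfy.zpow_right j).eq, mul_inv_cancel_right]
  have hfzi : f * z ^ i * f⁻¹ ∈ Subgroup.zpowers z := by
    rw [← conj_zpow]; exact Subgroup.zpow_mem _ hfz i
  have hfb : f * b * f⁻¹ ∈ B := by
    refine ⟨hconj ▸ mul_mem (Subgroup.mem_sup_left hfzi) (Subgroup.mem_sup_right ⟨j, rfl⟩), ?_⟩
    have hfN := WLine.normalizer_le_normalizer_centralizer _ (SigmaTools.le_normalizer_sigmaCore L (hCL hfC))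
    exact (Subgroup.mem_normalizer_iff.mp hfN b).mp hb.2
  have hd : f * z ^ i * f⁻¹ * (z ^ i)⁻¹ ∈ B ⊓ Subgroup.zpowers z := by
    refine ⟨?_, (Subgroup.zpowers z).mul_mem hfzi ((Subgroup.zpowers z).inv_mem ⟨i, rfl⟩)⟩
    have h1 := B.mul_mem hfb (B.inv_mem hb)
    rwa [hconj, hbe, mul_inv_rev, ← mul_assoc, mul_inv_cancel_right] at h1
  have hbot : B ⊓ Subgroup.zpowers z = ⊥ := by
    rw [inf_comm]
    rcases (Nat.dvd_prime hp.out).mp (line_of_orderOf hzo ▸
      Subgroup.card_dvd_of_le (inf_le_left : Subgroup.zpowers z ⊓ B ≤ _)) with h1 | h1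
    · exact Subgroup.eq_bot_of_card_eq _ h1
    · exact absurd (Subgroup.zpowers_le.mp ((Subgroup.eq_of_le_of_card_ge inf_le_left
        ((line_of_orderOf hzo).le.trans h1.ge)).ge.trans inf_le_right)) hBz
  rw [hbot, Subgroup.mem_bot, mul_inv_eq_one, mul_inv_eq_iff_eq_mul] at hd
  have hzi : z ^ i ≠ 1 := fun e => hBy (by
    have hby : b ∈ Subgroup.zpowers y := by rw [hbe, e, one_mul]; exact ⟨j, rfl⟩
    have h2 := (FPFTools.line_eq_zpowers (line_of_orderOf hyo) hby hb1).1
    exact Subgroup.zpowers_le.mpr hb (h2.ge (Subgroup.mem_zpowers y)))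
  obtain ⟨k, hk⟩ := Subgroup.mem_zpowers_iff.mp
    ((FPFTools.line_eq_zpowers (line_of_orderOf hzo) ⟨i, rfl⟩ hzi).1.ge (Subgroup.mem_zpowers z))
  have hzf : Commute f z := hk ▸ (show Commute f (z ^ i) from hd).zpow_right k
  have hzD : z ∈ V ⊓ Subgroup.centralizer (K : Set G) := (h.fix f hfK hf1).le
    ⟨hSV hzS, Subgroup.mem_centralizer_singleton_iff.mpr hzf.symm.eq⟩
  exact UniqueTools.not_pRankLE_of_isEA hAe hA2.ge
    ((sup_le (Subgroup.zpowers_le.mpr hzD) (Subgroup.zpowers_le.mpr hy)).trans hDL₀) hL₀1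

end CfsgLib.OddOrder.StarUnique
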