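import Cfsg.Agent.Lib.OddOrder.SigmaMutual
import Cfsg.Agent.Lib.OddOrder.CommonMover
import Cfsg.Agent.S1427
import Mathlib

set_option autoImplicit false
set_option linter.style.haveILetI false
set_option linter.unusedSectionVars false

/-!
If a line of `τ₃(M)` has fixed points on `M_σ`, a complement of `M_σ` acts on `M_σ` in a prime manner and
centralises that line in prime order.
-/

namespace CfsgLib.OddOrder.TauThree

open scoped commutatorElement
open SigmaFusion (cj)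
open RankOneTools (isPGroup_of_card ne_bot_of_card line_of_orderOf)

variable {G : Type*} [Group G] [Finite G] {p r s : ℕ} [hp : Fact p.Prime] [hrf : Fact r.Prime] [hsf : Fact s.Prime]
  {M L E P : Subgroup G}

/-- A line not centralised by `x` meets `C(x)` trivially. -/
theorem line_fpf {x : G} (hP : Nat.card P = p) (hx : ¬ P ≤ Subgroup.centralizer ({x} : Set G)) :
    P ⊓ Subgroup.centralizer ({x} : Set G) = ⊥ := by
  rcases (Nat.dvd_prime hp.out).mp (hP ▸ Subgroup.card_dvd_of_le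
    (inf_le_left : P ⊓ Subgroup.centralizer ({x} : Set G) ≤ P)) with h | h
  · exact Subgroup.eq_bot_of_card_eq _ h
  · refine absurd ?_ hx
    rw [← Subgroup.eq_of_le_of_card_ge inf_le_left (hP.le.trans h.ge)]
    exact inf_le_right

theorem tau1_mem {e : G} (heM : e ∈ M) (he : orderOf e = r) (hrs : r ∉ Cfsg.sigma M)
    (hd : ¬ r ∣ Nat.card ↥⁅M, M⁆) (hr1 : Cfsg.PRankLE r 1 M) : r ∈ Cfsg.tau1 M :=
  ⟨hrf.out, hrs, he ▸ Subgroup.orderOf_dvd_natCard _ heM, hd, hr1⟩

/-- Prime action for commuting elements. -/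
theorem pa (hG : Cfsg.IsMinSimpleOddOrder G) (hM : IsCoatom M) {e f : G} (hτ : r ∈ Cfsg.tau1 M) (heM : e ∈ M)
    (he : orderOf e = r) (hfM : f ∈ M) (hf : orderOf f = s) (hss : s ∉ Cfsg.sigma M) (hef : Commute e f) :
    Cfsg.sigmaCore M ⊓ Subgroup.centralizer ({e} : Set G) ≤ Subgroup.centralizer ({f} : Set G) := by
  rw [← SigmaTools.centralizer_zpowers e, ← SigmaTools.centralizer_zpowers f]
  refine PrimeActionMain.main hG hM hτ hss (Subgroup.zpowers_le.mpr heM) (line_of_orderOf he)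
    (Subgroup.zpowers_le.mpr hfM) (line_of_orderOf hf) (Subgroup.zpowers_le.mpr ?_)
  rw [SigmaTools.centralizer_zpowers]
  exact Subgroup.mem_centralizer_singleton_iff.mpr hef.symm.eq

/-- Lines in `M'` outside `σ(M)` of rank one are normal in a complement and centralised by its derived group. -/
theorem derived_line (hG : Cfsg.IsMinSimpleOddOrder G) (hM : IsCoatom M)
    (hE : Cfsg.IsComplIn E (Cfsg.sigmaCore M) M) (hrs : r ∉ Cfsg.sigma M) (hr1 : Cfsg.PRankLE r 1 M)
    (hd : r ∣ Nat.card ↥⁅M, M⁆) {Z : Subgroup G} (hZ : Nat.card Z = r) (hZE : Z ≤ E) :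
    Z ≤ ⁅E, E⁆ ∧ E ≤ Subgroup.normalizer (Z : Set G) ∧ ⁅E, E⁆ ≤ Subgroup.centralizer (Z : Set G) := by
  obtain ⟨y, hy, hyo⟩ := RankOneTools.exists_derived_elem hG hM hE hrs hd
  have hEd := SigmaComplement.derived_le_self E
  have hZd : Z ≤ ⁅E, E⁆ := RankOneTools.mem_of_rank_one hG.1 hE.1 hr1 hEd (WLine.le_normalizer_derived E)
    (hyo ▸ Subgroup.orderOf_dvd_natCard _ hy) hZ hZE
  haveI := PrimeAction.derived_abelian hG hM hE
  have hC : ⁅E, E⁆ ≤ Subgroup.centralizer (Z : Set G) :=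
    (⁅E, E⁆).le_centralizer.trans (Subgroup.centralizer_le (SetLike.coe_subset_coe.mpr hZd))
  refine ⟨hZd, fun g hg => Subgroup.mem_normalizer_iff_map_conj_eq.mpr ?_, hC⟩
  have hgd : cj g Z ≤ ⁅E, E⁆ := (Subgroup.map_mono hZd).trans
    (Subgroup.mem_normalizer_iff_map_conj_eq.mp (WLine.le_normalizer_derived E hg)).le
  exact PrimeAction.eq_of_rank_one hr1 (by rw [Subgroup.card_map_of_injective (MulAut.conj g).injective, hZ]) hZ
    ((hgd.trans hEd).trans hE.1) (hZE.trans hE.1) (hgd.trans hC)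

/-- A normal line of a complement, of rank one, does not centralise `M_σ`. -/
theorem not_central (hG : Cfsg.IsMinSimpleOddOrder G) (hM : IsCoatom M) (hE : Cfsg.IsComplIn E (Cfsg.sigmaCore M) M)
    (hps : p ∉ Cfsg.sigma M) (hr1 : Cfsg.PRankLE p 1 M) (hP : Nat.card P = p)
    (hEP : E ≤ Subgroup.normalizer (P : Set G)) :
    ¬ P ≤ Subgroup.centralizer (Cfsg.sigmaCore M : Set G) := fun h => by
  obtain ⟨N, hN, hNP⟩ := Uniqueness.exists_coatom_normalizer (p := p) hG.2 (ne_bot_of_card hP) (isPGroup_of_card hP)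
  have hMN : M ≤ Subgroup.normalizer (P : Set G) := fun m hm => by
    obtain ⟨a, ha, b, hb, rfl⟩ := hE.2.2.2 m hm
    exact mul_mem (hEP ha) (Subgroup.centralizer_le_normalizer _ (Subgroup.le_centralizer_iff.mp h hb))
  have hNM : N = M := (hM.le_iff.mp (hMN.trans hNP)).resolve_left hN.1
  exact (TauTwo.of_normalizer_le hG hM hps hP (hNM ▸ hNP)).1.2 hr1

/-- An element moving a normal line has fixed points on `M_σ` not centralised by the line. -/
theorem frob (hG : Cfsg.IsMinSimpleOddOrder G) (hM : IsCoatom M) (hE : Cfsg.IsComplIn E (Cfsg.sigmaCore M) M)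
    (hps : p ∉ Cfsg.sigma M) (hr1 : Cfsg.PRankLE p 1 M) (hP : Nat.card P = p) (hPM : P ≤ M)
    (hEP : E ≤ Subgroup.normalizer (P : Set G)) {e : G} (heM : e ∈ M) (he : orderOf e = r)
    (hrs : r ∉ Cfsg.sigma M) (heP : e ∈ Subgroup.normalizer (P : Set G))
    (hmv : ¬ P ≤ Subgroup.centralizer ({e} : Set G)) :
    ¬ Cfsg.sigmaCore M ⊓ Subgroup.centralizer ({e} : Set G) ≤ Subgroup.centralizer (P : Set G) := fun h => by
  haveI : Group.IsSolvable (Cfsg.sigmaCore M) :=
    hG.2.2.2 _ fun e => hM.1 (top_le_iff.mp (e ▸ SigmaTools.sigmaCore_le M))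
  exact not_central hG hM hE hps hr1 hP hEP (RankOneTools.centralizes_of_fix_le (r := r) hrf.out
    (he ▸ pow_orderOf_eq_one e) (SigmaTools.le_normalizer_sigmaCore M heM)
    (hPM.trans (SigmaTools.le_normalizer_sigmaCore M)) heP (line_fpf hP hmv)
    (hP ▸ SigmaTools.coprime_sigmaCore hps) (SigmaTools.coprime_sigmaCore hrs) h)

/-- Elements of prime order outside `M'` commute after conjugation. -/
theorem exists_commute (hG : Cfsg.IsMinSimpleOddOrder G) (hM : IsCoatom M)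
    (hE : Cfsg.IsComplIn E (Cfsg.sigmaCore M) M) {e f : G} (heE : e ∈ E) (he : orderOf e = r)
    (hed : ¬ r ∣ Nat.card ↥⁅M, M⁆) (hfE : f ∈ E) (hf : orderOf f = s) (hfd : ¬ s ∣ Nat.card ↥⁅M, M⁆) :
    ∃ g ∈ E, Commute e (g * f * g⁻¹) := by
  have hsol : Group.IsSolvable E := hG.2.2.2 E fun h => hM.1 (top_le_iff.mp (h ▸ hE.1))
  set π : Set ℕ := {t | ¬ t ∣ Nat.card ↥⁅M, M⁆} with hπ
  have hline : ∀ {y : G} {t : ℕ}, t.Prime → orderOf y = t → ¬ t ∣ Nat.card ↥⁅M, M⁆ →
      ∀ u : ℕ, u.Prime → u ∣ Nat.card (Subgroup.zpowers y) → u ∈ π := fun {y t} ht hy hyd u hu hd => by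
    rw [Nat.card_zpowers, hy] at hd
    rw [(Nat.prime_dvd_prime_iff_eq hu ht).mp hd]
    exact hyd
  obtain ⟨J, hJ, heJ⟩ := Coprime.exists_hall_ge π hsol (Subgroup.zpowers_le.mpr heE) (hline hrf.out he hed)
  obtain ⟨K, hK, hfK⟩ := Coprime.exists_hall_ge π hsol (Subgroup.zpowers_le.mpr hfE) (hline hsf.out hf hfd)
  obtain ⟨g, hg, hgK⟩ := Coprime.hall_conj hsol hK hJ
  refine ⟨g, hg, ?_⟩
  have hJab : ⁅J, J⁆ = ⊥ := by
    refine Subgroup.eq_bot_of_card_eq _ ?_
    by_contra hne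
    obtain ⟨u, hu, hd⟩ := Nat.exists_prime_and_dvd hne
    exact hJ.2.1 u hu (hd.trans (Subgroup.card_dvd_of_le (SigmaComplement.derived_le_self J)))
      (hd.trans (Subgroup.card_dvd_of_le (Subgroup.commutator_mono (hJ.1.trans hE.1) (hJ.1.trans hE.1))))
  have h1 : g * f * g⁻¹ ∈ J := hgK.le ⟨f, hfK (Subgroup.mem_zpowers f), by simp⟩
  exact (Subgroup.mem_centralizer_iff.mp
    (Subgroup.commutator_eq_bot_iff_le_centralizer.mp hJab (heJ (Subgroup.mem_zpowers e))) _ h1).symm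

/-- A line of `M'` outside `σ(M)`, of rank one, with fixed points on `M_σ`; `L` contains its normalizer. -/
structure T3 (p : ℕ) (M P L : Subgroup G) : Prop where
  hM : IsCoatom M
  hps : p ∉ Cfsg.sigma M
  hr1 : Cfsg.PRankLE p 1 M
  hd : p ∣ Nat.card ↥⁅M, M⁆
  hP : Nat.card P = p
  hPM : P ≤ M
  hfix : Cfsg.sigmaCore M ⊓ Subgroup.centralizer (P : Set G) ≠ ⊥
  hL : IsCoatom L
  hNP : Subgroup.normalizer (P : Set G) ≤ L

theorem T3.mem_sigma (hG : Cfsg.IsMinSimpleOddOrder G) (h : T3 p M P L) : p ∈ Cfsg.sigma L :=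
  SigmaMutual.mem_sigma_of_fixed hG h.hM h.hps h.hr1 h.hP h.hPM h.hfix h.hL h.hNP

theorem T3.not_conj (hG : Cfsg.IsMinSimpleOddOrder G) (h : T3 p M P L) : ∀ g : G, L ≠ cj g M :=
  SigmaMutual.nonconj_of_sigma (h.mem_sigma hG) h.hps

theorem T3.le_sigmaCore (hG : Cfsg.IsMinSimpleOddOrder G) (h : T3 p M P L) : P ≤ Cfsg.sigmaCore L :=
  SigmaTools.pGroup_le_sigmaCore hG h.hL (h.mem_sigma hG) (Subgroup.le_normalizer.trans h.hNP) (isPGroup_of_card h.hP)

theorem T3.inf_eq (hG : Cfsg.IsMinSimpleOddOrder G) (h : T3 p M P L) :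
    Cfsg.sigmaCore M ⊓ L = Cfsg.sigmaCore M ⊓ Subgroup.centralizer (P : Set G) := by
  refine le_antisymm (le_inf inf_le_left ?_) (inf_le_inf_left _ ((Subgroup.centralizer_le_normalizer _).trans h.hNP))
  refine Subgroup.le_centralizer_iff.mp ?_
  exact (le_inf (h.le_sigmaCore hG) h.hPM).trans (SigmaMutual.inf_le_centralizer hG h.hM h.hL (h.not_conj hG))

theorem T3.exists_compl (hG : Cfsg.IsMinSimpleOddOrder G) (h : T3 p M P L) {Y : Subgroup G} (hYM : Y ≤ M)
    (hY : ∀ t : ℕ, t.Prime → t ∣ Nat.card Y → t ∉ Cfsg.sigma M) :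
    ∃ F : Subgroup G, Cfsg.IsComplIn F (Cfsg.sigmaCore M) M ∧ Y ≤ F := by
  obtain ⟨F, hF, hYF⟩ := Coprime.exists_hall_ge {t | t ∉ Cfsg.sigma M} (hG.2.2.2 M h.hM.1) hYM hY
  exact ⟨F, SylowCentral.isComplIn_of_hall hG h.hM hF, hYF⟩

theorem T3.normalizes (hG : Cfsg.IsMinSimpleOddOrder G) (h : T3 p M P L)
    (hE : Cfsg.IsComplIn E (Cfsg.sigmaCore M) M) (hPE : P ≤ E) :
    P ≤ ⁅E, E⁆ ∧ E ≤ Subgroup.normalizer (P : Set G) ∧ ⁅E, E⁆ ≤ Subgroup.centralizer (P : Set G) :=
  derived_line hG h.hM hE h.hps h.hr1 h.hd h.hP hPE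

theorem T3.compl_le (hG : Cfsg.IsMinSimpleOddOrder G) (h : T3 p M P L)
    (hE : Cfsg.IsComplIn E (Cfsg.sigmaCore M) M) (hPE : P ≤ E) : E ≤ L :=
  (h.normalizes hG hE hPE).2.1.trans h.hNP

/-- All primes outside `σ(M)` have rank one. -/
theorem T3.rank_one (hG : Cfsg.IsMinSimpleOddOrder G) (h : T3 p M P L) {t : ℕ} [ht : Fact t.Prime]
    (hts : t ∉ Cfsg.sigma M) : Cfsg.PRankLE t 1 M := by
  by_contra hcon
  have hτ : t ∈ Cfsg.tau2 M := ⟨ht.out, hts, (by
    by_contra h2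
    exact hts (SigmaBasics.mem_sigma_of_alpha hG h.hM ⟨ht.out, h2⟩)), hcon⟩
  obtain ⟨F, hF, hPF⟩ := h.exists_compl hG h.hPM fun u hu hd => by
    rw [h.hP] at hd
    exact (Nat.prime_dvd_prime_iff_eq hu hp.out).mp hd ▸ h.hps
  obtain ⟨A, hAF, hAe, hAc⟩ := TauTwoAbelian.exists_plane hF hτ
  obtain ⟨A₀, hA⟩ := TauTwoStructure.exists_exc hG h.hM hts (hAF.trans hF.1) hAe hAc
  have hne : L ≠ M := fun e => h.not_conj hG 1 (by rw [SigmaFusion.cj_one, e])
  have := TauTwoStructure.inter_eq_bot hG hA h.hL hne (hAF.trans (h.compl_le hG hF hPF))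
  exact h.hfix (h.inf_eq hG ▸ this)

theorem T3.tau1_elem (hG : Cfsg.IsMinSimpleOddOrder G) (h : T3 p M P L) {e : G} (heM : e ∈ M)
    (he : orderOf e = r) (hrs : r ∉ Cfsg.sigma M) (hd : ¬ r ∣ Nat.card ↥⁅M, M⁆) : r ∈ Cfsg.tau1 M :=
  tau1_mem heM he hrs hd (h.rank_one hG hrs)

/-- An element of prime order in `σ(L)` has exactly the fixed points of `P`. -/
theorem T3.fix_sigma (hG : Cfsg.IsMinSimpleOddOrder G) (h : T3 p M P L) {e : G} (heM : e ∈ M) (heL : e ∈ L)
    (he : orderOf e = r) (hrL : r ∈ Cfsg.sigma L) :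
    Cfsg.sigmaCore M ⊓ Subgroup.centralizer ({e} : Set G) =
      Cfsg.sigmaCore M ⊓ Subgroup.centralizer (P : Set G) := by
  have heσ : e ∈ Cfsg.sigmaCore L := SigmaTools.pGroup_le_sigmaCore hG h.hL hrL (Subgroup.zpowers_le.mpr heL)
    (isPGroup_of_card (line_of_orderOf he)) (Subgroup.mem_zpowers e)
  have heX : Cfsg.sigmaCore M ⊓ L ≤ Subgroup.centralizer ({e} : Set G) := fun x hx =>
    Subgroup.mem_centralizer_singleton_iff.mpr
      (Subgroup.mem_centralizer_iff.mp (SigmaMutual.inf_le_centralizer hG h.hM h.hL (h.not_conj hG) ⟨heσ, heM⟩) x hx)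
  obtain ⟨q, hq, hd⟩ := Nat.exists_prime_and_dvd (mt Subgroup.card_eq_one.mp h.hfix)
  haveI := Fact.mk hq
  rw [← h.inf_eq hG] at hd ⊢
  obtain ⟨x, hx⟩ := exists_prime_orderOf_dvd_card' (G := ↥(Cfsg.sigmaCore M ⊓ L)) q hd
  have hxo : orderOf (x : G) = q := by rw [Subgroup.orderOf_coe, hx]
  have hqs : q ∈ Cfsg.sigma M := SigmaTools.mem_sigma_of_card (hd.trans (Subgroup.card_dvd_of_le inf_le_left))
  have hne : ∀ g : G, M ≠ cj g L := fun g e => h.not_conj hG g⁻¹
    (by rw [e, SigmaFusion.cj_cj, inv_mul_cancel, SigmaFusion.cj_one])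
  have hN := (SigmaMutual.mutual_fix hG h.hL h.hM hne hrL hqs he hxo heL heM x.2.2
    (SigmaTools.sigmaCore_le M x.2.1) (show Commute e (x : G) from
      (Subgroup.mem_centralizer_singleton_iff.mp (heX x.2)).symm)).2
  refine le_antisymm (le_inf inf_le_left (inf_le_right.trans ?_)) (le_inf inf_le_left heX)
  rw [← SigmaTools.centralizer_zpowers]
  exact (Subgroup.centralizer_le_normalizer _).trans hN

/-- All prime order elements of the complement centralise the line. -/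
def AllC (E P : Subgroup G) : Prop := ∀ e ∈ E, (orderOf e).Prime → P ≤ Subgroup.centralizer ({e} : Set G)

/-- A prime order element moving the line is a `τ₁`-element. -/
theorem T3.not_dvd_of_moves (hG : Cfsg.IsMinSimpleOddOrder G) (h : T3 p M P L)
    (hE : Cfsg.IsComplIn E (Cfsg.sigmaCore M) M) (hPE : P ≤ E) {e : G} (heE : e ∈ E) (he : orderOf e = r)
    (hrs : r ∉ Cfsg.sigma M) (hmv : ¬ P ≤ Subgroup.centralizer ({e} : Set G)) :
    ¬ r ∣ Nat.card ↥⁅M, M⁆ := fun hd => hmv (by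
  have h1 := derived_line hG h.hM hE hrs (h.rank_one hG hrs) hd (line_of_orderOf he) (Subgroup.zpowers_le.mpr heE)
  rw [← SigmaTools.centralizer_zpowers]
  exact ((h.normalizes hG hE hPE).1).trans h1.2.2)

/-- If one `τ₁`-element of prime order centralises the line, all do. -/
theorem T3.all_of_one (hG : Cfsg.IsMinSimpleOddOrder G) (h : T3 p M P L)
    (hE : Cfsg.IsComplIn E (Cfsg.sigmaCore M) M) (hPE : P ≤ E) {e : G} (heE : e ∈ E) (he : orderOf e = r)
    (hed : ¬ r ∣ Nat.card ↥⁅M, M⁆) (heP : P ≤ Subgroup.centralizer ({e} : Set G)) : AllC E P := by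
  intro f hfE hf
  haveI := Fact.mk hf
  by_contra hmv
  have hEh := ComplementHall.isHall hG h.hM hE
  have hrs : r ∉ Cfsg.sigma M := hEh.2.1 r hrf.out (he ▸ Subgroup.orderOf_dvd_natCard _ heE)
  have hfs : orderOf f ∉ Cfsg.sigma M := hEh.2.1 _ hf (Subgroup.orderOf_dvd_natCard _ hfE)
  have hfd := h.not_dvd_of_moves hG hE hPE hfE rfl hfs hmv
  obtain ⟨g, hg, hc⟩ := exists_commute hG h.hM hE heE he hed hfE rfl hfd
  set f' := g * f * g⁻¹ with hf'
  have hf'E : f' ∈ E := mul_mem (mul_mem hg hfE) (inv_mem hg)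
  have hf'o : orderOf f' = orderOf f := by
    rw [show f' = MulAut.conj g f from rfl, MulEquiv.orderOf_eq]
  have hEP := (h.normalizes hG hE hPE).2.1
  refine hmv fun x hx => Subgroup.mem_centralizer_singleton_iff.mpr ?_
  have hgx : g * x * g⁻¹ ∈ P := (Subgroup.mem_normalizer_iff.mp (hEP hg) x).mp hx
  suffices hh : P ≤ Subgroup.centralizer ({f'} : Set G) by
    have h2 : g * x * g⁻¹ * f' = f' * (g * x * g⁻¹) := Subgroup.mem_centralizer_singleton_iff.mp (hh hgx)
    calc x * f = g⁻¹ * (g * x * g⁻¹ * f') * g := by rw [hf']; group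
      _ = g⁻¹ * (f' * (g * x * g⁻¹)) * g := by rw [h2]
      _ = f * x := by rw [hf']; group
  by_contra hmv'
  refine frob hG h.hM hE h.hps h.hr1 h.hP h.hPM hEP (hE.1 hf'E) hf'o hfs (hEP hf'E) hmv' ?_
  obtain ⟨y, hy, hyo, hye⟩ := PrimeAction.exists_gen h.hP
  have h1 := pa hG h.hM (h.tau1_elem hG (hE.1 hf'E) hf'o hfs hfd) (hE.1 hf'E) hf'o (hE.1 heE) he hrs hc.symm
  have h2 := pa hG h.hM (h.tau1_elem hG (hE.1 heE) he hrs hed) (hE.1 heE) he (h.hPM hy) hyo h.hps
    (show Commute e y from (Subgroup.mem_centralizer_singleton_iff.mp (heP hy)).symm)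
  rw [← hye, SigmaTools.centralizer_zpowers]
  exact (le_inf inf_le_left h1).trans h2

/-- The complement does not centralise the line. -/
theorem T3.not_le_centralizer (hG : Cfsg.IsMinSimpleOddOrder G) (h : T3 p M P L)
    (hE : Cfsg.IsComplIn E (Cfsg.sigmaCore M) M) (hPE : P ≤ E) :
    ∃ (t : ℕ) (R : Subgroup G), t.Prime ∧ t ∉ Cfsg.sigma M ∧ ¬ t ∣ Nat.card ↥⁅M, M⁆ ∧ IsPGroup t R ∧ R ≤ E ∧
      ¬ R ≤ Subgroup.centralizer (P : Set G) := by
  have hEh := ComplementHall.isHall hG h.hM hE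
  obtain ⟨T, hT⟩ := ((isPGroup_of_card h.hP).of_equiv (Subgroup.subgroupOfEquivOfLe hPE).symm).exists_le_sylow
  set T₁ := (T : Subgroup E).map E.subtype with hT₁
  have hT₁E : T₁ ≤ E := Subgroup.map_subtype_le _
  have hPT : P ≤ T₁ := fun x hx => ⟨⟨x, hPE hx⟩, hT (Subgroup.mem_subgroupOf.mpr hx), rfl⟩
  have hT₁d : T₁ ≤ ⁅E, E⁆ := SigmaComplement.tau3_le hG h.hM hE hT₁E fun t ht hd => by
    rw [PrimeAction.pGroup_dvd (T.isPGroup'.map E.subtype) ht hd]
    exact ⟨hp.out, h.hps, h.hd, h.hr1⟩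
  haveI : IsCyclic T₁ := SigmaComplement.isCyclic_of_rank_one hG.1 (hT₁E.trans hE.1) (T.isPGroup'.map _) h.hr1
  suffices hnC : ¬ E ≤ Subgroup.centralizer (P : Set G) by
    have hex : ∃ u : ℕ, u.Prime ∧ ∃ R : Sylow u E,
        ¬ (R : Subgroup E).map E.subtype ≤ Subgroup.centralizer (P : Set G) := by
      by_contra hcon
      push Not at hcon
      refine hnC ((?_ : E ≤ E ⊓ Subgroup.centralizer (P : Set G)).trans inf_le_right)
      rw [← Subgroup.relIndex_eq_one]
      by_contra hne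
      obtain ⟨u, hu, hd⟩ := Nat.exists_prime_and_dvd hne
      haveI := Fact.mk hu
      obtain ⟨R⟩ : Nonempty (Sylow u E) := inferInstance
      refine R.not_dvd_index (hd.trans ((Subgroup.relIndex_dvd_of_le_left _
        (le_inf (Subgroup.map_subtype_le _) (hcon u hu R))).trans (dvd_of_eq ?_)))
      rw [Subgroup.relIndex, Subgroup.subgroupOf, Subgroup.comap_map_eq_self_of_injective E.subtype_injective]
    obtain ⟨u, hu, R, hR⟩ := hex
    haveI := Fact.mk hu
    set R₁ := (R : Subgroup E).map E.subtype with hR₁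
    have hR₁E : R₁ ≤ E := Subgroup.map_subtype_le _
    have hRd : u ∣ Nat.card R₁ := (R.isPGroup'.map E.subtype).card_eq_or_dvd.resolve_left fun e => hR (by
      rw [show R₁ = ⊥ from Subgroup.eq_bot_of_card_eq _ e]; exact bot_le)
    have hus : u ∉ Cfsg.sigma M := hEh.2.1 u hu (hRd.trans (Subgroup.card_dvd_of_le hR₁E))
    refine ⟨u, R₁, hu, hus, fun hd => hR ?_, R.isPGroup'.map _, hR₁E, hR⟩
    exact (SigmaComplement.tau3_le hG h.hM hE hR₁E fun t ht hd' => by
      rw [PrimeAction.pGroup_dvd (R.isPGroup'.map E.subtype) ht hd']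
      exact ⟨hu, hus, hd, h.rank_one hG hus⟩).trans (h.normalizes hG hE hPE).2.2
  intro hC
  -- the Sylow `p`-subgroup is a normal subgroup of `E'` with a complement
  haveI := SigmaComplement.derived_isNilpotent hG h.hM hE
  have hTn : E ≤ Subgroup.normalizer (T₁ : Set G) :=
    SigmaComplement.normal_of_hall (π := {p}) (WLine.le_normalizer_derived E) (SigmaComplement.derived_le_self E) hT₁d
      ⟨hT₁E, fun t ht hd => PrimeAction.pGroup_dvd (T.isPGroup'.map E.subtype) ht hd, fun t _ htp hd => by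
        rw [Set.mem_singleton_iff] at htp
        subst htp
        rw [hT₁, Subgroup.relIndex, Subgroup.subgroupOf, Subgroup.comap_map_eq_self_of_injective E.subtype_injective] at hd
        exact T.not_dvd_index hd⟩
  haveI : (T : Subgroup E).Normal := by
    have h1 := (Subgroup.normal_subgroupOf_iff_le_normalizer hT₁E).mpr hTn
    rwa [hT₁, Subgroup.subgroupOf, Subgroup.comap_map_eq_self_of_injective E.subtype_injective] at h1
  haveI : Group.IsSolvable E := hG.2.2.2 E fun e => h.hM.1 (top_le_iff.mp (e ▸ hE.1))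
  obtain ⟨C, hcC⟩ := Subgroup.exists_right_complement'_of_coprime T.card_coprime_index
  have hTd : (T : Subgroup E) ≤ _root_.commutator E := fun x hx => by
    obtain ⟨z, hz, e⟩ := (Subgroup.map_subtype_commutator E).ge (hT₁d ⟨x, hx, rfl⟩)
    exact E.subtype_injective e ▸ hz
  have h1 := SigmaCommutator.commutator_eq hcC.sup_eq_top (disjoint_iff.mp hcC.disjoint) hTd
  have h2 := SigmaCommutator.inf_centralizer_le h1 (by
    rw [← hcC.symm.index_eq_card]; exact T.card_coprime_index.symm)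
  have hT' : ⁅(T : Subgroup E), (T : Subgroup E)⁆ = ⊥ :=
    Subgroup.commutator_eq_bot_iff_le_centralizer.mpr fun a ha => Subgroup.mem_centralizer_iff.mpr fun b hb =>
      Subtype.ext (PlaneSylow.comm_of (X := T₁) inferInstance ⟨b, hb, rfl⟩ ⟨a, ha, rfl⟩).eq
  refine ne_bot_of_card h.hP (le_bot_iff.mp fun x hx => ?_)
  have hmem : (⟨x, hPE hx⟩ : E) ∈ (T : Subgroup E) ⊓ Subgroup.centralizer (C : Set E) :=
    ⟨hT (Subgroup.mem_subgroupOf.mpr hx), Subgroup.mem_centralizer_iff.mpr fun c _ =>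
      Subtype.ext (Subgroup.mem_centralizer_iff.mp (hC c.2) x hx).symm⟩
  have := h2 hmem
  rw [hT', Subgroup.mem_bot] at this
  exact Subgroup.mem_bot.mpr (congrArg Subtype.val this)

/-- When everything of prime order centralises the line, some of it lies in `σ(L)` outside `M'`. -/
theorem T3.exists_sigma (hG : Cfsg.IsMinSimpleOddOrder G) (h : T3 p M P L)
    (hE : Cfsg.IsComplIn E (Cfsg.sigmaCore M) M) (hPE : P ≤ E) (hall : AllC E P) :
    ∃ e ∈ E, (orderOf e).Prime ∧ ¬ orderOf e ∣ Nat.card ↥⁅M, M⁆ ∧ orderOf e ∈ Cfsg.sigma L := by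
  obtain ⟨t, R, ht, hts, htd, hR, hRE, hRP⟩ := h.not_le_centralizer hG hE hPE
  haveI := Fact.mk ht
  have hRd : t ∣ Nat.card R := hR.card_eq_or_dvd.resolve_left fun e => hRP (by
    rw [Subgroup.eq_bot_of_card_eq _ e]; exact bot_le)
  obtain ⟨e, he⟩ := exists_prime_orderOf_dvd_card' (G := R) t hRd
  have heo : orderOf (e : G) = t := by rw [Subgroup.orderOf_coe, he]
  refine ⟨e, hRE e.2, heo ▸ ht, heo ▸ htd, ?_⟩
  rw [heo]
  by_contra htL
  have hEP := (h.normalizes hG hE hPE).2.1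
  have hEL := h.compl_le hG hE hPE
  set Z := Subgroup.zpowers (e : G) with hZ
  have hZc : Nat.card Z = t := line_of_orderOf heo
  have hZM : Z ≤ M := Subgroup.zpowers_le.mpr (hE.1 (hRE e.2))
  have hZL : Z ≤ L := Subgroup.zpowers_le.mpr (hEL (hRE e.2))
  obtain ⟨H, hH, hNZ⟩ := Uniqueness.exists_coatom_normalizer (p := t) hG.2 (ne_bot_of_card hZc) (isPGroup_of_card hZc)
  have hCH := (Subgroup.centralizer_le_normalizer _).trans hNZ
  have hPC : P ≤ Subgroup.centralizer (Z : Set G) := by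
    rw [SigmaTools.centralizer_zpowers]
    exact hall e (hRE e.2) (heo ▸ ht)
  obtain ⟨y, hy, hyo, hye⟩ := PrimeAction.exists_gen h.hP
  have hy1 : y ≠ 1 := fun e' => hp.out.ne_one (by rw [← hyo, e', orderOf_one])
  by_cases ht1 : Cfsg.PRankLE t 1 L
  · have htH : t ∈ Cfsg.sigma H := SigmaMutual.mem_sigma_of_fixed hG h.hL htL ht1 hZc hZL (fun e' => by
      have : y ∈ Cfsg.sigmaCore L ⊓ Subgroup.centralizer (Z : Set G) := ⟨h.le_sigmaCore hG hy, hPC hy⟩
      rw [e', Subgroup.mem_bot] at this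
      exact hy1 this) hH hNZ
    have hncH := SigmaMutual.nonconj_of_sigma htH htL
    have hpH : p ∉ Cfsg.sigma H := SigmaMutual.not_sigma_of_nonconj hG h.hL hH hncH (h.mem_sigma hG)
    haveI : IsCyclic R := SigmaComplement.isCyclic_of_rank_one hG.1 (hRE.trans hE.1) hR (h.rank_one hG hts)
    have hRC : R ≤ Subgroup.centralizer (Z : Set G) :=
      R.le_centralizer.trans (Subgroup.centralizer_le (SetLike.coe_subset_coe.mpr (Subgroup.zpowers_le.mpr e.2)))
    refine hRP ?_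
    refine Subgroup.commutator_eq_bot_iff_le_centralizer.mp (le_bot_iff.mp ?_)
    have hle1 : ⁅R, P⁆ ≤ P := Subgroup.le_normalizer_iff_commutator_le_right.1 (hRE.trans hEP)
    have hle2 : ⁅R, P⁆ ≤ Cfsg.sigmaCore H :=
      (Subgroup.commutator_mono (SigmaTools.pGroup_le_sigmaCore hG hH htH (hRC.trans hCH) hR) (hPC.trans hCH)).trans
        (Subgroup.le_normalizer_iff_commutator_le_left.1 (SigmaTools.le_normalizer_sigmaCore H))
    refine (le_inf hle1 hle2).trans (le_of_eq (Subgroup.disjoint_of_coprime_natCard ?_).eq_bot)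
    rw [h.hP]
    exact (SigmaTools.coprime_sigmaCore hpH).symm
  · -- `e` is a `τ₂(L)`-element centralising an element of `L_σ`
    obtain ⟨q, hq, hd⟩ := Nat.exists_prime_and_dvd (mt Subgroup.card_eq_one.mp h.hfix)
    haveI := Fact.mk hq
    rw [← h.inf_eq hG] at hd
    set X := Cfsg.sigmaCore M ⊓ L with hX
    have hqs : q ∈ Cfsg.sigma M := SigmaTools.mem_sigma_of_card (hd.trans (Subgroup.card_dvd_of_le inf_le_left))
    have hqL := SigmaMutual.not_sigma_of_nonconj hG h.hM h.hL (h.not_conj hG) hqs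
    have hqt : q ≠ t := fun e' => hts (e' ▸ hqs)
    have hXsol : Group.IsSolvable X := hG.2.2.2 X fun e' => h.hL.1 (top_le_iff.mp (e' ▸ inf_le_right))
    have hZX : Z ≤ Subgroup.normalizer (X : Set G) :=
      (le_inf (hZM.trans (SigmaTools.le_normalizer_sigmaCore M)) (hZL.trans Subgroup.le_normalizer)).trans
        Subgroup.inf_normalizer_le_normalizer_inf
    obtain ⟨Q, hQ⟩ := Coprime.exists_invariant_sylow hZX (by
      rw [hZc]
      exact (SigmaTools.coprime_sigmaCore hts).symm.coprime_dvd_right (Subgroup.card_dvd_of_le inf_le_left))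
      (Or.inr hXsol) q
    set Q₁ := (Q : Subgroup X).map X.subtype with hQ₁
    have hQ₁X : Q₁ ≤ X := Subgroup.map_subtype_le _
    have hQ₁p : IsPGroup q Q₁ := Q.isPGroup'.map _
    have hdisj : Disjoint Q₁ Z := by
      obtain ⟨j, hj⟩ := hQ₁p.exists_card_eq
      refine Subgroup.disjoint_of_coprime_natCard ?_
      rw [hj, hZc]
      exact ((Nat.coprime_primes hq ht).mpr hqt).pow_left j
    obtain ⟨F, hF₀, hle⟩ := Coprime.exists_hall_ge {u | u ∉ Cfsg.sigma L} (hG.2.2.2 L h.hL.1)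
      (sup_le (hQ₁X.trans inf_le_right) hZL) (fun u hu hd' => by
        rw [Coprime.card_sup_of_le_normalizer hQ hdisj, hZc] at hd'
        rcases hu.dvd_mul.mp hd' with h' | h'
        · exact PrimeAction.pGroup_dvd hQ₁p hu h' ▸ hqL
        · exact (Nat.prime_dvd_prime_iff_eq hu ht).mp h' ▸ htL)
    have hF := SylowCentral.isComplIn_of_hall hG h.hL hF₀
    obtain ⟨hQF, hZF⟩ := sup_le_iff.mp hle
    have htτ : t ∈ Cfsg.tau2 L := ⟨ht, htL, (by
      by_contra h2
      exact htL (SigmaBasics.mem_sigma_of_alpha hG h.hL ⟨ht, h2⟩)), ht1⟩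
    obtain ⟨A, hAF, hAe, hAc⟩ := TauTwoAbelian.exists_plane hF htτ
    obtain ⟨A₀, hA⟩ := TauTwoStructure.exists_exc hG h.hL htL (hAF.trans hF.1) hAe hAc
    have hFA := TauTwoStructure.normal_in_complement hG hA hF hAF
    have hZA : Z ≤ A := fun z hz => (hA.maxPlane hG).mem_of_commute (SigmaMutual.pow_eq_one_of_card hZc hz)
      (TauTwoStructure.pGroup_le_centralizer hG hA (isPGroup_of_card hZc) hZL (hZF.trans hFA) hz)
    have hQZ : Q₁ ≤ Subgroup.centralizer (Z : Set G) := by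
      refine Subgroup.commutator_eq_bot_iff_le_centralizer.mp (le_bot_iff.mp ?_)
      refine le_trans (le_inf (Subgroup.le_normalizer_iff_commutator_le_left.1 hQ)
        ((Subgroup.commutator_mono le_rfl hZA).trans (Subgroup.le_normalizer_iff_commutator_le_right.1 (hQF.trans hFA))))
        ?_
      obtain ⟨j, hj⟩ := hQ₁p.exists_card_eq
      refine (Subgroup.disjoint_of_coprime_natCard ?_).eq_bot.le
      rw [hj, hAc]
      exact ((Nat.coprime_primes hq ht).mpr hqt).pow j 2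
    have htH : t ∈ Cfsg.sigma H := SigmaMutual.mem_sigma_of_fixed hG h.hM hts (h.rank_one hG hts) hZc hZM
      (fun e' => by
        refine Q.not_dvd_index ?_
        have hb : Q₁ ≤ ⊥ := e' ▸ le_inf (hQ₁X.trans inf_le_left) hQZ
        rw [(Subgroup.map_eq_bot_iff_of_injective _ X.subtype_injective).mp (le_bot_iff.mp hb), Subgroup.index_bot]
        exact hd) hH hNZ
    obtain ⟨-, huniq⟩ := (Cfsg.Agent.S1420.result hG L h.hL F hF).2.2.2 (e : G) (hZL (Subgroup.mem_zpowers _))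
      (fun e' => ht.ne_one (by rw [← heo, e', orderOf_one]))
      (fun u hu hd' => by
        rw [heo] at hd'
        exact (Nat.prime_dvd_prime_iff_eq hu ht).mp hd' ▸ htτ)
      ⟨hZL (Subgroup.mem_zpowers _), y, h.le_sigmaCore hG hy, hy1,
        (Subgroup.mem_centralizer_iff.mp (hPC hy) (e : G) (Subgroup.mem_zpowers _))⟩
    exact htL (huniq H hH ((SigmaTools.centralizer_zpowers _).ge.trans hCH) ▸ htH)

theorem T3.normalizes_fix (hG : Cfsg.IsMinSimpleOddOrder G) (h : T3 p M P L)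
    (hE : Cfsg.IsComplIn E (Cfsg.sigmaCore M) M) (hPE : P ≤ E) :
    E ≤ Subgroup.normalizer ((Cfsg.sigmaCore M ⊓ Subgroup.centralizer (P : Set G) : Subgroup G) : Set G) := by
  rw [← h.inf_eq hG]
  exact (le_inf (hE.1.trans (SigmaTools.le_normalizer_sigmaCore M))
    ((h.compl_le hG hE hPE).trans Subgroup.le_normalizer)).trans Subgroup.inf_normalizer_le_normalizer_inf

/-- When everything of prime order centralises the line, `τ₁`-elements have its fixed points. -/
theorem T3.fix_tau1 (hG : Cfsg.IsMinSimpleOddOrder G) (h : T3 p M P L)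
    (hE : Cfsg.IsComplIn E (Cfsg.sigmaCore M) M) (hPE : P ≤ E) (hall : AllC E P) {f : G} (hfE : f ∈ E)
    (hf : orderOf f = r) (hfd : ¬ r ∣ Nat.card ↥⁅M, M⁆) :
    Cfsg.sigmaCore M ⊓ Subgroup.centralizer ({f} : Set G) =
      Cfsg.sigmaCore M ⊓ Subgroup.centralizer (P : Set G) := by
  obtain ⟨e, heE, heo, hed, heL⟩ := h.exists_sigma hG hE hPE hall
  haveI := Fact.mk heo
  have hEh := ComplementHall.isHall hG h.hM hE
  have hes : orderOf e ∉ Cfsg.sigma M := hEh.2.1 _ heo (Subgroup.orderOf_dvd_natCard _ heE)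
  have hfs : r ∉ Cfsg.sigma M := hEh.2.1 r hrf.out (hf ▸ Subgroup.orderOf_dvd_natCard _ hfE)
  obtain ⟨g, hg, hc⟩ := exists_commute hG h.hM hE heE rfl hed hfE hf hfd
  set f' := MulAut.conj g f with hf'
  have hf'E : f' ∈ E := mul_mem (mul_mem hg hfE) (inv_mem hg)
  have hf'o : orderOf f' = r := by rw [hf', MulEquiv.orderOf_eq, hf]
  set X := Cfsg.sigmaCore M ⊓ Subgroup.centralizer (P : Set G) with hX
  have hfix := h.fix_sigma hG (hE.1 heE) (h.compl_le hG hE hPE heE) rfl heL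
  have h1 := pa hG h.hM (h.tau1_elem hG (hE.1 hf'E) hf'o hfs hfd) (hE.1 hf'E) hf'o (hE.1 heE) rfl hes
    (show Commute f' e from hc.symm)
  have h2 := pa hG h.hM (h.tau1_elem hG (hE.1 heE) rfl hes hed) (hE.1 heE) rfl (hE.1 hf'E) hf'o hfs hc
  have hf'fix : Cfsg.sigmaCore M ⊓ Subgroup.centralizer ({f'} : Set G) = X :=
    le_antisymm ((le_inf inf_le_left h1).trans hfix.le) (hfix.ge.trans (le_inf inf_le_left h2))
  have hgX := h.normalizes_fix hG hE hPE hg
  have hgV := SigmaTools.le_normalizer_sigmaCore M (hE.1 hg)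
  ext x
  have hcf : x ∈ Subgroup.centralizer ({f} : Set G) ↔ g * x * g⁻¹ ∈ Subgroup.centralizer ({f'} : Set G) := by
    rw [Subgroup.mem_centralizer_singleton_iff, Subgroup.mem_centralizer_singleton_iff]
    refine ⟨fun hx => ?_, fun hx => ?_⟩
    · show g * x * g⁻¹ * (g * f * g⁻¹) = g * f * g⁻¹ * (g * x * g⁻¹)
      calc g * x * g⁻¹ * (g * f * g⁻¹) = g * (x * f) * g⁻¹ := by group
        _ = g * (f * x) * g⁻¹ := by rw [hx]
        _ = _ := by group
    · calc x * f = g⁻¹ * (g * x * g⁻¹ * (g * f * g⁻¹)) * g := by group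
        _ = g⁻¹ * (g * f * g⁻¹ * (g * x * g⁻¹)) * g := congrArg (fun z => g⁻¹ * z * g) hx
        _ = f * x := by group
  rw [Subgroup.mem_inf, hcf, Subgroup.mem_normalizer_iff.mp hgV x, ← Subgroup.mem_inf, hf'fix]
  exact (Subgroup.mem_normalizer_iff.mp hgX x).symm

/-- When everything of prime order centralises the line, it all has the fixed points of the line. -/
theorem T3.fix_of_allC (hG : Cfsg.IsMinSimpleOddOrder G) (h : T3 p M P L)
    (hE : Cfsg.IsComplIn E (Cfsg.sigmaCore M) M) (hPE : P ≤ E) (hall : AllC E P) {f : G} (hfE : f ∈ E)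
    (hf : orderOf f = r) : Cfsg.sigmaCore M ⊓ Subgroup.centralizer ({f} : Set G) =
      Cfsg.sigmaCore M ⊓ Subgroup.centralizer (P : Set G) := by
  by_cases hfd : r ∣ Nat.card ↥⁅M, M⁆
  swap
  · exact h.fix_tau1 hG hE hPE hall hfE hf hfd
  obtain ⟨e, heE, heo, hed, heL⟩ := h.exists_sigma hG hE hPE hall
  haveI := Fact.mk heo
  have hEh := ComplementHall.isHall hG h.hM hE
  have hes : orderOf e ∉ Cfsg.sigma M := hEh.2.1 _ heo (Subgroup.orderOf_dvd_natCard _ heE)
  have hfs : r ∉ Cfsg.sigma M := hEh.2.1 r hrf.out (hf ▸ Subgroup.orderOf_dvd_natCard _ hfE)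
  set Z := Subgroup.zpowers f with hZ
  have hZc : Nat.card Z = r := line_of_orderOf hf
  obtain ⟨-, hEZ, -⟩ := derived_line hG h.hM hE hfs (h.rank_one hG hfs) hfd hZc (Subgroup.zpowers_le.mpr hfE)
  have hEL := h.compl_le hG hE hPE
  have hfe := h.fix_sigma hG (hE.1 heE) (hEL heE) rfl heL
  have hcomm : Z ≤ Subgroup.centralizer ({e} : Set G) := by
    by_contra hmv
    refine frob hG h.hM hE hfs (h.rank_one hG hfs) hZc (Subgroup.zpowers_le.mpr (hE.1 hfE)) hEZ (hE.1 heE) rfl hes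
      (hEZ heE) hmv ?_
    rw [hfe, ← h.inf_eq hG]
    have heσ : e ∈ Cfsg.sigmaCore L := SigmaTools.pGroup_le_sigmaCore hG h.hL heL (Subgroup.zpowers_le.mpr (hEL heE))
      (isPGroup_of_card (Nat.card_zpowers e)) (Subgroup.mem_zpowers e)
    have hd1 : ⁅f, e⁆ ∈ Z := by
      rw [commutatorElement_def, show f * e * f⁻¹ * e⁻¹ = f * (e * f⁻¹ * e⁻¹) by group]
      exact mul_mem (Subgroup.mem_zpowers f)
        ((Subgroup.mem_normalizer_iff.mp (hEZ heE) _).mp (inv_mem (Subgroup.mem_zpowers f)))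
    have hd2 : ⁅f, e⁆ ∈ Cfsg.sigmaCore L :=
      (Subgroup.le_normalizer_iff_commutator_le_right.1 (SigmaTools.le_normalizer_sigmaCore L))
        (Subgroup.commutator_mem_commutator (hEL hfE) heσ)
    have hd0 : ⁅f, e⁆ ≠ 1 := fun h1 => hmv (Subgroup.zpowers_le.mpr (Subgroup.mem_centralizer_singleton_iff.mpr
      (commutatorElement_eq_one_iff_commute.mp h1).eq))
    have hZσ : Z ≤ Cfsg.sigmaCore L := by
      rw [← (FPFTools.line_eq_zpowers hZc hd1 hd0).1]
      exact Subgroup.zpowers_le.mpr hd2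
    exact Subgroup.le_centralizer_iff.mp ((le_inf hZσ (Subgroup.zpowers_le.mpr (hE.1 hfE))).trans
      (SigmaMutual.inf_le_centralizer hG h.hM h.hL (h.not_conj hG)))
  have h1 := pa hG h.hM (h.tau1_elem hG (hE.1 heE) rfl hes hed) (hE.1 heE) rfl (hE.1 hfE) hf hfs
    (show Commute e f from (Subgroup.mem_centralizer_singleton_iff.mp (hcomm (Subgroup.mem_zpowers f))).symm)
  obtain ⟨L', hL', hNZ⟩ := Uniqueness.exists_coatom_normalizer (p := r) hG.2 (ne_bot_of_card hZc) (isPGroup_of_card hZc)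
  have h' : T3 r M Z L' := ⟨h.hM, hfs, h.rank_one hG hfs, hfd, hZc, Subgroup.zpowers_le.mpr (hE.1 hfE), fun e' => by
    refine h.hfix (le_bot_iff.mp (le_trans ?_ e'.le))
    rw [SigmaTools.centralizer_zpowers]
    exact hfe ▸ le_inf inf_le_left h1, hL', hNZ⟩
  have hall' := h'.all_of_one hG hE (Subgroup.zpowers_le.mpr hfE) heE rfl hed hcomm
  rw [← SigmaTools.centralizer_zpowers f, ← hfe]
  exact (h'.fix_tau1 hG hE (Subgroup.zpowers_le.mpr hfE) hall' heE rfl hed).symm

/-- One side of the configuration of an element moving the line. -/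
theorem T3.side (hG : Cfsg.IsMinSimpleOddOrder G) (h : T3 p M P L) (hE : Cfsg.IsComplIn E (Cfsg.sigmaCore M) M)
    (hPE : P ≤ E) {d : G} (hdE : d ∈ E) (hd : orderOf d = r) (hmv : ¬ P ≤ Subgroup.centralizer ({d} : Set G)) :
    CommonMover.Side r M L (Subgroup.zpowers d) P := by
  have hrs : r ∉ Cfsg.sigma M :=
    (ComplementHall.isHall hG h.hM hE).2.1 r hrf.out (hd ▸ Subgroup.orderOf_dvd_natCard _ hdE)
  obtain ⟨-, hEP, -⟩ := h.normalizes hG hE hPE
  refine ⟨h.hM, h.hL, h.not_conj hG, line_of_orderOf hd, Subgroup.zpowers_le.mpr (hE.1 hdE), hrs,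
    h.rank_one hG hrs, h.hPM, Subgroup.zpowers_le.mpr (hEP hdE), ?_, fun t ht hd' => ?_,
    (Subgroup.centralizer_le_normalizer _).trans h.hNP, ?_,
    ⟨E, hE, h.compl_le hG hE hPE, Subgroup.zpowers_le.mpr hdE⟩, ?_⟩
  · rw [SigmaTools.centralizer_zpowers]
    exact line_fpf h.hP hmv
  · haveI := Fact.mk ht.1.1
    rw [h.hP, Nat.prime_dvd_prime_iff_eq ht.1.1 hp.out] at hd'
    exact h.hps (hd' ▸ SigmaBasics.mem_sigma_of_alpha hG h.hM ht.1)
  · refine le_trans (inf_le_inf_right _ ?_) ((h.inf_eq hG).le.trans inf_le_right)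
    exact Subgroup.map_mono (SigmaBasics.piCore_mono fun t ht htb => by
      haveI := Fact.mk ht
      exact SigmaBasics.mem_sigma_of_alpha hG h.hM htb.1)
  · by_contra hcon
    push Not at hcon
    haveI := BetaCore.isNilpotent_of_le_derived hG h.hM (le_refl ⁅M, M⁆) fun t _ _ => hcon t
    refine not_central hG h.hM hE h.hps h.hr1 h.hP hEP fun a ha => Subgroup.mem_centralizer_iff.mpr fun b hb => ?_
    refine (Basic.commute_of_mem_nilpotent (K := ⁅M, M⁆) (SigmaCore.le_derived hG h.hM hb)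
      (Subgroup.commutator_mono hE.1 hE.1 ((h.normalizes hG hE hPE).1 ha)) ?_).eq
    exact ((SigmaTools.coprime_sigmaCore h.hps).coprime_dvd_left
      (Subgroup.orderOf_dvd_natCard _ hb)).coprime_dvd_right (h.hP ▸ Subgroup.orderOf_dvd_natCard _ ha)

/-- No prime order element of the complement moves the line. -/
theorem T3.allC (hG : Cfsg.IsMinSimpleOddOrder G) (h : T3 p M P L) (hE : Cfsg.IsComplIn E (Cfsg.sigmaCore M) M)
    (hPE : P ≤ E) : AllC E P := by
  intro e heE heo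
  haveI := Fact.mk heo
  set r₀ := orderOf e with hr₀
  by_contra hmv
  have hEP := (h.normalizes hG hE hPE).2.1
  have hEL := h.compl_le hG hE hPE
  have hers : r₀ ∉ Cfsg.sigma M :=
    (ComplementHall.isHall hG h.hM hE).2.1 r₀ heo (Subgroup.orderOf_dvd_natCard _ heE)
  have hed := h.not_dvd_of_moves hG hE hPE heE rfl hers hmv
  have herL : r₀ ∉ Cfsg.sigma L := fun hs => frob hG h.hM hE h.hps h.hr1 h.hP h.hPM hEP (hE.1 heE) rfl hers
    (hEP heE) hmv ((h.fix_sigma hG (hE.1 heE) (hEL heE) rfl hs).le.trans inf_le_right)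
  obtain ⟨y, hy, hyo, hye⟩ := PrimeAction.exists_gen h.hP
  have hyσ := h.le_sigmaCore hG hy
  have hy1 : y ≠ 1 := fun e' => hp.out.ne_one (by rw [← hyo, e', orderOf_one])
  -- a line of `X` normalised by `e`
  obtain ⟨q, hq, hd⟩ := Nat.exists_prime_and_dvd (mt Subgroup.card_eq_one.mp h.hfix)
  haveI := Fact.mk hq
  rw [← h.inf_eq hG] at hd
  set X := Cfsg.sigmaCore M ⊓ L with hX
  set Z := Subgroup.zpowers e with hZ
  have hqs : q ∈ Cfsg.sigma M := SigmaTools.mem_sigma_of_card (hd.trans (Subgroup.card_dvd_of_le inf_le_left))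
  have hqL := SigmaMutual.not_sigma_of_nonconj hG h.hM h.hL (h.not_conj hG) hqs
  have hqr : q ≠ r₀ := fun e' => hers (e' ▸ hqs)
  have hZX : Z ≤ Subgroup.normalizer (X : Set G) := Subgroup.zpowers_le.mpr (by
    rw [hX, h.inf_eq hG]; exact h.normalizes_fix hG hE hPE heE)
  obtain ⟨Q, hQ⟩ := Coprime.exists_invariant_sylow hZX (by
    rw [line_of_orderOf (rfl : orderOf e = r₀)]
    exact (SigmaTools.coprime_sigmaCore hers).symm.coprime_dvd_right (Subgroup.card_dvd_of_le inf_le_left))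
    (Or.inr (hG.2.2.2 X fun e' => h.hL.1 (top_le_iff.mp (e' ▸ inf_le_right)))) q
  set Q₁ := (Q : Subgroup X).map X.subtype with hQ₁
  have hQ₁X : Q₁ ≤ X := Subgroup.map_subtype_le _
  have hQ₁p : IsPGroup q Q₁ := Q.isPGroup'.map _
  have hQd : q ∣ Nat.card Q₁ := hQ₁p.card_eq_or_dvd.resolve_left fun e' => Q.not_dvd_index (by
    rw [(Subgroup.map_eq_bot_iff_of_injective _ X.subtype_injective).mp (Subgroup.eq_bot_of_card_eq _ e'),
      Subgroup.index_bot]
    exact hd)
  obtain ⟨x, hx⟩ := exists_prime_orderOf_dvd_card' (G := Q₁) q hQd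
  have hxo : orderOf (x : G) = q := by rw [Subgroup.orderOf_coe, hx]
  have hxX := hQ₁X x.2
  have hxy : Commute (x : G) y :=
    ((Subgroup.mem_centralizer_iff.mp ((h.inf_eq hG).le hxX).2) y hy).symm
  obtain ⟨hq1, hNx⟩ := SigmaMutual.mutual_fix hG h.hM h.hL (h.not_conj hG) hqs (h.mem_sigma hG) hxo hyo
    (SigmaTools.sigmaCore_le M hxX.1) hxX.2 (h.hPM hy) (Subgroup.le_normalizer.trans h.hNP hy) hxy
  set Xq := Subgroup.zpowers (x : G) with hXq
  have hXqc : Nat.card Xq = q := line_of_orderOf hxo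
  haveI : IsCyclic Q₁ := SigmaComplement.isCyclic_of_rank_one hG.1 (hQ₁X.trans inf_le_right) hQ₁p hq1
  have heXq : e ∈ Subgroup.normalizer (Xq : Set G) :=
    SigmaEmbedding.normalizer_le_of_cyclic (Subgroup.zpowers_le.mpr x.2) (hQ (Subgroup.mem_zpowers e))
  have hPx : y ∈ Cfsg.sigmaCore L ⊓ Subgroup.centralizer ({(x : G)} : Set G) :=
    ⟨hyσ, Subgroup.mem_centralizer_singleton_iff.mpr hxy.symm.eq⟩
  by_cases hqd : q ∣ Nat.card ↥⁅L, L⁆
  swap
  · -- `x` is a `τ₁(L)`-element commuting with `e`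
    have hc := PrimeActionTools.le_centralizer_of_normalizes (N := Z) hqd hQ₁p (hQ₁X.trans inf_le_right)
      (Subgroup.zpowers_le.mpr (hEL heE)) hQ
    have hpa := pa hG h.hL (tau1_mem (hxX.2) hxo hqL hqd hq1) hxX.2 hxo (hEL heE) (rfl : orderOf e = r₀) herL
      (show Commute (x : G) e from Subgroup.mem_centralizer_iff.mp (hc (Subgroup.mem_zpowers e)) x x.2)
    exact hmv (hye ▸ Subgroup.zpowers_le.mpr (hpa hPx))
  have h' : T3 q L Xq M := ⟨h.hL, hqL, hq1, hqd, hXqc, Subgroup.zpowers_le.mpr hxX.2, fun e' => by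
    rw [SigmaTools.centralizer_zpowers] at e'
    rw [e', Subgroup.mem_bot] at hPx
    exact hy1 hPx, h.hM, hNx⟩
  have hZq : Disjoint Xq Z := Subgroup.disjoint_of_coprime_natCard (by
    rw [hXqc, line_of_orderOf (rfl : orderOf e = r₀)]
    exact (Nat.coprime_primes hq heo).mpr hqr)
  obtain ⟨F, hF, hle⟩ := h'.exists_compl hG (sup_le h'.hPM (Subgroup.zpowers_le.mpr (hEL heE))) fun u hu hd' => by
    rw [Coprime.card_sup_of_le_normalizer (Subgroup.zpowers_le.mpr heXq) hZq, hXqc,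
      line_of_orderOf (rfl : orderOf e = r₀)] at hd'
    rcases hu.dvd_mul.mp hd' with h' | h'
    · exact (Nat.prime_dvd_prime_iff_eq hu hq).mp h' ▸ hqL
    · exact (Nat.prime_dvd_prime_iff_eq hu heo).mp h' ▸ herL
  obtain ⟨hxF, hZF⟩ := sup_le_iff.mp hle
  have heF : e ∈ F := hZF (Subgroup.mem_zpowers e)
  by_cases hallF : AllC F Xq
  · have h1 := h'.fix_of_allC hG hF hxF hallF heF rfl
    rw [SigmaTools.centralizer_zpowers] at h1
    exact hmv (hye ▸ Subgroup.zpowers_le.mpr (h1.ge hPx).2)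
  simp only [AllC, not_forall] at hallF
  obtain ⟨f, hfF, hfo, hfmv⟩ := hallF
  haveI := Fact.mk hfo
  set s₀ := orderOf f with hs₀
  have hfL : s₀ ∉ Cfsg.sigma L :=
    (ComplementHall.isHall hG h.hL hF).2.1 s₀ hfo (Subgroup.orderOf_dvd_natCard _ hfF)
  have hfd := h'.not_dvd_of_moves hG hF hxF hfF rfl hfL hfmv
  have hFx := (h'.normalizes hG hF hxF).2.1
  by_cases hed' : r₀ ∣ Nat.card ↥⁅L, L⁆
  swap
  · by_cases hex : Xq ≤ Subgroup.centralizer ({e} : Set G)
    · exact hfmv (h'.all_of_one hG hF hxF heF rfl hed' hex f hfF hfo)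
    · exact CommonMover.Side.contradiction hG (h.side hG hE hPE heE rfl hmv) (h'.side hG hF hxF heF rfl hex)
  have hfM : f ∈ M := h'.compl_le hG hF hxF hfF
  have hfMs : s₀ ∉ Cfsg.sigma M := fun hs => frob hG h.hL hF hqL hq1 hXqc h'.hPM hFx (hF.1 hfF) rfl hfL
    (hFx hfF) hfmv ((h'.fix_sigma hG (hF.1 hfF) hfM rfl hs).le.trans inf_le_right)
  obtain ⟨-, hFe, -⟩ := derived_line hG h.hL hF herL (h'.rank_one hG herL) hed'
    (line_of_orderOf (rfl : orderOf e = r₀)) (Subgroup.zpowers_le.mpr heF)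
  -- a complement of `M_σ` containing `P` and `f`
  set Y := Cfsg.sigmaCore L ⊓ M with hY
  have hfY : Subgroup.zpowers f ≤ Subgroup.normalizer (Y : Set G) := Subgroup.zpowers_le.mpr
    (Subgroup.inf_normalizer_le_normalizer_inf
      ⟨SigmaTools.le_normalizer_sigmaCore L (hF.1 hfF), Subgroup.le_normalizer hfM⟩)
  have hYf : Disjoint Y (Subgroup.zpowers f) := Subgroup.disjoint_of_coprime_natCard (by
    rw [line_of_orderOf (rfl : orderOf f = s₀)]
    exact (SigmaTools.coprime_sigmaCore hfL).coprime_dvd_left (Subgroup.card_dvd_of_le inf_le_left))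
  obtain ⟨E', hE', hle'⟩ := h.exists_compl hG (sup_le inf_le_right (Subgroup.zpowers_le.mpr hfM)) fun u hu hd' => by
    rw [Coprime.card_sup_of_le_normalizer hfY hYf, line_of_orderOf (rfl : orderOf f = s₀)] at hd'
    rcases hu.dvd_mul.mp hd' with h1 | h1
    · haveI := Fact.mk hu
      exact SigmaMutual.not_sigma_of_nonconj hG h.hL h.hM (h'.not_conj hG)
        (SigmaTools.mem_sigma_of_card (h1.trans (Subgroup.card_dvd_of_le inf_le_left)))
    · exact (Nat.prime_dvd_prime_iff_eq hu hfo).mp h1 ▸ hfMs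
  have hPE' : P ≤ E' := (le_inf (h.le_sigmaCore hG) h.hPM).trans (le_sup_left.trans hle')
  have hfE' : f ∈ E' := hle' (Subgroup.mem_sup_right (Subgroup.mem_zpowers f))
  obtain ⟨hPd', hE'P, hdC'⟩ := h.normalizes hG hE' hPE'
  by_cases hfP : P ≤ Subgroup.centralizer ({f} : Set G)
  swap
  · exact CommonMover.Side.contradiction hG (h.side hG hE' hPE' hfE' rfl hfP) (h'.side hG hF hxF hfF rfl hfmv)
  by_cases hfdM : s₀ ∣ Nat.card ↥⁅M, M⁆
  · -- `e` and `f` commute
    have hef : Commute f e := by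
      have h1 : ⁅f, e⁆ ∈ Z := (Subgroup.le_normalizer_iff_commutator_le_right.1 hFe)
        (Subgroup.commutator_mem_commutator hfF (Subgroup.mem_zpowers e))
      have h2 : ⁅f, e⁆ ∈ ⁅M, M⁆ := Subgroup.commutator_mem_commutator hfM (hE.1 heE)
      refine commutatorElement_eq_one_iff_commute.mp (orderOf_eq_one_iff.mp ?_)
      refine Nat.eq_one_of_dvd_coprimes (heo.coprime_iff_not_dvd.mpr hed) ?_ (Subgroup.orderOf_dvd_natCard _ h2)
      exact (Subgroup.orderOf_dvd_natCard _ h1).trans (line_of_orderOf hr₀.symm).dvd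
    have hpa := pa hG h.hL (h'.tau1_elem hG (hF.1 hfF) rfl hfL hfd) (hF.1 hfF) rfl (hEL heE)
      (rfl : orderOf e = r₀) herL hef
    exact hmv (hye ▸ Subgroup.zpowers_le.mpr (hpa ⟨hyσ, hfP hy⟩))
  · -- everything in `E'` centralises `P`, hence `e` does
    have hall' := h.all_of_one hG hE' hPE' hfE' rfl hfdM hfP
    have hdisj : Disjoint P Z := Subgroup.disjoint_of_coprime_natCard (by
      rw [h.hP, line_of_orderOf (rfl : orderOf e = r₀)]
      exact (Nat.coprime_primes hp.out heo).mpr fun e' => hed (by subst e'; exact h.hd))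
    obtain ⟨m, hm, hmE⟩ := ComplementHall.exists_conj_le hG h.hM hE'
      (sup_le h.hPM (Subgroup.zpowers_le.mpr (hE.1 heE))) fun u hu hd' => by
        rw [Coprime.card_sup_of_le_normalizer (Subgroup.zpowers_le.mpr (hEP heE)) hdisj, h.hP,
          line_of_orderOf (rfl : orderOf e = r₀)] at hd'
        rcases hu.dvd_mul.mp hd' with h1 | h1
        · exact (Nat.prime_dvd_prime_iff_eq hu hp.out).mp h1 ▸ h.hps
        · exact (Nat.prime_dvd_prime_iff_eq hu heo).mp h1 ▸ hers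
    have hmP : cj m P = P := by
      have hc : Nat.card (cj m P : Subgroup G) = p := by
        rw [Subgroup.card_map_of_injective (MulAut.conj m).injective, h.hP]
      have hle1 : cj m P ≤ E' := (Subgroup.map_mono le_sup_left).trans hmE
      exact PrimeAction.eq_of_rank_one h.hr1 hc h.hP (hle1.trans hE'.1) h.hPM
        ((derived_line hG h.hM hE' h.hps h.hr1 h.hd hc hle1).1.trans hdC')
    have h2 : MulAut.conj m e ∈ E' := hmE ⟨e, Subgroup.mem_sup_right (Subgroup.mem_zpowers e), rfl⟩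
    have h3 := hall' _ h2 (by rw [MulEquiv.orderOf_eq]; exact heo)
    refine hmv fun z hz => Subgroup.mem_centralizer_singleton_iff.mpr ((MulAut.conj m).injective ?_)
    rw [map_mul, map_mul]
    exact Subgroup.mem_centralizer_singleton_iff.mp (h3 (hmP.le ⟨z, hz, rfl⟩))

/-- **Prime action.** Prime order elements of a complement centralise the line and have its fixed points. -/
theorem T3.main (hG : Cfsg.IsMinSimpleOddOrder G) (h : T3 p M P L) (hE : Cfsg.IsComplIn E (Cfsg.sigmaCore M) M)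
    (hPE : P ≤ E) {f : G} (hfE : f ∈ E) (hf : (orderOf f).Prime) :
    Cfsg.sigmaCore M ⊓ Subgroup.centralizer ({f} : Set G) = Cfsg.sigmaCore M ⊓ Subgroup.centralizer (P : Set G) ∧
      P ≤ Subgroup.centralizer ({f} : Set G) := by
  haveI := Fact.mk hf
  exact ⟨h.fix_of_allC hG hE hPE (h.allC hG hE hPE) hfE rfl, h.allC hG hE hPE f hfE hf⟩

end CfsgLib.OddOrder.TauThree
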