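import Cfsg.Agent.Lib.Char.CoherenceGrow
import Cfsg.Agent.Lib.Char.CoherenceKernel
import Cfsg.Agent.Lib.Char.CoherenceFeit
import Cfsg.Agent.Lib.Char.Quotient
import Cfsg.Agent.Lib.DegreeTools.Basic
import Cfsg.Agent.Lib.DegreeTools.PDegree
import Mathlib

set_option autoImplicit false
set_option linter.style.haveILetI false
set_option linter.unusedSectionVars false

/-!
Sums of the squares of small degrees, for groups with a central subgroup of prime power index over a normal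
subgroup.
-/

namespace CfsgLib.OddOrder.TypeOneDegrees

open CfsgLib.Char
open CfsgLib.Char.Coherence (natDeg natDeg_spec natDeg_pos)

variable {X : Type*} [Group X] [Fintype X]

theorem natDeg_eq (χ : Cfsg.IrrCharacter X) : natDeg (χ : X → ℂ) = Cfsg.charDegree (χ : X → ℂ) :=
  Nat.cast_injective (R := ℂ) ((natDeg_spec χ.2).symm.trans (DegreeTools.deg_cast χ).symm)

/-- The regular character. -/
theorem sum_natDeg_mul {g : X} (hg : g ≠ 1) :
    ∑ χ : Cfsg.IrrCharacter X, (natDeg (χ : X → ℂ) : ℂ) * (χ : X → ℂ) g = 0 := by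
  rw [← DegreeTools.sum_deg_mul g hg]
  exact Finset.sum_congr rfl fun χ _ => by rw [natDeg_eq]

open scoped Classical in
/-- The squares of the degrees over a normal subgroup. -/
theorem sum_above (N : Subgroup X) [N.Normal] :
    ∑ χ ∈ Finset.univ.filter (fun χ : Cfsg.IrrCharacter X => ∀ n ∈ N, (χ : X → ℂ) n = (χ : X → ℂ) 1),
      natDeg (χ : X → ℂ) ^ 2 = N.index := by
  haveI := Fintype.ofFinite (X ⧸ N)
  rw [N.index_eq_card, ← DegreeTools.sum_deg_sq (G := X ⧸ N),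
    Finset.sum_subtype (p := fun χ : Cfsg.IrrCharacter X => ∀ n ∈ N, (χ : X → ℂ) n = (χ : X → ℂ) 1) _
      (fun χ => by simp)]
  refine (Fintype.sum_equiv (irrQuotientEquiv N) _ _ fun ψ => ?_).symm
  rw [← natDeg_eq]
  rfl

open scoped Classical in
theorem sum_above_mul (N : Subgroup X) [N.Normal] {g : X} (hg : g ∉ N) :
    ∑ χ ∈ Finset.univ.filter (fun χ : Cfsg.IrrCharacter X => ∀ n ∈ N, (χ : X → ℂ) n = (χ : X → ℂ) 1),
      (natDeg (χ : X → ℂ) : ℂ) * (χ : X → ℂ) g = 0 := by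
  haveI := Fintype.ofFinite (X ⧸ N)
  rw [← sum_natDeg_mul (g := (QuotientGroup.mk' N g)) fun e => hg ((QuotientGroup.eq_one_iff g).mp e),
    Finset.sum_subtype (p := fun χ : Cfsg.IrrCharacter X => ∀ n ∈ N, (χ : X → ℂ) n = (χ : X → ℂ) 1) _
      (fun χ => by simp)]
  exact (Fintype.sum_equiv (irrQuotientEquiv N) _ _ fun ψ => rfl).symm

/-- The principal character. -/
theorem natDeg_oneChar : natDeg (DegreeTools.oneChar X : X → ℂ) = 1 := by
  rw [natDeg_eq, DegreeTools.deg_oneChar]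

open scoped Classical in
/-- Above `N`, the degrees are powers of `p` and the squares of the smaller ones already add up to the square. -/
theorem prior (N U : Subgroup X) [N.Normal] [U.Normal] (hcent : N ⊔ U ≤ Subgroup.center X) {p m : ℕ}
    (hp : p.Prime) (hidx : (N ⊔ U).index = p ^ m) (θ : Cfsg.IrrCharacter X)
    (hθ : natDeg (θ : X → ℂ) ≠ 1) :
    ∃ k, 1 ≤ k ∧ natDeg (θ : X → ℂ) = p ^ k ∧
      p ^ (2 * k) ≤ ∑ ψ ∈ Finset.univ.filter (fun ψ : Cfsg.IrrCharacter X =>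
        (∀ n ∈ N, (ψ : X → ℂ) n = (ψ : X → ℂ) 1) ∧ natDeg (ψ : X → ℂ) < natDeg (θ : X → ℂ)),
        natDeg (ψ : X → ℂ) ^ 2 := by
  set D := N ⊔ U
  haveI : D.Normal := Subgroup.sup_normal N U
  have hab : ∀ a b : D, a * b = b * a := fun a b =>
    Subtype.ext (Subgroup.mem_center_iff.mp (hcent b.2) a)
  have hpow : ∀ χ : Cfsg.IrrCharacter X, ∃ i ≤ m, natDeg (χ : X → ℂ) = p ^ i := fun χ => by
    rw [natDeg_eq]
    exact (Nat.dvd_prime_pow hp).mp (hidx ▸ DegreeTools.deg_dvd_index D hab χ)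
  obtain ⟨k, -, hk⟩ := hpow θ
  have hk1 : 1 ≤ k := Nat.one_le_iff_ne_zero.mpr fun e => hθ (by rw [hk, e, pow_zero])
  refine ⟨k, hk1, hk, ?_⟩
  obtain ⟨d, hd, hd2⟩ := CoherenceKernel.degree_sq_le D ⊥ (fun a ha b => by
    rw [Subgroup.mem_bot, ← Subgroup.mem_center_iff.mp (hcent ha) b]
    group) θ.2 (fun b hb => by rw [Subgroup.mem_bot.mp hb])
  have hdk : d = p ^ k := Nat.cast_injective (R := ℂ) (hd.symm.trans (by rw [natDeg_spec θ.2, hk]))
  have h2k : p ^ (2 * k) ∣ N.index := by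
    refine dvd_trans ?_ (Subgroup.index_dvd_of_le (le_sup_left : N ≤ D))
    rw [hidx]
    refine Nat.pow_dvd_pow p ?_
    rw [hidx, hdk, ← pow_mul, mul_comm] at hd2
    exact (Nat.pow_le_pow_iff_right hp.one_lt).mp hd2
  set T := Finset.univ.filter fun χ : Cfsg.IrrCharacter X => ∀ n ∈ N, (χ : X → ℂ) n = (χ : X → ℂ) 1
  set d' := natDeg (θ : X → ℂ)
  have hsplit := (Finset.sum_filter_add_sum_filter_not T (fun χ : Cfsg.IrrCharacter X => natDeg (χ : X → ℂ) < d')
    (fun χ => natDeg (χ : X → ℂ) ^ 2)).trans (sum_above N)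
  have hbig : p ^ (2 * k) ∣ ∑ χ ∈ T.filter (fun χ : Cfsg.IrrCharacter X => ¬ natDeg (χ : X → ℂ) < d'),
      natDeg (χ : X → ℂ) ^ 2 := by
    refine Finset.dvd_sum fun χ hχ => ?_
    obtain ⟨i, -, hi⟩ := hpow χ
    rw [hi, ← pow_mul, mul_comm i]
    refine Nat.pow_dvd_pow p (Nat.mul_le_mul_left 2 ?_)
    have := (Finset.mem_filter.mp hχ).2
    rw [hk, hi, not_lt] at this
    exact (Nat.pow_le_pow_iff_right hp.one_lt).mp this
  rw [← hsplit] at h2k
  have hsmall := (Nat.dvd_add_left hbig).mp h2k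
  rw [Finset.filter_filter] at hsmall
  refine Nat.le_of_dvd ?_ hsmall
  refine Finset.sum_pos' (fun _ _ => Nat.zero_le _) ⟨DegreeTools.oneChar X, Finset.mem_filter.mpr
    ⟨Finset.mem_univ _, fun _ _ => rfl, ?_⟩, by rw [natDeg_oneChar]; norm_num⟩
  rw [natDeg_oneChar, hk]
  exact Nat.one_lt_pow (by omega) hp.one_lt

end CfsgLib.OddOrder.TypeOneDegrees
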