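import Cfsg.Agent.Lib.OddOrder.TypeOneInduced
import Cfsg.Agent.Lib.OddOrder.TypeOneDegrees
import Cfsg.Agent.Lib.Char.CoherenceFeit
import Mathlib

set_option autoImplicit false
set_option linter.style.haveILetI false
set_option linter.unusedSectionVars false

/-!
The family of the non-principal characters of `L_σ` above a normal subgroup of `L`.
-/

namespace CfsgLib.OddOrder.TypeOneAbove

open CfsgLib.Char
open CfsgLib.Char.Coherence (natDeg natDeg_spec natDeg_pos natDeg_indFun)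
open TypeOneConfig (Cfg)
open TypeOneInduced (core ind coherent contra)
open scoped Classical

variable {G : Type*} [Group G] [Fintype G] {M L A : Subgroup G} {x : G} {p : ℕ} [Fintype L] [Fintype (core L)]

/-- The non-principal characters trivial on `Z`. -/
noncomputable def above (L : Subgroup G) [Fintype (core L)] (Z : Subgroup L) : Finset (Cfsg.IrrCharacter (core L)) :=
  Finset.univ.filter fun θ : Cfsg.IrrCharacter (core L) =>
    θ ≠ DegreeTools.oneChar (core L) ∧ Coherence.TrivOn (core L) Z (θ : core L → ℂ)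

theorem mem_above {Z : Subgroup L} {θ : Cfsg.IrrCharacter (core L)} :
    θ ∈ above L Z ↔ θ ≠ DegreeTools.oneChar (core L) ∧ Coherence.TrivOn (core L) Z (θ : core L → ℂ) := by
  simp [above]

theorem trivOn_iff (Z : Subgroup L) (θ : core L → ℂ) :
    Coherence.TrivOn (core L) Z θ ↔ ∀ n ∈ Z.subgroupOf (core L), θ n = θ 1 :=
  ⟨fun h n hn => h n (Subgroup.mem_subgroupOf.mp hn), fun h a ha => h a (Subgroup.mem_subgroupOf.mpr ha)⟩

theorem stable (Z : Subgroup L) [Z.Normal] :
    ∀ θ ∈ above L Z, ∀ ψ : Cfsg.IrrCharacter (core L), ind (core L) ψ = ind (core L) θ → ψ ∈ above L Z := by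
  intro θ hθ ψ e
  obtain ⟨hne, ht⟩ := mem_above.mp hθ
  refine mem_above.mpr ⟨fun h1 => hne ?_, Coherence.trivOn_of_indFun_eq ψ.2 θ.2 e ht⟩
  obtain ⟨g, hg⟩ := Coherence.exists_conjG_of_indFun_eq θ.2 ψ.2 e.symm
  subst h1
  exact Subtype.ext (hg.trans rfl)

/-- The squares of the degrees. -/
theorem sum_sq (Z : Subgroup L) [Z.Normal] :
    ∑ θ ∈ above L Z, natDeg (θ : core L → ℂ) ^ 2 + 1 = (Z.subgroupOf (core L)).index := by
  haveI : (Z.subgroupOf (core L)).Normal := Subgroup.Normal.subgroupOf ‹Z.Normal› _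
  rw [← TypeOneDegrees.sum_above (Z.subgroupOf (core L))]
  have hone : DegreeTools.oneChar (core L) ∈ Finset.univ.filter (fun χ : Cfsg.IrrCharacter (core L) =>
      ∀ n ∈ Z.subgroupOf (core L), (χ : core L → ℂ) n = (χ : core L → ℂ) 1) := by
    simp
  rw [← Finset.sum_erase_add _ _ hone, TypeOneDegrees.natDeg_oneChar, one_pow]
  congr 1
  refine Finset.sum_congr ?_ fun _ _ => rfl
  ext θ
  simp [mem_above, trivOn_iff]

theorem sum_mul (Z : Subgroup L) [Z.Normal] {g : core L} (hg : (g : L) ∉ Z) :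
    ∑ θ ∈ above L Z, (natDeg (θ : core L → ℂ) : ℂ) * (θ : core L → ℂ) g = -1 := by
  haveI : (Z.subgroupOf (core L)).Normal := Subgroup.Normal.subgroupOf ‹Z.Normal› _
  have h := TypeOneDegrees.sum_above_mul (Z.subgroupOf (core L)) (g := g) fun h => hg (Subgroup.mem_subgroupOf.mp h)
  have hone : DegreeTools.oneChar (core L) ∈ Finset.univ.filter (fun χ : Cfsg.IrrCharacter (core L) =>
      ∀ n ∈ Z.subgroupOf (core L), (χ : core L → ℂ) n = (χ : core L → ℂ) 1) := by
    simp
  rw [← Finset.sum_erase_add _ _ hone, TypeOneDegrees.natDeg_oneChar] at h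
  simp only [DegreeTools.coe_oneChar, Nat.cast_one, mul_one] at h
  rw [← eq_neg_of_add_eq_zero_left h]
  refine Finset.sum_congr ?_ fun _ _ => rfl
  ext θ
  simp [mem_above, trivOn_iff]

/-- There are more linear members than the index. -/
theorem index_lt_linear (Z : Subgroup L) [Z.Normal] (hZ : Z < core L) (hsol : Group.IsSolvable (core L))
    (hodd : Odd (Nat.card L))
    (hirr : ∀ θ ∈ above L Z, Cfsg.IsIrrCharacter L (ind (core L) θ)) :
    (core L).index < ((above L Z).filter fun θ : Cfsg.IrrCharacter (core L) => natDeg (θ : core L → ℂ) = 1).card := by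
  set Θ₀ := (above L Z).filter fun θ : Cfsg.IrrCharacter (core L) => natDeg (θ : core L → ℂ) = 1
  have hst₀ : ∀ θ ∈ Θ₀, ∀ ψ : Cfsg.IrrCharacter (core L), ind (core L) ψ = ind (core L) θ → ψ ∈ Θ₀ := by
    intro θ hθ ψ e
    obtain ⟨h1, h2⟩ := Finset.mem_filter.mp hθ
    exact Finset.mem_filter.mpr ⟨stable Z θ h1 ψ e, (Coherence.natDeg_eq_of_indFun_eq _ e).trans h2⟩
  have h := Coherence.sum_indFun (core L) Θ₀ (fun θ hθ => hirr θ (Finset.mem_filter.mp hθ).1) hst₀ fun _ => 1
  simp only [Finset.sum_const, smul_eq_mul, mul_one] at h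
  set J := ⁅core L, core L⁆ ⊔ Z with hJ
  haveI : J.Normal := Subgroup.sup_normal _ _
  have hcard : Θ₀.card + 1 = (J.subgroupOf (core L)).index := by
    rw [← sum_sq J]
    congr 1
    rw [Finset.card_eq_sum_ones]
    refine Finset.sum_congr ?_ fun θ hθ => ?_
    · ext θ
      simp only [Θ₀, Finset.mem_filter, mem_above]
      constructor
      · rintro ⟨⟨h1, h2⟩, h3⟩
        refine ⟨h1, fun a ha => ?_⟩
        have hle : J ≤ ((charKer (IsIrrCharacter.isCharacter θ.2)).map (core L).subtype) := by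
          refine sup_le (fun z hz => ?_) fun z hz => ?_
          · exact ⟨⟨z, Subgroup.commutator_le_left _ _ hz⟩, (mem_charKer _).mpr
              ((Feit.trivOn_commutator_iff _ θ.2).mpr h3 ⟨z, Subgroup.commutator_le_left _ _ hz⟩ hz), rfl⟩
          · exact ⟨⟨z, hZ.le hz⟩, (mem_charKer _).mpr (h2 ⟨z, hZ.le hz⟩ hz), rfl⟩
        obtain ⟨b, hb, hba⟩ := hle ha
        rw [← (Subtype.ext hba : b = a)]
        exact (mem_charKer _).mp hb
      · rintro ⟨h1, h2⟩
        exact ⟨⟨h1, fun a ha => h2 a (Subgroup.mem_sup_right ha)⟩,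
          (Feit.trivOn_commutator_iff _ θ.2).mp fun a ha => h2 a (Subgroup.mem_sup_left ha)⟩
    · have h1 := (mem_above.mp hθ).2
      rw [(Feit.trivOn_commutator_iff _ θ.2).mp fun a ha => h1 a (Subgroup.mem_sup_left ha), one_pow]
  obtain ⟨l, hl1, hlJ⟩ := CoherenceKernel.exists_linear_above (core L) hsol Z hZ
  have hmem : (⟨_, isIrrCharacter_hom l⟩ : Cfsg.IrrCharacter (core L)) ∈ Θ₀ :=
    Finset.mem_filter.mpr ⟨mem_above.mpr ⟨fun e => hl1 (congrArg Subtype.val e), fun a ha => by simp [hlJ a ha]⟩,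
      by simp [natDeg]⟩
  have hpos : 0 < Θ₀.card := Finset.card_pos.mpr ⟨_, hmem⟩
  have hJodd : Odd (J.subgroupOf (core L)).index :=
    hodd.of_dvd_nat ((Subgroup.index_dvd_card _).trans (Subgroup.card_subgroup_dvd_card _))
  have heodd : Odd (core L).index := hodd.of_dvd_nat (Subgroup.index_dvd_card _)
  rw [← hcard] at hJodd
  by_contra hle
  have himg : (Θ₀.image fun φ : Cfsg.IrrCharacter (core L) => Cfsg.indFun (core L) (φ : core L → ℂ)).card = 1 := by
    have h1 : 0 < (Θ₀.image fun φ : Cfsg.IrrCharacter (core L) => Cfsg.indFun (core L) (φ : core L → ℂ)).card :=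
      Finset.card_pos.mpr ⟨_, Finset.mem_image_of_mem _ hmem⟩
    by_contra h2
    have := Nat.mul_le_mul_left (core L).index (show 2 ≤ (Θ₀.image fun φ : Cfsg.IrrCharacter (core L) =>
      Cfsg.indFun (core L) (φ : core L → ℂ)).card by omega)
    have hepos : 0 < (core L).index := heodd.pos
    omega
  rw [himg, mul_one] at h
  rw [h] at hJodd
  exact Nat.not_odd_iff_even.mpr heodd.add_one hJodd

/-- The coherence of the family. -/
theorem coherence (hG : Cfsg.IsMinSimpleOddOrder G) (hL : IsCoatom L) (Z U : Subgroup L) [Z.Normal] [U.Normal]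
    (hZ : Z < core L)
    (hcent : Z.subgroupOf (core L) ⊔ U.subgroupOf (core L) ≤ Subgroup.center (core L)) (hp : p.Prime) {m : ℕ}
    (hidx : (Z.subgroupOf (core L) ⊔ U.subgroupOf (core L)).index = p ^ m)
    (hirr : ∀ θ ∈ above L Z, Cfsg.IsIrrCharacter L (ind (core L) θ))
    (hsmall : 2 * (core L).index + 1 ≤ p ∨ ∀ θ ∈ above L Z, natDeg (θ : core L → ℂ) = 1) :
    Cfsg.IsCoherent (↑((above L Z).image (ind (core L))) : Set (L → ℂ)) {1}ᶜ
      (Cfsg.dadeIsometry ((Cfsg.sigmaCore L : Set G) \ {1}) L (Cfsg.supportR L)) := by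
  haveI : (Z.subgroupOf (core L)).Normal := Subgroup.Normal.subgroupOf ‹Z.Normal› _
  haveI : (U.subgroupOf (core L)).Normal := Subgroup.Normal.subgroupOf ‹U.Normal› _
  have hsol : Group.IsSolvable (core L) :=
    haveI := hG.2.2.2 L hL.1
    inferInstance
  refine coherent hG hL _ hirr (stable Z)
    (index_lt_linear Z hZ hsol (hG.1.of_dvd_nat (Subgroup.card_subgroup_dvd_card _)) hirr) fun θ hθ hd => ?_
  have h2e := hsmall.resolve_right fun h => hd (h θ hθ)
  obtain ⟨k, hk1, hk, hle⟩ := TypeOneDegrees.prior (Z.subgroupOf (core L)) (U.subgroupOf (core L)) hcent hp hidx θ hd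
  set S := Finset.univ.filter (fun ψ : Cfsg.IrrCharacter (core L) =>
    (∀ n ∈ Z.subgroupOf (core L), (ψ : core L → ℂ) n = (ψ : core L → ℂ) 1) ∧
      natDeg (ψ : core L → ℂ) < natDeg (θ : core L → ℂ))
  have hone : DegreeTools.oneChar (core L) ∈ S := Finset.mem_filter.mpr ⟨Finset.mem_univ _, fun _ _ => rfl,
    by rw [TypeOneDegrees.natDeg_oneChar, hk]; exact Nat.one_lt_pow (by omega) hp.one_lt⟩
  rw [← Finset.sum_erase_add _ _ hone, TypeOneDegrees.natDeg_oneChar, one_pow] at hle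
  have hsub : S.erase (DegreeTools.oneChar (core L)) ⊆ (above L Z).filter
      (fun ψ : Cfsg.IrrCharacter (core L) =>
        natDeg (ψ : core L → ℂ) = 1 ∨ natDeg (ψ : core L → ℂ) < natDeg (θ : core L → ℂ)) := fun ψ hψ => by
    obtain ⟨h1, h2⟩ := Finset.mem_erase.mp hψ
    exact Finset.mem_filter.mpr ⟨mem_above.mpr ⟨h1, (trivOn_iff Z _).mpr (Finset.mem_filter.mp h2).2.1⟩,
      Or.inr (Finset.mem_filter.mp h2).2.2⟩
  have h3 := Finset.sum_le_sum_of_subset (f := fun ψ : Cfsg.IrrCharacter (core L) => natDeg (ψ : core L → ℂ) ^ 2) hsub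
  rw [hk] at h3 ⊢
  have hpk : 1 < p ^ k := Nat.one_lt_pow (by omega) hp.one_lt
  have hpp : p ≤ p ^ k := Nat.le_self_pow (by omega) p
  rw [two_mul k, pow_add] at hle
  have h4 : 2 * (core L).index * p ^ k + p ^ k ≤ p ^ k * p ^ k := by nlinarith
  omega

/-- The bound for the family. -/
theorem bound (hG : Cfsg.IsMinSimpleOddOrder G) (c : Cfg M L A x p) (Z U : Subgroup L) [Z.Normal] [U.Normal]
    (hZ : Z < core L) (hxZ : (⟨x, c.A_le_L c.mem⟩ : L) ∉ Z)
    (hcent : Z.subgroupOf (core L) ⊔ U.subgroupOf (core L) ≤ Subgroup.center (core L)) {m : ℕ}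
    (hidx : (Z.subgroupOf (core L) ⊔ U.subgroupOf (core L)).index = p ^ m)
    (hirr : ∀ θ ∈ above L Z, Cfsg.IsIrrCharacter L (ind (core L) θ))
    (hsmall : 2 * (core L).index + 1 ≤ p ∨ ∀ θ ∈ above L Z, natDeg (θ : core L → ℂ) = 1)
    (he : 2 * (core L).index ≤ p + 1) (hbig : p ^ 2 ≤ (Z.subgroupOf (core L)).index) :
    (((Z.subgroupOf (core L)).index : ℝ) - 1) *
        ((4 / 5 : ℝ) * (TypeOneBound.dist p ((core L).index : ℕ) : ℝ) ^ 2) ≤
      (core L).index * Nat.card ↥(L ⊓ M) := by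
  have hsq := sum_sq (L := L) Z
  have hsol : Group.IsSolvable (core L) :=
    haveI := hG.2.2.2 L c.coatomL.1
    inferInstance
  obtain ⟨θ₁, hθ₁⟩ := Finset.card_pos.mp (lt_of_le_of_lt (Nat.zero_le _)
    (index_lt_linear Z hZ hsol (hG.1.of_dvd_nat (Subgroup.card_subgroup_dvd_card _)) hirr))
  have hb := contra hG c (above L Z) hirr (stable Z)
    (coherence hG c.coatomL Z U hZ hcent c.prime hidx hirr hsmall)
    ⟨θ₁, (Finset.mem_filter.mp hθ₁).1, (Finset.mem_filter.mp hθ₁).2⟩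
    (fun g hg hg1 => sum_mul Z fun hgZ => hxZ ?_) (X := (Z.subgroupOf (core L)).index - 1) (by omega) ?_
  · rwa [Nat.cast_sub (by omega), Nat.cast_one] at hb
  · have hzp : Subgroup.zpowers ((g : L) : G) = Subgroup.zpowers x :=
      Subgroup.eq_of_le_of_card_ge (Subgroup.zpowers_le.mpr hg) (by
        rw [Nat.card_zpowers, Nat.card_zpowers, c.order]
        refine le_of_eq (Eq.symm ?_)
        refine ((c.prime.eq_one_or_self_of_dvd _ ?_).resolve_left fun h1 => hg1 (orderOf_eq_one_iff.mp h1))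
        rw [← c.order, ← Nat.card_zpowers x]
        exact Subgroup.orderOf_dvd_natCard _ hg)
    obtain ⟨i, hi⟩ := Subgroup.mem_zpowers_iff.mp (hzp.ge (Subgroup.mem_zpowers x))
    rw [show (⟨x, c.A_le_L c.mem⟩ : L) = (g : L) ^ i from Subtype.ext (by rw [SubgroupClass.coe_zpow, hi])]
    exact zpow_mem hgZ i
  · have h1 := Nat.mul_le_mul_left (p - 1) he
    have hp1 := c.prime.one_lt
    have h2 : (p - 1) * (p + 1) + 1 = p ^ 2 := by
      obtain ⟨q, rfl⟩ : ∃ q, p = q + 1 := ⟨p - 1, by omega⟩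
      simp only [Nat.add_sub_cancel]; ring
    rw [mul_assoc, mul_comm 2, mul_assoc, mul_comm _ 2]
    omega

end CfsgLib.OddOrder.TypeOneAbove
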