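import Cfsg.Agent.Lib.OddOrder.TypeOneCyclic
import Mathlib

set_option autoImplicit false

/-!
The numerical lower bound for the sum of the masses.
-/

namespace CfsgLib.OddOrder.TypeOneBound

open TypeOneCyclic (wt)

/-- The distance to the nearest multiple of `p`. -/
def dist (p : ℕ) (a : ℤ) : ℤ := min (a % p) (p - a % p)

variable {p : ℕ}

theorem dist_nonneg (hp : 0 < p) (a : ℤ) : 0 ≤ dist p a := by
  have h1 := Int.emod_nonneg a (show (p : ℤ) ≠ 0 by omega)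
  have h2 := Int.emod_lt_of_pos a (show (0 : ℤ) < p by omega)
  exact le_min h1 (by omega)

theorem two_dist_le (a : ℤ) : 2 * dist p a ≤ p := by
  have h1 := min_le_left (a % p) (p - a % p)
  have h2 := min_le_right (a % p) (p - a % p)
  unfold dist; omega

theorem wt_eq_dist (a : ℤ) : wt p a = dist p a * (p - dist p a) := by
  unfold wt dist
  rcases le_total (a % (p : ℤ)) (p - a % p) with h | h
  · rw [min_eq_left h]
  · rw [min_eq_right h]; ring

theorem dist_congr {a b : ℤ} (h : a ≡ b [ZMOD p]) : dist p a = dist p b := by unfold dist; rw [h.eq]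

theorem dist_le_abs (hp : 0 < p) (a : ℤ) : dist p a ≤ |a| := by
  have h1 := Int.emod_nonneg a (show (p : ℤ) ≠ 0 by omega)
  have h2 := Int.emod_lt_of_pos a (show (0 : ℤ) < p by omega)
  have h3 := Int.mul_ediv_add_emod a p
  unfold dist
  rcases le_or_gt 0 (a / (p : ℤ)) with h | h
  · have : (0 : ℤ) ≤ p * (a / p) := mul_nonneg (by omega) h
    refine (min_le_left _ _).trans ?_
    rw [abs_of_nonneg (by omega)]
    omega
  · have : (p : ℤ) * (a / p) ≤ -p := by nlinarith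
    refine (min_le_right _ _).trans ?_
    rw [abs_of_nonpos (by omega)]
    omega

theorem dist_spec (hp : 0 < p) (a : ℤ) : ∃ k : ℤ, |a - p * k| = dist p a := by
  have h1 := Int.emod_nonneg a (show (p : ℤ) ≠ 0 by omega)
  have h2 := Int.emod_lt_of_pos a (show (0 : ℤ) < p by omega)
  have h3 := Int.mul_ediv_add_emod a p
  unfold dist
  rcases le_total (a % (p : ℤ)) (p - a % p) with h | h
  · exact ⟨a / p, by rw [min_eq_left h, show a - p * (a / p) = a % p by omega, abs_of_nonneg h1]⟩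
  · refine ⟨a / p + 1, ?_⟩
    rw [min_eq_right h, show a - p * (a / p + 1) = a % p - p by rw [mul_add, mul_one]; omega,
      abs_of_nonpos (by omega), neg_sub]

theorem dist_sub_le (hp : 0 < p) (a b : ℤ) : dist p (a - b) ≤ dist p a + dist p b := by
  obtain ⟨i, hi⟩ := dist_spec hp a
  obtain ⟨j, hj⟩ := dist_spec hp b
  rw [dist_congr (show a - b ≡ (a - p * i) - (b - p * j) [ZMOD p] from
    Int.modEq_iff_dvd.mpr ⟨j - i, by ring⟩), ← hi, ← hj]
  exact (dist_le_abs hp _).trans (abs_sub _ _)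

theorem core {p δ A B D : ℝ} (hA : 0 ≤ A) (hB : 0 ≤ B) (hA2 : 2 * A ≤ p) (hB2 : 2 * B ≤ p) (hδ : 0 ≤ δ)
    (hδp : 2 * δ ≤ p) (h : δ ≤ A + B + D) : δ ^ 2 ≤ A * (p - A) + B * (p - B) + D ^ 2 := by
  rcases le_or_gt δ A with h1 | h1
  · nlinarith [mul_nonneg (sub_nonneg.mpr h1) (show 0 ≤ p - A - δ by linarith)]
  rcases le_or_gt δ B with h2 | h2
  · nlinarith [mul_nonneg (sub_nonneg.mpr h2) (show 0 ≤ p - B - δ by linarith)]
  rcases le_or_gt δ (A + B) with h3 | h3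
  · nlinarith [mul_nonneg hA (show 0 ≤ p - A - δ by linarith), mul_nonneg hB (show 0 ≤ p - B - δ by linarith),
      mul_le_mul_of_nonneg_left h3 hδ]
  · have h4 : 0 ≤ δ - A - B := by linarith
    nlinarith [mul_self_le_mul_self h4 (show δ - A - B ≤ D by linarith), mul_nonneg hA hB,
      mul_le_mul_of_nonneg_left hδp hA, mul_le_mul_of_nonneg_left hδp hB]

theorem small {p : ℕ} (h35 : p = 3 ∨ p = 5) {κ : ℝ} (hκ : (2 * p : ℝ) / (2 * p + 1) ≤ κ) (A B D δ : ℤ)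
    (hA : 0 ≤ A) (hB : 0 ≤ B) (hD : 0 ≤ D) (hδ0 : 0 ≤ δ) (hA2 : 2 * A ≤ p) (hB2 : 2 * B ≤ p) (hδ2 : 2 * δ ≤ p)
    (hδ : δ ≤ A + B + D) :
    (4 / 5 : ℝ) * (δ : ℝ) ^ 2 ≤ (1 - (2 * ((p : ℝ) - 1))⁻¹) ^ 2 * ((A : ℝ) * (p - A)) +
      κ * ((D : ℝ) ^ 2 + (B : ℝ) * (p - B)) := by
  have hAc : A ≤ 2 := by omega
  have hBc : B ≤ 2 := by omega
  have hδc : δ ≤ 2 := by omega
  have hD' : ((δ - A - B : ℤ) : ℝ) ≤ (D : ℝ) := by exact_mod_cast (show δ - A - B ≤ D by omega)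
  have hD0 : (0 : ℝ) ≤ (D : ℝ) := by exact_mod_cast hD
  rcases h35 with rfl | rfl <;> norm_num at hκ hA2 hB2 hδ2 hD' ⊢ <;>
    interval_cases δ <;> interval_cases A <;> interval_cases B <;> (push_cast at hD') <;> norm_num <;>
    nlinarith [mul_le_mul_of_nonneg_right hκ (sq_nonneg (D : ℝ)), mul_self_nonneg (D : ℝ)]

/-- The lower bound `4/5 δ²`. -/
theorem main (hp : p.Prime) (hodd : Odd p) {N r : ℕ} (hN : 2 * (p - 1) ≤ N) (hr : 2 * p + 1 ≤ r)
    {ι : Type*} (s : Finset ι) (hs : s.card + 1 = r) (a e : ℤ) (d b : ι → ℤ)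
    (hcong : ∀ i ∈ s, d i ≡ a + e - b i [ZMOD p]) :
    (4 / 5 : ℝ) * (dist p e : ℝ) ^ 2 ≤ (s.card + 1 : ℝ)⁻¹ * (∑ i ∈ s, (d i : ℝ) ^ 2) +
      (1 - (N : ℝ)⁻¹) ^ 2 * (wt p a : ℝ) + ∑ i ∈ s, (wt p (b i) : ℝ) := by
  have hp3 : 3 ≤ p := by
    rcases hodd with ⟨k, hk⟩; have := hp.two_le; omega
  have hsne : s.Nonempty := Finset.card_pos.mp (by omega)
  obtain ⟨i, hi, hmin⟩ := s.exists_min_image (fun i => (d i : ℝ) ^ 2 + (wt p (b i) : ℝ)) hsne
  have hwn : ∀ c, (0 : ℝ) ≤ (wt p c : ℝ) := fun c => by exact_mod_cast TypeOneCyclic.wt_nonneg hp.pos c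
  set κ : ℝ := (r - 1) / r with hκdef
  have hr0 : (0 : ℝ) < r := Nat.cast_pos.mpr (by omega)
  have hsr : (s.card : ℝ) + 1 = r := by exact_mod_cast hs
  have h1 : κ * ((d i : ℝ) ^ 2 + (wt p (b i) : ℝ)) ≤
      (s.card + 1 : ℝ)⁻¹ * (∑ i ∈ s, (d i : ℝ) ^ 2) + ∑ i ∈ s, (wt p (b i) : ℝ) := by
    have h2 : (s.card : ℝ) * ((d i : ℝ) ^ 2 + (wt p (b i) : ℝ)) ≤
        ∑ j ∈ s, ((d j : ℝ) ^ 2 + (wt p (b j) : ℝ)) := by
      have := s.card_nsmul_le_sum _ _ hmin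
      rwa [nsmul_eq_mul] at this
    rw [Finset.sum_add_distrib] at h2
    have h3 : (r : ℝ)⁻¹ * ∑ j ∈ s, (wt p (b j) : ℝ) ≤ ∑ j ∈ s, (wt p (b j) : ℝ) :=
      mul_le_of_le_one_left (Finset.sum_nonneg fun _ _ => hwn _)
        (inv_le_one_of_one_le₀ (by exact_mod_cast (show 1 ≤ r by omega)))
    have h4 := mul_le_mul_of_nonneg_left h2 (inv_nonneg.mpr hr0.le)
    rw [hsr, hκdef, div_eq_inv_mul, show (r : ℝ) - 1 = s.card by linarith, mul_assoc]
    rw [mul_add] at h4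
    linarith
  set A := dist p a
  set B := dist p (b i)
  set D := |d i|
  set δ := dist p e
  have hδ : δ ≤ A + B + D := by
    have e1 : e ≡ (d i + b i) - a [ZMOD p] := by
      have := hcong i hi
      refine Int.modEq_iff_dvd.mpr ?_
      obtain ⟨k, hk⟩ := Int.modEq_iff_dvd.mp this
      exact ⟨-k, by linarith⟩
    have e2 : dist p (d i + b i) ≤ |d i| + B := by
      have := dist_sub_le hp.pos (d i) (-b i)
      rw [sub_neg_eq_add] at this
      refine this.trans (add_le_add (dist_le_abs hp.pos _) ?_)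
      have := dist_sub_le hp.pos 0 (b i)
      rw [zero_sub, show dist p 0 = 0 by simp [dist], zero_add] at this
      exact this
    show dist p e ≤ _
    rw [dist_congr e1]
    have := dist_sub_le hp.pos (d i + b i) a
    omega
  have hA0 : 0 ≤ A := dist_nonneg hp.pos _
  have hB0 : 0 ≤ B := dist_nonneg hp.pos _
  have hδ0 : 0 ≤ δ := dist_nonneg hp.pos _
  have hA2 : 2 * A ≤ p := two_dist_le a
  have hB2 : 2 * B ≤ p := two_dist_le (b i)
  have hδ2 : 2 * δ ≤ p := two_dist_le e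
  have hD : (d i : ℝ) ^ 2 = (D : ℝ) ^ 2 := by simp [D, Int.cast_abs, sq_abs]
  have hκ : (2 * p : ℝ) / (2 * p + 1) ≤ κ := by
    have hr' : (2 * p + 1 : ℝ) ≤ r := by exact_mod_cast hr
    rw [div_le_div_iff₀ (by positivity) hr0]
    nlinarith
  have hc : (1 - (2 * ((p : ℝ) - 1))⁻¹) ^ 2 ≤ (1 - (N : ℝ)⁻¹) ^ 2 := by
    have hp' : (3 : ℝ) ≤ p := by exact_mod_cast hp3
    have hN' : 2 * ((p : ℝ) - 1) ≤ N := by
      have := (Nat.cast_le (α := ℝ)).mpr hN
      rw [Nat.cast_mul, Nat.cast_sub (by omega)] at this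
      simpa using this
    have h2 : (N : ℝ)⁻¹ ≤ (2 * ((p : ℝ) - 1))⁻¹ := inv_anti₀ (by linarith) hN'
    have h3 : (2 * ((p : ℝ) - 1))⁻¹ ≤ 1 := inv_le_one_of_one_le₀ (by linarith)
    exact pow_le_pow_left₀ (by linarith) (by linarith) 2
  refine le_trans ?_ (le_trans (add_le_add (mul_le_mul hc le_rfl (hwn a) (sq_nonneg _)) h1) (le_of_eq (by ring)))
  rw [hD, wt_eq_dist, wt_eq_dist]
  push_cast
  by_cases hp7 : 7 ≤ p
  · have hp' : (7 : ℝ) ≤ p := by exact_mod_cast hp7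
    have hc' : (4 / 5 : ℝ) ≤ (1 - (2 * ((p : ℝ) - 1))⁻¹) ^ 2 := by
      have : (2 * ((p : ℝ) - 1))⁻¹ ≤ 1 / 12 := by rw [one_div]; exact inv_anti₀ (by norm_num) (by linarith)
      nlinarith
    have hκ' : (4 / 5 : ℝ) ≤ κ := by
      refine le_trans ?_ hκ
      rw [le_div_iff₀ (by positivity)]; linarith
    have h5 := core (p := (p : ℝ)) (δ := (δ : ℝ)) (A := (A : ℝ)) (B := (B : ℝ)) (D := (D : ℝ))
      (by exact_mod_cast hA0) (by exact_mod_cast hB0) (by exact_mod_cast hA2) (by exact_mod_cast hB2)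
      (by exact_mod_cast hδ0) (by exact_mod_cast hδ2) (by exact_mod_cast hδ)
    have hwA : (0 : ℝ) ≤ (A : ℝ) * (p - A) := mul_nonneg (by exact_mod_cast hA0) (by
      have : (2 * A : ℝ) ≤ p := by exact_mod_cast hA2
      have : (0 : ℝ) ≤ A := by exact_mod_cast hA0
      linarith)
    have hwB : (0 : ℝ) ≤ (B : ℝ) * (p - B) := mul_nonneg (by exact_mod_cast hB0) (by
      have : (2 * B : ℝ) ≤ p := by exact_mod_cast hB2
      have : (0 : ℝ) ≤ B := by exact_mod_cast hB0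
      linarith)
    nlinarith [mul_le_mul_of_nonneg_right hc' hwA, mul_le_mul_of_nonneg_right hκ' (add_nonneg (sq_nonneg (D : ℝ)) hwB)]
  have h35 : p = 3 ∨ p = 5 := by
    rcases hodd with ⟨k, hk⟩; omega
  exact small h35 hκ A B D δ hA0 hB0 (abs_nonneg _) hδ0 hA2 hB2 hδ2 hδ

end CfsgLib.OddOrder.TypeOneBound
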