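import Cfsg.Agent.Lib.OddOrder.SigmaDichotomy
import Cfsg.Agent.Lib.OddOrder.SigmaNeighbour
import Cfsg.Agent.Lib.OddOrder.SigmaDisjoint
import Cfsg.Agent.Lib.Coprime.Generation
import Cfsg.Agent.S1417
import Cfsg.Agent.S1418
import Cfsg.Agent.S1423
import Mathlib

set_option autoImplicit false
set_option linter.style.haveILetI false
set_option linter.unusedSectionVars false

/-!
The configuration attached to a maximal subgroup with empty `κ` which is not a Frobenius group with kernel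
`M_σ`: the least prime `p` of such a failure, a plane `A` and a maximal subgroup `L` over its normalizer.
-/

namespace CfsgLib.OddOrder.TypeOneConfig

open SigmaFusion (cj)
open SigmaCentralizer (Over)

variable {G : Type*} [Group G] [Finite G] {M L A : Subgroup G} {x : G} {p : ℕ}

/-- `M` fails at `p`. -/
def Fail (p : ℕ) (M : Subgroup G) : Prop :=
  IsCoatom M ∧ Cfsg.kappa M = ∅ ∧ p ∈ Cfsg.tau2 M ∧
    ∃ f ∈ M, orderOf f = p ∧ Cfsg.sigmaCore M ⊓ Subgroup.centralizer ({f} : Set G) ≠ ⊥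

/-- The configuration. -/
structure Cfg (M L A : Subgroup G) (x : G) (p : ℕ) : Prop where
  coatomM : IsCoatom M
  kappaM : Cfsg.kappa M = ∅
  tau2 : p ∈ Cfsg.tau2 M
  ea : Cfsg.IsElementaryAbelian p A
  card : Nat.card A = p ^ 2
  le : A ≤ M
  mem : x ∈ A
  order : orderOf x = p
  cent : Subgroup.centralizer ({x} : Set G) ≤ M
  unique : ∀ N : Subgroup G, IsCoatom N → Subgroup.centralizer ({x} : Set G) ≤ N → N = M
  coatomL : IsCoatom L
  sigmaL : p ∈ Cfsg.sigma L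
  normalizerA : Subgroup.normalizer (A : Set G) ≤ L
  ovr : Over L M x
  proper : ¬ Cfsg.sigmaCore M ⊓ Subgroup.centralizer ({x} : Set G) ≤ ⁅Cfsg.sigmaCore M, Cfsg.sigmaCore M⁆
  least : ∀ t : ℕ, t < p → ∀ N : Subgroup G, ¬ Fail t N

/-- A maximal subgroup that is not Frobenius fails at some prime. -/
theorem exists_fail (hG : Cfsg.IsMinSimpleOddOrder G) (hM : IsCoatom M) (hκ : Cfsg.kappa M = ∅) {h : G}
    (hh : h ∈ Cfsg.sigmaCore M) (hh1 : h ≠ 1)
    (hC : ¬ M ⊓ Subgroup.centralizer ({h} : Set G) ≤ Cfsg.sigmaCore M) : ∃ p, Fail p M := by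
  obtain ⟨f, hf, hfH⟩ := SetLike.not_le_iff_exists.mp hC
  obtain ⟨b, c, hb, hc, hbc, -, hbp, hcp⟩ := SigmaCover.exists_parts (Cfsg.sigma M) f
  have hbH : b ∈ Cfsg.sigmaCore M := by
    refine SigmaTools.le_sigmaCore hG hM (Subgroup.zpowers_le.mpr ?_) (fun t ht hd => hbp t ht ?_)
      (Subgroup.mem_zpowers b)
    · exact M.zpowers_le.mpr hf.1 hb
    · rwa [Nat.card_zpowers] at hd
  have hc1 : c ≠ 1 := fun e => hfH (by rw [hbc, e, mul_one]; exact hbH)
  have hcm : c ∈ M ⊓ Subgroup.centralizer ({h} : Set G) := Subgroup.zpowers_le.mpr hf hc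
  rcases SigmaDichotomy.main hG hM hh hh1 hcm hc1 hcp with ⟨hk, -⟩ | ⟨hτ, -, -⟩
  · obtain ⟨t, ht, htd⟩ := Nat.exists_prime_and_dvd (mt orderOf_eq_one_iff.mp hc1)
    exact absurd (hk t ht htd) (by rw [hκ]; exact Set.notMem_empty t)
  obtain ⟨t, ht, htd⟩ := Nat.exists_prime_and_dvd (mt orderOf_eq_one_iff.mp hc1)
  refine ⟨t, hM, hκ, hτ t ht htd, c ^ (orderOf c / t), M.pow_mem hcm.1 _,
    orderOf_pow_orderOf_div (orderOf_pos c).ne' htd, fun e => hh1 (Subgroup.mem_bot.mp (e.le ⟨hh, ?_⟩))⟩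
  exact Subgroup.mem_centralizer_singleton_iff.mpr
    ((show Commute c h from Subgroup.mem_centralizer_singleton_iff.mp hcm.2).pow_left _).symm.eq

/-- The plane has a non-identity element whose fixed points are not in the commutator subgroup. -/
theorem exists_proper (hG : Cfsg.IsMinSimpleOddOrder G) (hM : IsCoatom M) (hτ : p ∈ Cfsg.tau2 M) (hAM : A ≤ M)
    (hAe : Cfsg.IsElementaryAbelian p A) (hAc : Nat.card A = p ^ 2) :
    ∃ a ∈ A, a ≠ 1 ∧
      ¬ Cfsg.sigmaCore M ⊓ Subgroup.centralizer ({a} : Set G) ≤ ⁅Cfsg.sigmaCore M, Cfsg.sigmaCore M⁆ := by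
  haveI := Fact.mk hτ.1
  set H := Cfsg.sigmaCore M with hH
  have hn := (Cfsg.Agent.S1417.result hG M hM p hτ A ⟨hAM, hAe, hAc⟩).1
  haveI := hAe.1
  by_contra hne
  push Not at hne
  have hnc : ¬ IsCyclic A := by
    intro hc
    obtain ⟨g, hg⟩ := hc.exists_generator
    have h1 : Nat.card A = orderOf g := (orderOf_eq_card_of_forall_mem_zpowers hg).symm
    have h2 : orderOf g ∣ p := orderOf_dvd_of_pow_eq_one (Subtype.ext (hAe.2 g g.2))
    have := Nat.le_of_dvd hτ.1.pos (show p ^ 2 ∣ p by rw [← hAc, h1]; exact h2)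
    nlinarith [hτ.1.two_le]
  have hle : H ≤ ⁅H, H⁆ := by
    have h := Coprime.iSup_centralizer_singleton (A := A) (K := H) hnc (hAM.trans (SigmaTools.le_normalizer_sigmaCore M))
      (by rw [hAc]; exact ((SigmaTools.coprime_sigmaCore hτ.2.1).pow_right 2).symm)
    conv_lhs => rw [← h]
    exact iSup₂_le fun a ha => hne a ha.1 ha.2
  haveI := hn
  have h1 : commutator H = ⊤ := by
    rw [eq_top_iff]
    intro z _
    obtain ⟨w, hw, e⟩ : (z : G) ∈ (commutator H).map H.subtype := by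
      rw [Coprime.map_commutator_subtype]; exact hle z.2
    exact (Subtype.ext e : w = z) ▸ hw
  haveI : Group.IsSolvable H := inferInstance
  haveI : Nontrivial H := (Subgroup.nontrivial_iff_ne_bot _).mpr (SigmaCore.sigmaCore_ne_bot hG hM)
  exact (Group.IsSolvable.commutator_lt_top_of_nontrivial H).ne h1

theorem exists_cfg (hG : Cfsg.IsMinSimpleOddOrder G) (hM : IsCoatom M) (hκ : Cfsg.kappa M = ∅) {h : G}
    (hh : h ∈ Cfsg.sigmaCore M) (hh1 : h ≠ 1)
    (hC : ¬ M ⊓ Subgroup.centralizer ({h} : Set G) ≤ Cfsg.sigmaCore M) :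
    ∃ (M L A : Subgroup G) (x : G) (p : ℕ), Cfg M L A x p := by
  classical
  have hex : ∃ p, ∃ N : Subgroup G, Fail p N := (exists_fail hG hM hκ hh hh1 hC).imp fun p h => ⟨M, h⟩
  obtain ⟨M, hM, hκ, hτ, f, -, -, -⟩ := Nat.find_spec hex
  set p := Nat.find hex
  haveI := Fact.mk hτ.1
  obtain ⟨E, hE⟩ := Coprime.exists_hall {t | t ∉ Cfsg.sigma M} (hG.2.2.2 M hM.1)
  have hEc := SylowCentral.isComplIn_of_hall hG hM hE
  obtain ⟨A, hAE, hAe, hAc⟩ := TauTwoAbelian.exists_plane hEc hτ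
  have hAM := hAE.trans hEc.1
  obtain ⟨x, hxA, hx1, hprop⟩ := exists_proper hG hM hτ hAM hAe hAc
  have hxo : orderOf x = p := orderOf_eq_prime (hAe.2 x hxA) hx1
  obtain ⟨hcent, huniq⟩ := (Cfsg.Agent.S1418.result hG M hM E hEc p hτ A ⟨hAE, hAe, hAc⟩).2.2 (Subgroup.zpowers x)
    (Subgroup.zpowers_le.mpr hxA) (by rw [Nat.card_zpowers, hxo]) (by
      rw [SigmaTools.centralizer_zpowers]
      exact fun e => hprop (e.le.trans bot_le))
  rw [SigmaTools.centralizer_zpowers] at hcent huniq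
  obtain ⟨L, hL, hNA⟩ := Uniqueness.exists_coatom_normalizer (p := p) hG.2
    (fun e => by rw [e, Subgroup.card_bot] at hAc; nlinarith [hτ.1.two_le]) (Fusion.Thompson.isPGroup_isEA hAe)
  have hpL := SigmaDichotomy.mem_sigma_of_plane hG hL hAe hAc hNA
  have hxS := SigmaTools.pGroup_le_sigmaCore hG hL hpL (Subgroup.le_normalizer.trans hNA)
    (Fusion.Thompson.isPGroup_isEA hAe) hxA
  obtain ⟨N, hov⟩ := SigmaCentralizer.exists_over hG hL hxS hx1 fun hle => hτ.2.1 (huniq L hL hle ▸ hpL)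
  obtain rfl : N = M := huniq N hov.coatom hov.le
  exact ⟨N, L, A, x, p, hM, hκ, hτ, hAe, hAc, hAM, hxA, hxo, hcent, huniq, hL, hpL, hNA, hov, hprop,
    fun t ht N hN => Nat.find_min hex ht ⟨N, hN⟩⟩

namespace Cfg

variable (c : Cfg M L A x p)

include c

theorem prime : p.Prime := c.tau2.1

theorem odd (hG : Cfsg.IsMinSimpleOddOrder G) : Odd p :=
  hG.1.of_dvd_nat (c.order ▸ orderOf_dvd_natCard x)

theorem x_ne_one : x ≠ 1 := fun e => c.prime.ne_one (by rw [← c.order, e, orderOf_one])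

theorem pgroup : IsPGroup p A := IsPGroup.of_card (n := 2) c.card

theorem A_le_L : A ≤ L := Subgroup.le_normalizer.trans c.normalizerA

theorem A_le_S (hG : Cfsg.IsMinSimpleOddOrder G) : A ≤ Cfsg.sigmaCore L :=
  haveI := Fact.mk c.prime
  SigmaTools.pGroup_le_sigmaCore hG c.coatomL c.sigmaL c.A_le_L c.pgroup

theorem x_mem_S (hG : Cfsg.IsMinSimpleOddOrder G) : x ∈ Cfsg.sigmaCore L := c.A_le_S hG c.mem

theorem inter_le_L : L ⊓ M ≤ L := inf_le_left

theorem A_le_E : A ≤ L ⊓ M := le_inf c.A_le_L c.le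

theorem not_le : ¬ Subgroup.centralizer ({x} : Set G) ≤ L := fun h =>
  c.tau2.2.1 (c.unique L c.coatomL h ▸ c.sigmaL)

theorem nilpotent (hG : Cfsg.IsMinSimpleOddOrder G) : Group.IsNilpotent (Cfsg.sigmaCore M) :=
  haveI := Fact.mk c.prime
  (Cfsg.Agent.S1417.result hG M c.coatomM p c.tau2 A ⟨c.le, c.ea, c.card⟩).1

theorem fix_A (hG : Cfsg.IsMinSimpleOddOrder G) :
    Cfsg.sigmaCore M ⊓ Subgroup.centralizer (A : Set G) = ⊥ :=
  haveI := Fact.mk c.prime
  (Cfsg.Agent.S1417.result hG M c.coatomM p c.tau2 A ⟨c.le, c.ea, c.card⟩).2.2.2.1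

theorem le_normalizer_A (hG : Cfsg.IsMinSimpleOddOrder G) : L ⊓ M ≤ Subgroup.normalizer (A : Set G) :=
  haveI := Fact.mk c.prime
  (Cfsg.Agent.S1418.result hG M c.coatomM (L ⊓ M) c.ovr.compl p c.tau2 A ⟨c.A_le_E, c.ea, c.card⟩).1.1

theorem mem_A (hG : Cfsg.IsMinSimpleOddOrder G) {z : G} (hz : z ∈ L ⊓ M) (hzp : z ^ p = 1) : z ∈ A := by
  haveI := Fact.mk c.prime
  rcases eq_or_ne z 1 with rfl | h1
  · exact one_mem A
  exact (Cfsg.Agent.S1418.result hG M c.coatomM (L ⊓ M) c.ovr.compl p c.tau2 A ⟨c.A_le_E, c.ea, c.card⟩).1.2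
    (Subgroup.zpowers z) (Subgroup.zpowers_le.mpr hz) (by rw [Nat.card_zpowers, orderOf_eq_prime hzp h1])
    (Subgroup.mem_zpowers z)

theorem centralizer_A (hG : Cfsg.IsMinSimpleOddOrder G) : Subgroup.centralizer (A : Set G) ≤ L ⊓ M := by
  haveI := Fact.mk c.prime
  obtain ⟨h1, h2, -⟩ :=
    (Cfsg.Agent.S1418.result hG M c.coatomM (L ⊓ M) c.ovr.compl p c.tau2 A ⟨c.A_le_E, c.ea, c.card⟩).2.1
  exact h1.trans h2.le

theorem pow_mem_S (hG : Cfsg.IsMinSimpleOddOrder G) (k : ℕ) : x ^ k ∈ Cfsg.sigmaCore L :=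
  pow_mem (c.x_mem_S hG) k

theorem centralizer_pow {k : ℕ} (hk : k ∈ Finset.Ico 1 p) :
    Subgroup.centralizer ({x ^ k} : Set G) = Subgroup.centralizer ({x} : Set G) := by
  refine le_antisymm ?_ (CN.centralizer_singleton_le_pow x k)
  obtain ⟨h1, h2⟩ := Finset.mem_Ico.mp hk
  obtain ⟨m, hm⟩ := exists_pow_eq_self_of_coprime (x := x) (n := k) (by
    rw [c.order]
    exact (c.prime.coprime_iff_not_dvd.mpr fun hd => absurd (Nat.le_of_dvd (by omega) hd) (by omega)).symm)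
  conv_rhs => rw [← hm]
  exact CN.centralizer_singleton_le_pow _ m

theorem supportR_eq (hG : Cfsg.IsMinSimpleOddOrder G) {k : ℕ} (hk : k ∈ Finset.Ico 1 p) :
    Cfsg.supportR L (x ^ k) = Cfsg.sigmaCore M ⊓ Subgroup.centralizer ({x} : Set G) := by
  have e := c.centralizer_pow hk
  have hex : ¬ Subgroup.centralizer ({x ^ k} : Set G) ≤ L ∧
      ∃! N : Subgroup G, IsCoatom N ∧ Subgroup.centralizer ({x ^ k} : Set G) ≤ N :=
    ⟨by rw [e]; exact c.not_le, M, ⟨c.coatomM, by rw [e]; exact c.cent⟩, fun N hN => c.unique N hN.1 (e ▸ hN.2)⟩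
  unfold Cfsg.supportR
  rw [dif_pos hex]
  have hch := Classical.choose_spec hex.2.exists
  rw [c.unique _ hch.1 (e.ge.trans hch.2), e,
    ← SigmaCentralizer.sigmaCore_eq_fittingHallOf hG c.coatomM (c.nilpotent hG)]

theorem normalizer_le (hG : Cfsg.IsMinSimpleOddOrder G) :
    Subgroup.normalizer ((Subgroup.zpowers x : Subgroup G) : Set G) ≤ M := by
  haveI := Fact.mk c.prime
  obtain ⟨N, hN, hle⟩ := Uniqueness.exists_coatom_normalizer (p := p) hG.2
    (fun e => c.x_ne_one (Subgroup.zpowers_eq_bot.mp e))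
    (IsPGroup.of_card (n := 1) (G := ↥(Subgroup.zpowers x)) (by rw [Nat.card_zpowers, c.order, pow_one]))
  rw [← c.unique N hN ((le_of_eq (SigmaTools.centralizer_zpowers x).symm).trans
    ((Subgroup.centralizer_le_normalizer _).trans hle))]
  exact hle

theorem not_mem_derived (hG : Cfsg.IsMinSimpleOddOrder G) : x ∉ ⁅Cfsg.sigmaCore L, Cfsg.sigmaCore L⁆ := by
  intro hx
  haveI := Fact.mk c.prime
  obtain ⟨⟨hle, -⟩, -⟩ := Cfsg.Agent.S1423.result hG L c.coatomL p c.sigmaL (Subgroup.zpowers x)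
    (Subgroup.zpowers_le.mpr (c.A_le_L c.mem)) (by rw [Nat.card_zpowers, c.order]) default
    (Or.inr (Subgroup.zpowers_le.mpr hx))
  rw [SigmaTools.centralizer_zpowers] at hle
  exact c.not_le hle

theorem nonconj : ∀ g : G, L ≠ cj g M := fun g e =>
  c.ovr.nonconj g⁻¹ (by rw [e, SigmaFusion.cj_cj, inv_mul_cancel, SigmaFusion.cj_one])

/-- An element of prime order of `L ∩ M` outside `L_σ` fixes no point of `M_σ`. -/
theorem fpf_out (hG : Cfsg.IsMinSimpleOddOrder G) {y : G} (hy : y ∈ L ⊓ M) (hy' : y ∉ Cfsg.sigmaCore L)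
    (hyp : (orderOf y).Prime) :
    orderOf y ∉ Cfsg.sigma L ∧ orderOf y ∉ Cfsg.sigma M ∧
      Cfsg.sigmaCore M ⊓ Subgroup.centralizer ({y} : Set G) = ⊥ := by
  haveI := Fact.mk hyp
  haveI := Fact.mk c.prime
  set r := orderOf y
  have hrL : r ∉ Cfsg.sigma L := fun h => hy' (SigmaTools.pGroup_le_sigmaCore hG c.coatomL h
    (Subgroup.zpowers_le.mpr hy.1) (IsPGroup.of_card (n := 1) (G := ↥(Subgroup.zpowers y))
      (by rw [Nat.card_zpowers, pow_one])) (Subgroup.mem_zpowers y))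
  have hrM : r ∉ Cfsg.sigma M := fun h =>
    SigmaComplement.not_dvd_card hG c.coatomM c.ovr.compl h (Subgroup.orderOf_dvd_natCard _ hy)
  refine ⟨hrL, hrM, ?_⟩
  by_contra hne
  by_cases hr1 : Cfsg.PRankLE r 1 M
  · exact Set.eq_empty_iff_forall_notMem.mp c.kappaM r (KappaHall.mem_kappa hG hrM hr1 hy.2 rfl hne)
  have hrτ := StarNormalizer.tau2_of hG c.coatomM hrM hr1
  obtain ⟨L', hL', hall⟩ := SigmaDichotomy.exists_sigma_tau2 hG c.coatomM c.tau2
  obtain ⟨g, hg⟩ := SigmaDisjoint.main hG hL' c.coatomL (hall p c.tau2) c.sigmaL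
  exact hrL (hg ▸ SigmaTools.sigma_cj (hall r hrτ) g)

/-- Such an element centralises an element of the plane. -/
theorem exists_fixed_in_A (hG : Cfsg.IsMinSimpleOddOrder G) {y : G} (hy : y ∈ L ⊓ M) (hy' : y ∉ Cfsg.sigmaCore L)
    (hyp : (orderOf y).Prime) : ∃ w ∈ A, w ≠ 1 ∧ Commute y w := by
  by_contra hne
  push Not at hne
  haveI := Fact.mk c.prime
  obtain ⟨-, hrM, hfix⟩ := c.fpf_out hG hy hy' hyp
  have h := StarNormalizer.fpf_centralizes hG c.coatomM c.tau2.2.1 c.pgroup c.le hy.2 hyp hrM hfix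
    (c.le_normalizer_A hG hy) (le_bot_iff.mp fun w hw => by
      by_contra hw1
      exact hne w hw.1 hw1 (Subgroup.mem_centralizer_singleton_iff.mp hw.2).symm)
  exact SigmaCore.sigmaCore_ne_bot hG c.coatomM (le_bot_iff.mp
    ((le_inf le_rfl (Subgroup.le_centralizer_iff.mp h)).trans (c.fix_A hG).le))

/-- An element of `A` fixed point free on `C_{M_σ}(x)`. -/
theorem exists_fpf (hG : Cfsg.IsMinSimpleOddOrder G) : ∃ y ∈ A, orderOf y = p ∧
    (∀ u ∈ Cfsg.sigmaCore M ⊓ Subgroup.centralizer ({x} : Set G),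
      y * u * y⁻¹ ∈ Cfsg.sigmaCore M ⊓ Subgroup.centralizer ({x} : Set G)) ∧
    ∀ u ∈ Cfsg.sigmaCore M ⊓ Subgroup.centralizer ({x} : Set G), Commute y u → u = 1 := by
  obtain ⟨y, hy, hyx⟩ : ∃ y ∈ A, y ∉ Subgroup.zpowers x := by
    by_contra hne
    push Not at hne
    have := Subgroup.card_le_of_le (H := A) hne
    rw [c.card, Nat.card_zpowers, c.order] at this
    nlinarith [c.prime.two_le]
  have hy1 : y ≠ 1 := fun e => hyx (e ▸ one_mem _)
  haveI := Fact.mk c.prime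
  haveI := c.ea.1
  have hcomm : Commute y x := congrArg Subtype.val (c.ea.1.is_comm.comm (⟨y, hy⟩ : A) ⟨x, c.mem⟩)
  have hyo : orderOf y = p := orderOf_eq_prime (c.ea.2 y hy) hy1
  refine ⟨y, hy, hyo, fun u hu => ⟨(Subgroup.mem_normalizer_iff.mp
    (SigmaTools.le_normalizer_sigmaCore M (c.le hy)) u).mp hu.1, Subgroup.mem_centralizer_singleton_iff.mpr ?_⟩,
    fun u hu hyu => ?_⟩
  · have h1 : Commute x (y * u * y⁻¹) :=
      (hcomm.symm.mul_right (Subgroup.mem_centralizer_singleton_iff.mp hu.2).symm).mul_right hcomm.symm.inv_right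
    exact h1.symm.eq
  · refine Subgroup.mem_bot.mp ((c.fix_A hG).le ⟨hu.1, ?_⟩)
    have hA : A ≤ Subgroup.centralizer ({u} : Set G) := by
      have hsup : Subgroup.zpowers x ⊔ Subgroup.zpowers y = A := by
        refine Subgroup.eq_of_le_of_card_ge (sup_le (Subgroup.zpowers_le.mpr c.mem) (Subgroup.zpowers_le.mpr hy)) ?_
        rw [c.card]
        have hlt : Subgroup.zpowers x < Subgroup.zpowers x ⊔ Subgroup.zpowers y :=
          lt_of_le_of_ne le_sup_left fun e => hyx (e ▸ Subgroup.mem_sup_right (Subgroup.mem_zpowers y))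
        have hsle : Subgroup.zpowers x ⊔ Subgroup.zpowers y ≤ A :=
          sup_le (Subgroup.zpowers_le.mpr c.mem) (Subgroup.zpowers_le.mpr hy)
        obtain ⟨j, hjA, hj⟩ := (Nat.dvd_prime_pow c.prime).mp (c.card ▸ Subgroup.card_dvd_of_le hsle)
        have h2 : Nat.card (Subgroup.zpowers x) < Nat.card ↥(Subgroup.zpowers x ⊔ Subgroup.zpowers y) := by
          refine lt_of_le_of_ne (Subgroup.card_le_of_le hlt.le) fun e => hlt.ne (Subgroup.eq_of_le_of_card_ge hlt.le e.ge)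
        rw [Nat.card_zpowers, c.order, hj] at h2
        rw [hj]
        refine Nat.pow_le_pow_right c.prime.pos ?_
        by_contra hj2
        have := Nat.pow_le_pow_right c.prime.pos (show j ≤ 1 by omega)
        rw [pow_one] at this; omega
      rw [← hsup]
      exact sup_le (Subgroup.zpowers_le.mpr (Subgroup.mem_centralizer_singleton_iff.mpr
          (Subgroup.mem_centralizer_singleton_iff.mp hu.2).symm))
        (Subgroup.zpowers_le.mpr (Subgroup.mem_centralizer_singleton_iff.mpr hyu.eq))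
    exact Subgroup.mem_centralizer_iff.mpr fun a ha => (Subgroup.mem_centralizer_singleton_iff.mp (hA ha))

end Cfg

end CfsgLib.OddOrder.TypeOneConfig
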