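import Cfsg.Agent.Lib.OddOrder.TypeOneCongr
import Cfsg.Agent.Lib.Char.Dade
import Mathlib

set_option autoImplicit false
set_option linter.style.haveILetI false
set_option linter.unusedSectionVars false

/-!
The norm of a virtual character bounded below by its mass on two disjoint Dade supports, one of them read
against the linear characters fixed by an element `x` of prime order, the other on the cosets of the powers
of `x`.
-/

open scoped ComplexConjugate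

namespace CfsgLib.OddOrder.TypeOneCount

open CfsgLib.Char
open TypeOneCyclic (coef wt)
open TypeOneCongr (avg)

variable {G : Type*} [Group G] [Fintype G] {A A' : Set G} {M L : Subgroup G} {RM RL : G → Subgroup G}

/-- The mean square of `Ψ` on the coset of `a`. -/
noncomputable def msq (RL : G → Subgroup G) (Ψ : G → ℂ) (a : G) : ℝ :=
  open scoped Classical in
  (Nat.card (RL a) : ℝ)⁻¹ * ∑ u : RL a, ‖Ψ (a * u)‖ ^ 2

theorem msq_nonneg (RL : G → Subgroup G) (Ψ : G → ℂ) (a : G) : 0 ≤ msq RL Ψ a :=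
  mul_nonneg (inv_nonneg.mpr (Nat.cast_nonneg _)) (Finset.sum_nonneg fun _ _ => sq_nonneg _)

theorem msq_conj (hL : Cfsg.DadeHypothesis A L RL) {Ψ : G → ℂ} (hΨ : Cfsg.IsClassFunction G Ψ) {a l : G}
    (ha : a ∈ A) (hl : l ∈ L) : msq RL Ψ (l * a * l⁻¹) = msq RL Ψ a := by
  classical
  have hb := hL.conj_mem l hl a ha
  let e : RL a ≃ RL (l * a * l⁻¹) :=
    { toFun := fun u => ⟨l * u * l⁻¹, Dade.conj_mem_H' hL ha hl u.2⟩
      invFun := fun u => ⟨l⁻¹ * u * l, by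
        have := Dade.conj_mem_H' hL hb (L.inv_mem hl) u.2
        simpa [mul_assoc] using this⟩
      left_inv := fun u => Subtype.ext (by simp [mul_assoc])
      right_inv := fun u => Subtype.ext (by simp [mul_assoc]) }
  unfold msq
  rw [Nat.card_congr e]
  congr 1
  refine (Fintype.sum_equiv e _ _ fun u => ?_).symm
  show ‖Ψ (a * u)‖ ^ 2 = ‖Ψ (l * a * l⁻¹ * (l * u * l⁻¹))‖ ^ 2
  rw [show l * a * l⁻¹ * (l * (u : G) * l⁻¹) = l * (a * u) * l⁻¹ by group, hΨ]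

open scoped Classical in
/-- The mass of a class function on two disjoint supports. -/
theorem two_supports (hM : Cfsg.DadeHypothesis A M RM) (hL : Cfsg.DadeHypothesis A' L RL)
    (hdisj : Dade.supp A M RM ∩ Dade.supp A' L RL = ∅) {Ψ : G → ℂ} (hΨ : Cfsg.IsClassFunction G Ψ) :
    (Nat.card M : ℝ)⁻¹ * ∑ a ∈ Finset.univ.filter (fun a : M => (a : G) ∈ A), msq RM Ψ a +
      (Nat.card L : ℝ)⁻¹ * ∑ a ∈ Finset.univ.filter (fun a : L => (a : G) ∈ A'), msq RL Ψ a ≤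
      (Cfsg.classInner Ψ Ψ).re := by
  have h1 := Dade.sum_supp hM (fun g => ‖Ψ g‖ ^ 2) (fun g y => by rw [hΨ g y])
  have h2 := Dade.sum_supp hL (fun g => ‖Ψ g‖ ^ 2) (fun g y => by rw [hΨ g y])
  have hG : (0 : ℝ) < Nat.card G := Nat.cast_pos.mpr Nat.card_pos
  have hMp : (0 : ℝ) < Nat.card M := Nat.cast_pos.mpr Nat.card_pos
  have hLp : (0 : ℝ) < Nat.card L := Nat.cast_pos.mpr Nat.card_pos
  have e1 : (Nat.card M : ℝ)⁻¹ * ∑ a ∈ Finset.univ.filter (fun a : M => (a : G) ∈ A), msq RM Ψ a =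
      (Nat.card G : ℝ)⁻¹ * ∑ g ∈ Finset.univ.filter (· ∈ Dade.supp A M RM), ‖Ψ g‖ ^ 2 := by
    rw [inv_mul_eq_iff_eq_mul₀ hMp.ne', mul_left_comm, eq_inv_mul_iff_mul_eq₀ hG.ne']
    exact h1.symm
  have e2 : (Nat.card L : ℝ)⁻¹ * ∑ a ∈ Finset.univ.filter (fun a : L => (a : G) ∈ A'), msq RL Ψ a =
      (Nat.card G : ℝ)⁻¹ * ∑ g ∈ Finset.univ.filter (· ∈ Dade.supp A' L RL), ‖Ψ g‖ ^ 2 := by
    rw [inv_mul_eq_iff_eq_mul₀ hLp.ne', mul_left_comm, eq_inv_mul_iff_mul_eq₀ hG.ne']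
    exact h2.symm
  rw [e1, e2, classInner_self, Complex.ofReal_re, ← mul_add]
  refine mul_le_mul_of_nonneg_left ?_ (inv_nonneg.mpr hG.le)
  rw [← Finset.sum_union (Finset.disjoint_filter.mpr fun g _ ha hb => by
    have : g ∈ Dade.supp A M RM ∩ Dade.supp A' L RL := ⟨ha, hb⟩
    rw [hdisj] at this
    exact this)]
  exact Finset.sum_le_univ_sum_of_nonneg fun _ => sq_nonneg _

open scoped Classical in
/-- The sum over the conjugates of the powers of `x` and over another set `Z` of representatives. -/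
theorem orbit_le (hL : Cfsg.DadeHypothesis A L RL) {p cE : ℕ} {x : G} (hx : orderOf x = p)
    (hxA : ∀ k ∈ Finset.Ico 1 p, x ^ k ∈ A) (hp : p.Prime)
    (hN : Nat.card ↥(L ⊓ Subgroup.normalizer ((Subgroup.zpowers x : Subgroup G) : Set G)) ≤ cE)
    (Z : Finset L) (hZ : ∀ a ∈ Z, (a : G) ∈ A)
    (hZx : ∀ a ∈ Z, ∀ k ∈ Finset.Ico 1 p, ∀ l ∈ L, l * x ^ k * l⁻¹ ≠ (a : G))
    (F : G → ℝ) (hF : ∀ a, 0 ≤ F a) (hinv : ∀ a ∈ A, ∀ l ∈ L, F (l * a * l⁻¹) = F a) :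
    (Nat.card L : ℝ) * ∑ k ∈ Finset.Ico 1 p, F (x ^ k) + cE * ∑ a ∈ Z, F a ≤
      cE * ∑ a ∈ Finset.univ.filter (fun a : L => (a : G) ∈ A), F a := by
  set P := (Finset.univ : Finset L) ×ˢ Finset.Ico 1 p with hP
  let g : L × ℕ → L := fun z => z.1 * ⟨x ^ z.2, pow_mem (hL.subset (by
    simpa using hxA 1 (Finset.mem_Ico.mpr ⟨le_rfl, hp.one_lt⟩))) _⟩ * z.1⁻¹
  have hg : ∀ z, ((g z : L) : G) = (z.1 : G) * x ^ z.2 * (z.1 : G)⁻¹ := fun z => rfl
  set X := P.image g with hX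
  have hXA : ∀ a ∈ X, (a : G) ∈ A := fun a ha => by
    obtain ⟨z, hz, rfl⟩ := Finset.mem_image.mp ha
    rw [hg]
    exact hL.conj_mem _ z.1.2 _ (hxA _ (Finset.mem_product.mp hz).2)
  have hfib : ∀ a : L, (P.filter fun z => g z = a).card ≤ cE := by
    intro a
    by_cases h : (P.filter fun z => g z = a) = ∅
    · rw [h]; simp
    obtain ⟨z₀, hz₀⟩ := Finset.nonempty_iff_ne_empty.mpr h
    obtain ⟨hz₀P, he₀⟩ := Finset.mem_filter.mp hz₀
    refine le_trans ?_ hN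
    rw [Nat.card_eq_fintype_card, ← Fintype.card_coe]
    have hmem : ∀ z : ↥(P.filter fun z => g z = a), (z₀.1 : G)⁻¹ * (z.1.1 : G) ∈
        L ⊓ Subgroup.normalizer ((Subgroup.zpowers x : Subgroup G) : Set G) := by
      rintro ⟨z, hz⟩
      obtain ⟨hzP, he⟩ := Finset.mem_filter.mp hz
      refine ⟨L.mul_mem (L.inv_mem z₀.1.2) z.1.2, ?_⟩
      have e : (z₀.1 : G)⁻¹ * (z.1 : G) * x ^ z.2 * ((z₀.1 : G)⁻¹ * (z.1 : G))⁻¹ = x ^ z₀.2 := by
        have h1 := congrArg Subtype.val (he.trans he₀.symm)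
        rw [hg, hg] at h1
        calc _ = (z₀.1 : G)⁻¹ * ((z.1 : G) * x ^ z.2 * (z.1 : G)⁻¹) * z₀.1 := by group
          _ = _ := by rw [h1]; group
      have hgen : ∀ k ∈ Finset.Ico 1 p, Subgroup.zpowers (x ^ k) = Subgroup.zpowers x := by
        intro k hk
        obtain ⟨h1, h2⟩ := Finset.mem_Ico.mp hk
        refine Subgroup.eq_of_le_of_card_ge (Subgroup.zpowers_le.mpr (Subgroup.npow_mem_zpowers x k)) (le_of_eq ?_)
        rw [Nat.card_zpowers, Nat.card_zpowers, Nat.Coprime.orderOf_pow]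
        rw [hx]
        exact (hp.coprime_iff_not_dvd.mpr fun hd => absurd (Nat.le_of_dvd (by omega) hd) (by omega))
      refine Subgroup.mem_normalizer_iff_map_conj_eq.mpr ?_
      rw [← hgen _ (Finset.mem_product.mp hzP).2, MonoidHom.map_zpowers]
      show Subgroup.zpowers ((z₀.1 : G)⁻¹ * (z.1 : G) * x ^ z.2 * ((z₀.1 : G)⁻¹ * (z.1 : G))⁻¹) = _
      rw [e, hgen _ (Finset.mem_product.mp hz₀P).2, hgen _ (Finset.mem_product.mp hzP).2]
    refine Fintype.card_le_of_injective (fun z => ⟨_, hmem z⟩) ?_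
    rintro ⟨z, hz⟩ ⟨w, hw⟩ h
    have h1 : (z.1 : G) = (w.1 : G) := mul_left_cancel (congrArg Subtype.val h)
    obtain ⟨hzP, he⟩ := Finset.mem_filter.mp hz
    obtain ⟨hwP, he'⟩ := Finset.mem_filter.mp hw
    have h2 := congrArg Subtype.val (he.trans he'.symm)
    rw [hg, hg, h1] at h2
    have h3 : x ^ z.2 = x ^ w.2 := mul_left_cancel (mul_right_cancel h2)
    exact Subtype.ext (Prod.ext (Subtype.ext h1) (pow_injOn_Iio_orderOf
      (by rw [Set.mem_Iio, hx]; exact (Finset.mem_Ico.mp (Finset.mem_product.mp hzP).2).2)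
      (by rw [Set.mem_Iio, hx]; exact (Finset.mem_Ico.mp (Finset.mem_product.mp hwP).2).2) h3))
  have h1 : (Nat.card L : ℝ) * ∑ k ∈ Finset.Ico 1 p, F (x ^ k) ≤ cE * ∑ a ∈ X, F a := by
    have e : (Nat.card L : ℝ) * ∑ k ∈ Finset.Ico 1 p, F (x ^ k) = ∑ z ∈ P, F ((g z : L) : G) := by
      rw [hP, Finset.sum_product, Finset.mul_sum, Finset.sum_comm]
      refine Finset.sum_congr rfl fun k hk => ?_
      rw [Finset.sum_congr rfl fun l _ => show F ((g (l, k) : L) : G) = F (x ^ k) by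
        rw [hg]; exact hinv _ (hxA k hk) _ l.2, Finset.sum_const, Finset.card_univ, nsmul_eq_mul,
        Nat.card_eq_fintype_card]
    rw [e, ← Finset.sum_fiberwise_of_maps_to (s := P) (t := X) (g := g)
      (fun z hz => Finset.mem_image_of_mem g hz), Finset.mul_sum]
    refine Finset.sum_le_sum fun a _ => ?_
    rw [Finset.sum_congr rfl fun z hz => show F ((g z : L) : G) = F a by rw [(Finset.mem_filter.mp hz).2],
      Finset.sum_const, nsmul_eq_mul]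
    exact mul_le_mul_of_nonneg_right (Nat.cast_le.mpr (hfib a)) (hF _)
  have hd : Disjoint X Z := Finset.disjoint_left.mpr fun a ha haZ => by
    obtain ⟨z, hz, rfl⟩ := Finset.mem_image.mp ha
    exact hZx _ haZ _ (Finset.mem_product.mp hz).2 _ z.1.2 (hg z).symm
  have h2 : ∑ a ∈ X, F (a : G) + ∑ a ∈ Z, F (a : G) ≤
      ∑ a ∈ Finset.univ.filter (fun a : L => (a : G) ∈ A), F (a : G) := by
    rw [← Finset.sum_union hd]
    refine Finset.sum_le_sum_of_subset_of_nonneg (fun a ha => ?_) fun a _ _ => hF _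
    refine Finset.mem_filter.mpr ⟨Finset.mem_univ _, ?_⟩
    rcases Finset.mem_union.mp ha with h | h
    exacts [hXA a h, hZ a h]
  nlinarith [mul_le_mul_of_nonneg_left h2 (Nat.cast_nonneg (α := ℝ) cE)]

theorem norm_sq_avg_le {ι : Type*} (s : Finset ι) {n : ℕ} (hn : s.card = n) (hn0 : 0 < n) (f : ι → ℂ) :
    ‖(n : ℂ)⁻¹ * ∑ i ∈ s, f i‖ ^ 2 ≤ (n : ℝ)⁻¹ * ∑ i ∈ s, ‖f i‖ ^ 2 := by
  rw [norm_mul, norm_inv, Complex.norm_natCast, mul_pow]
  have h1 := norm_sum_le s f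
  have h2 := sq_sum_le_card_mul_sum_sq (s := s) (f := fun u => ‖f u‖)
  rw [hn] at h2
  have h3 := (pow_le_pow_left₀ (norm_nonneg _) h1 2).trans h2
  refine (mul_le_mul_of_nonneg_left h3 (sq_nonneg _)).trans (le_of_eq ?_)
  have : (n : ℝ) ≠ 0 := Nat.cast_ne_zero.mpr hn0.ne'
  field_simp

theorem spread {ι : Type*} (s : Finset ι) (d : ι → ℤ) (c : ℂ) :
    (s.card + 1 : ℝ)⁻¹ * ∑ i ∈ s, (d i : ℝ) ^ 2 ≤ ‖c‖ ^ 2 + ∑ i ∈ s, ‖c - (d i : ℂ)‖ ^ 2 := by
  have hre : ∀ z : ℂ, z.re ^ 2 ≤ ‖z‖ ^ 2 := fun z => by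
    rw [← Complex.normSq_eq_norm_sq, Complex.normSq_apply]
    nlinarith [sq_nonneg z.im]
  refine le_trans ?_ (add_le_add (hre c) (Finset.sum_le_sum fun i _ => hre (c - (d i : ℂ))))
  set a := c.re
  have hn : (0 : ℝ) < s.card + 1 := by positivity
  have h1 := sq_sum_le_card_mul_sum_sq (s := s) (f := fun i => (d i : ℝ))
  have h2 : ∑ i ∈ s, (c - (d i : ℂ)).re ^ 2 = s.card * a ^ 2 - 2 * a * (∑ i ∈ s, (d i : ℝ)) + ∑ i ∈ s, (d i : ℝ) ^ 2 := by
    rw [Finset.mul_sum, ← nsmul_eq_mul, ← Finset.sum_const, ← Finset.sum_sub_distrib, ← Finset.sum_add_distrib]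
    refine Finset.sum_congr rfl fun i _ => ?_
    rw [Complex.sub_re, Complex.intCast_re]
    ring
  rw [h2, inv_mul_le_iff₀ hn]
  nlinarith [sq_nonneg ((s.card + 1 : ℝ) * a - ∑ i ∈ s, (d i : ℝ))]

open scoped Classical in
/-- The mass of the averages on `H` against the characters `1 - θ i`. -/
theorem M_part (H : Subgroup G) [Fintype H] (hHM : H ≤ M) (hA : ∀ a, a ∈ A ↔ a ∈ H ∧ a ≠ 1) (ψ : G → ℂ)
    {ι : Type*} (s : Finset ι) (θ : ι → (H →* ℂˣ)) (hinj : Set.InjOn θ s) (hne : ∀ i ∈ s, θ i ≠ 1)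
    (d : ι → ℤ) (hd : ∀ i ∈ s, Cfsg.classInner (avg H RM ψ) (fun h => 1 - (θ i h : ℂ)) = d i) :
    (Nat.card H : ℝ) * ((s.card + 1 : ℝ)⁻¹ * ∑ i ∈ s, (d i : ℝ) ^ 2) ≤
      ∑ a ∈ Finset.univ.filter (fun a : M => (a : G) ∈ A), msq RM ψ a := by
  let η : Option ι → (H →* ℂˣ) := fun o => o.elim 1 θ
  have hinj' : Set.InjOn η (Finset.insertNone s) := by
    intro a ha b hb h
    simp only [Finset.mem_coe, Finset.mem_insertNone] at ha hb
    cases a <;> cases b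
    · rfl
    · exact absurd h.symm (hne _ (hb _ rfl))
    · exact absurd h (hne _ (ha _ rfl))
    · exact congrArg some (hinj (ha _ rfl) (hb _ rfl) h)
  have hb := TypeOneCyclic.bessel (Finset.insertNone s) η hinj' (avg H RM ψ)
  rw [Finset.sum_insertNone] at hb
  set c := Cfsg.classInner (avg H RM ψ) (fun u => ((η none) u : ℂ)) with hc
  have hc' : ∀ i ∈ s, Cfsg.classInner (avg H RM ψ) (fun u => ((η (some i)) u : ℂ)) = c - (d i : ℂ) := by
    intro i hi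
    have h1 : (fun h => 1 - (θ i h : ℂ)) = (fun u => ((η none) u : ℂ)) - fun u => ((η (some i)) u : ℂ) := by
      funext u; simp [η]
    rw [← hd i hi, h1, classInner_sub_right]
    ring
  rw [Finset.sum_congr rfl fun i hi => by rw [hc' i hi]] at hb
  have h0 : (0 : ℝ) < Nat.card H := Nat.cast_pos.mpr Nat.card_pos
  refine (mul_le_mul_of_nonneg_left ((spread s d c).trans hb) h0.le).trans ?_
  rw [← mul_assoc, mul_inv_cancel₀ h0.ne', one_mul]
  have e : ∑ a ∈ Finset.univ.filter (fun a : M => (a : G) ∈ A), msq RM ψ a =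
      ∑ h : H, if h = 1 then 0 else msq RM ψ h := by
    have e1 : ∑ h : H, (if h = 1 then 0 else msq RM ψ (h : G)) =
        ∑ h ∈ Finset.univ.filter (fun h : H => h ≠ 1), msq RM ψ (h : G) := by
      rw [Finset.sum_filter]
      exact Finset.sum_congr rfl fun h _ => by by_cases hh : h = 1 <;> simp [hh]
    rw [e1]
    refine (Finset.sum_bij (fun h _ => Subgroup.inclusion hHM h) (fun h hh => ?_) (fun _ _ _ _ h => ?_)
      (fun a ha => ?_) fun h _ => rfl).symm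
    · exact Finset.mem_filter.mpr ⟨Finset.mem_univ _, (hA _).mpr
        ⟨h.2, fun e => (Finset.mem_filter.mp hh).2 (Subtype.ext e)⟩⟩
    · exact Subgroup.inclusion_injective hHM h
    · obtain ⟨h1, h2⟩ := (hA _).mp (Finset.mem_filter.mp ha).2
      exact ⟨⟨a, h1⟩, Finset.mem_filter.mpr ⟨Finset.mem_univ _, fun e => h2 (congrArg Subtype.val e)⟩, rfl⟩
  rw [e]
  refine Finset.sum_le_sum fun h _ => ?_
  by_cases h1 : h = 1
  · simp [avg, h1]
  rw [if_neg h1]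
  simp only [avg, if_neg h1]
  refine norm_sq_avg_le Finset.univ ?_ Nat.card_pos _
  rw [Finset.card_univ, Nat.card_eq_fintype_card]

open scoped Classical in
/-- The mass on the coset of one power of `x`. -/
theorem x_part (R : Subgroup G) [Fintype R] {ι : Type*} (s : Finset ι) (η : ι → (R →* ℂˣ))
    (hinj : Set.InjOn η s) (hne : ∀ i ∈ s, η i ≠ 1) (ψ Ψ : G → ℂ) (g : G) (N φ : ℂ)
    (hΨ : ∀ u ∈ R, Ψ (g * u) = N * (ψ (g * u) - φ) - 1) :
    ‖N * (coef R ψ 1 g - φ) - 1‖ ^ 2 + ‖N‖ ^ 2 * ∑ i ∈ s, ‖coef R ψ (η i) g‖ ^ 2 ≤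
      (Nat.card R : ℝ)⁻¹ * ∑ u : R, ‖Ψ (g * u)‖ ^ 2 := by
  let η' : Option ι → (R →* ℂˣ) := fun o => o.elim 1 η
  have hinj' : Set.InjOn η' (Finset.insertNone s) := by
    intro a ha b hb h
    simp only [Finset.mem_coe, Finset.mem_insertNone] at ha hb
    cases a <;> cases b
    · rfl
    · exact absurd h.symm (hne _ (hb _ rfl))
    · exact absurd h (hne _ (ha _ rfl))
    · exact congrArg some (hinj (ha _ rfl) (hb _ rfl) h)
  have hb := TypeOneCyclic.bessel (Finset.insertNone s) η' hinj' (fun u : R => Ψ (g * u))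
  have hf : (fun u : R => Ψ (g * u)) = N • (fun u : R => ψ (g * u)) +
      (-(N * φ) - 1) • (fun u : R => (((1 : R →* ℂˣ) u : ℂˣ) : ℂ)) := by
    funext u
    simp only [Pi.add_apply, Pi.smul_apply, smul_eq_mul, MonoidHom.one_apply, Units.val_one]
    rw [hΨ u u.2]
    ring
  have hval : ∀ ω : R →* ℂˣ, Cfsg.classInner (fun u : R => Ψ (g * u)) (fun u => (ω u : ℂ)) =
      N * coef R ψ ω g + (if ω = 1 then -(N * φ) - 1 else 0) := by
    intro ω
    rw [hf, classInner_add_left, classInner_smul_left, classInner_smul_left]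
    congr 1
    · congr 1
      unfold coef
      congr 1
      exact Subsingleton.elim _ _
    · split_ifs with h
      · subst h
        rw [classInner_irr_self (isIrrCharacter_hom _), mul_one]
      · rw [classInner_irr_ne (isIrrCharacter_hom _) (isIrrCharacter_hom _)
          fun e => h (coe_hom_injective e).symm, mul_zero]
  rw [Finset.sum_insertNone] at hb
  have e0 : η' none = 1 := rfl
  have e1 : ∀ i, η' (some i) = η i := fun i => rfl
  simp only [e0, e1, hval, if_pos] at hb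
  rw [Finset.sum_congr rfl fun i hi => by rw [if_neg (hne i hi), add_zero, norm_mul, mul_pow]] at hb
  rw [Finset.mul_sum]
  convert hb using 2
  ring_nf

open scoped Classical in
/-- **The inequality.** -/
theorem ineq (hM : Cfsg.DadeHypothesis A M RM) (hL : Cfsg.DadeHypothesis A' L RL)
    (hdisj : Dade.supp A M RM ∩ Dade.supp A' L RL = ∅)
    (H : Subgroup G) [Fintype H] (hHM : H ≤ M) (hA : ∀ a, a ∈ A ↔ a ∈ H ∧ a ≠ 1) {cE : ℕ}
    (hcard : Nat.card M = Nat.card H * cE)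
    {p : ℕ} (hp : p.Prime) {x : G} (hx : orderOf x = p) (hxA : ∀ k ∈ Finset.Ico 1 p, x ^ k ∈ A')
    (hN : Nat.card ↥(L ⊓ Subgroup.normalizer ((Subgroup.zpowers x : Subgroup G) : Set G)) ≤ cE)
    (R : Subgroup G) [Fintype R] (hRL : ∀ k ∈ Finset.Ico 1 p, RL (x ^ k) = R)
    (hRc : R ≤ Subgroup.centralizer ({x} : Set G)) (hRH : R ≤ H)
    {ι : Type*} (s : Finset ι) (θ : ι → (H →* ℂˣ))
    (hinj : Set.InjOn (fun i => (θ i).comp (Subgroup.inclusion hRH)) s)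
    (hne : ∀ i ∈ s, (θ i).comp (Subgroup.inclusion hRH) ≠ 1)
    {ψ : G → ℂ} (hψ : Cfsg.IsGeneralizedCharacter G ψ) {φ : L → ℂ} (hφ : Cfsg.IsGeneralizedCharacter L φ)
    {Ψ : G → ℂ} (hΨc : Cfsg.IsClassFunction G Ψ) {N : ℕ} (hN0 : 0 < N)
    (hnorm : Cfsg.classInner Ψ Ψ = (N : ℂ))
    (hΨM : ∀ g ∈ Dade.supp A M RM, Ψ g = N * ψ g)
    (hxL : x ∈ L)
    (hΨX : ∀ k ∈ Finset.Ico 1 p, ∀ u ∈ R, Ψ (x ^ k * u) =
      N * (ψ (x ^ k * u) - φ (⟨x, hxL⟩ ^ k)) - 1)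
    {e n₀ : ℤ} (he : φ 1 = e) (hn₀ : coef R ψ 1 1 = n₀)
    (b d : ι → ℤ) (hb : ∀ i ∈ s, coef R ψ ((θ i).comp (Subgroup.inclusion hRH)) 1 = b i)
    (hd : ∀ i ∈ s, Cfsg.classInner (avg H RM ψ) (fun h => 1 - (θ i h : ℂ)) = d i)
    (Z : Finset L) (hZ : ∀ a ∈ Z, (a : G) ∈ A')
    (hZx : ∀ a ∈ Z, ∀ k ∈ Finset.Ico 1 p, ∀ l ∈ L, l * x ^ k * l⁻¹ ≠ (a : G))
    (hRZ : ∀ a ∈ Z, RL (a : G) = ⊥) (hΨZ : ∀ a ∈ Z, Ψ (a : G) = N * ψ a)
    {w : ℝ} (hw : w ≤ ∑ a ∈ Z, ‖ψ (a : G)‖ ^ 2) :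
    (N : ℝ) * ((s.card + 1 : ℝ)⁻¹ * (∑ i ∈ s, (d i : ℝ) ^ 2) + (1 - (N : ℝ)⁻¹) ^ 2 * (wt p (n₀ - e) : ℝ) +
      ∑ i ∈ s, (wt p (b i) : ℝ) + (cE : ℝ) / Nat.card L * w) ≤ cE := by
  have hθne : ∀ i ∈ s, θ i ≠ 1 := fun i hi h => hne i hi (by rw [h]; rfl)
  have hθinj : Set.InjOn θ s := fun i hi j hj h => hinj hi hj (by simp only [h])
  have hN' : (0 : ℝ) < N := Nat.cast_pos.mpr hN0
  have hH : (0 : ℝ) < Nat.card H := Nat.cast_pos.mpr Nat.card_pos
  have hLp : (0 : ℝ) < Nat.card L := Nat.cast_pos.mpr Nat.card_pos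
  have hMp : 0 < Nat.card M := Nat.card_pos
  have hcE : (0 : ℝ) < cE := by
    rw [hcard] at hMp
    exact Nat.cast_pos.mpr (Nat.pos_of_mul_pos_left hMp)
  -- the first support
  have hMa : ∀ a ∈ Finset.univ.filter (fun a : M => (a : G) ∈ A), msq RM Ψ (a : G) = (N : ℝ) ^ 2 * msq RM ψ a := by
    intro a ha
    unfold msq
    rw [← mul_assoc, mul_comm ((N : ℝ) ^ 2), mul_assoc]
    congr 1
    rw [Finset.mul_sum]
    refine Finset.sum_congr rfl fun u _ => ?_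
    rw [hΨM _ ⟨a, (Finset.mem_filter.mp ha).2, 1, u, u.2, by group⟩, norm_mul, Complex.norm_natCast, mul_pow]
  have hM1 : (N : ℝ) ^ 2 * ((s.card + 1 : ℝ)⁻¹ * (∑ i ∈ s, (d i : ℝ) ^ 2)) * Nat.card H ≤
      ∑ a ∈ Finset.univ.filter (fun a : M => (a : G) ∈ A), msq RM Ψ a := by
    rw [Finset.sum_congr rfl hMa, ← Finset.mul_sum, mul_assoc, mul_comm _ (Nat.card H : ℝ)]
    exact mul_le_mul_of_nonneg_left (M_part (A := A) (RM := RM) H hHM hA ψ s θ hθinj hθne d hd) (sq_nonneg _)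
  -- the second support
  haveI := Fintype.ofFinite (Subgroup.zpowers x)
  let φ' : G → ℂ := fun g => if hg : g ∈ L then φ ⟨g, hg⟩ else 0
  have hF : Cfsg.IsGeneralizedCharacter (Subgroup.zpowers x) fun g => coef R ψ 1 g - φ' g := by
    obtain ⟨α, β, hα, hβ, hab⟩ := hφ
    refine IsGeneralizedCharacter.sub (TypeOneCyclic.coef_zpowers R hRc hψ 1)
      ⟨α ∘ Subgroup.inclusion (Subgroup.zpowers_le.mpr hxL), β ∘ Subgroup.inclusion (Subgroup.zpowers_le.mpr hxL),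
        IsCharacter.comp hα _, IsCharacter.comp hβ _, ?_⟩
    funext g
    simp only [φ', dif_pos (Subgroup.zpowers_le.mpr hxL g.2), hab]
    rfl
  have hφ'k : ∀ k : ℕ, φ' (x ^ k) = φ (⟨x, hxL⟩ ^ k) := fun k => by
    simp only [φ', dif_pos (pow_mem hxL k)]
    rfl
  have hm := TypeOneCyclic.mass_pow hp hx (F := fun g => coef R ψ 1 g - φ' g) hF (a := n₀ - e) (by
    simp only [φ', dif_pos (one_mem L)]
    rw [hn₀, show (⟨1, one_mem L⟩ : L) = 1 from rfl, he, Int.cast_sub])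
  set F : ℕ → ℂ := fun k => coef R ψ 1 (x ^ k) - φ' (x ^ k) with hFdef
  have hwa : (N : ℝ) ^ 2 * ((1 - (N : ℝ)⁻¹) ^ 2 * (wt p (n₀ - e) : ℝ)) ≤
      ∑ k ∈ Finset.Ico 1 p, ‖(N : ℂ) * F k - 1‖ ^ 2 := by
    have hN1 : (1 : ℝ) ≤ N := Nat.one_le_cast.mpr hN0
    by_cases h0 : wt p (n₀ - e) = 0
    · rw [h0]; simp only [Int.cast_zero, mul_zero]
      exact Finset.sum_nonneg fun _ _ => sq_nonneg _
    have hw1 : ((p : ℝ) - 1) ≤ (wt p (n₀ - e) : ℝ) := by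
      have := TypeOneCyclic.sub_one_le_wt hp.pos (a := n₀ - e) fun hd => h0 (by
        unfold wt; rw [Int.emod_eq_zero_of_dvd hd, zero_mul])
      exact_mod_cast this
    have hpt : ∀ z : ℂ, (N : ℝ) * ((N : ℝ) - 1) * ‖z‖ ^ 2 - ((N : ℝ) - 1) ≤ ‖(N : ℂ) * z - 1‖ ^ 2 := fun z => by
      rw [← Complex.normSq_eq_norm_sq, ← Complex.normSq_eq_norm_sq, Complex.normSq_apply, Complex.normSq_apply]
      simp only [Complex.sub_re, Complex.sub_im, Complex.mul_re, Complex.mul_im, Complex.natCast_re,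
        Complex.natCast_im, Complex.one_re, Complex.one_im]
      nlinarith [mul_nonneg hN'.le (add_nonneg (sq_nonneg (z.re - 1)) (sq_nonneg z.im))]
    refine le_trans ?_ (Finset.sum_le_sum fun k _ => hpt (F k))
    rw [Finset.sum_sub_distrib, ← Finset.mul_sum, Finset.sum_const, Nat.card_Ico, nsmul_eq_mul,
      Nat.cast_sub hp.one_lt.le, Nat.cast_one]
    have h1 : (N : ℝ) ^ 2 * ((1 - (N : ℝ)⁻¹) ^ 2 * (wt p (n₀ - e) : ℝ)) =
        ((N : ℝ) - 1) ^ 2 * (wt p (n₀ - e) : ℝ) := by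
      field_simp
    rw [h1]
    have h2 := mul_le_mul_of_nonneg_left hm (mul_nonneg hN'.le (sub_nonneg.mpr hN1))
    have h3 := mul_le_mul_of_nonneg_left hw1 (sub_nonneg.mpr hN1)
    nlinarith
  have hk : ∀ k ∈ Finset.Ico 1 p, ‖(N : ℂ) * F k - 1‖ ^ 2 +
      (N : ℝ) ^ 2 * ∑ i ∈ s, ‖coef R ψ ((θ i).comp (Subgroup.inclusion hRH)) (x ^ k)‖ ^ 2 ≤ msq RL Ψ (x ^ k) := by
    intro k hk
    have h1 := x_part R s (fun i => (θ i).comp (Subgroup.inclusion hRH)) hinj hne ψ Ψ (x ^ k) (N : ℂ) (φ' (x ^ k))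
      (fun u hu => by rw [hΨX k hk u hu, hφ'k])
    rw [Complex.norm_natCast] at h1
    refine h1.trans (le_of_eq ?_)
    unfold msq
    rw [hRL k hk]
    congr 1
    exact Finset.sum_congr (by ext; simp) fun _ _ => rfl
  have hbm : ∀ i ∈ s, (wt p (b i) : ℝ) ≤
      ∑ k ∈ Finset.Ico 1 p, ‖coef R ψ ((θ i).comp (Subgroup.inclusion hRH)) (x ^ k)‖ ^ 2 := fun i hi => by
    obtain ⟨a, ha, hle⟩ := TypeOneCyclic.coef_mass hp hx R hRc hψ ((θ i).comp (Subgroup.inclusion hRH))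
    rw [hb i hi, Int.cast_inj] at ha
    rw [ha]
    exact hle
  have hX : (N : ℝ) ^ 2 * ((1 - (N : ℝ)⁻¹) ^ 2 * (wt p (n₀ - e) : ℝ) + ∑ i ∈ s, (wt p (b i) : ℝ)) ≤
      ∑ k ∈ Finset.Ico 1 p, msq RL Ψ (x ^ k) := by
    refine le_trans ?_ (Finset.sum_le_sum hk)
    rw [mul_add, Finset.sum_add_distrib]
    refine add_le_add hwa ?_
    rw [← Finset.mul_sum, Finset.sum_comm]
    exact mul_le_mul_of_nonneg_left (Finset.sum_le_sum hbm) (sq_nonneg _)
  have hZ' : (N : ℝ) ^ 2 * w ≤ ∑ a ∈ Z, msq RL Ψ (a : G) := by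
    refine (mul_le_mul_of_nonneg_left hw (sq_nonneg _)).trans (le_of_eq ?_)
    rw [Finset.mul_sum]
    refine Finset.sum_congr rfl fun a ha => ?_
    unfold msq
    have h1 : ∀ u : RL (a : G), Ψ ((a : G) * u) = N * ψ a := fun u => by
      have hu : (u : G) = 1 := Subgroup.mem_bot.mp (hRZ a ha ▸ u.2)
      rw [hu, mul_one, hΨZ a ha]
    rw [Finset.sum_congr rfl fun u _ => by rw [h1 u], Finset.sum_const, Finset.card_univ, nsmul_eq_mul,
      ← Nat.card_eq_fintype_card, ← mul_assoc, inv_mul_cancel₀ (Nat.cast_ne_zero.mpr Nat.card_pos.ne'),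
      one_mul, norm_mul, Complex.norm_natCast, mul_pow]
  have hLsum := orbit_le hL hx hxA hp hN Z hZ hZx (msq RL Ψ) (msq_nonneg RL Ψ)
    fun a ha l hl => msq_conj hL hΨc ha hl
  have htot := two_supports hM hL hdisj hΨc
  rw [hnorm, Complex.natCast_re, hcard, Nat.cast_mul] at htot
  set SM := ∑ a ∈ Finset.univ.filter (fun a : M => (a : G) ∈ A), msq RM Ψ a
  set SL := ∑ a ∈ Finset.univ.filter (fun a : L => (a : G) ∈ A'), msq RL Ψ a
  set D := (s.card + 1 : ℝ)⁻¹ * (∑ i ∈ s, (d i : ℝ) ^ 2)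
  set W := (1 - (N : ℝ)⁻¹) ^ 2 * (wt p (n₀ - e) : ℝ) + ∑ i ∈ s, (wt p (b i) : ℝ) with hW
  have g1 : (N : ℝ) ^ 2 * D ≤ cE * (((Nat.card H : ℝ) * cE)⁻¹ * SM) := by
    rw [show (cE : ℝ) * (((Nat.card H : ℝ) * cE)⁻¹ * SM) = SM / Nat.card H by field_simp, le_div_iff₀ hH]
    exact hM1
  have g2 : (N : ℝ) ^ 2 * (W + (cE : ℝ) / Nat.card L * w) ≤ cE * ((Nat.card L : ℝ)⁻¹ * SL) := by
    rw [show (cE : ℝ) * ((Nat.card L : ℝ)⁻¹ * SL) = cE * SL / Nat.card L by field_simp, le_div_iff₀ hLp]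
    refine le_trans ?_ hLsum
    rw [show (N : ℝ) ^ 2 * (W + (cE : ℝ) / Nat.card L * w) * Nat.card L =
      (Nat.card L : ℝ) * ((N : ℝ) ^ 2 * W) + cE * ((N : ℝ) ^ 2 * w) by field_simp]
    exact add_le_add (mul_le_mul_of_nonneg_left hX hLp.le) (mul_le_mul_of_nonneg_left hZ' hcE.le)
  have g3 := mul_le_mul_of_nonneg_left htot hcE.le
  refine le_of_mul_le_mul_left ?_ hN'
  rw [show (N : ℝ) * ((N : ℝ) * (D + (1 - (N : ℝ)⁻¹) ^ 2 * (wt p (n₀ - e) : ℝ) + ∑ i ∈ s, (wt p (b i) : ℝ) +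
    (cE : ℝ) / Nat.card L * w)) = (N : ℝ) ^ 2 * D + (N : ℝ) ^ 2 * (W + (cE : ℝ) / Nat.card L * w) by rw [hW]; ring]
  rw [mul_add] at g3
  linarith

end CfsgLib.OddOrder.TypeOneCount
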