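import Cfsg.Agent.Lib.Char.Linear
import Cfsg.Agent.Lib.Char.Virtual
import Cfsg.Agent.Lib.Char.Coherence
import Mathlib

set_option autoImplicit false
set_option linter.style.haveILetI false
set_option linter.unusedSectionVars false

/-!
The Fourier mass of a virtual character on a cyclic group of prime order, and on the cosets of an element of
prime order.
-/

open scoped ComplexConjugate

namespace CfsgLib.OddOrder.TypeOneCyclic

open CfsgLib.Char

/-- The least mass off the identity of `p` integers with sum `a`. -/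
def wt (p : ℕ) (a : ℤ) : ℤ := a % p * (p - a % p)

theorem wt_nonneg {p : ℕ} (hp : 0 < p) (a : ℤ) : 0 ≤ wt p a := by
  have h1 := Int.emod_nonneg a (show (p : ℤ) ≠ 0 by omega)
  have h2 := Int.emod_lt_of_pos a (show (0 : ℤ) < p by omega)
  exact mul_nonneg h1 (by omega)

theorem wt_congr {p : ℕ} {a b : ℤ} (h : a ≡ b [ZMOD p]) : wt p a = wt p b := by
  unfold wt; rw [h.eq]

theorem sub_one_le_wt {p : ℕ} (hp : 0 < p) {a : ℤ} (h : ¬ (p : ℤ) ∣ a) : (p : ℤ) - 1 ≤ wt p a := by
  have h1 := Int.emod_nonneg a (show (p : ℤ) ≠ 0 by omega)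
  have h2 := Int.emod_lt_of_pos a (show (0 : ℤ) < p by omega)
  have h3 : a % p ≠ 0 := fun e => h (Int.dvd_of_emod_eq_zero e)
  have h4 : 0 ≤ (a % (p : ℤ) - 1) * ((p : ℤ) - 1 - a % p) := mul_nonneg (by omega) (by omega)
  unfold wt
  nlinarith

/-- `p` integers with sum `a` have squares summing to at least `(a ^ 2 + wt p a) / p`. -/
theorem wt_le {ι : Type*} [Fintype ι] {p : ℕ} (hcard : Fintype.card ι = p) (hp : 0 < p) (m : ι → ℤ) :
    wt p (∑ i, m i) ≤ p * ∑ i, m i ^ 2 - (∑ i, m i) ^ 2 := by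
  set a := ∑ i, m i with ha
  set q := a / (p : ℤ) with hq
  set r := a % (p : ℤ) with hr
  have he : a = p * q + r := (Int.mul_ediv_add_emod a p).symm
  have hpos : ∀ i, 0 ≤ m i ^ 2 - (2 * q + 1) * m i + q * (q + 1) := fun i => by
    rcases le_or_gt (m i) q with h | h
    · nlinarith
    · nlinarith
  have hs : (0 : ℤ) ≤ ∑ i, (m i ^ 2 - (2 * q + 1) * m i + q * (q + 1)) := Finset.sum_nonneg fun i _ => hpos i
  rw [Finset.sum_add_distrib, Finset.sum_sub_distrib, ← Finset.mul_sum, Finset.sum_const, Finset.card_univ, hcard,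
    nsmul_eq_mul, ← ha] at hs
  have hp' : (0 : ℤ) ≤ p := by positivity
  have h2 := mul_nonneg hp' hs
  show r * (p - r) ≤ _
  rw [he] at h2 ⊢
  nlinarith [h2]

/-- Bessel's inequality for linear characters. -/
theorem bessel {R : Type*} [Group R] [Fintype R] {ι : Type*} (s : Finset ι) (η : ι → (R →* ℂˣ))
    (hinj : Set.InjOn η s) (f : R → ℂ) :
    ∑ i ∈ s, ‖Cfsg.classInner f (fun u => (η i u : ℂ))‖ ^ 2 ≤ (Nat.card R : ℝ)⁻¹ * ∑ u, ‖f u‖ ^ 2 := by
  classical
  set w : ι → R → ℂ := fun i u => (η i u : ℂ) with hw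
  set c : ι → ℂ := fun i => Cfsg.classInner f (w i) with hc
  set P := ∑ i ∈ s, c i • w i with hP
  set T : ℂ := ((∑ i ∈ s, ‖c i‖ ^ 2 : ℝ) : ℂ) with hT
  have hsq : ∀ z : ℂ, ((‖z‖ ^ 2 : ℝ) : ℂ) = z * conj z := fun z => by
    rw [Complex.mul_conj, Complex.normSq_eq_norm_sq]
  have h1 : Cfsg.classInner f P = T := by
    rw [hP, classInner_sum_right, hT, Complex.ofReal_sum]
    exact Finset.sum_congr rfl fun i hi => by rw [classInner_smul_right, hsq]; ring
  have h2 : Cfsg.classInner P P = T := by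
    rw [hP, classInner_sum_left, hT, Complex.ofReal_sum]
    refine Finset.sum_congr rfl fun i hi => ?_
    rw [classInner_smul_left, classInner_sum_right, Finset.sum_eq_single i]
    · rw [classInner_smul_right, classInner_irr_self (isIrrCharacter_hom _), hsq, mul_one]
    · intro j hj hne
      rw [classInner_smul_right, classInner_irr_ne (isIrrCharacter_hom _) (isIrrCharacter_hom _)
        fun e => hne (hinj hi hj (coe_hom_injective e)).symm, mul_zero]
    · exact fun h => absurd hi h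
  have h3 : Cfsg.classInner P f = T := by
    rw [← classInner_conj_symm, h1, hT, Complex.conj_ofReal]
  have h4 : Cfsg.classInner (f - P) (f - P) = Cfsg.classInner f f - T := by
    rw [classInner_sub_left, classInner_sub_right, classInner_sub_right, h1, h2, h3]
    ring
  have hnn : 0 ≤ (Cfsg.classInner (f - P) (f - P)).re := by
    rw [classInner_self, Complex.ofReal_re]
    positivity
  rw [h4, classInner_self f, Complex.sub_re, Complex.ofReal_re, hT, Complex.ofReal_re] at hnn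
  exact sub_nonneg.mp hnn

/-- The mass off the identity of a virtual character of a group of prime order. -/
theorem mass {P : Type*} [Group P] [Fintype P] [DecidableEq P] {p : ℕ} (hp : p.Prime) (hP : Nat.card P = p)
    {F : P → ℂ} (hF : Cfsg.IsGeneralizedCharacter P F) {a : ℤ} (ha : F 1 = a) :
    (wt p a : ℝ) ≤ ∑ g ∈ Finset.univ.erase (1 : P), ‖F g‖ ^ 2 := by
  classical
  haveI := Fact.mk hp
  haveI : IsCyclic P := isCyclic_of_prime_card hP
  have hcomm : ∀ x y : P, x * y = y * x := fun x y => (IsCyclic.commGroup (α := P)).mul_comm x y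
  obtain ⟨z, -, he, hn⟩ := IsGeneralizedCharacter.exists_coeff hF
  have h1 : F 1 = ((∑ φ : Cfsg.IrrCharacter P, z φ : ℤ) : ℂ) := by
    conv_lhs => rw [he]
    rw [Finset.sum_apply, Int.cast_sum]
    exact Finset.sum_congr rfl fun φ _ => by
      rw [Pi.smul_apply, apply_one_eq_one_of_comm hcomm φ.2, smul_eq_mul, mul_one]
  have ha' : a = ∑ φ : Cfsg.IrrCharacter P, z φ := Int.cast_injective (α := ℂ) (ha.symm.trans h1)
  have hcard : Fintype.card (Cfsg.IrrCharacter P) = p := by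
    rw [← Nat.card_eq_fintype_card, card_irrCharacter, ← hP]
    refine (Nat.card_eq_of_bijective (ConjClasses.mk : P → ConjClasses P) ⟨fun x y h => ?_, ?_⟩).symm
    · obtain ⟨c, hc⟩ := ConjClasses.mk_eq_mk_iff_isConj.mp h
      have := hc.eq
      rw [hcomm (c : P) x] at this
      exact mul_right_cancel this
    · exact fun c => ⟨c.out, c.out_eq⟩
  have hw := wt_le hcard hp.pos z
  rw [← ha'] at hw
  have hsum : ∑ g, ‖F g‖ ^ 2 = (p : ℝ) * ((∑ φ : Cfsg.IrrCharacter P, z φ * z φ : ℤ) : ℝ) := by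
    rw [classInner_self, ← Complex.ofReal_intCast, Complex.ofReal_inj, hP] at hn
    rw [← hn, ← mul_assoc, mul_inv_cancel₀ (Nat.cast_ne_zero.mpr hp.ne_zero), one_mul]
  have hsplit := Finset.add_sum_erase Finset.univ (fun g => ‖F g‖ ^ 2) (Finset.mem_univ (1 : P))
  have hF1 : ‖F 1‖ ^ 2 = (a : ℝ) ^ 2 := by
    rw [ha, show (a : ℂ) = ((a : ℝ) : ℂ) by norm_cast, Complex.norm_real, Real.norm_eq_abs, sq_abs]
  rw [hsum, hF1] at hsplit
  have hw' : ((wt p a : ℤ) : ℝ) ≤ ((p * ∑ φ : Cfsg.IrrCharacter P, z φ ^ 2 - a ^ 2 : ℤ) : ℝ) := Int.cast_le.mpr hw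
  push_cast at hw' hsplit
  simp only [sq] at hw' hsplit ⊢
  linarith

variable {G : Type*} [Group G] [Fintype G]

/-- The coefficient at a linear character of the restriction to a coset. -/
noncomputable def coef (R : Subgroup G) (ψ : G → ℂ) (η : R →* ℂˣ) (g : G) : ℂ :=
  haveI := Fintype.ofFinite R
  Cfsg.classInner (fun u : R => ψ (g * u)) fun u => (η u : ℂ)

/-- The coefficients on the cosets of a centralising subgroup form a virtual character. -/
theorem coef_generalized (P R : Subgroup G) [Fintype P] [Fintype R] (hcomm : ∀ g ∈ P, ∀ u ∈ R, Commute g u)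
    (hPab : ∀ a b : P, a * b = b * a) {ψ : G → ℂ} (hψ : Cfsg.IsGeneralizedCharacter G ψ) (η : R →* ℂˣ) :
    Cfsg.IsGeneralizedCharacter P fun g => coef R ψ η g := by
  classical
  let m : P × R →* G := MonoidHom.mk' (fun z => (z.1 : G) * z.2) fun a b => by
    show ((a.1 : G) * b.1) * ((a.2 : G) * b.2) = a.1 * a.2 * (b.1 * b.2)
    rw [mul_assoc, mul_assoc, ← mul_assoc (b.1 : G), (hcomm b.1 b.1.2 a.2 a.2.2).eq, mul_assoc]
  obtain ⟨α, β, hα, hβ, rfl⟩ := hψ
  refine isGeneralizedCharacter_iff.mpr ⟨fun g h => ?_, fun φ hφ => ?_⟩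
  · rw [hPab h g, mul_inv_cancel_right]
  obtain ⟨ω, rfl⟩ := exists_hom_of_apply_one_eq_one (IsIrrCharacter.isCharacter hφ)
    (apply_one_eq_one_of_comm hPab hφ)
  have hm : Cfsg.IsGeneralizedCharacter (P × R) ((α - β) ∘ m) :=
    ⟨α ∘ m, β ∘ m, IsCharacter.comp hα m, IsCharacter.comp hβ m, rfl⟩
  obtain ⟨z, hz⟩ := IsGeneralizedCharacter.classInner_int hm
    (IsCharacter.isGeneralizedCharacter (isCharacter_hom
      ((ω.comp (MonoidHom.fst P R)) * (η.comp (MonoidHom.snd P R)))))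
  refine ⟨z, ?_⟩
  rw [← hz]
  unfold coef Cfsg.classInner
  rw [Fintype.sum_prod_type, Nat.card_prod, Nat.cast_mul, mul_inv, mul_assoc]
  congr 1
  rw [Finset.mul_sum]
  refine Finset.sum_congr rfl fun g _ => ?_
  rw [mul_assoc, Finset.sum_mul]
  congr 1
  refine Finset.sum_congr (by congr 1; exact Subsingleton.elim _ _) fun u _ => ?_
  simp only [Function.comp_apply, MonoidHom.mk'_apply, m, MonoidHom.mul_apply, MonoidHom.coe_comp,
    MonoidHom.coe_fst, MonoidHom.coe_snd, Units.val_mul, map_mul]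
  ring

theorem zpowers_comm {x : G} (a b : Subgroup.zpowers x) : a * b = b * a := by
  obtain ⟨i, hi⟩ := Subgroup.mem_zpowers_iff.mp a.2
  obtain ⟨j, hj⟩ := Subgroup.mem_zpowers_iff.mp b.2
  exact Subtype.ext (by simp [← hi, ← hj, ← zpow_add, add_comm])

/-- A virtual character of `⟨x⟩` has an integral value at the identity. -/
theorem gen_one {x : G} [Fintype (Subgroup.zpowers x)] {F : G → ℂ}
    (hF : Cfsg.IsGeneralizedCharacter (Subgroup.zpowers x) fun g => F g) : ∃ a : ℤ, F 1 = a := by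
  classical
  obtain ⟨z, hz, he, -⟩ := IsGeneralizedCharacter.exists_coeff hF
  refine ⟨∑ φ : Cfsg.IrrCharacter (Subgroup.zpowers x), z φ, ?_⟩
  have h := congrFun he 1
  simp only [Finset.sum_apply, Pi.smul_apply, smul_eq_mul, OneMemClass.coe_one] at h
  rw [h, Int.cast_sum]
  exact Finset.sum_congr rfl fun φ _ => by rw [apply_one_eq_one_of_comm zpowers_comm φ.2, mul_one]

/-- The mass of a virtual character of `⟨x⟩` on the nontrivial powers. -/
theorem mass_pow {p : ℕ} (hp : p.Prime) {x : G} (hx : orderOf x = p) [Fintype (Subgroup.zpowers x)] {F : G → ℂ}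
    (hF : Cfsg.IsGeneralizedCharacter (Subgroup.zpowers x) fun g => F g) {a : ℤ} (ha : F 1 = a) :
    (wt p a : ℝ) ≤ ∑ k ∈ Finset.Ico 1 p, ‖F (x ^ k)‖ ^ 2 := by
  classical
  refine (mass hp (by rw [Nat.card_zpowers, hx]) hF (by simpa using ha)).trans (le_of_eq ?_)
  symm
  refine Finset.sum_bij (fun k _ => (⟨x ^ k, Subgroup.npow_mem_zpowers x k⟩ : Subgroup.zpowers x))
    (fun k hk => ?_) (fun i hi j hj h => ?_) (fun g hg => ?_) fun k _ => rfl
  · obtain ⟨h1, h2⟩ := Finset.mem_Ico.mp hk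
    refine Finset.mem_erase.mpr ⟨fun h => ?_, Finset.mem_univ _⟩
    have := Nat.le_of_dvd h1 (orderOf_dvd_of_pow_eq_one (congrArg Subtype.val h))
    omega
  · exact pow_injOn_Iio_orderOf (by rw [Set.mem_Iio, hx]; exact (Finset.mem_Ico.mp hi).2)
      (by rw [Set.mem_Iio, hx]; exact (Finset.mem_Ico.mp hj).2) (congrArg Subtype.val h)
  · obtain ⟨hg1, -⟩ := Finset.mem_erase.mp hg
    obtain ⟨k, hk, hk'⟩ := Finset.mem_image.mp
      ((IsOfFinOrder.mem_zpowers_iff_mem_range_orderOf (isOfFinOrder_of_finite x)).mp g.2)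
    rw [Finset.mem_range, hx] at hk
    refine ⟨k, Finset.mem_Ico.mpr ⟨Nat.one_le_iff_ne_zero.mpr fun e => hg1 (Subtype.ext ?_), hk⟩,
      Subtype.ext hk'⟩
    rw [← hk', e, pow_zero]; rfl

/-- The coefficients are a virtual character of `⟨x⟩`. -/
theorem coef_zpowers {x : G} [Fintype (Subgroup.zpowers x)] (R : Subgroup G) [Fintype R]
    (hR : R ≤ Subgroup.centralizer ({x} : Set G)) {ψ : G → ℂ} (hψ : Cfsg.IsGeneralizedCharacter G ψ)
    (η : R →* ℂˣ) : Cfsg.IsGeneralizedCharacter (Subgroup.zpowers x) fun g => coef R ψ η g := by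
  refine coef_generalized (Subgroup.zpowers x) R (fun g hg u hu => ?_) zpowers_comm hψ η
  obtain ⟨i, rfl⟩ := Subgroup.mem_zpowers_iff.mp hg
  exact ((show Commute u x from Subgroup.mem_centralizer_singleton_iff.mp (hR hu)).zpow_right i).symm

/-- The mass of the coefficients on the nontrivial cosets. -/
theorem coef_mass {p : ℕ} (hp : p.Prime) {x : G} (hx : orderOf x = p) (R : Subgroup G) [Fintype R]
    (hR : R ≤ Subgroup.centralizer ({x} : Set G)) {ψ : G → ℂ} (hψ : Cfsg.IsGeneralizedCharacter G ψ)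
    (η : R →* ℂˣ) :
    ∃ a : ℤ, coef R ψ η 1 = a ∧ (wt p a : ℝ) ≤ ∑ k ∈ Finset.Ico 1 p, ‖coef R ψ η (x ^ k)‖ ^ 2 := by
  haveI := Fintype.ofFinite (Subgroup.zpowers x)
  obtain ⟨a, ha⟩ := gen_one (coef_zpowers (x := x) R hR hψ η)
  exact ⟨a, ha, mass_pow hp hx (coef_zpowers (x := x) R hR hψ η) ha⟩

end CfsgLib.OddOrder.TypeOneCyclic
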