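import Cfsg.Agent.Lib.OddOrder.TypeOneMain
import Cfsg.Agent.Lib.OddOrder.TypeF
import Cfsg.Agent.Lib.OddOrder.DadeSets
import Cfsg.Agent.Lib.OddOrder.FittingTypeV
import Cfsg.Agent.Lib.FrobRealize.Kernel
import Cfsg.Agent.S1381
import Cfsg.Agent.S1420
import Mathlib

set_option autoImplicit false
set_option linter.style.haveILetI false
set_option linter.unusedSectionVars false

/-!
Consequences of `TypeOneMain`: maximal subgroups with empty `κ`, and the neighbours of a maximal subgroup.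
-/

namespace CfsgLib.OddOrder.TypeOneFacts

open scoped commutatorElement
open SigmaFusion (cj)
open SigmaCentralizer (Over)

variable {G : Type*} [Group G] [Finite G] {M N K U A B : Subgroup G} {x : G}

theorem compl_symm {X : Subgroup G} (h : Cfsg.IsComplIn A B X) : Cfsg.IsComplIn B A X := by
  refine ⟨h.2.1, h.1, by rw [inf_comm]; exact h.2.2.1, fun m hm => ?_⟩
  obtain ⟨a, ha, b, hb, e⟩ := h.2.2.2 m⁻¹ (X.inv_mem hm)
  exact ⟨b⁻¹, B.inv_mem hb, a⁻¹, A.inv_mem ha, by rw [← mul_inv_rev, ← e, inv_inv]⟩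

theorem kappa_eq_empty (h : Cfsg.IsSigmaDecomposition M K U) (hK : K = ⊥) : Cfsg.kappa M = ∅ :=
  Set.eq_empty_iff_forall_notMem.mpr (SigmaDecomp.kappa_empty h hK)

theorem K_eq_bot (h : Cfsg.IsSigmaDecomposition M K U) (hκ : Cfsg.kappa M = ∅) : K = ⊥ := by
  by_contra hK
  obtain ⟨t, ht, htd⟩ := Nat.exists_prime_and_dvd (n := Nat.card K) (fun e => hK (Subgroup.eq_bot_of_card_eq _ e))
  exact Set.eq_empty_iff_forall_notMem.mp hκ t (h.hall.2.1 t ht htd)

theorem nilpotent_of_empty (hG : Cfsg.IsMinSimpleOddOrder G) (hM : IsCoatom M) (hκ : Cfsg.kappa M = ∅) :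
    Group.IsNilpotent (Cfsg.sigmaCore M) := by
  obtain ⟨K, U, h⟩ := FittingStructure.exists_decomp hG hM
  exact by_contra fun hn => (CoreStructure.not_nilpotent hG hM h hn).2 (K_eq_bot h hκ)

theorem fittingHall_of_empty (hG : Cfsg.IsMinSimpleOddOrder G) (hM : IsCoatom M) (hκ : Cfsg.kappa M = ∅) :
    Cfsg.fittingHallOf M = Cfsg.sigmaCore M :=
  TypeP.fittingHall_eq hG hM (nilpotent_of_empty hG hM hκ)

theorem core_lt (hG : Cfsg.IsMinSimpleOddOrder G) (hM : IsCoatom M) : Cfsg.sigmaCore M < M := by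
  refine lt_of_le_of_ne (SigmaTools.sigmaCore_le M) fun e => ?_
  haveI : Group.IsSolvable M := hG.2.2.2 M hM.1
  exact (Coprime.commutator_self_lt inferInstance (SigmaCore.coatom_ne_bot hG hM)).not_ge
    (e.ge.trans (SigmaCore.le_derived hG hM))

theorem U_ne_bot (hG : Cfsg.IsMinSimpleOddOrder G) (hM : IsCoatom M) (h : Cfsg.IsSigmaDecomposition M K U)
    (hK : K = ⊥) : U ≠ ⊥ := fun e => (core_lt hG hM).ne (by
  have h1 := Basic.IsComplIn.eq_sup (SigmaDecomp.U_compl_of_bot hG hM h hK)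
  rw [e, bot_sup_eq] at h1
  exact h1.symm)

/-- The neighbour over an element of `M_σ` has non-empty `κ`. -/
theorem over_kappa (hG : Cfsg.IsMinSimpleOddOrder G) (hov : Over M N x) (hx1 : x ≠ 1) :
    (Cfsg.kappa N).Nonempty := by
  refine Set.nonempty_iff_ne_empty.mpr fun hκ => ?_
  obtain ⟨w, hw, hw1⟩ := (Subgroup.bot_or_exists_ne_one _).resolve_left hov.fixed
  have hx : x ∈ Cfsg.sigmaCore N := TypeOneMain.centralizer_le hG hov.coatom hκ hw.1 hw1
    ⟨hov.mem.2, Subgroup.mem_centralizer_singleton_iff.mpr (Subgroup.mem_centralizer_singleton_iff.mp hw.2).symm⟩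
  exact hx1 (Subgroup.mem_bot.mp (hov.bot.le ⟨hx, hov.mem.1⟩))

/-- The neighbour over an element of `M_σ` is of Type II, and the element lies in `A(N)` outside `A₁(N)`. -/
theorem over_typeA (hG : Cfsg.IsMinSimpleOddOrder G) (hM : IsCoatom M) (hx : x ∈ Cfsg.sigmaCore M) (hx1 : x ≠ 1)
    (hxM : ¬ Subgroup.centralizer ({x} : Set G) ≤ M) (hov : Over M N x) :
    Cfsg.IsOfTypeII N ∧ x ∈ Cfsg.typeA N ∧ x ∉ Cfsg.typeA1 N := by
  classical
  obtain ⟨N', hN', hu, -, -, -, -, hdec⟩ := Cfsg.Agent.S1375.result hG M hM x hx hx1 hxM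
  obtain rfl : N = N' := hu N hov.coatom hov.le
  obtain ⟨K', U', h⟩ := FittingStructure.exists_decomp hG hov.coatom
  obtain ⟨hU', hxA, hxS⟩ := hdec K' U' h
  have hK' : K' ≠ ⊥ := fun e => (over_kappa hG hov hx1).ne_empty (kappa_eq_empty h e)
  have htc := DadeSets.typeCore_eq hG hov.coatom h
  refine ⟨(Cfsg.Agent.S1381.result hG N hov.coatom K' U' h).mpr ⟨hK', hU'⟩, ?_, fun hA => hxS (htc ▸ hA.1)⟩
  have hI : ¬ Cfsg.IsOfTypeI N := fun hI => hK' (TypeF.kappa_of_typeF hG hov.coatom h hI.1)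
  simp only [Cfsg.typeA, if_neg hI, Set.mem_setOf_eq]
  obtain ⟨w, hw, hw1⟩ := (Subgroup.bot_or_exists_ne_one _).resolve_left hov.fixed
  refine ⟨?_, hx1, w, htc.symm ▸ hw.1, hw1, (Subgroup.mem_centralizer_singleton_iff.mp hw.2).symm⟩
  rw [StarDerived.derived_eq hG hov.coatom h hK']
  exact hxA.2

/-- A `σ'`-element of `U M_σ` with a fixed point on `M_σ` has its centraliser in `M` only. -/
theorem unique_of_hat (hG : Cfsg.IsMinSimpleOddOrder G) (hM : IsCoatom M) (h : Cfsg.IsSigmaDecomposition M K U)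
    {z y : G} (hz : z ∈ U ⊔ Cfsg.sigmaCore M) (hz1 : z ≠ 1)
    (hσ : ∀ t : ℕ, t.Prime → t ∣ orderOf z → t ∉ Cfsg.sigma M) (hy : y ∈ Cfsg.sigmaCore M) (hy1 : y ≠ 1)
    (hzy : Commute z y) :
    Subgroup.centralizer ({z} : Set G) ≤ M ∧
      ∀ L : Subgroup G, IsCoatom L → Subgroup.centralizer ({z} : Set G) ≤ L → L = M := by
  have hzM : z ∈ M := sup_le (SigmaDecomp.U_le h) (SigmaTools.sigmaCore_le M) hz
  obtain ⟨E, hEh⟩ := Coprime.exists_hall {t | t ∉ Cfsg.sigma M} (hG.2.2.2 M hM.1)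
  refine (Cfsg.Agent.S1420.result hG M hM E (SylowCentral.isComplIn_of_hall hG hM hEh)).2.2.2 z hzM hz1
    (fun t ht hd => ?_) ⟨hzM, y, hy, hy1, hzy.eq⟩
  haveI := Fact.mk ht
  have hts := hσ t ht hd
  have hcard : Nat.card ↥(U ⊔ Cfsg.sigmaCore M) = Nat.card (Cfsg.sigmaCore M) * Nat.card U := by
    rw [sup_comm]
    refine Coprime.card_sup_of_le_normalizer ((SigmaDecomp.U_le h).trans (SigmaTools.le_normalizer_sigmaCore M))
      (disjoint_iff.mpr (Subgroup.inf_eq_bot_of_coprime (Nat.coprime_of_dvd fun r hr h1 h2 => ?_)))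
    haveI := Fact.mk hr
    exact (SigmaDecomp.U_primes hG hM h r hr h2).2.2 (SigmaTools.mem_sigma_of_card h1)
  have htU : t ∣ Nat.card U :=
    (ht.dvd_mul.mp (hcard ▸ hd.trans (Subgroup.orderOf_dvd_natCard _ hz))).resolve_left
      fun h1 => hts (SigmaTools.mem_sigma_of_card h1)
  have hκ := (SigmaDecomp.U_primes hG hM h t ht htU).2.1
  refine StarNormalizer.tau2_of hG hM hts fun hr => hκ ?_
  have hwo : orderOf (z ^ (orderOf z / t)) = t := orderOf_pow_orderOf_div (orderOf_pos z).ne' hd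
  exact KappaHall.mem_kappa hG hts hr (M.pow_mem hzM _) hwo fun e => hy1
    (Subgroup.mem_bot.mp (e.le ⟨hy, Subgroup.mem_centralizer_singleton_iff.mpr (hzy.pow_left _).eq.symm⟩))

/-- A nilpotent normal subgroup containing the centralisers of its non-identity elements is a Frobenius kernel. -/
theorem frobenius_of {X : Type*} [Group X] [Finite X] (H E : Subgroup X) [H.Normal] (hH : H ≠ ⊥) (hH' : H ≠ ⊤)
    (hc : Subgroup.IsComplement' H E) (hfix : ∀ h ∈ H, h ≠ 1 → Subgroup.centralizer ({h} : Set X) ≤ H) :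
    Cfsg.IsFrobeniusComplement E ∧ Cfsg.frobeniusKernel E = (H : Set X) := by
  have hbot : H ⊓ E = ⊥ := hc.disjoint.eq_bot
  have hE : Cfsg.IsFrobeniusComplement E := by
    refine ⟨fun e => hH' ?_, fun e => hH ?_, fun g hg => le_bot_iff.mp fun z hz => ?_⟩
    · subst e; exact Subgroup.isComplement'_bot_right.mp hc
    · subst e; exact Subgroup.isComplement'_top_right.mp hc
    obtain ⟨⟨n, e⟩, hne : (n : X) * e = g⟩ := hc.2 g
    obtain ⟨hz1, hz2⟩ := Subgroup.mem_inf.mp hz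
    rw [FrobRealize.Kernel.mem_conj_smul, ← hne] at hz2
    have hn1 : (n : X) ≠ 1 := fun h1 => hg (by rw [← hne, h1, one_mul]; exact e.2)
    have hw : (n : X)⁻¹ * z * n ∈ E := by
      have := E.mul_mem (E.mul_mem e.2 hz2) (E.inv_mem e.2)
      convert this using 1
      group
    have hcm : z⁻¹ * ((n : X)⁻¹ * z * n) ∈ H ⊓ E := by
      refine ⟨?_, E.mul_mem (E.inv_mem hz1) hw⟩
      rw [show z⁻¹ * ((n : X)⁻¹ * z * n) = (z⁻¹ * (n : X)⁻¹ * (z⁻¹)⁻¹) * n by group]
      exact H.mul_mem (‹H.Normal›.conj_mem _ (H.inv_mem n.2) _) n.2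
    rw [hbot, Subgroup.mem_bot, inv_mul_eq_one] at hcm
    refine hbot.le ⟨hfix n n.2 hn1 (Subgroup.mem_centralizer_singleton_iff.mpr ?_), hz1⟩
    calc z * n = n * ((n : X)⁻¹ * z * n) := by group
      _ = n * z := by rw [← hcm]
  refine ⟨hE, (Set.eq_of_subset_of_ncard_le (fun h hh => ?_) ?_ (Set.toFinite _)).symm⟩
  · refine FrobRealize.Kernel.mem_frobeniusKernel.mpr (or_iff_not_imp_left.mpr fun h1 g hg => h1 ?_)
    have h2 : g⁻¹ * h * g ∈ H ⊓ E := ⟨by simpa using ‹H.Normal›.conj_mem h hh g⁻¹, hg⟩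
    rw [hbot, Subgroup.mem_bot] at h2
    calc h = g * (g⁻¹ * h * g) * g⁻¹ := by group
      _ = 1 := by rw [h2, mul_one, mul_inv_cancel]
  · rw [← Nat.card_coe_set_eq, ← Nat.card_coe_set_eq, FrobRealize.Kernel.card_frobeniusKernel hE, hc.index_eq_card]
    exact le_rfl

/-- A maximal subgroup with empty `κ` is a Frobenius group with kernel `M_F`. -/
theorem exists_frobenius (hG : Cfsg.IsMinSimpleOddOrder G) (hM : IsCoatom M) (hκ : Cfsg.kappa M = ∅) :
    ∃ E : Subgroup ↥M, Cfsg.IsFrobeniusComplement E ∧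
      Cfsg.frobeniusKernel E = ((Cfsg.fittingHall ↥M : Subgroup ↥M) : Set ↥M) := by
  have hF := fittingHall_of_empty hG hM hκ
  have hmem : ∀ m : M, m ∈ Cfsg.fittingHall M ↔ (m : G) ∈ Cfsg.sigmaCore M := fun m => by
    rw [← hF, Cfsg.fittingHallOf]
    exact (Subgroup.mem_map_iff_mem M.subtype_injective).symm
  have hcard : Nat.card (Cfsg.fittingHall M) = Nat.card (Cfsg.sigmaCore M) := by
    rw [← hF, Cfsg.fittingHallOf, Subgroup.card_map_of_injective M.subtype_injective]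
  obtain ⟨E, hE⟩ := Coprime.exists_hall {t | t ∉ Cfsg.sigma M} (hG.2.2.2 M hM.1)
  have hc := compl_symm (SylowCentral.isComplIn_of_hall hG hM hE)
  rw [← hF] at hc
  have hc' := Basic.IsComplIn.isComplement' hc
  rw [Basic.subgroupOf_fittingHallOf] at hc'
  refine ⟨E.subgroupOf M, frobenius_of _ _ ?_ ?_ hc' fun h hh h1 m hm => ?_⟩
  · intro e
    refine SigmaCore.sigmaCore_ne_bot hG hM (Subgroup.eq_bot_of_card_eq _ ?_)
    rw [← hcard, e, Subgroup.card_bot]
  · intro e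
    refine (core_lt hG hM).ne (Subgroup.eq_of_le_of_card_ge (SigmaTools.sigmaCore_le M) ?_)
    rw [← hcard, e, Subgroup.card_top]
  · exact (hmem m).mpr (TypeOneMain.centralizer_le hG hM hκ ((hmem h).mp hh) (fun e => h1 (Subtype.ext e))
      ⟨m.2, Subgroup.mem_centralizer_singleton_iff.mpr
        (congrArg Subtype.val (Subgroup.mem_centralizer_singleton_iff.mp hm))⟩)

end CfsgLib.OddOrder.TypeOneFacts
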