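import Cfsg.Agent.Lib.OddOrder.TypeOneCount
import Cfsg.Agent.Lib.Char.DadeGen
import Cfsg.Agent.Lib.Char.Induced
import Cfsg.Agent.Lib.Char.Coherence
import Mathlib

set_option autoImplicit false
set_option linter.style.haveILetI false
set_option linter.unusedSectionVars false

/-!
The inequality of `TypeOneCount` for a coherent family of induced characters.
-/

open scoped ComplexConjugate

namespace CfsgLib.OddOrder.TypeOneFamily

open CfsgLib.Char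
open TypeOneCyclic (coef wt)
open TypeOneCongr (avg)

variable {G : Type*} [Group G] [Fintype G] {A A' : Set G} {M L : Subgroup G} {RM RL : G → Subgroup G}

/-- `⟨avg, 1 - θ⟩` is an integer. -/
theorem exists_int_avg (hM : Cfsg.DadeHypothesis A M RM) (H : Subgroup G) [Fintype H] (hHM : H ≤ M)
    (hA : ∀ a, a ∈ A ↔ a ∈ H ∧ a ≠ 1) {ψ : G → ℂ} (hψ : Cfsg.IsGeneralizedCharacter G ψ) (θ : H →* ℂˣ) :
    ∃ d : ℤ, Cfsg.classInner (avg H RM ψ) (fun h => 1 - (θ h : ℂ)) = d := by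
  classical
  haveI : Fintype M := Fintype.ofFinite M
  set H₀ : Subgroup M := H.subgroupOf M with hH₀
  haveI : H₀.Normal := by
    refine ⟨fun n hn g => ?_⟩
    rw [hH₀, Subgroup.mem_subgroupOf] at hn ⊢
    by_cases h1 : (n : G) = 1
    · simp [h1]
    have := hM.conj_mem g g.2 n ((hA _).mpr ⟨hn, h1⟩)
    simpa using ((hA _).mp this).1
  haveI : Fintype H₀ := Fintype.ofFinite H₀
  let θ₀ : H₀ → ℂ := fun h => 1 - (θ ⟨((h : M) : G), h.2⟩ : ℂ)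
  have hθ₀ : Cfsg.IsGeneralizedCharacter H₀ θ₀ :=
    ⟨fun h => ((1 : H₀ →* ℂˣ) h : ℂ), fun h => ((θ.comp (Subgroup.subgroupOfEquivOfLe hHM).toMonoidHom) h : ℂ),
      isCharacter_hom _, isCharacter_hom _, by
      funext h
      simp only [Pi.sub_apply, θ₀, MonoidHom.one_apply, Units.val_one]
      rfl⟩
  set α := Cfsg.indFun H₀ θ₀ with hα
  have hαg : Cfsg.IsGeneralizedCharacter M α := IsGeneralizedCharacter.indFun _ hθ₀
  have hαc := IsGeneralizedCharacter.isClassFunction hαg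
  have hαA : ∀ g : M, (g : G) ∉ A → α g = 0 := by
    intro g hg
    by_cases hgH : g ∈ H₀
    · have h1 : g = 1 := by
        by_contra h1
        exact hg ((hA _).mpr ⟨Subgroup.mem_subgroupOf.mp hgH, fun e => h1 (Subtype.ext e)⟩)
      rw [h1, hα, indFun_one]
      simp only [θ₀]
      rw [show (⟨((((1 : H₀) : M)) : G), (1 : H₀).2⟩ : H) = 1 from rfl, map_one]
      simp
    · exact indFun_eq_zero_of_normal _ _ hgH
  have hdg := Dade.isGeneralizedCharacter_dade hM hαg hαA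
  obtain ⟨n, hn⟩ := IsGeneralizedCharacter.classInner_int hdg hψ
  let v : M → ℂ := fun a => if (a : G) ∈ A then (Nat.card (RM (a : G)) : ℂ)⁻¹ * ∑ u : RM (a : G), ψ ((a : G) * u) else 0
  have hψc := IsGeneralizedCharacter.isClassFunction hψ
  have hvc : Cfsg.IsClassFunction M v := by
    intro a g
    have hiff : (((g * a * g⁻¹ : M)) : G) ∈ A ↔ (a : G) ∈ A := by
      push_cast
      refine ⟨fun h => ?_, fun h => hM.conj_mem g g.2 a h⟩
      have := hM.conj_mem _ (M.inv_mem g.2) _ h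
      simpa [mul_assoc] using this
    by_cases ha : (a : G) ∈ A
    · simp only [v, if_pos (hiff.mpr ha), if_pos ha]
      push_cast
      let e : RM (a : G) ≃ RM ((g : G) * a * (g : G)⁻¹) :=
        { toFun := fun u => ⟨g * u * (g : G)⁻¹, Dade.conj_mem_H' hM ha g.2 u.2⟩
          invFun := fun u => ⟨(g : G)⁻¹ * u * g, by
            have := Dade.conj_mem_H' hM (hM.conj_mem g g.2 a ha) (M.inv_mem g.2) u.2
            simpa [mul_assoc] using this⟩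
          left_inv := fun u => Subtype.ext (by simp [mul_assoc])
          right_inv := fun u => Subtype.ext (by simp [mul_assoc]) }
      rw [Nat.card_congr e]
      congr 1
      refine (Fintype.sum_equiv e _ _ fun u => ?_).symm
      show ψ ((a : G) * u) = ψ ((g : G) * a * (g : G)⁻¹ * (g * u * (g : G)⁻¹))
      rw [show (g : G) * a * (g : G)⁻¹ * (g * (u : G) * (g : G)⁻¹) = g * (a * u) * (g : G)⁻¹ by group, hψc]
    · simp only [v, if_neg (fun h => ha (hiff.mp h)), if_neg ha]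
  rw [Dade.classInner_dade' hM hαc hαA hψc v fun a ha => if_pos ha, hα, classInner_indFun H₀ θ₀ hvc] at hn
  refine ⟨n, ?_⟩
  rw [← classInner_conj_symm] at hn
  have h2 := congrArg (starRingEnd ℂ) hn
  rw [Complex.conj_conj, map_intCast] at h2
  rw [← h2]
  unfold Cfsg.classInner
  rw [Nat.card_congr (Subgroup.subgroupOfEquivOfLe hHM).toEquiv]
  congr 1
  refine (Fintype.sum_equiv (Subgroup.subgroupOfEquivOfLe hHM).toEquiv _ _ fun h => ?_).symm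
  show v (h : M) * conj (θ₀ h) = avg H RM ψ ⟨((h : M) : G), h.2⟩ * conj (1 - (θ ⟨((h : M) : G), h.2⟩ : ℂ))
  congr 1
  unfold avg
  by_cases h1 : (⟨((h : M) : G), h.2⟩ : H) = 1
  · have : ((h : M) : G) ∉ A := fun ha => ((hA _).mp ha).2 (congrArg Subtype.val h1)
    simp [v, this, h1]
  · simp only [v, if_neg h1]
    rw [if_pos (show ((h : M) : G) ∈ A from (hA _).mpr ⟨h.2, fun e => h1 (Subtype.ext e)⟩)]

open scoped Classical in
/-- **The inequality for a coherent family.** -/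
theorem main [Fintype L] (hM : Cfsg.DadeHypothesis A M RM) (hL : Cfsg.DadeHypothesis A' L RL)
    (hdisj : Dade.supp A M RM ∩ Dade.supp A' L RL = ∅)
    (H : Subgroup G) [Fintype H] (hHM : H ≤ M) (hA : ∀ a, a ∈ A ↔ a ∈ H ∧ a ≠ 1) {cE : ℕ}
    (hcard : Nat.card M = Nat.card H * cE)
    {p : ℕ} (hp : p.Prime) {x : G} (hx : orderOf x = p) (hxA : ∀ k ∈ Finset.Ico 1 p, x ^ k ∈ A')
    (hxL : x ∈ L) (hN : Nat.card ↥(L ⊓ Subgroup.normalizer ((Subgroup.zpowers x : Subgroup G) : Set G)) ≤ cE)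
    (R : Subgroup G) [Fintype R] (hRL : ∀ k ∈ Finset.Ico 1 p, RL (x ^ k) = R)
    (hRc : R ≤ Subgroup.centralizer ({x} : Set G)) (hRH : R ≤ H)
    (hR : ∀ u : G, u ∈ R ↔ u ∈ H ∧ Commute x u) (hnH : ∀ h ∈ H, x * h * x⁻¹ ∈ H)
    (hnRM : ∀ h ∈ H, h ≠ 1 → ∀ u, u ∈ RM h ↔ x * u * x⁻¹ ∈ RM (x * h * x⁻¹))
    (hfix : ∀ h ∈ R, h ≠ 1 → ∀ u ∈ RM h, Commute x u → u = 1)
    (hcop : ∀ h ∈ H, h ≠ 1 → ¬ p ∣ Nat.card (RM h))
    {y : G} (hy : orderOf y = p) (hyR : ∀ u ∈ R, y * u * y⁻¹ ∈ R) (hyfix : ∀ u ∈ R, Commute y u → u = 1)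
    {ι : Type*} (s : Finset ι) (θ : ι → (H →* ℂˣ))
    (hθx : ∀ i ∈ s, ∀ (h : G) (hh : h ∈ H), θ i ⟨x * h * x⁻¹, hnH h hh⟩ = θ i ⟨h, hh⟩)
    (hinj : Set.InjOn (fun i => (θ i).comp (Subgroup.inclusion hRH)) s)
    (hne : ∀ i ∈ s, (θ i).comp (Subgroup.inclusion hRH) ≠ 1)
    -- the family
    (Θ : Finset (L → ℂ)) (hirr : ∀ φ ∈ Θ, Cfsg.IsIrrCharacter L φ)
    (hcoh : Cfsg.IsCoherent (↑Θ : Set (L → ℂ)) {1}ᶜ (Cfsg.dadeIsometry A' L RL))
    (e : ℕ) (a : (L → ℂ) → ℕ) (φ₁ : L → ℂ) (hφ₁ : φ₁ ∈ Θ) (ha₁ : a φ₁ = 1)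
    (hdeg : ∀ φ ∈ Θ, φ 1 = (a φ : ℂ) * e)
    (hΦ : ∀ k ∈ Finset.Ico 1 p, ∑ φ ∈ Θ, (a φ : ℂ) * φ (⟨x, hxL⟩ ^ k) = -1)
    (Z : Finset L) (hZ : ∀ z ∈ Z, (z : G) ∈ A')
    (hZx : ∀ z ∈ Z, ∀ k ∈ Finset.Ico 1 p, ∀ l ∈ L, l * x ^ k * l⁻¹ ≠ (z : G))
    (hRZ : ∀ z ∈ Z, RL (z : G) = ⊥) (hker : ∀ z ∈ Z, ∀ φ ∈ Θ, φ z = φ 1)
    (w : ℤ → ℝ)
    (hw : ∀ ψ : G → ℂ, Cfsg.IsGeneralizedCharacter G ψ → ∀ m : ℤ, ψ 1 = m → w m ≤ ∑ z ∈ Z, ‖ψ (z : G)‖ ^ 2) :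
    ∃ (α m : ℤ) (d b : ι → ℤ), (∀ i ∈ s, d i ≡ α + e - b i [ZMOD p]) ∧ m ≡ α + e [ZMOD p] ∧
      (((∑ φ ∈ Θ, a φ ^ 2 : ℕ)) : ℝ) *
        ((s.card + 1 : ℝ)⁻¹ * (∑ i ∈ s, (d i : ℝ) ^ 2) +
          (1 - (((∑ φ ∈ Θ, a φ ^ 2 : ℕ)) : ℝ)⁻¹) ^ 2 * (wt p α : ℝ) +
          ∑ i ∈ s, (wt p (b i) : ℝ) + (cE : ℝ) / Nat.card L * w m) ≤ cE := by
  obtain ⟨-, τ₁, hiso, hτ⟩ := hcoh
  obtain ⟨hadd, hsmul, hinner, hgen⟩ := hiso
  set N := ∑ φ ∈ Θ, a φ ^ 2 with hNdef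
  have hmem : ∀ φ ∈ Θ, φ ∈ Cfsg.zspan (↑Θ : Set (L → ℂ)) := fun φ hφ => Submodule.subset_span hφ
  set ψ := τ₁ φ₁ with hψdef
  have hψ : Cfsg.IsGeneralizedCharacter G ψ := hgen _ (hmem _ hφ₁)
  have hψc := IsGeneralizedCharacter.isClassFunction hψ
  set Ψ : G → ℂ := ∑ φ ∈ Θ, (a φ : ℂ) • τ₁ φ with hΨ
  have hΨc : Cfsg.IsClassFunction G Ψ := fun g y => by
    simp only [hΨ, Finset.sum_apply, Pi.smul_apply]
    exact Finset.sum_congr rfl fun φ hφ => by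
      rw [IsGeneralizedCharacter.isClassFunction (hgen _ (hmem φ hφ)) g y]
  have hnorm : Cfsg.classInner Ψ Ψ = (N : ℂ) := by
    rw [hΨ, classInner_sum_left, hNdef, Nat.cast_sum]
    refine Finset.sum_congr rfl fun φ hφ => ?_
    rw [classInner_smul_left, classInner_sum_right, Finset.sum_eq_single φ]
    · rw [classInner_smul_right, hinner _ (hmem φ hφ) _ (hmem φ hφ), classInner_irr_self (hirr φ hφ), mul_one,
        Complex.conj_natCast, Nat.cast_pow, sq]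
    · intro φ' hφ' hne'
      rw [classInner_smul_right, hinner _ (hmem φ hφ) _ (hmem φ' hφ'),
        classInner_irr_ne (hirr φ hφ) (hirr φ' hφ') (Ne.symm hne'), mul_zero]
    · exact fun h => absurd hφ h
  have hdiff : ∀ φ ∈ Θ, τ₁ φ - (a φ : ℂ) • ψ =
      Cfsg.dadeIsometry A' L RL (φ - (a φ : ℂ) • φ₁) := by
    intro φ hφ
    have he : (a φ : ℂ) • φ₁ = ((a φ : ℤ)) • φ₁ := by
      rw [← Int.cast_smul_eq_zsmul ℂ, Int.cast_natCast]
    have he' : (a φ : ℂ) • ψ = ((a φ : ℤ)) • ψ := by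
      rw [← Int.cast_smul_eq_zsmul ℂ, Int.cast_natCast]
    have h1 : φ - (a φ : ℂ) • φ₁ ∈ Cfsg.zspanOn (↑Θ : Set (L → ℂ)) {1}ᶜ := by
      refine ⟨?_, fun g hg => ?_⟩
      · rw [he]
        exact Submodule.sub_mem _ (Submodule.subset_span hφ) (Submodule.smul_mem _ _ (Submodule.subset_span hφ₁))
      · obtain rfl : g = 1 := by simpa using hg
        rw [Pi.sub_apply, Pi.smul_apply, hdeg φ hφ, hdeg φ₁ hφ₁, ha₁, Nat.cast_one, one_mul, smul_eq_mul, sub_self]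
    rw [← hτ _ h1, he', he]
    have hz : (-((a φ : ℤ))) • φ₁ ∈ Cfsg.zspan (↑Θ : Set (L → ℂ)) :=
      Submodule.smul_mem _ _ (Submodule.subset_span hφ₁)
    rw [sub_eq_add_neg φ, ← neg_smul, hadd _ (hmem φ hφ) _ hz, hsmul _ (hmem _ hφ₁), neg_smul, sub_eq_add_neg]
  have hval : ∀ φ ∈ Θ, ∀ g : G, τ₁ φ g = (a φ : ℂ) * ψ g + Cfsg.dadeIsometry A' L RL (φ - (a φ : ℂ) • φ₁) g := by
    intro φ hφ g
    have := congrFun (hdiff φ hφ) g
    simp only [Pi.sub_apply, Pi.smul_apply, smul_eq_mul] at this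
    rw [← this]; ring
  have hΨv : ∀ g, Ψ g = (N : ℂ) * ψ g + ∑ φ ∈ Θ, (a φ : ℂ) * Cfsg.dadeIsometry A' L RL (φ - (a φ : ℂ) • φ₁) g := by
    intro g
    simp only [hΨ, Finset.sum_apply, Pi.smul_apply, smul_eq_mul]
    rw [Finset.sum_congr rfl fun φ hφ => by rw [hval φ hφ g, mul_add, ← mul_assoc], Finset.sum_add_distrib,
      ← Finset.sum_mul, hNdef, Nat.cast_sum]
    congr 2
    exact Finset.sum_congr rfl fun φ _ => by rw [Nat.cast_pow, sq]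
  have hdc : ∀ φ ∈ Θ, Cfsg.IsClassFunction L (φ - (a φ : ℂ) • φ₁) := fun φ hφ g y => by
    simp only [Pi.sub_apply, Pi.smul_apply, IsIrrCharacter.isClassFunction (hirr φ hφ) g y,
      IsIrrCharacter.isClassFunction (hirr φ₁ hφ₁) g y]
  have honA : ∀ (l : L), (l : G) ∈ A' → ∀ u ∈ RL (l : G), Ψ ((l : G) * u) =
      (N : ℂ) * ψ ((l : G) * u) + ((∑ φ ∈ Θ, (a φ : ℂ) * φ l) - (N : ℂ) * φ₁ l) := by
    intro l hl u hu
    rw [hΨv]
    congr 1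
    rw [hNdef, Nat.cast_sum, Finset.sum_mul, ← Finset.sum_sub_distrib]
    refine Finset.sum_congr rfl fun φ hφ => ?_
    rw [Dade.dade_apply hL (hdc φ hφ) l hl hu (x := 1) (g := (l : G) * u) (by simp)]
    simp only [Pi.sub_apply, Pi.smul_apply, smul_eq_mul, Nat.cast_pow]
    ring
  -- integers
  have hint : ∀ η : R →* ℂˣ, ∃ n : ℤ, coef R ψ η 1 = n := fun η => by
    obtain ⟨n, hn, -⟩ := TypeOneCyclic.coef_mass hp hx R hRc hψ η
    exact ⟨n, hn⟩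
  obtain ⟨n₀, hn₀⟩ := hint 1
  choose b hb using fun i => hint ((θ i).comp (Subgroup.inclusion hRH))
  choose d hd using fun i => exists_int_avg hM H hHM hA hψ (θ i)
  obtain ⟨m, hm⟩ : ∃ m : ℤ, ψ 1 = m := by
    haveI := Fintype.ofFinite (Subgroup.zpowers x)
    obtain ⟨α, β, hα, hβ, e⟩ := hψ
    exact TypeOneCyclic.gen_one (x := x) ⟨α ∘ (Subgroup.zpowers x).subtype, β ∘ (Subgroup.zpowers x).subtype,
      IsCharacter.comp hα _, IsCharacter.comp hβ _, by funext g; rw [e]; rfl⟩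
  have hRp : ¬ p ∣ Nat.card R := by
    have h1 := TypeOneCongr.card_modEq hp hy R hyR hyfix
    intro hd
    exact hp.ne_one (Nat.dvd_one.mp (Nat.modEq_zero_iff_dvd.mp ((h1.symm).trans (Nat.modEq_zero_iff_dvd.mpr hd))))
  refine ⟨n₀ - e, m, d, b, fun i hi => ?_, ?_, ?_⟩
  · rw [sub_add_cancel]
    exact TypeOneCongr.avg_cong hp hx H R hRH hR hnH RM hnRM hfix hcop hRp hψ (θ i) (hθx i hi) (hd i) hn₀ (hb i)
  · rw [sub_add_cancel]
    exact (TypeOneCongr.coef_cong hp hy R hyR hyfix hψ hn₀ hm).symm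
  refine TypeOneCount.ineq hM hL hdisj H hHM hA hcard hp hx hxA hN R hRL hRc hRH s θ hinj hne hψ
    (IsCharacter.isGeneralizedCharacter (IsIrrCharacter.isCharacter (hirr φ₁ hφ₁))) hΨc
    (Finset.sum_pos' (fun _ _ => Nat.zero_le _) ⟨φ₁, hφ₁, by rw [ha₁]; norm_num⟩) hnorm
    (fun g hg => ?_) hxL (fun k hk u hu => ?_) ?_ hn₀ b d (fun i _ => hb i) (fun i _ => hd i)
    Z hZ hZx hRZ (fun z hz => ?_) (hw ψ hψ m hm)
  · have hg' : g ∉ Dade.supp A' L RL := fun h => by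
      have : g ∈ Dade.supp A M RM ∩ Dade.supp A' L RL := ⟨hg, h⟩
      rw [hdisj] at this
      exact this
    rw [hΨv, Finset.sum_eq_zero (fun φ _ => by rw [Dade.dade_eq_zero hg', mul_zero]), add_zero]
  · have h := honA (⟨x, hxL⟩ ^ k) (hxA k hk) u (by
      show u ∈ RL (((⟨x, hxL⟩ : L) ^ k : L) : G)
      rw [SubmonoidClass.coe_pow, hRL k hk]; exact hu)
    rw [SubmonoidClass.coe_pow] at h
    rw [h, hΦ k hk]
    ring
  · rw [hdeg φ₁ hφ₁, ha₁]; simp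
  · have h := honA z (hZ z hz) 1 (one_mem _)
    rw [mul_one] at h
    rw [h, hker z hz φ₁ hφ₁, hdeg φ₁ hφ₁, ha₁, Nat.cast_one, one_mul,
      Finset.sum_congr rfl (fun φ hφ => by rw [hker z hz φ hφ, hdeg φ hφ, ← mul_assoc, ← sq, ← Nat.cast_pow]),
      ← Finset.sum_mul, ← Nat.cast_sum, ← hNdef, sub_self, add_zero]

end CfsgLib.OddOrder.TypeOneFamily
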