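import Cfsg.Agent.Lib.OddOrder.TypeOneClass
import Cfsg.Agent.S1412
import Mathlib

set_option autoImplicit false
set_option linter.style.haveILetI false
set_option linter.unusedSectionVars false

/-!
Bender–Glauberman 15.7 for the intersection of `F(M)` with a conjugate.
-/

namespace CfsgLib.OddOrder.TypeOneFitting

open scoped commutatorElement
open SigmaFusion (cj)
open SigmaCentralizer (Over)
open FittingNonTI (NT line)

variable {G : Type*} [Group G] [Finite G] {M N K U : Subgroup G} {g y z : G} {p r : ℕ}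

theorem nt_of_mem (hG : Cfsg.IsMinSimpleOddOrder G) (hM : IsCoatom M) (hg : g ∉ M)
    (hz : z ∈ Cfsg.fittingOf M ⊓ cj g (Cfsg.fittingOf M)) (hr : r.Prime) (hzo : orderOf z = r) :
    ∃ N : Subgroup G, NT M N g z r := by
  haveI := Fact.mk hr
  have hzs := (FittingTI.le_core hG hM hg hz).1
  have hz1 : z ≠ 1 := fun e => hr.ne_one (by rw [← hzo, e, orderOf_one])
  obtain ⟨N, hov⟩ := SigmaCentralizer.exists_over hG hM hzs hz1 (FittingTI.not_centralizer_le hG hM hg hz hzo)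
  exact ⟨N, hM, hg, hz, hzo, hr, FittingTI.sigma_of_mem hG hM hg hz hzo, hzs,
    FittingTI.nilpotent_core hG hM hg (fun e => hz1 (Subgroup.mem_bot.mp (e.le hz))), hov⟩

/-- No elementary abelian group of order `r ^ 2` lies in `F(M) ∩ F(M) ^ g`. -/
theorem no_plane (hG : Cfsg.IsMinSimpleOddOrder G) (hM : IsCoatom M) (hg : g ∉ M) (hr : r.Prime) {A : Subgroup G}
    (hA : A ≤ Cfsg.fittingOf M ⊓ cj g (Cfsg.fittingOf M)) (hAe : Cfsg.IsElementaryAbelian r A)
    (hAc : Nat.card A = r ^ 2) : False := by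
  haveI := Fact.mk hr
  obtain ⟨a, ha, ha1⟩ := (Subgroup.bot_or_exists_ne_one A).resolve_left fun e => by
    rw [e, Subgroup.card_bot] at hAc; nlinarith [hr.two_le]
  have hao : orderOf a = r := orderOf_eq_prime (hAe.2 a ha) ha1
  obtain ⟨N, hnt⟩ := nt_of_mem hG hM hg (hA ha) hr hao
  have hov := hnt.nbr
  have hAM : A ≤ M := hA.trans (inf_le_left.trans Basic.fittingOf_le)
  have hAg : A ≤ cj g M := hA.trans (inf_le_right.trans (Subgroup.map_mono Basic.fittingOf_le))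
  have hAN : A ≤ N := fun b hb => hov.le (Subgroup.mem_centralizer_singleton_iff.mpr
    (congrArg Subtype.val (hAe.1.is_comm.comm (⟨b, hb⟩ : A) ⟨a, ha⟩)))
  obtain ⟨c, hc, hce⟩ := SigmaFusion.transitive hG hM hnt.sigma (Subgroup.zpowers a)
    (IsPGroup.of_card (n := 1) (by rw [Nat.card_zpowers, hao, pow_one])) (fun e => ha1 (Subgroup.zpowers_eq_bot.mp e))
    1 g (by rw [SigmaFusion.cj_one]; exact Subgroup.zpowers_le.mpr (hAM ha))
    (Subgroup.zpowers_le.mpr (hAg ha))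
  rw [SigmaFusion.cj_one] at hce
  rw [SigmaTools.centralizer_zpowers] at hc
  obtain ⟨m, hm, s, hs, he⟩ := hov.compl.2.2.2 c⁻¹ (N.inv_mem (hov.le hc))
  have hcs : cj c M = cj s⁻¹ M := by
    rw [show c = s⁻¹ * m⁻¹ by rw [← mul_inv_rev, ← he, inv_inv], ← SigmaFusion.cj_cj,
      SigmaFusion.cj_eq_self (Subgroup.le_normalizer (M.inv_mem hm.1))]
  obtain ⟨hA1, ⟨hC1, hC2, -⟩, -⟩ := Cfsg.Agent.S1418.result hG N hov.coatom (M ⊓ N) hov.compl r
    (hov.tau2 r hr (hao ▸ dvd_rfl)) A ⟨le_inf hAM hAN, hAe, hAc⟩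
  have hsN : s ∈ N := SigmaTools.sigmaCore_le N hs
  have hnorm : ∀ b ∈ A, s * b * s⁻¹ ∈ A := fun b hb => by
    rcases eq_or_ne b 1 with rfl | hb1
    · simp
    have h1 : s * b * s⁻¹ ∈ M := by
      have := hAg hb
      rw [hce, hcs, SigmaTools.mem_cj, inv_inv] at this
      exact this
    refine hA1.2 (Subgroup.zpowers (s * b * s⁻¹)) (Subgroup.zpowers_le.mpr
      ⟨h1, N.mul_mem (N.mul_mem hsN (hAN hb)) (N.inv_mem hsN)⟩) ?_ (Subgroup.mem_zpowers _)
    rw [Nat.card_zpowers, show orderOf (s * b * s⁻¹) = orderOf b from MulEquiv.orderOf_eq (MulAut.conj s) b,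
      orderOf_eq_prime (hAe.2 b hb) hb1]
  have hsC : s ∈ Subgroup.centralizer (A : Set G) := Subgroup.mem_centralizer_iff.mpr fun b hb => by
    have h1 : s * b * s⁻¹ * b⁻¹ ∈ Cfsg.sigmaCore N ⊓ M := by
      refine ⟨?_, hAM (A.mul_mem (hnorm b hb) (A.inv_mem hb))⟩
      rw [mul_assoc, mul_assoc, ← mul_assoc b]
      exact mul_mem hs ((Subgroup.mem_normalizer_iff.mp (SigmaTools.le_normalizer_sigmaCore N (hAN hb)) _).mp
        (inv_mem hs))
    rw [hov.bot, Subgroup.mem_bot, mul_inv_eq_one, mul_inv_eq_iff_eq_mul] at h1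
    exact h1.symm
  have hsM : s ∈ M := (hC2.le (hC1 hsC)).1
  refine hg ?_
  have h1 : g ∈ Subgroup.normalizer (M : Set G) := Subgroup.mem_normalizer_iff_map_conj_eq.mpr (by
    show cj g M = M
    rw [hce, hcs, SigmaFusion.cj_eq_self (Subgroup.le_normalizer (M.inv_mem hsM))])
  rwa [SigmaFusion.normalizer_eq_self hG.2 hM fun e => ha1 (Subgroup.mem_bot.mp (e.le (hAM ha)))] at h1

/-- The intersection is cyclic. -/
theorem isCyclic_inf (hG : Cfsg.IsMinSimpleOddOrder G) (hM : IsCoatom M) (hg : g ∉ M) :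
    IsCyclic ↥(Cfsg.fittingOf M ⊓ cj g (Cfsg.fittingOf M)) := by
  set X := Cfsg.fittingOf M ⊓ cj g (Cfsg.fittingOf M)
  haveI : Group.IsNilpotent (Cfsg.fittingOf M) := Basic.fittingOf_isNilpotent
  haveI : Group.IsNilpotent X := Group.nilpotent_of_mulEquiv (Subgroup.subgroupOfEquivOfLe (inf_le_left : X ≤ _))
  haveI : IsZGroup X := SigmaComplement.isZGroup hG.1 le_rfl fun t ht _ => by_contra fun hr => by
    haveI := Fact.mk ht
    obtain ⟨E, hEX, hEe, hEc⟩ := UniqueTools.exists_isEA_of_not_rankLE hr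
    obtain ⟨j, hj⟩ := (show IsPGroup t E from fun a => ⟨1, by rw [pow_one]; exact Subtype.ext (hEe.2 a a.2)⟩).exists_card_eq
    obtain ⟨A, hA⟩ := Sylow.exists_subgroup_card_pow_prime t (G := E) (n := 2) (hj ▸ Nat.pow_dvd_pow t
      ((Nat.pow_le_pow_iff_right ht.one_lt).mp (hj ▸ hEc)))
    refine no_plane hG hM hg ht (A := A.map E.subtype) ((Subgroup.map_subtype_le _).trans hEX) ⟨⟨⟨fun u v => ?_⟩⟩,
      fun u hu => hEe.2 u (Subgroup.map_subtype_le _ hu)⟩
      (by rw [Subgroup.card_map_of_injective E.subtype_injective, hA])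
    have h1 := congrArg Subtype.val
      (hEe.1.is_comm.comm (⟨_, Subgroup.map_subtype_le _ u.2⟩ : E) ⟨_, Subgroup.map_subtype_le _ v.2⟩)
    exact Subtype.ext (by simpa using h1)
  infer_instance

theorem y_not_line (hG : Cfsg.IsMinSimpleOddOrder G) (h : NT M N g y p) (hab : ¬ IsMulCommutative (Cfsg.sigmaCore M)) :
    y ∉ line M p := fun hy => hab ((h.le_centralizer_iff hG).mp fun _ ha =>
  Subgroup.mem_centralizer_singleton_iff.mpr (Subgroup.mem_centralizer_iff.mp hy.2.1 _ ha))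

/-- In the non-abelian case `y` is not a `p`-th power in `M_σ`. -/
theorem not_pow (hG : Cfsg.IsMinSimpleOddOrder G) (h : NT M N g y p) (hab : ¬ IsMulCommutative (Cfsg.sigmaCore M))
    {w : G} (hw : w ∈ Cfsg.sigmaCore M) : w ^ p ≠ y := by
  intro hwy
  haveI := Fact.mk h.prime
  obtain ⟨T, hT, -, hmem⟩ := h.exists_sylow hG
  have hwT : w ∈ (T : Subgroup G) := hmem w hw fun t ht hd => by
    have h1 : w ^ (p * p) = 1 := by rw [pow_mul, hwy, ← h.order]; exact pow_orderOf_eq_one y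
    exact (Nat.prime_dvd_prime_iff_eq ht h.prime).mp
      ((ht.dvd_mul.mp (hd.trans (orderOf_dvd_of_pow_eq_one h1))).elim id id)
  have hyT : y ∈ (T : Subgroup G) := hwy ▸ pow_mem hwT p
  have key : ¬ ∀ a ∈ (T : Subgroup G), a * y = y * a := fun hc => y_not_line hG h hab
    ⟨h.core, FittingTypeV.central h hT hmem hyT hc, h.order ▸ pow_orderOf_eq_one y⟩
  by_cases hr : Cfsg.PRankLE p 2 (T : Subgroup G)
  · obtain ⟨P₁, P₂, hsup, hcomm, -, -, hexp, hP₂c, -⟩ := (Cfsg.Agent.S1412.result hG p T hr).resolve_left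
      (h.sylow_nonabelian hG hab T)
    have hn : P₂ ≤ Subgroup.normalizer (P₁ : Set G) := fun b hb => Subgroup.centralizer_le_normalizer _
      (Subgroup.mem_centralizer_iff.mpr fun a ha => hcomm a ha b hb)
    rw [← hsup, ← SetLike.mem_coe, Subgroup.coe_mul_of_right_le_normalizer_left P₁ P₂ hn] at hwT
    obtain ⟨a, ha, b, hb, rfl⟩ := Set.mem_mul.mp hwT
    have hy2 : y = b ^ p := by
      rw [← hwy, (show Commute a b from hcomm a ha b hb).mul_pow,
        show a ^ p = 1 from (by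
          have := Monoid.pow_exponent_eq_one (⟨a, ha⟩ : P₁)
          rw [hexp] at this
          exact congrArg Subtype.val this), one_mul]
    refine key fun u hu => ?_
    rw [← hsup] at hu
    refine Subgroup.mem_centralizer_singleton_iff.mp ((sup_le (fun c hc => ?_) (fun c hc => ?_) :
      P₁ ⊔ P₂ ≤ Subgroup.centralizer ({y} : Set G)) hu)
    · rw [hy2]
      exact Subgroup.mem_centralizer_singleton_iff.mpr (hcomm c hc _ (pow_mem hb p))
    · rw [hy2]
      haveI := hP₂c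
      letI := IsCyclic.commGroup (α := P₂)
      exact Subgroup.mem_centralizer_singleton_iff.mpr
        (congrArg Subtype.val (mul_comm (⟨c, hc⟩ : P₂) ⟨_, pow_mem hb p⟩))
  obtain ⟨B, -, hBσ, hBe, hBc, hyB, hmax⟩ := h.plane hG
  have hBT : B ≤ (T : Subgroup G) := fun b hb => hmem b (hBσ hb) fun t ht hd =>
    (Nat.prime_dvd_prime_iff_eq ht h.prime).mp (hd.trans (orderOf_dvd_of_pow_eq_one (hBe.2 b hb)))
  have hEc : Nat.card (B.subgroupOf (T : Subgroup G)) = p ^ 2 := by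
    rw [Nat.card_congr (Subgroup.subgroupOfEquivOfLe hBT).toEquiv, hBc]
  obtain ⟨hnot, hZc, -, hchar, hidx⟩ := MaximalPlane.main (hmax.ne_two hG) T.isPGroup' hr
    (Fusion.Thompson.isEA_subgroupOf hBe (T : Subgroup G)) hEc fun C hC hle => by
      have h1 := hmax.max (C.map (T : Subgroup G).subtype) (Fusion.Thompson.isEA_map _ hC) fun b hb =>
        ⟨⟨b, hBT hb⟩, hle hb, rfl⟩
      rw [← h1, Subgroup.subgroupOf, Subgroup.comap_map_eq_self_of_injective (T : Subgroup G).subtype_injective]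
  set E := B.subgroupOf (T : Subgroup G) with hE
  set T₀ := Subgroup.centralizer (MaximalPlane.omegaZ2 (R := (T : Subgroup G)) (hmax.ne_two hG) : Set (T : Subgroup G))
  set Z₀ := Subgroup.closure {v : (T : Subgroup G) | v ∈ Subgroup.center (T : Subgroup G) ∧ v ^ p = 1}
  haveI := hchar
  have hZ0T : Z₀ ≤ T₀ := (Subgroup.closure_le _).mpr fun v hv =>
    Subgroup.mem_centralizer_iff.mpr fun u _ => Subgroup.mem_center_iff.mp hv.1 u
  have hZ0E : Z₀ ≤ E := (Subgroup.closure_le _).mpr fun v hv => by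
    have he := Replacement.isEA_sup (Fusion.Thompson.isEA_subgroupOf hBe (T : Subgroup G))
      (Replacement.isEA_zpowers hv.2) (by
        rw [Subgroup.le_centralizer_iff, Subgroup.zpowers_le]
        exact Subgroup.mem_centralizer_iff.mpr fun u _ => Subgroup.mem_center_iff.mp hv.1 u)
    have h1 := hmax.max ((E ⊔ Subgroup.zpowers v).map (T : Subgroup G).subtype) (Fusion.Thompson.isEA_map _ he)
      fun b hb => ⟨⟨b, hBT hb⟩, Subgroup.mem_sup_left hb, rfl⟩
    exact h1.le ⟨v, Subgroup.mem_sup_right (Subgroup.mem_zpowers v), rfl⟩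
  have hET : E ⊓ T₀ = Z₀ := by
    refine (Subgroup.eq_of_le_of_card_ge (le_inf hZ0E hZ0T) ?_).symm
    rw [hZc]
    obtain ⟨j, hj2, hj⟩ := (Nat.dvd_prime_pow h.prime).mp (hEc ▸ Subgroup.card_dvd_of_le (inf_le_left : E ⊓ T₀ ≤ E))
    rw [hj]
    refine le_of_le_of_eq (Nat.pow_le_pow_right h.prime.pos ?_) (pow_one p)
    by_contra hj1
    refine hnot ((Subgroup.eq_of_le_of_card_ge inf_le_left ?_ : E ⊓ T₀ = E).ge.trans inf_le_right)
    rw [hj, hEc]
    exact Nat.pow_le_pow_right h.prime.pos (by omega)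
  have hy0 : (⟨y, hyT⟩ : (T : Subgroup G)) ∈ T₀ := by
    have h1 := T₀.pow_index_mem (⟨w, hwT⟩ : (T : Subgroup G))
    rw [hidx] at h1
    convert h1 using 1
    exact Subtype.ext (by simp [hwy])
  have hyZ : (⟨y, hyT⟩ : (T : Subgroup G)) ∈ Subgroup.center (T : Subgroup G) :=
    ((Subgroup.closure_le _).mpr fun v hv => hv.1 : Z₀ ≤ Subgroup.center (T : Subgroup G))
      (hET.le ⟨Subgroup.mem_subgroupOf.mpr hyB, hy0⟩)
  exact key fun u hu => congrArg Subtype.val (Subgroup.mem_center_iff.mp hyZ ⟨u, hu⟩)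

/-- In the non-abelian case the intersection has prime order. -/
theorem card_inf (hG : Cfsg.IsMinSimpleOddOrder G) (h : NT M N g y p) (hab : ¬ IsMulCommutative (Cfsg.sigmaCore M)) :
    Nat.card ↥(Cfsg.fittingOf M ⊓ cj g (Cfsg.fittingOf M)) = p := by
  set X := Cfsg.fittingOf M ⊓ cj g (Cfsg.fittingOf M) with hX
  have hM := h.coatom
  haveI := Fact.mk h.prime
  haveI := isCyclic_inf hG hM h.out
  have hXS : X ≤ Cfsg.sigmaCore M := fun u hu => (FittingTI.le_core hG hM h.out hu).1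
  have hpr : ∀ t : ℕ, t.Prime → t ∣ Nat.card X → t = p := fun t ht hd => by
    by_contra htp
    haveI := Fact.mk ht
    obtain ⟨z, hz⟩ := exists_prime_orderOf_dvd_card' (G := X) t hd
    obtain ⟨N', h'⟩ := nt_of_mem hG hM h.out z.2 ht (by rw [Subgroup.orderOf_coe, hz])
    obtain ⟨T, hT, -, -⟩ := h.exists_sylow hG
    obtain ⟨j, hj⟩ := T.isPGroup'.exists_card_eq
    haveI := h'.cyclic hG hab hT fun hdt => htp ((Nat.prime_dvd_prime_iff_eq ht h.prime).mp (ht.dvd_of_dvd_pow (hj ▸ hdt)))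
    refine h.sylow_nonabelian hG hab T ?_
    letI := IsCyclic.commGroup (α := (T : Subgroup G))
    exact ⟨⟨mul_comm⟩⟩
  obtain ⟨j, hj⟩ : ∃ j, Nat.card X = p ^ j :=
    ⟨_, Nat.eq_prime_pow_of_unique_prime_dvd Nat.card_pos.ne' fun {t} ht hd => hpr t ht hd⟩
  have hyX : p ∣ Nat.card X := h.order ▸ Subgroup.orderOf_dvd_natCard _ h.mem
  rcases Nat.lt_or_ge j 2 with hj2 | hj2
  · interval_cases j
    · rw [hj, pow_zero] at hyX; exact absurd (Nat.dvd_one.mp hyX) h.prime.ne_one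
    · rw [hj, pow_one]
  exfalso
  obtain ⟨v, hv⟩ := IsCyclic.exists_ofOrder_eq_natCard (α := X)
  obtain ⟨i, rfl⟩ : ∃ i, j = i + 2 := ⟨j - 2, by omega⟩
  set w := v ^ (p ^ i) with hw
  have hvo : orderOf v = p ^ i * (p * p) := by rw [hv, hj, pow_add, sq]
  have hwo : orderOf w = p * p := by
    rw [hw, orderOf_pow_of_dvd (pow_ne_zero _ h.prime.ne_zero) (hvo ▸ dvd_mul_right _ _), hvo,
      Nat.mul_div_cancel_left _ (pow_pos h.prime.pos _)]
  have hwp : orderOf (w ^ p) = p := by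
    rw [orderOf_pow_of_dvd h.prime.ne_zero (hwo ▸ dvd_mul_right _ _), hwo, Nat.mul_div_cancel_left _ h.prime.pos]
  obtain ⟨N', h'⟩ := nt_of_mem hG hM h.out (w ^ p).2 h.prime (by rw [Subgroup.orderOf_coe, hwp])
  exact not_pow hG h' hab (hXS w.2) (by simp [w])

/-- `O_{σ'}(F(M)) = 1` for an empty `κ`. -/
theorem piCore_eq_bot (hG : Cfsg.IsMinSimpleOddOrder G) (hM : IsCoatom M) (hκ : Cfsg.kappa M = ∅) :
    Cfsg.piCoreOf {q | q.Prime ∧ q ∉ Cfsg.sigma M} (Cfsg.fittingOf M) = ⊥ := by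
  refine le_bot_iff.mp fun a ha => Subgroup.mem_bot.mpr ?_
  haveI : Group.IsNilpotent (Cfsg.fittingOf M) := Basic.fittingOf_isNilpotent
  obtain ⟨haF, hap⟩ := FittingStructure.mem_piCoreOf_iff.mp ha
  obtain ⟨z, hz, hz1⟩ := (Subgroup.bot_or_exists_ne_one _).resolve_left (SigmaCore.sigmaCore_ne_bot hG hM)
  have hzF := TypeOneClass.sigmaCore_le_fitting (TypeOneFacts.nilpotent_of_empty hG hM hκ) hz
  have hcop : (orderOf a).Coprime (orderOf z) := Nat.coprime_of_dvd fun t ht d1 d2 =>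
    (hap t ht d1).2 (SupportCosets.sigma_number hz t ht d2)
  have haS : a ∈ Cfsg.sigmaCore M := TypeOneMain.centralizer_le hG hM hκ hz hz1 ⟨Basic.fittingOf_le haF,
    Subgroup.mem_centralizer_singleton_iff.mpr (Basic.commute_of_mem_nilpotent haF hzF hcop).eq⟩
  refine orderOf_eq_one_iff.mp (Nat.eq_one_iff_not_exists_prime_dvd.mpr fun t ht hd => ?_)
  exact (hap t ht hd).2 (SupportCosets.sigma_number haS t ht hd)

theorem fitting_eq_sup (hG : Cfsg.IsMinSimpleOddOrder G) (hM : IsCoatom M)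
    (hn : Group.IsNilpotent (Cfsg.sigmaCore M)) :
    Cfsg.fittingOf M = Cfsg.sigmaCore M ⊔ Cfsg.piCoreOf {q | q.Prime ∧ q ∉ Cfsg.sigma M} (Cfsg.fittingOf M) := by
  have h := (FittingStructure.sigma'_part hG hM).2.2
  rwa [show Cfsg.fittingOf (Cfsg.sigmaCore M) = Cfsg.sigmaCore M from
    le_antisymm Basic.fittingOf_le (FittingStructure.le_fitting le_rfl Subgroup.le_normalizer hn)] at h

theorem derived_eq (hG : Cfsg.IsMinSimpleOddOrder G) (hM : IsCoatom M) (hg : g ∉ M)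
    (hX : Cfsg.fittingOf M ⊓ cj g (Cfsg.fittingOf M) ≠ ⊥) : ⁅M, M⁆ = Cfsg.fittingOf M := by
  refine le_antisymm (FittingTI.derived_le hG hM hg hX) ?_
  by_cases hκ : Cfsg.kappa M = ∅
  · rw [fitting_eq_sup hG hM (FittingTI.nilpotent_core hG hM hg hX), piCore_eq_bot hG hM hκ, sup_bot_eq]
    exact SigmaCore.le_derived hG hM
  · exact (FittingStructure.fitting_eq hG hM).2 (Set.nonempty_iff_ne_empty.mpr hκ)

theorem U_eq_bot (hG : Cfsg.IsMinSimpleOddOrder G) (hM : IsCoatom M) (h : Cfsg.IsSigmaDecomposition M K U)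
    (hK : K ≠ ⊥) (hg : g ∉ M) (hX : Cfsg.fittingOf M ⊓ cj g (Cfsg.fittingOf M) ≠ ⊥) : U = ⊥ := by
  by_contra hU
  obtain ⟨-, hTI, -⟩ := Cfsg.Agent.S1372.result hG M hM K U h hK hU
  obtain ⟨z, hz, hz1⟩ := (Subgroup.bot_or_exists_ne_one _).resolve_left hX
  have hz2 : g⁻¹ * z * g ∈ Cfsg.fittingOf M := SigmaTools.mem_cj.mp hz.2
  have hne : Cfsg.fittingOf M ≠ ⊥ := fun e => hz1 (Subgroup.mem_bot.mp (e.le hz.1))
  refine hz1 ?_
  have := hTI g (fun hgN => hg ?_) _ hz2 (by rw [show g * (g⁻¹ * z * g) * g⁻¹ = z by group]; exact hz.1)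
  · rwa [show g⁻¹ * z * g = g⁻¹ * z * g⁻¹⁻¹ by rw [inv_inv], conj_eq_one_iff] at this
  rwa [(hM.le_iff.mp Basic.le_normalizer_fittingOf).resolve_left (Uniqueness.normalizer_ne_top hG.2 hne
    (hG.2.2.2 _ fun e => hM.1 (top_le_iff.mp (e ▸ Basic.fittingOf_le))))] at hgN

/-- For `U = 1` the exponent of `M / M_F` divides `r - 1` for the primes `r` other than `p`. -/
theorem card_K_dvd (hG : Cfsg.IsMinSimpleOddOrder G) (h : NT M N g y p) (hKU : Cfsg.IsSigmaDecomposition M K U)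
    (hK : K ≠ ⊥) (hU : U = ⊥) (hab : ¬ IsMulCommutative (Cfsg.sigmaCore M)) {r : ℕ} (hr : r.Prime)
    (hd : r ∣ Nat.card (Cfsg.sigmaCore M)) (hrp : r ≠ p) : Nat.card K ∣ r - 1 := by
  haveI := Fact.mk h.prime
  have hM := h.coatom
  have hlc := h.line_card hG hab hr hd
  refine FittingNonTI.card_dvd_sub_one hr hlc ((SigmaDecomp.K_le hKU).trans (FittingNonTI.line_normal M r))
    (le_bot_iff.mp fun k hk => Subgroup.mem_bot.mpr (by_contra fun hk1 => hrp ?_))
  obtain ⟨z, hz, hz1⟩ := (Subgroup.bot_or_exists_ne_one (line M r)).resolve_left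
    (fun e => hr.ne_one (by rw [← hlc, e, Subgroup.card_bot]))
  have hzD : z ∈ StarPartner.Dstar M K := ((SigmaDecomp.str hG hM hKU hK).fix k hk.1 hk1).le
    ⟨hz.1, Subgroup.mem_centralizer_singleton_iff.mpr (Subgroup.mem_centralizer_iff.mp hk.2 z hz)⟩
  have hzd : z ∈ ⁅Cfsg.sigmaCore M, Cfsg.sigmaCore M⁆ := by
    have := (Cfsg.Agent.S1365.result hG M hM K U hKU hK).2
    rw [TypeP.derived_bot hG hM hKU hK hU] at this
    exact this hzD
  obtain ⟨T, hT, -, hmem⟩ := h.exists_sylow hG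
  have hzT := FittingTypeV.derived_le hG h hab hT hmem hzd
  obtain ⟨j, hj⟩ := T.isPGroup'.exists_card_eq
  haveI := Fact.mk hr
  have ho : orderOf z = r := orderOf_eq_prime hz.2.2 hz1
  exact (Nat.prime_dvd_prime_iff_eq hr h.prime).mp
    (hr.dvd_of_dvd_pow (hj ▸ ho ▸ Subgroup.orderOf_dvd_natCard _ hzT))

/-- For `U = 1` the exponent of `M / M_F` divides the order of `K`. -/
theorem exponent_quotient (hG : Cfsg.IsMinSimpleOddOrder G) (hM : IsCoatom M) (hKU : Cfsg.IsSigmaDecomposition M K U)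
    (hK : K ≠ ⊥) (hU : U = ⊥) (hF : Cfsg.fittingHallOf M = Cfsg.sigmaCore M) {d : ℕ} (hd : Nat.card K ∣ d) :
    Monoid.exponent (M ⧸ Cfsg.fittingHall M) ∣ d := by
  refine Monoid.exponent_dvd_of_forall_pow_eq_one fun v => ?_
  obtain ⟨m, rfl⟩ := QuotientGroup.mk_surjective v
  obtain ⟨a, ha, k, hk, e⟩ := (TypeP.compl_K hG hM hKU hK).2.2.2 m m.2
  rw [TypeP.derived_bot hG hM hKU hK hU, ← hF] at ha
  have hkM := SigmaDecomp.K_le hKU hk
  have haM : a ∈ M := Basic.fittingHallOf_le ha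
  have hm : m = ⟨a, haM⟩ * ⟨k, hkM⟩ := Subtype.ext e
  rw [hm, QuotientGroup.mk_mul,
    show ((⟨a, haM⟩ : M) : M ⧸ Cfsg.fittingHall M) = 1 from (QuotientGroup.eq_one_iff _).mpr (by
      rw [← Basic.subgroupOf_fittingHallOf]; exact Subgroup.mem_subgroupOf.mpr ha), one_mul, ← QuotientGroup.mk_pow,
    show (⟨k, hkM⟩ : M) ^ d = 1 from orderOf_dvd_iff_pow_eq_one.mp (by
      rw [Subgroup.orderOf_mk]; exact (Subgroup.orderOf_dvd_natCard _ hk).trans hd), QuotientGroup.mk_one]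

theorem pCore_facts (h : NT M N g y p) (hG : Cfsg.IsMinSimpleOddOrder G)
    (hab : ¬ IsMulCommutative (Cfsg.sigmaCore M)) (hF : Cfsg.fittingHallOf M = Cfsg.sigmaCore M) :
    ¬ IsMulCommutative (Cfsg.pCore p ↥(Cfsg.fittingHallOf M)) ∧
      IsCyclic (Cfsg.pPrimeCore p ↥(Cfsg.fittingHallOf M)) ∧
      ∀ T : Sylow p G, (T : Subgroup G) ≤ Cfsg.sigmaCore M →
        Nat.card (Cfsg.pCore p ↥(Cfsg.fittingHallOf M)) = Nat.card (T : Subgroup G) := by
  haveI := Fact.mk h.prime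
  set H := Cfsg.fittingHallOf M with hH
  haveI : Group.IsNilpotent H := Basic.fittingHallOf_isNilpotent
  have hle : ∀ T : Sylow p G, (hT : (T : Subgroup G) ≤ H) →
      (T : Subgroup G).subgroupOf H ≤ Cfsg.pCore p H := fun T hT => by
    have : ((T.subtype hT : Sylow p H) : Subgroup H).Normal := inferInstance
    have := CfsgLib.Solvable.Cores.le_pCore (T.subtype hT).isPGroup' (hn := this)
    rwa [Sylow.coe_subtype] at this
  refine ⟨fun hc => ?_, ?_, fun T hT => le_antisymm ?_ ?_⟩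
  · obtain ⟨T, hT, -, -⟩ := h.exists_sylow hG
    have hTH : (T : Subgroup G) ≤ H := hT.trans hF.ge
    refine h.sylow_nonabelian hG hab T ⟨⟨fun a b => Subtype.ext ?_⟩⟩
    have := hc.is_comm.comm (⟨⟨a, hTH a.2⟩, hle T hTH a.2⟩ : Cfsg.pCore p H) ⟨⟨b, hTH b.2⟩, hle T hTH b.2⟩
    simpa using congrArg (fun z : Cfsg.pCore p H => ((z : H) : G)) this
  · haveI := h.cyclic hG hab (H := (Cfsg.pPrimeCore p H).map H.subtype)
      ((Subgroup.map_subtype_le _).trans hF.le) (by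
        rw [Subgroup.card_map_of_injective H.subtype_injective]
        exact h.prime.coprime_iff_not_dvd.mp (CfsgLib.Solvable.Cores.coprime_card_pPrimeCore p).symm)
    exact isCyclic_of_surjective ((Cfsg.pPrimeCore p H).equivMapOfInjective H.subtype H.subtype_injective).symm
      (MulEquiv.surjective _)
  · obtain ⟨S, hS⟩ := ((CfsgLib.Solvable.Cores.isPGroup_pCore (G := H) p).map H.subtype).exists_le_sylow
    have := Subgroup.card_le_of_le hS
    rw [Subgroup.card_map_of_injective H.subtype_injective] at this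
    rwa [T.card_eq_multiplicity, ← S.card_eq_multiplicity]
  · have := Subgroup.card_le_of_le (hle T (hT.trans hF.ge))
    rwa [Nat.card_congr (Subgroup.subgroupOfEquivOfLe (hT.trans hF.ge)).toEquiv] at this

end CfsgLib.OddOrder.TypeOneFitting
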