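import Cfsg.Agent.Lib.OddOrder.TypeOneNeighbour
import Cfsg.Agent.Lib.OddOrder.CyclicPlane
import Cfsg.Agent.Lib.OddOrder.OddGL2Structure
import Cfsg.Agent.Lib.OddOrder.FrobeniusCoherence
import Cfsg.Agent.Lib.Coprime.Abelian
import Cfsg.Agent.Lib.Char.Frobenius
import Mathlib

set_option autoImplicit false
set_option linter.style.haveILetI false
set_option linter.unusedSectionVars false

/-!
The configuration of `TypeOneConfig` with `κ(L)` empty.
-/

namespace CfsgLib.OddOrder.TypeOneFrobenius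

open CfsgLib.Char
open TypeOneConfig (Cfg)
open TypeOneInduced (core ind)
open TypeOneNeighbour (no_small)

variable {G : Type*} [Group G] [Finite G] {M L A : Subgroup G} {x : G} {p : ℕ}

theorem two_mul_le {e : ℕ} (hp : p.Prime) (hpodd : Odd p) (he : Odd e) (h : e ∣ p - 1 ∨ e ∣ p + 1) :
    2 * e ≤ p + 1 := by
  have hp2 := hp.two_le
  have h2 : ∀ m, 2 ∣ m → e ∣ m → 0 < m → 2 * e ≤ m := fun m h2 hm h0 =>
    Nat.le_of_dvd h0 ((Nat.Coprime.mul_dvd_of_dvd_of_dvd (Nat.coprime_two_left.mpr he)) h2 hm)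
  rcases hpodd with ⟨j, hj⟩
  rcases h with h | h
  · have := h2 _ ⟨j, by omega⟩ h (by omega)
    omega
  · exact h2 _ ⟨j + 1, by omega⟩ h (by omega)

/-- A cyclic group of operators on the plane meeting `M` trivially. -/
theorem card_dvd_plane (hG : Cfsg.IsMinSimpleOddOrder G) (c : Cfg M L A x p) (hE : L ⊓ M ≤ Cfsg.sigmaCore L)
    {U : Subgroup G} (hUL : U ≤ L) (hUA : U ≤ Subgroup.normalizer (A : Set G))
    (hUS : U ⊓ Cfsg.sigmaCore L = ⊥) (hcyc : IsCyclic U)
    (hfix : ∀ u ∈ U, u ≠ 1 → ∀ a ∈ A, Commute u a → a = 1) :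
    Nat.card U ∣ p - 1 ∨ Nat.card U ∣ p + 1 := by
  haveI := Fact.mk c.prime
  haveI := hcyc
  letI : CommGroup A := { (inferInstance : Group A) with mul_comm := c.ea.1.is_comm.comm }
  refine CyclicPlane.card_dvd (V := A) (fun v => Subtype.ext (by simpa using c.ea.2 v v.2)) c.card
    (hG.1.of_dvd_nat (Subgroup.card_subgroup_dvd_card U)) (Coprime.conjHom hUA) (fun g hg v hv => ?_)
    fun g k hk => ?_
  · refine Subtype.ext (hfix g g.2 (fun e => hg (Subtype.ext e)) v v.2 ?_)
    have h1 := congrArg Subtype.val hv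
    rw [Coprime.conjHom_apply, mul_inv_eq_iff_eq_mul] at h1
    exact h1
  · by_contra hg
    have h1 := congrArg Subtype.val (hk ⟨x, c.mem⟩)
    rw [Coprime.conjHom_apply, SubmonoidClass.coe_pow] at h1
    have hn : (g : G) ∈ Subgroup.normalizer ((Subgroup.zpowers x : Subgroup G) : Set G) := by
      refine NormalizerFusion.mem_normalizer_of_conj fun z hz => ?_
      obtain ⟨i, rfl⟩ := Subgroup.mem_zpowers_iff.mp hz
      rw [← conj_zpow]
      exact zpow_mem (h1 ▸ Subgroup.npow_mem_zpowers x k) i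
    have h2 : (g : G) ∈ U ⊓ Cfsg.sigmaCore L := ⟨g.2, hE ⟨hUL g.2, c.normalizer_le hG hn⟩⟩
    rw [hUS, Subgroup.mem_bot] at h2
    exact hg (Subtype.ext h2)

/-- By minimality of `p`, `L` is a Frobenius group with kernel `L_σ`. -/
theorem frobenius (hG : Cfsg.IsMinSimpleOddOrder G) (c : Cfg M L A x p) (hκ : Cfsg.kappa L = ∅) :
    ∀ h ∈ Cfsg.sigmaCore L, h ≠ 1 → L ⊓ Subgroup.centralizer ({h} : Set G) ≤ Cfsg.sigmaCore L := by
  intro h hh h1
  by_contra hC
  obtain ⟨r, hfail⟩ := TypeOneConfig.exists_fail hG c.coatomL hκ hh h1 hC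
  obtain ⟨-, -, hrτ, -⟩ := id hfail
  haveI := Fact.mk c.prime
  haveI := Fact.mk hrτ.1
  have hpr : p < r := lt_of_le_of_ne (not_lt.mp fun hlt => c.least r hlt L hfail)
    fun e => hrτ.2.1 (e ▸ c.sigmaL)
  obtain ⟨E, hE⟩ := Coprime.exists_hall {t | t ∉ Cfsg.sigma L} (hG.2.2.2 L c.coatomL.1)
  obtain ⟨B, hBE, hBe, hBc⟩ := TauTwoAbelian.exists_plane (SylowCentral.isComplIn_of_hall hG c.coatomL hE) hrτ
  have hBL := hBE.trans hE.1
  obtain ⟨hn, -, -, -, hoff, -⟩ := Cfsg.Agent.S1417.result hG L c.coatomL r hrτ B ⟨hBL, hBe, hBc⟩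
  obtain ⟨A₀, hexc⟩ := TauTwoStructure.exists_exc hG c.coatomM c.tau2.2.1 c.le c.ea c.card
  have hBA := SigmaNeighbour.centralizes_of_lt hG c.coatomL (SigmaNeighbour.not_beta_of_plane (hexc.maxPlane hG))
    hn c.pgroup (c.A_le_S hG) (IsPGroup.of_card (n := 2) hBc) hBL hpr
  have h2 := hoff M c.coatomM (fun e => c.tau2.2.1 (e ▸ c.sigmaL))
    (hBA.trans ((c.centralizer_A hG).trans inf_le_right))
  exact c.x_ne_one (Subgroup.mem_bot.mp (h2.le ⟨c.x_mem_S hG, c.le c.mem⟩))

open scoped Classical in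
/-- **No configuration with `κ(L)` empty.** -/
theorem main (hG : Cfsg.IsMinSimpleOddOrder G) (c : Cfg M L A x p) (hκ : Cfsg.kappa L = ∅) : False := by
  haveI := Fintype.ofFinite G
  haveI := Fintype.ofFinite L
  haveI := Fintype.ofFinite (core L)
  haveI := Fact.mk c.prime
  have hfrob := frobenius hG c hκ
  obtain ⟨K, U, hd⟩ := FittingStructure.exists_decomp hG c.coatomL
  have hK : K = ⊥ := by
    by_contra hK
    obtain ⟨t, ht, htd⟩ := Nat.exists_prime_and_dvd (n := Nat.card K) (fun e => hK (Subgroup.eq_bot_of_card_eq _ e))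
    exact Set.eq_empty_iff_forall_notMem.mp hκ t (hd.hall.2.1 t ht htd)
  have hn : Group.IsNilpotent (Cfsg.sigmaCore L) :=
    by_contra fun hn => (CoreStructure.not_nilpotent hG c.coatomL hd hn).2 hK
  haveI := hn
  have hnc : Group.IsNilpotent (core L) :=
    Group.nilpotent_of_mulEquiv (Subgroup.subgroupOfEquivOfLe (SigmaTools.sigmaCore_le L)).symm
  have hUc := SigmaDecomp.U_compl_of_bot hG c.coatomL hd hK
  -- `L ∩ M ≤ L_σ`
  have hE : L ⊓ M ≤ Cfsg.sigmaCore L := TypeOneNeighbour.inter_le hG c fun y hy hyS hyp => by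
    obtain ⟨w, hw, hw1, hyw⟩ := c.exists_fixed_in_A hG hy hyS hyp
    exact hyS (hfrob w (c.A_le_S hG hw) hw1 ⟨hy.1, Subgroup.mem_centralizer_singleton_iff.mpr hyw.eq⟩)
  have hUS : U ⊓ Cfsg.sigmaCore L = ⊥ := hUc.2.2.1
  have hidxU : (core L).index = Nat.card U := Basic.IsComplIn.relIndex_right hUc
  have hfpf : ∀ u ∈ U, u ≠ 1 → ∀ a ∈ Cfsg.sigmaCore L, Commute u a → a = 1 := fun u hu hu1 a ha hua => by
    by_contra ha1
    exact hu1 (Subgroup.mem_bot.mp (hUS.le ⟨hu, hfrob a ha ha1 ⟨hUc.1 hu,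
      Subgroup.mem_centralizer_singleton_iff.mpr hua.eq⟩⟩))
  have hodd := TypeOneNeighbour.core_odd (L := L) hG
  have he1 : (core L).index ≠ 1 := by
    intro e
    rw [Subgroup.index_eq_one, Subgroup.subgroupOf_eq_top] at e
    have hnL : Group.IsNilpotent L := Group.nilpotent_of_mulEquiv
      (MulEquiv.subgroupCongr (le_antisymm (SigmaTools.sigmaCore_le L) e))
    haveI := hG.2.2.2 L c.coatomL.1
    haveI : Nontrivial L := (Subgroup.nontrivial_iff_ne_bot _).mpr (SigmaCore.coatom_ne_bot hG c.coatomL)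
    refine (Group.IsSolvable.commutator_lt_top_of_nontrivial L).ne (eq_top_iff.mpr fun z _ => ?_)
    obtain ⟨w, hw, e'⟩ : (z : G) ∈ (commutator L).map L.subtype := by
      rw [Coprime.map_commutator_subtype]
      exact SigmaCore.le_derived hG c.coatomL (e z.2)
    exact (Subtype.ext e' : w = z) ▸ hw
  -- the bound `2 e ≤ p + 1`
  have hUn : U ≤ Subgroup.normalizer (Cfsg.sigmaCore L : Set G) :=
    hUc.1.trans (SigmaTools.le_normalizer_sigmaCore L)
  obtain ⟨hdvd, hcase⟩ : ((core L).index ∣ p - 1 ∨ (core L).index ∣ p + 1) ∧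
      (¬ IsMulCommutative (Cfsg.sigmaCore L) → (core L).index ∣ p - 1) := by
    by_cases hab : IsMulCommutative (Cfsg.sigmaCore L)
    · refine ⟨?_, fun h => absurd hab h⟩
      have hAL := TypeOneNeighbour.A_normal hG c hab
      have hfixA : ∀ u ∈ U, u ≠ 1 → ∀ a ∈ A, Commute u a → a = 1 := fun u hu hu1 a ha hua =>
        hfpf u hu hu1 a (c.A_le_S hG ha) hua
      haveI : IsZGroup U := FrobeniusCoherence.isZGroup_fpf (SigmaCore.sigmaCore_ne_bot hG c.coatomL) hUn
        (fun a ha ha1 => le_bot_iff.mp fun s hs => Subgroup.mem_bot.mpr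
          (hfpf a ha ha1 s hs.1 (Subgroup.mem_centralizer_singleton_iff.mp hs.2).symm))
        (hG.1.of_dvd_nat (Subgroup.card_subgroup_dvd_card U))
      haveI : Group.IsSolvable U := hG.2.2.2 U fun e => c.coatomL.1 (top_le_iff.mp (e ▸ hUc.1))
      have hcomm : commutator U = ⊥ := by
        letI : CommGroup A := { (inferInstance : Group A) with mul_comm := c.ea.1.is_comm.comm }
        obtain ⟨φ, hφ⟩ := OddGL2Structure.exists_hom (Q := A) (fun v => Subtype.ext (by simpa using c.ea.2 v v.2))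
          c.card (Coprime.conjHom (hUc.1.trans hAL))
        have hinj : Function.Injective φ := (injective_iff_map_eq_one φ).mpr fun g hg => by
          by_contra hg1
          have h1 := congrArg Subtype.val (DFunLike.congr_fun ((hφ g).mp hg) (⟨x, c.mem⟩ : A))
          rw [Coprime.conjHom_apply, MulAut.one_apply, mul_inv_eq_iff_eq_mul] at h1
          exact c.x_ne_one (hfixA g g.2 (fun e => hg1 (Subtype.ext e)) x c.mem h1)
        obtain ⟨j, hj⟩ := (OddGL2Structure.commutator_isPGroup φ hinj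
          (hG.1.of_dvd_nat (Subgroup.card_subgroup_dvd_card U))).exists_card_eq
        refine Subgroup.eq_bot_of_card_eq _ (hj.trans ?_)
        rcases Nat.eq_zero_or_pos j with rfl | hj0
        · rw [pow_zero]
        exfalso
        have hpU : p ∣ Nat.card U := (dvd_pow_self p hj0.ne').trans (hj ▸ Subgroup.card_subgroup_dvd_card _)
        obtain ⟨u, hu⟩ := exists_prime_orderOf_dvd_card' (G := U) p hpU
        have hu' : orderOf (u : G) = p := by rw [Subgroup.orderOf_coe, hu]
        have huS : (u : G) ∈ Cfsg.sigmaCore L := SigmaTools.pGroup_le_sigmaCore hG c.coatomL c.sigmaL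
          (Subgroup.zpowers_le.mpr (hUc.1 u.2)) (IsPGroup.of_card (n := 1) (G := ↥(Subgroup.zpowers (u : G)))
            (by rw [Nat.card_zpowers, hu', pow_one])) (Subgroup.mem_zpowers _)
        have : (u : G) ∈ U ⊓ Cfsg.sigmaCore L := ⟨u.2, huS⟩
        rw [hUS, Subgroup.mem_bot] at this
        rw [this, orderOf_one] at hu'
        exact c.prime.ne_one hu'.symm
      haveI : Group.IsNilpotent U := by
        have hcU : ∀ a b : U, a * b = b * a := fun a b => by
          have h := Subgroup.commutator_mem_commutator (H₁ := (⊤ : Subgroup U)) (H₂ := (⊤ : Subgroup U))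
            (Subgroup.mem_top a) (Subgroup.mem_top b)
          rw [← commutator_def, hcomm, Subgroup.mem_bot, commutatorElement_eq_one_iff_mul_comm] at h
          exact h
        letI : CommGroup U := { (inferInstance : Group U) with mul_comm := hcU }
        infer_instance
      rw [hidxU]
      exact card_dvd_plane hG c hE hUc.1 (hUc.1.trans hAL) hUS inferInstance hfixA
    · obtain ⟨g, h⟩ := TypeOneNeighbour.exists_nt hG c hn
      have hd1 : (core L).index ∣ p - 1 := by
        rw [hidxU]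
        refine FittingNonTI.card_dvd_sub_one c.prime
          (h.line_card hG hab c.prime (c.order ▸ Subgroup.orderOf_dvd_natCard _ (c.x_mem_S hG)))
          (hUc.1.trans (FittingNonTI.line_normal L p)) (le_bot_iff.mp fun u hu => Subgroup.mem_bot.mpr ?_)
        by_contra hu1
        have hl := h.line_card hG hab c.prime (c.order ▸ Subgroup.orderOf_dvd_natCard _ (c.x_mem_S hG))
        obtain ⟨z, hz, hz1⟩ := (Subgroup.bot_or_exists_ne_one (FittingNonTI.line L p)).resolve_left
          (RankOneTools.ne_bot_of_card hl)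
        exact hz1 (hfpf u hu.1 hu1 z hz.1 (Subgroup.mem_centralizer_iff.mp hu.2 z hz).symm)
      exact ⟨Or.inl hd1, fun _ => hd1⟩
  have hep := two_mul_le c.prime (c.odd hG) hodd hdvd
  -- the family
  have hCL : ∀ n ∈ core L, n ≠ 1 → Subgroup.centralizer ({n} : Set L) ≤ core L := fun n hn hn1 g hg => by
    rw [Subgroup.mem_subgroupOf] at hn ⊢
    exact hfrob _ hn (fun e => hn1 (Subtype.ext e)) ⟨g.2, Subgroup.mem_centralizer_singleton_iff.mpr
      (congrArg Subtype.val (Subgroup.mem_centralizer_singleton_iff.mp hg))⟩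
  have hirr : ∀ θ ∈ TypeOneAbove.above L (⊥ : Subgroup L), Cfsg.IsIrrCharacter L (ind (core L) θ) := fun θ hθ =>
    isIrr_indFun_of_frobenius (core L) hCL θ.2
      ((DegreeTools.ne_oneChar_iff θ).mp (TypeOneAbove.mem_above.mp hθ).1)
  have hbot : ((⊥ : Subgroup L).subgroupOf (core L)) = ⊥ := by simp
  have hidx0 : ((⊥ : Subgroup L).subgroupOf (core L)).index = Nat.card (core L) := by
    rw [hbot, Subgroup.index_bot]
  have hne : (⊥ : Subgroup L) < core L := bot_lt_iff_ne_bot.mpr fun e => by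
    have := TypeOneNeighbour.sq_dvd_card hG c
    rw [e, Subgroup.card_bot] at this
    exact c.prime.ne_one (Nat.dvd_one.mp ((dvd_pow_self p two_ne_zero).trans this))
  have hxbot : (⟨x, c.A_le_L c.mem⟩ : L) ∉ (⊥ : Subgroup L) := fun h =>
    c.x_ne_one (congrArg Subtype.val (Subgroup.mem_bot.mp h))
  have hsq := Nat.le_of_dvd Nat.card_pos (TypeOneNeighbour.sq_dvd_card hG c)
  obtain ⟨U', hU'n, hU'c, m, hm, hsmall⟩ : ∃ U' : Subgroup L, U'.Normal ∧
      U'.subgroupOf (core L) ≤ Subgroup.center (core L) ∧ ∃ m : ℕ, (U'.subgroupOf (core L)).index = p ^ m ∧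
      (2 * (core L).index + 1 ≤ p ∨
        ∀ θ ∈ TypeOneAbove.above L (⊥ : Subgroup L), Coherence.natDeg (θ : core L → ℂ) = 1) := by
    by_cases hab : IsMulCommutative (Cfsg.sigmaCore L)
    · have hc : ∀ a b : core L, a * b = b * a := fun a b => Subtype.ext (Subtype.ext (by
        have h0 := congrArg Subtype.val (hab.is_comm.comm (⟨_, Subgroup.mem_subgroupOf.mp a.2⟩ : Cfsg.sigmaCore L)
          ⟨_, Subgroup.mem_subgroupOf.mp b.2⟩)
        simpa using h0))
      refine ⟨core L, inferInstance, fun a _ => Subgroup.mem_center_iff.mpr fun g => hc g a, 0, by simp,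
        Or.inr fun θ _ => ?_⟩
      refine Nat.cast_injective (R := ℂ) ?_
      rw [Nat.cast_one, ← Coherence.natDeg_spec θ.2, apply_one_eq_one_of_comm hc θ.2]
    · obtain ⟨U', h1, -, h3, m, hm⟩ := TypeOneNeighbour.exists_central hG c hnc
      refine ⟨U', h1, h3, m, hm, Or.inl ?_⟩
      have hd1 := hcase hab
      have hp2 := c.prime.two_le
      rcases c.odd hG with ⟨j, hj⟩
      have : 2 * (core L).index ≤ p - 1 := Nat.le_of_dvd (by omega)
        ((Nat.Coprime.mul_dvd_of_dvd_of_dvd (Nat.coprime_two_left.mpr hodd)) ⟨j, by omega⟩ hd1)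
      omega
  haveI := hU'n
  have hb := TypeOneAbove.bound hG c (⊥ : Subgroup L) U' hne hxbot (by rw [hbot, bot_sup_eq]; exact hU'c)
    (by rw [hbot, bot_sup_eq]; exact hm) hirr hsmall hep (by rw [hidx0]; exact hsq)
  rw [hidx0] at hb
  refine no_small c.prime hodd he1 hep hsq ?_ hb
  rw [Nat.card_congr (Subgroup.subgroupOfEquivOfLe (SigmaTools.sigmaCore_le L)).toEquiv]
  exact Subgroup.card_le_of_le hE

end CfsgLib.OddOrder.TypeOneFrobenius
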