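import Cfsg.Agent.Lib.Char.Linear
import Mathlib

set_option autoImplicit false
set_option linter.style.haveILetI false
set_option linter.unusedSectionVars false

/-!
Linear characters of `H` fixed by an element `x` of prime order acting on `H`, with all their restrictions to
the fixed points of `x`.
-/

namespace CfsgLib.OddOrder.TypeOneTheta

open CfsgLib.Char

variable {G : Type*} [Group G] [Finite G]

instance finite_hom {X : Type*} [Group X] [Finite X] : Finite (X →* ℂˣ) := by
  refine Nat.finite_of_card_ne_zero ?_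
  rw [Nat.card_congr (homEquivLinear (G := X)), card_linear]
  exact Subgroup.index_ne_zero_of_finite

/-- Restriction of linear characters. -/
noncomputable def res {R H : Subgroup G} (h : R ≤ H) : (H →* ℂˣ) →* (R →* ℂˣ) where
  toFun l := l.comp (Subgroup.inclusion h)
  map_one' := rfl
  map_mul' _ _ := rfl

/-- Conjugation by an element normalising `H`. -/
def cjHom (H : Subgroup G) {g : G} (hg : g ∈ Subgroup.normalizer (H : Set G)) : H →* H :=
  MonoidHom.mk' (fun h => ⟨g * h * g⁻¹, (Subgroup.mem_normalizer_iff.mp hg h).mp h.2⟩) fun a b =>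
    Subtype.ext (by simp [mul_assoc])

theorem cjHom_apply (H : Subgroup G) {g : G} (hg : g ∈ Subgroup.normalizer (H : Set G)) (h : H) :
    ((cjHom H hg h : H) : G) = g * h * g⁻¹ := rfl

/-- A linear character fixed by a fixed point free automorphism is trivial. -/
theorem eq_one_of_fixed {H : Subgroup G} {g : G} (hg : g ∈ Subgroup.normalizer (H : Set G))
    (hfix : ∀ u ∈ H, Commute g u → u = 1) {l : H →* ℂˣ} (h : l.comp (cjHom H hg) = l) : l = 1 := by
  have hinj : Function.Injective fun u : H => u⁻¹ * cjHom H hg u := by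
    intro u v e
    have e' : (u : G)⁻¹ * (g * u * g⁻¹) = (v : G)⁻¹ * (g * v * g⁻¹) := congrArg Subtype.val e
    have h1 : Commute g ((v : G) * (u : G)⁻¹) := by
      show g * ((v : G) * (u : G)⁻¹) = (v : G) * (u : G)⁻¹ * g
      have h2 := congrArg (fun t => (v : G) * t * g * (u : G)⁻¹) e'
      calc g * ((v : G) * (u : G)⁻¹) = (v : G) * ((v : G)⁻¹ * (g * v * g⁻¹)) * g * (u : G)⁻¹ := by group
        _ = (v : G) * ((u : G)⁻¹ * (g * u * g⁻¹)) * g * (u : G)⁻¹ := by rw [h2]
        _ = (v : G) * (u : G)⁻¹ * g := by group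
    have := hfix _ (H.mul_mem v.2 (H.inv_mem u.2)) h1
    exact Subtype.ext (mul_inv_eq_one.mp this).symm
  ext1 u
  obtain ⟨v, hv⟩ := Finite.surjective_of_injective hinj u
  have h1 := DFunLike.congr_fun h v
  simp only [MonoidHom.comp_apply] at h1
  rw [← hv, map_mul, map_inv, h1, inv_mul_cancel]
  rfl

theorem exists_apply_ne_one {X : Type*} [Group X] [Finite X] {u : X} (hu : u ∉ commutator X) :
    ∃ l : X →* ℂˣ, l u ≠ 1 := by
  have : NeZero (Monoid.exponent (Abelianization X) : ℂ) :=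
    ⟨by exact_mod_cast Monoid.exponent_ne_zero_of_finite⟩
  obtain ⟨φ, hφ⟩ := CommGroup.exists_apply_ne_one_of_hasEnoughRootsOfUnity (Abelianization X) ℂ
    (a := Abelianization.of u) fun e => hu ((QuotientGroup.eq_one_iff u).mp e)
  exact ⟨φ.comp Abelianization.of, hφ⟩

variable {p : ℕ} {x : G} {H R : Subgroup G}

open scoped Classical in
/-- The family. -/
theorem exists_family (hp : p.Prime) (hpodd : Odd p) (hx : orderOf x = p) (hxH : x ∈ Subgroup.normalizer (H : Set G))
    (hRH : R ≤ H) (hRc : ∀ u ∈ R, Commute x u) (hodd : Odd (Nat.card R)) (hcop : ¬ p ∣ Nat.card R) {y : G}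
    (hy : orderOf y = p) (hyH : y ∈ Subgroup.normalizer (H : Set G))
    (hyR : y ∈ Subgroup.normalizer (R : Set G)) (hyfix : ∀ u ∈ R, Commute y u → u = 1)
    (hprop : ¬ R ≤ ⁅H, H⁆) :
    ∃ s : Finset (H →* ℂˣ),
      (∀ l ∈ s, ∀ (h : G) (hh : h ∈ H),
        l ⟨x * h * x⁻¹, (Subgroup.mem_normalizer_iff.mp hxH h).mp hh⟩ = l ⟨h, hh⟩) ∧
      Set.InjOn (fun l : H →* ℂˣ => l.comp (Subgroup.inclusion hRH)) s ∧
      (∀ l ∈ s, l.comp (Subgroup.inclusion hRH) ≠ 1) ∧
      s.card + 1 = Nat.card (res hRH).range ∧ 2 * p + 1 ≤ s.card + 1 := by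
  haveI := Fact.mk hp
  set Λ := (res hRH).range with hΛ
  have hexp : ∀ η : R →* ℂˣ, η ^ Nat.card R = 1 := fun η => by
    ext1 u
    rw [MonoidHom.pow_apply, ← map_pow, pow_card_eq_one', map_one]
    rfl
  -- the norm map
  have hxp : x ^ p = 1 := hx ▸ pow_orderOf_eq_one x
  have hxn : ∀ i : ℕ, x ^ i ∈ Subgroup.normalizer (H : Set G) := fun i => pow_mem hxH i
  let nm : (H →* ℂˣ) → (H →* ℂˣ) := fun l => ∏ i ∈ Finset.range p, l.comp (cjHom H (hxn i))
  have hnm_inv : ∀ l, ∀ (h : G) (hh : h ∈ H),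
      nm l ⟨x * h * x⁻¹, (Subgroup.mem_normalizer_iff.mp hxH h).mp hh⟩ = nm l ⟨h, hh⟩ := by
    intro l h hh
    simp only [nm, MonoidHom.finsetProd_apply, MonoidHom.comp_apply]
    let g : ℕ → ℂˣ := fun i => l (cjHom H (hxn i) ⟨h, hh⟩)
    have h1 : ∀ i, l (cjHom H (hxn i) ⟨x * h * x⁻¹, (Subgroup.mem_normalizer_iff.mp hxH h).mp hh⟩) = g (i + 1) :=
      fun i => congrArg l (Subtype.ext (by
        rw [cjHom_apply, cjHom_apply]
        simp only [pow_succ, mul_inv_rev, mul_assoc]))
    rw [Finset.prod_congr rfl fun i _ => h1 i]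
    have h2 : g p = g 0 := congrArg l (Subtype.ext (by rw [cjHom_apply, cjHom_apply, hxp, pow_zero]))
    have h3 := Finset.prod_range_succ g p
    have h4 := Finset.prod_range_succ' g p
    rw [h3, h2] at h4
    exact (mul_right_cancel h4).symm
  have hnm_res : ∀ l, res hRH (nm l) = res hRH l ^ p := by
    intro l
    ext1 u
    show nm l (Subgroup.inclusion hRH u) = (res hRH l u) ^ p
    simp only [nm, MonoidHom.finsetProd_apply, MonoidHom.comp_apply]
    rw [Finset.prod_congr rfl fun i _ => show l (cjHom H (hxn i) (Subgroup.inclusion hRH u)) = res hRH l u from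
      congrArg l (Subtype.ext (by
        rw [cjHom_apply, Subgroup.coe_inclusion, ((hRc u u.2).pow_left i).eq, mul_inv_cancel_right]))]
    rw [Finset.prod_const, Finset.card_range]
  have hroot : ∀ η ∈ Λ, ∃ l, res hRH (nm l) = η := by
    rintro η ⟨l, rfl⟩
    obtain ⟨m, hm⟩ := exists_pow_eq_self_of_coprime (x := res hRH l) (n := p)
      ((hp.coprime_iff_not_dvd.mpr hcop).coprime_dvd_right (orderOf_dvd_of_pow_eq_one (hexp _)))
    exact ⟨l ^ m, by rw [hnm_res]; exact ((congrArg (· ^ p) (map_pow (res hRH) l m)).trans (by rw [← pow_mul, mul_comm, pow_mul])).trans hm⟩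
  choose pick hpick using hroot
  haveI := Fintype.ofFinite Λ
  let F : Λ → (H →* ℂˣ) := fun η => nm (pick η.1 η.2)
  have hF : ∀ η : Λ, (F η).comp (Subgroup.inclusion hRH) = η.1 := fun η => hpick η.1 η.2
  have hFinj : Function.Injective F := fun a b e => Subtype.ext (by rw [← hF a, ← hF b, e])
  refine ⟨(Finset.univ.erase 1).image F, ?_, ?_, ?_, ?_, ?_⟩
  · intro l hl
    obtain ⟨η, -, rfl⟩ := Finset.mem_image.mp hl
    exact hnm_inv _
  · intro a ha b hb e
    obtain ⟨η, -, rfl⟩ := Finset.mem_image.mp (Finset.mem_coe.mp ha)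
    obtain ⟨μ, -, rfl⟩ := Finset.mem_image.mp (Finset.mem_coe.mp hb)
    simp only [hF] at e
    rw [Subtype.ext e]
  · intro l hl
    obtain ⟨η, hη, rfl⟩ := Finset.mem_image.mp hl
    rw [hF]
    exact fun e => (Finset.mem_erase.mp hη).1 (Subtype.ext e)
  · rw [Finset.card_image_of_injective _ hFinj, Finset.card_erase_add_one (Finset.mem_univ _), Finset.card_univ,
      ← Nat.card_eq_fintype_card]
  rw [Finset.card_image_of_injective _ hFinj, Finset.card_erase_add_one (Finset.mem_univ _), Finset.card_univ,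
    ← Nat.card_eq_fintype_card]
  -- the number of restrictions
  have hgt : 1 < Nat.card Λ := by
    obtain ⟨u, huR, hu⟩ := SetLike.not_le_iff_exists.mp hprop
    have hu' : (⟨u, hRH huR⟩ : H) ∉ commutator H := fun hmem => hu (by
      rw [← Subgroup.map_subtype_commutator]
      exact ⟨_, hmem, rfl⟩)
    obtain ⟨l, hl⟩ := exists_apply_ne_one hu'
    refine Subgroup.one_lt_card_iff_ne_bot _ |>.mpr fun e => hl ?_
    have : res hRH l ∈ (⊥ : Subgroup (R →* ℂˣ)) := e ▸ ⟨l, rfl⟩
    exact DFunLike.congr_fun (Subgroup.mem_bot.mp this) ⟨u, huR⟩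
  have hoddΛ : ¬ 2 ∣ Nat.card Λ := fun hd => by
    obtain ⟨η, hη⟩ := exists_prime_orderOf_dvd_card' (G := Λ) 2 (hp := ⟨Nat.prime_two⟩) hd
    have h1 : orderOf (η : R →* ℂˣ) ∣ Nat.card R := orderOf_dvd_of_pow_eq_one (hexp _)
    rw [Subgroup.orderOf_coe, hη] at h1
    exact Nat.not_even_iff_odd.mpr hodd (even_iff_two_dvd.mpr h1)
  let c : R →* R := cjHom R hyR
  have hcmem : ∀ η ∈ Λ, η.comp c ∈ Λ := by
    rintro η ⟨l, rfl⟩
    exact ⟨l.comp (cjHom H hyH), by ext1 u; rfl⟩
  let f : Λ → Λ := fun η => ⟨η.1.comp c, hcmem η.1 η.2⟩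
  have hfit : ∀ (n : ℕ) (η : Λ) (u : R), (f^[n] η).1 u = η.1 (c^[n] u) := by
    intro n
    induction n with
    | zero => intro η u; rfl
    | succ n ih => intro η u; rw [Function.iterate_succ_apply, ih, Function.iterate_succ_apply']; rfl
  have hcit : ∀ (n : ℕ) (u : R), ((c^[n] u : R) : G) = y ^ n * u * (y ^ n)⁻¹ := by
    intro n
    induction n with
    | zero => intro u; simp
    | succ n ih =>
      intro u
      rw [Function.iterate_succ_apply']
      show y * ((c^[n] u : R) : G) * y⁻¹ = _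
      rw [ih, pow_succ']; group
  have hfp : ∀ η, f^[p] η = η := fun η => Subtype.ext (MonoidHom.ext fun u => by
    rw [hfit]
    congr 1
    exact Subtype.ext (by rw [hcit, ← hy, pow_orderOf_eq_one]; group))
  let e : Λ ≃ Λ :=
    { toFun := f
      invFun := f^[p - 1]
      left_inv := fun a => by
        rw [← Function.iterate_succ_apply f, Nat.succ_eq_add_one, Nat.sub_add_cancel hp.pos, hfp]
      right_inv := fun a => by
        rw [← Function.iterate_succ_apply' f, Nat.succ_eq_add_one, Nat.sub_add_cancel hp.pos, hfp] }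
  have hep : e ^ p = 1 := Equiv.ext fun η => by
    rw [Equiv.Perm.coe_pow, Equiv.Perm.one_apply]
    exact hfp η
  let P := Subgroup.zpowers (show Equiv.Perm Λ from e)
  have hPp : IsPGroup p P := by
    intro g
    refine ⟨1, Subtype.ext ?_⟩
    obtain ⟨i, hi⟩ := Subgroup.mem_zpowers_iff.mp g.2
    rw [pow_one, Subgroup.coe_pow, ← hi, ← zpow_natCast, ← zpow_mul, mul_comm, zpow_mul, zpow_natCast, hep,
      one_zpow]
    rfl
  have hfixed : Nat.card (MulAction.fixedPoints P Λ) = 1 := by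
    refine Nat.card_eq_one_iff_unique.mpr ⟨⟨fun a b => ?_⟩, ⟨⟨1, ?_⟩⟩⟩
    · have key : ∀ a : MulAction.fixedPoints P Λ, a.1 = 1 := fun a => by
        have h := a.2 (⟨e, Subgroup.mem_zpowers _⟩ : P)
        have h' : f a.1 = a.1 := h
        exact Subtype.ext (eq_one_of_fixed hyR hyfix (congrArg Subtype.val h'))
      exact Subtype.ext ((key a).trans (key b).symm)
    · intro g
      obtain ⟨i, hi⟩ := Subgroup.mem_zpowers_iff.mp g.2
      show (g : Equiv.Perm Λ) 1 = 1
      rw [← hi]
      exact Equiv.Perm.zpow_apply_eq_self_of_apply_eq_self (Subtype.ext (MonoidHom.ext fun u => rfl)) i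
  have hmod := hPp.card_modEq_card_fixedPoints Λ
  rw [hfixed] at hmod
  obtain ⟨k, hk⟩ := (Nat.modEq_iff_dvd' hgt.le).mp hmod.symm
  by_contra hlt
  have hk1 : k = 1 := by
    rcases k with _ | _ | k
    · omega
    · rfl
    · exfalso; rw [show p * (k + 2) = 2 * p + p * k by ring] at hk; omega
  subst hk1
  rcases hpodd with ⟨j, hj⟩
  exact hoddΛ ⟨j + 1, by omega⟩

end CfsgLib.OddOrder.TypeOneTheta
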