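import Cfsg.Agent.Lib.OddOrder.TypeOneBound
import Cfsg.Agent.Lib.OddOrder.TypeOneTheta
import Mathlib

set_option autoImplicit false
set_option linter.style.haveILetI false
set_option linter.unusedSectionVars false

/-!
The sharper estimate of the norm, and the number of linear characters under a fixed point free group.
-/

namespace CfsgLib.OddOrder.TypeOneGain

open TypeOneCyclic (wt)
open TypeOneTheta (cjHom cjHom_apply)

theorem dist_zero {p : ℕ} (hp : 0 < p) : TypeOneBound.dist p 0 = 0 := by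
  unfold TypeOneBound.dist
  simp

theorem dist_neg_le {p : ℕ} (hp : 0 < p) (b : ℤ) : TypeOneBound.dist p (-b) ≤ TypeOneBound.dist p b := by
  have := TypeOneBound.dist_sub_le hp 0 b
  rwa [zero_sub, dist_zero hp, zero_add] at this

/-- **The estimate.** -/
theorem gain {p e r : ℕ} (hp : p.Prime) (he : 3 ≤ e) (h2e : 2 * e + 1 ≤ p) (hr : e * p + 1 ≤ r) {N : ℝ}
    (hN : (p : ℝ) ^ 2 - 1 ≤ e * N) {ι : Type*} (s : Finset ι) (hs : s.card + 1 = r) (α m : ℤ) (d b : ι → ℤ)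
    (hcong : ∀ i ∈ s, d i ≡ α + e - b i [ZMOD p]) (hm : m ≡ α + e [ZMOD p]) :
    (e : ℝ) ^ 2 + (e : ℝ) ^ 2 / ((p : ℝ) ^ 2 - 1) <
      (s.card + 1 : ℝ)⁻¹ * (∑ i ∈ s, (d i : ℝ) ^ 2) + (1 - N⁻¹) ^ 2 * (wt p α : ℝ) +
        ∑ i ∈ s, (wt p (b i) : ℝ) + (p : ℝ)⁻¹ * (wt p m : ℝ) := by
  set D := (s.card + 1 : ℝ)⁻¹ * (∑ i ∈ s, (d i : ℝ) ^ 2)
  set δ := TypeOneBound.dist p (α + e)
  set A := TypeOneBound.dist p α
  have hp0 := hp.pos
  have hδ0 : (0 : ℝ) ≤ δ := by exact_mod_cast TypeOneBound.dist_nonneg hp0 _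
  have hA0 : (0 : ℝ) ≤ A := by exact_mod_cast TypeOneBound.dist_nonneg hp0 _
  have hδp : 2 * (δ : ℝ) ≤ p := by exact_mod_cast TypeOneBound.two_dist_le (p := p) (α + e)
  have hAp : 2 * (A : ℝ) ≤ p := by exact_mod_cast TypeOneBound.two_dist_le (p := p) α
  have he' : (3 : ℝ) ≤ e := by exact_mod_cast he
  have h2e' : 2 * (e : ℝ) + 1 ≤ p := by exact_mod_cast h2e
  have hr' : (e : ℝ) * p + 1 ≤ r := by exact_mod_cast hr
  have hsr : (s.card : ℝ) + 1 = r := by exact_mod_cast hs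
  have hr0 : (0 : ℝ) < r := by nlinarith
  set P : ℝ := (p : ℝ) ^ 2 - 1 with hPdef
  have hP : 4 * (e : ℝ) ^ 2 + 4 * e ≤ P := by nlinarith
  have hP0 : 0 < P := by nlinarith
  -- the sum over the family
  have hterm : ∀ i ∈ s, (r : ℝ)⁻¹ * (δ : ℝ) ^ 2 ≤ (r : ℝ)⁻¹ * (d i : ℝ) ^ 2 + (wt p (b i) : ℝ) := by
    intro i hi
    have hB0 : (0 : ℝ) ≤ TypeOneBound.dist p (b i) := by exact_mod_cast TypeOneBound.dist_nonneg hp0 _
    have hBp : 2 * (TypeOneBound.dist p (b i) : ℝ) ≤ p := by exact_mod_cast TypeOneBound.two_dist_le (p := p) (b i)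
    have hle : δ ≤ |d i| + TypeOneBound.dist p (b i) := by
      have h1 : α + e ≡ d i - (- b i) [ZMOD p] := by
        rw [sub_neg_eq_add]
        have := (hcong i hi).add_right (b i)
        rw [sub_add_cancel] at this
        exact this.symm
      calc δ = TypeOneBound.dist p (d i - (- b i)) := TypeOneBound.dist_congr h1
        _ ≤ TypeOneBound.dist p (d i) + TypeOneBound.dist p (- b i) := TypeOneBound.dist_sub_le hp0 _ _
        _ ≤ |d i| + TypeOneBound.dist p (b i) := add_le_add (TypeOneBound.dist_le_abs hp0 _) (dist_neg_le hp0 _)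
    have hle' : (δ : ℝ) ≤ |(d i : ℝ)| + (TypeOneBound.dist p (b i) : ℝ) := by
      rw [← Int.cast_abs]; exact_mod_cast hle
    rw [TypeOneBound.wt_eq_dist]
    push_cast
    set B : ℝ := (TypeOneBound.dist p (b i) : ℝ)
    set a : ℝ := |(d i : ℝ)|
    rw [show (d i : ℝ) ^ 2 = a ^ 2 from (sq_abs _).symm]
    have hinv : (r : ℝ)⁻¹ ≤ 2⁻¹ := inv_anti₀ (by norm_num) (by nlinarith)
    rcases le_or_gt (δ : ℝ) B with h1 | h1
    · have h3 : (δ : ℝ) ^ 2 ≤ B * ((p : ℝ) - B) := by nlinarith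
      nlinarith [mul_le_mul_of_nonneg_right hinv (sq_nonneg (δ : ℝ)), mul_nonneg (inv_nonneg.mpr hr0.le) (sq_nonneg a)]
    · have h2 : (δ - B : ℝ) ^ 2 ≤ a ^ 2 := pow_le_pow_left₀ (by linarith) (by linarith) 2
      have h3 := mul_le_mul_of_nonneg_left h2 (inv_nonneg.mpr hr0.le)
      have h4 : (r : ℝ)⁻¹ * (2 * δ * B) ≤ δ * B := by
        nlinarith [mul_le_mul_of_nonneg_right hinv (mul_nonneg hδ0 hB0)]
      nlinarith [mul_nonneg (inv_nonneg.mpr hr0.le) (sq_nonneg B),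
        mul_nonneg hB0 (show (0 : ℝ) ≤ p - B - δ by linarith)]
  have hsum : ((r : ℝ) - 1) * ((r : ℝ)⁻¹ * (δ : ℝ) ^ 2) ≤ D + ∑ i ∈ s, (wt p (b i) : ℝ) := by
    have := Finset.sum_le_sum hterm
    rw [Finset.sum_const, nsmul_eq_mul, Finset.sum_add_distrib, ← Finset.mul_sum] at this
    rw [show (r : ℝ) - 1 = s.card by linarith]
    simp only [D, hsr]
    exact this
  set κ : ℝ := ((r : ℝ) - 1) * (r : ℝ)⁻¹ with hκdef
  have hκ1 : κ ≤ 1 := by
    rw [hκdef, ← div_eq_mul_inv, div_le_one hr0]; linarith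
  have hκ0 : 0 ≤ κ := mul_nonneg (by nlinarith) (inv_nonneg.mpr hr0.le)
  have hκe : (e : ℝ) ^ 2 - (e : ℝ) / p ≤ κ * (e : ℝ) ^ 2 := by
    have h1 : (e : ℝ) ^ 2 * (r : ℝ)⁻¹ ≤ (e : ℝ) / p := by
      rw [← div_eq_mul_inv, div_le_div_iff₀ hr0 (by linarith)]
      nlinarith
    have h2 : κ = 1 - (r : ℝ)⁻¹ := by rw [hκdef, sub_mul, mul_inv_cancel₀ hr0.ne', one_mul]
    rw [h2]
    linarith
  -- the coefficient
  set c : ℝ := (1 - N⁻¹) ^ 2 with hcdef
  have hN0 : 0 < N := by nlinarith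
  have hc : 1 - 2 * (e : ℝ) / P ≤ c := by
    have h1 : N⁻¹ ≤ (e : ℝ) / P := by
      rw [inv_eq_one_div, div_le_div_iff₀ hN0 hP0]; linarith
    have h2 : (2 : ℝ) * e / P = 2 * ((e : ℝ) / P) := by ring
    rw [hcdef, h2]
    nlinarith [sq_nonneg N⁻¹]
  have hc0 : 0 ≤ c := sq_nonneg _
  have hce : (e : ℝ) ^ 2 + (e : ℝ) ^ 2 / P < c * ((e : ℝ) ^ 2 + e) := by
    refine lt_of_lt_of_le ?_ (mul_le_mul_of_nonneg_right hc (by positivity))
    rw [← sub_pos]
    have h1 : (1 - 2 * (e : ℝ) / P) * ((e : ℝ) ^ 2 + e) - ((e : ℝ) ^ 2 + (e : ℝ) ^ 2 / P) =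
        ((e : ℝ) * P - 2 * e * ((e : ℝ) ^ 2 + e) - (e : ℝ) ^ 2) / P := by
      field_simp
      ring
    rw [h1]
    exact div_pos (by nlinarith) hP0
  rw [TypeOneBound.wt_eq_dist (p := p) α]
  push_cast
  have hwm : (0 : ℝ) ≤ (wt p m : ℝ) := by exact_mod_cast TypeOneCyclic.wt_nonneg hp0 m
  have hp1 : (0 : ℝ) < p := by linarith
  have hmid : (e : ℝ) ≤ δ + A := by
    have h1 : TypeOneBound.dist p ((α + e) - α) ≤ δ + A := TypeOneBound.dist_sub_le hp0 _ _
    rw [add_sub_cancel_left] at h1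
    have h2 : TypeOneBound.dist p (e : ℕ) = e := by
      unfold TypeOneBound.dist
      rw [Int.emod_eq_of_lt (by omega) (by omega)]
      omega
    rw [h2] at h1
    exact_mod_cast h1
  have hbig : (e : ℝ) ≤ A → (e : ℝ) ^ 2 + e ≤ A * ((p : ℝ) - A) := fun h => by
    nlinarith [mul_nonneg (sub_nonneg.mpr h) (show (0 : ℝ) ≤ p - A - e by linarith)]
  by_cases hmd : (p : ℤ) ∣ m
  · -- `δ = 0`
    have hδ : δ = 0 := by
      rw [show δ = TypeOneBound.dist p m from (TypeOneBound.dist_congr hm).symm,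
        TypeOneBound.dist_congr (show m ≡ 0 [ZMOD p] from Int.modEq_zero_iff_dvd.mpr hmd), dist_zero hp0]
    have hA : (e : ℝ) ≤ A := by
      rw [hδ] at hmid; push_cast at hmid; linarith
    nlinarith [mul_le_mul_of_nonneg_left (hbig hA) hc0, mul_nonneg (mul_nonneg hκ0 hδ0) hδ0,
      mul_nonneg (inv_nonneg.mpr hp1.le) hwm]
  · have hgain : ((p : ℝ) - 1) / p ≤ (p : ℝ)⁻¹ * (wt p m : ℝ) := by
      rw [div_eq_inv_mul]
      refine mul_le_mul_of_nonneg_left ?_ (inv_nonneg.mpr hp1.le)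
      exact_mod_cast TypeOneCyclic.sub_one_le_wt hp0 hmd
    have hsmall : (e : ℝ) / p + (e : ℝ) ^ 2 / P < ((p : ℝ) - 1) / p := by
      have h1 : (e : ℝ) ^ 2 / P ≤ 1 / 4 := by rw [div_le_div_iff₀ hP0 (by norm_num)]; nlinarith
      have h2 : (e : ℝ) / p ≤ ((p : ℝ) - 1) / p / 2 := by
        rw [div_div, div_le_div_iff₀ hp1 (by linarith)]; nlinarith
      have h3 : (1 : ℝ) / 4 < ((p : ℝ) - 1) / p / 2 := by
        rw [div_div, div_lt_div_iff₀ (by norm_num) (by linarith)]; linarith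
      linarith
    suffices hLB : κ * (e : ℝ) ^ 2 ≤ κ * (δ : ℝ) ^ 2 + c * (A * ((p : ℝ) - A)) by
      have h1 : κ * (δ : ℝ) ^ 2 = ((r : ℝ) - 1) * ((r : ℝ)⁻¹ * (δ : ℝ) ^ 2) := by rw [hκdef]; ring
      linarith
    rcases le_or_gt (e : ℝ) A with hA | hA
    · have h1 : (e : ℝ) ^ 2 ≤ c * ((e : ℝ) ^ 2 + e) := by
        have : (0 : ℝ) ≤ (e : ℝ) ^ 2 / P := by positivity
        linarith
      nlinarith [mul_le_mul_of_nonneg_left (hbig hA) hc0, mul_nonneg (mul_nonneg hκ0 hδ0) hδ0,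
        mul_le_mul_of_nonneg_right hκ1 (sq_nonneg (e : ℝ))]
    · have h1 : κ * ((e : ℝ) - A) ^ 2 ≤ κ * (δ : ℝ) ^ 2 :=
        mul_le_mul_of_nonneg_left (pow_le_pow_left₀ (by linarith) (by linarith) 2) hκ0
      have h2 : c * (A * (2 * e + 1 - A)) ≤ c * (A * ((p : ℝ) - A)) :=
        mul_le_mul_of_nonneg_left (mul_le_mul_of_nonneg_left (by linarith) hA0) hc0
      have h3 : 0 ≤ c - (κ - c) * (2 * e - A) := by
        have h5 : κ - c ≤ 2 * (e : ℝ) / P := by linarith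
        have h6 : 2 * (e : ℝ) / P * (2 * e + 1) ≤ 1 := by
          rw [div_mul_eq_mul_div, div_le_one hP0]; nlinarith
        rcases le_or_gt κ c with h7 | h7
        · nlinarith
        · nlinarith [mul_le_mul_of_nonneg_left (show (2 : ℝ) * e - A ≤ 2 * e by linarith) (sub_nonneg.mpr h7.le),
            mul_le_mul_of_nonneg_right h5 (show (0 : ℝ) ≤ 2 * e by linarith)]
      nlinarith [mul_nonneg hA0 h3]

/-- A fixed point free group of operators of `H` acts freely on the non-trivial linear characters. -/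
theorem card_dvd_linear_sub_one {G : Type*} [Group G] [Finite G] {H B : Subgroup G}
    (hB : B ≤ Subgroup.normalizer (H : Set G)) (hfix : ∀ b ∈ B, b ≠ 1 → ∀ u ∈ H, Commute b u → u = 1) :
    Nat.card B ∣ Nat.card (H →* ℂˣ) - 1 := by
  classical
  let X := {l : H →* ℂˣ // l ≠ 1}
  let act : B → (H →* ℂˣ) → (H →* ℂˣ) := fun b l => l.comp (cjHom H (hB (inv_mem b.2)))
  have hact_mul : ∀ (a b : B) l, act (a * b) l = act a (act b l) := fun a b l => MonoidHom.ext fun u => by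
    simp only [act, MonoidHom.comp_apply]
    refine congrArg l (Subtype.ext ?_)
    simp only [cjHom_apply, Subgroup.coe_mul]
    group
  have hact_one : ∀ l, act 1 l = l := fun l => MonoidHom.ext fun u => by
    simp only [act, MonoidHom.comp_apply]
    refine congrArg l (Subtype.ext ?_)
    simp [cjHom_apply]
  letI : SMul B X := ⟨fun b l => ⟨act b l.1, fun e => l.2 (by
    rw [← hact_one l.1, ← inv_mul_cancel b, hact_mul, e]
    rfl)⟩⟩
  letI : MulAction B X :=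
    { one_smul := fun l => Subtype.ext (hact_one l.1)
      mul_smul := fun a b l => Subtype.ext (hact_mul a b l.1) }
  have hfree : ∀ l : X, MulAction.stabilizer B l = ⊥ := fun l => by
    rw [eq_bot_iff]
    intro b hb
    rw [Subgroup.mem_bot]
    by_contra hb1
    refine l.2 (TypeOneTheta.eq_one_of_fixed (hB (inv_mem b.2)) (fun u hu hc => ?_) (congrArg Subtype.val hb))
    exact hfix b b.2 (fun e => hb1 (Subtype.ext e)) u hu (Commute.inv_left_iff.mp hc)
  have h1 := Nat.card_congr (MulAction.selfEquivOrbitsQuotientProd hfree)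
  have h2 : Nat.card X + 1 = Nat.card (H →* ℂˣ) := by
    haveI := Fintype.ofFinite (H →* ℂˣ)
    rw [Nat.card_eq_fintype_card, Nat.card_eq_fintype_card, Fintype.card_subtype_compl, Fintype.card_subtype_eq]
    have := Fintype.card_pos (α := H →* ℂˣ)
    omega
  rw [← h2, Nat.add_sub_cancel, h1, Nat.card_prod]
  exact dvd_mul_left _ _

end CfsgLib.OddOrder.TypeOneGain
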