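import Cfsg.Agent.Lib.OddOrder.TypeOneSetup
import Cfsg.Agent.Lib.OddOrder.FrobeniusCoherence
import Cfsg.Agent.Lib.Char.CoherenceGrow
import Cfsg.Agent.Lib.Char.Clifford
import Mathlib

set_option autoImplicit false
set_option linter.style.haveILetI false
set_option linter.unusedSectionVars false

/-!
Families of characters induced from `L_σ`.
-/

namespace CfsgLib.OddOrder.TypeOneInduced

open CfsgLib.Char
open CfsgLib.Char.Coherence (natDeg natDeg_spec natDeg_pos natDeg_indFun)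
open TypeOneConfig (Cfg)

section

variable {L : Type*} [Group L] [Fintype L] (K : Subgroup L) [K.Normal] [Fintype K]

/-- The induced character. -/
noncomputable def ind (θ : Cfsg.IrrCharacter K) : L → ℂ := Cfsg.indFun K (θ : K → ℂ)

/-- The multiplier of an induced character. -/
noncomputable def mult (φ : L → ℂ) : ℕ := natDeg φ / K.index

theorem mult_ind (θ : Cfsg.IrrCharacter K) : mult K (ind K θ) = natDeg (θ : K → ℂ) := by
  rw [mult, ind, natDeg_indFun K θ.2, Nat.mul_div_cancel_left _ (Nat.pos_of_ne_zero K.index_ne_zero_of_finite)]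

theorem ind_one (θ : Cfsg.IrrCharacter K) : ind K θ 1 = (mult K (ind K θ) : ℂ) * (K.index : ℂ) := by
  rw [mult_ind, ind, indFun_one, natDeg_spec θ.2, mul_comm]

variable (Θ : Finset (Cfsg.IrrCharacter K))
  (hirr : ∀ θ ∈ Θ, Cfsg.IsIrrCharacter L (ind K θ))
  (hst : ∀ θ ∈ Θ, ∀ ψ : Cfsg.IrrCharacter K, ind K ψ = ind K θ → ψ ∈ Θ)

include hirr hst

open scoped Classical in
theorem mult_sq : K.index * ∑ φ ∈ Θ.image (ind K), mult K φ ^ 2 = ∑ θ ∈ Θ, natDeg (θ : K → ℂ) ^ 2 := by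
  have h := Coherence.sum_indFun K Θ hirr hst fun η => mult K η ^ 2
  refine h.symm.trans (Finset.sum_congr rfl fun θ _ => ?_)
  rw [← mult_ind K θ]
  rfl

open scoped Classical in
theorem sum_mult_mul (g : K) :
    ∑ φ ∈ Θ.image (ind K), (mult K φ : ℂ) * φ g = ∑ θ ∈ Θ, (natDeg (θ : K → ℂ) : ℂ) * (θ : K → ℂ) g := by
  have he : (K.index : ℂ) ≠ 0 := Nat.cast_ne_zero.mpr K.index_ne_zero_of_finite
  refine mul_left_cancel₀ he ?_
  have h1 : ∑ θ ∈ Θ, (natDeg (θ : K → ℂ) : ℂ) * ind K θ g =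
      (K.index : ℂ) * ∑ φ ∈ Θ.image (ind K), (mult K φ : ℂ) * φ g := by
    rw [← Finset.sum_fiberwise_of_maps_to (t := Θ.image (ind K)) (g := ind K)
      (fun θ hθ => Finset.mem_image_of_mem _ hθ), Finset.mul_sum]
    refine Finset.sum_congr rfl fun φ hφ => ?_
    obtain ⟨θ₀, hθ₀, rfl⟩ := Finset.mem_image.mp hφ
    have hfil : Θ.filter (fun θ => ind K θ = ind K θ₀) =
        Finset.univ.filter (fun θ : Cfsg.IrrCharacter K => ind K θ = ind K θ₀) := by
      ext θ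
      simp only [Finset.mem_filter, Finset.mem_univ, true_and, and_iff_right_iff_imp]
      exact hst θ₀ hθ₀ θ
    rw [Finset.sum_congr rfl fun (θ : Cfsg.IrrCharacter K) hθ => show (natDeg (θ : K → ℂ) : ℂ) * ind K θ g =
        (mult K (ind K θ₀) : ℂ) * ind K θ₀ g by
      rw [← mult_ind K θ, (Finset.mem_filter.mp hθ).2], Finset.sum_const, hfil, nsmul_eq_mul]
    congr 2
    convert Coherence.card_fibre K (hirr θ₀ hθ₀) using 1
    congr 1
  rw [← h1]
  have hres : ∀ θ : Cfsg.IrrCharacter K, ind K θ g = (Nat.card K : ℂ)⁻¹ * ∑ l : L, conjG (θ : K → ℂ) l g :=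
    fun θ => by
      have := congrFun (indFun_restrict (H := K) (θ : K → ℂ)) g
      simpa [ind] using this
  simp only [hres, Finset.mul_sum]
  rw [Finset.sum_comm]
  have hl : ∀ l : L, ∑ θ ∈ Θ, (natDeg (θ : K → ℂ) : ℂ) * ((Nat.card K : ℂ)⁻¹ * conjG (θ : K → ℂ) l g) =
      (Nat.card K : ℂ)⁻¹ * ∑ θ ∈ Θ, (natDeg (θ : K → ℂ) : ℂ) * (θ : K → ℂ) g := by
    intro l
    rw [Finset.mul_sum]
    let f : Cfsg.IrrCharacter K → Cfsg.IrrCharacter K := fun θ => ⟨conjG (θ : K → ℂ) l, IsIrrCharacter.conjG θ.2 l⟩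
    refine Finset.sum_bij (fun θ _ => f θ) (fun θ hθ => hst θ hθ _ (indFun_conjG _ l)) (fun a _ b _ e => ?_)
      (fun θ hθ => ?_) fun θ hθ => ?_
    · have e' : conjG (a : K → ℂ) l = conjG (b : K → ℂ) l := congrArg Subtype.val e
      have := congrArg (fun t => conjG t l⁻¹) e'
      simp only [conjG_mul, mul_inv_cancel, conjG_one] at this
      exact Subtype.ext this
    · refine ⟨⟨conjG (θ : K → ℂ) l⁻¹, IsIrrCharacter.conjG θ.2 _⟩, hst θ hθ _ (indFun_conjG _ l⁻¹), Subtype.ext ?_⟩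
      show conjG (conjG (θ : K → ℂ) l⁻¹) l = (θ : K → ℂ)
      rw [conjG_mul, inv_mul_cancel, conjG_one]
    · have hd : natDeg (conjG (θ : K → ℂ) l) = natDeg (θ : K → ℂ) :=
        Coherence.natDeg_eq_of_indFun_eq K (φ := f θ) (ψ := θ) (indFun_conjG _ l)
      show _ = (Nat.card K : ℂ)⁻¹ * ((natDeg (conjG (θ : K → ℂ) l) : ℂ) * conjG (θ : K → ℂ) l g)
      rw [hd]; ring
  rw [Finset.sum_congr rfl fun l _ => hl l, Finset.sum_const, Finset.card_univ, nsmul_eq_mul,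
    ← Nat.card_eq_fintype_card, ← K.index_mul_card, Nat.cast_mul, mul_assoc,
    ← mul_assoc (Nat.card K : ℂ), mul_inv_cancel₀ (Nat.cast_ne_zero.mpr Nat.card_pos.ne'), one_mul, Finset.mul_sum]

end

variable {G : Type*} [Group G] [Fintype G] {M L A : Subgroup G} {x : G} {p : ℕ}

/-- `L_σ` in `L`. -/
abbrev core (L : Subgroup G) : Subgroup L := (Cfsg.sigmaCore L).subgroupOf L

instance core_normal (L : Subgroup G) : (core L).Normal := by
  have : core L = Cfsg.piCore (Cfsg.sigma L) L :=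
    Subgroup.comap_map_eq_self_of_injective L.subtype_injective _
  rw [this]
  infer_instance

variable [Fintype L] [Fintype (core L)]

/-- The Dade map of `L` on the induced characters. -/
theorem isometry (hG : Cfsg.IsMinSimpleOddOrder G) (hL : IsCoatom L) {T : Set (L → ℂ)}
    (hirr : ∀ η ∈ T, Cfsg.IsIrrCharacter L η) (hind : ∀ η ∈ T, ∃ θ : Cfsg.IrrCharacter (core L), ind (core L) θ = η) :
    Cfsg.IsLinearIsometryOn (Cfsg.zspanOn T {1}ᶜ)
        (Cfsg.dadeIsometry ((Cfsg.sigmaCore L : Set G) \ {1}) L (Cfsg.supportR L)) ∧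
      ∀ α ∈ Cfsg.zspanOn T {1}ᶜ,
        Cfsg.dadeIsometry ((Cfsg.sigmaCore L : Set G) \ {1}) L (Cfsg.supportR L) α 1 = 0 := by
  have hD := TypeOneSetup.dade_core hG hL
  refine ⟨FrobeniusCoherence.dade_isometryOn hD hirr fun α hα g hg => ?_, fun α _ => FrobeniusCoherence.dade_one hD α⟩
  by_cases h : g ∈ core L
  · refine hα.2 g fun h1 => hg ⟨Subgroup.mem_subgroupOf.mp h, fun e => h1 (Subtype.ext e)⟩
  · exact FrobeniusCoherence.eq_zero_of_notMem (S := T)
      (fun χ hχ => (hind χ hχ).elim fun θ e => ⟨(θ : core L → ℂ), e.symm⟩) hα.1 h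

open scoped Classical in
/-- A family containing enough linear characters is coherent. -/
theorem coherent (hG : Cfsg.IsMinSimpleOddOrder G) (hL : IsCoatom L) (Θ : Finset (Cfsg.IrrCharacter (core L)))
    (hirr : ∀ θ ∈ Θ, Cfsg.IsIrrCharacter L (ind (core L) θ))
    (hst : ∀ θ ∈ Θ, ∀ ψ : Cfsg.IrrCharacter (core L), ind (core L) ψ = ind (core L) θ → ψ ∈ Θ)
    (hlin : (core L).index < (Θ.filter fun θ : Cfsg.IrrCharacter (core L) => natDeg (θ : core L → ℂ) = 1).card)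
    (hlt : ∀ θ ∈ Θ, natDeg (θ : core L → ℂ) ≠ 1 → 2 * (core L).index * natDeg (θ : core L → ℂ) <
      ∑ ψ ∈ Θ.filter (fun ψ : Cfsg.IrrCharacter (core L) => natDeg (ψ : core L → ℂ) = 1 ∨
        natDeg (ψ : core L → ℂ) < natDeg (θ : core L → ℂ)), natDeg (ψ : core L → ℂ) ^ 2) :
    Cfsg.IsCoherent (↑(Θ.image (ind (core L))) : Set (L → ℂ)) {1}ᶜ
      (Cfsg.dadeIsometry ((Cfsg.sigmaCore L : Set G) \ {1}) L (Cfsg.supportR L)) := by
  set τ := Cfsg.dadeIsometry ((Cfsg.sigmaCore L : Set G) \ {1}) L (Cfsg.supportR L)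
  set Θ₀ := Θ.filter fun θ : Cfsg.IrrCharacter (core L) => natDeg (θ : core L → ℂ) = 1
  obtain ⟨hτ, hτ1⟩ := isometry hG hL (T := (↑(Θ.image (ind (core L))) : Set (L → ℂ)))
    (fun η hη => by
      obtain ⟨θ, hθ, rfl⟩ := Finset.mem_image.mp hη
      exact hirr θ hθ)
    fun η hη => by
      obtain ⟨θ, -, e⟩ := Finset.mem_image.mp hη
      exact ⟨θ, e⟩
  have hst₀ : ∀ θ ∈ Θ₀, ∀ ψ : Cfsg.IrrCharacter (core L), ind (core L) ψ = ind (core L) θ → ψ ∈ Θ₀ := by
    intro θ hθ ψ e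
    obtain ⟨h1, h2⟩ := Finset.mem_filter.mp hθ
    exact Finset.mem_filter.mpr ⟨hst θ h1 ψ e, (Coherence.natDeg_eq_of_indFun_eq _ e).trans h2⟩
  obtain ⟨θ₁, hθ₁⟩ : Θ₀.Nonempty := Finset.card_pos.mp (by omega)
  have hsub : (↑(Θ₀.image (ind (core L))) : Set (L → ℂ)) ⊆ ↑(Θ.image (ind (core L))) :=
    Finset.coe_subset.mpr (Finset.image_subset_image (Finset.filter_subset _ _))
  have hcoh₀ : Cfsg.IsCoherent (↑(Θ₀.image (ind (core L))) : Set (L → ℂ)) {1}ᶜ τ := by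
    refine Coherence.isCoherent_of_irr_degree_eq _ (fun χ hχ => ?_) (fun χ hχ φ hφ => ?_) ?_ τ
      (Coherence.isometry_mono hsub hτ) fun α hα => hτ1 α (Coherence.zspanOn_mono hsub hα)
    · obtain ⟨θ, hθ, rfl⟩ := Finset.mem_image.mp hχ
      exact hirr θ (Finset.mem_filter.mp hθ).1
    · obtain ⟨θ, hθ, rfl⟩ := Finset.mem_image.mp hχ
      obtain ⟨ψ, hψ, rfl⟩ := Finset.mem_image.mp hφ
      rw [ind_one, ind_one, mult_ind, mult_ind, (Finset.mem_filter.mp hθ).2, (Finset.mem_filter.mp hψ).2]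
    · have h := Coherence.sum_indFun (core L) Θ₀ (fun θ hθ => hirr θ (Finset.mem_filter.mp hθ).1) hst₀ fun _ => 1
      simp only [Finset.sum_const, smul_eq_mul, mul_one] at h
      by_contra hle
      have : (core L).index * (Θ₀.image (ind (core L))).card ≤ (core L).index * 1 :=
        Nat.mul_le_mul_left _ (by omega)
      have h' : Θ₀.card = (core L).index * (Θ₀.image (ind (core L))).card := h
      omega
  refine Coherence.isCoherent_grow_ind (core L) Θ Θ₀ (Finset.filter_subset _ _) hirr hst hst₀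
    (fun η => by simp only [Finset.mem_coe, Finset.mem_image]; rfl) τ hτ hτ1 (by rwa [Finset.coe_image] at hcoh₀)
    hθ₁ (fun θ _ => by rw [(Finset.mem_filter.mp hθ₁).2]; exact one_dvd _) fun θ hθ hθ₀ => ?_
  rw [(Finset.mem_filter.mp hθ₁).2, mul_one]
  refine (hlt θ hθ fun e => hθ₀ (Finset.mem_filter.mpr ⟨hθ, e⟩)).trans_le (le_of_eq ?_)
  refine Finset.sum_congr (Finset.filter_congr fun ψ hψ => ?_) fun _ _ => rfl
  rw [Finset.mem_filter, and_iff_right hψ]

open scoped Classical in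
/-- The bound for a coherent family of induced characters. -/
theorem contra (hG : Cfsg.IsMinSimpleOddOrder G) (c : Cfg M L A x p)
    (Θ : Finset (Cfsg.IrrCharacter (core L)))
    (hirr : ∀ θ ∈ Θ, Cfsg.IsIrrCharacter L (ind (core L) θ))
    (hst : ∀ θ ∈ Θ, ∀ ψ : Cfsg.IrrCharacter (core L), ind (core L) ψ = ind (core L) θ → ψ ∈ Θ)
    (hcoh : Cfsg.IsCoherent (↑(Θ.image (ind (core L))) : Set (L → ℂ)) {1}ᶜ
      (Cfsg.dadeIsometry ((Cfsg.sigmaCore L : Set G) \ {1}) L (Cfsg.supportR L)))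
    (hlin : ∃ θ ∈ Θ, natDeg (θ : core L → ℂ) = 1)
    (hf : ∀ g : core L, ((g : L) : G) ∈ Subgroup.zpowers x → ((g : L) : G) ≠ 1 →
      ∑ θ ∈ Θ, (natDeg (θ : core L → ℂ) : ℂ) * (θ : core L → ℂ) g = -1)
    {X : ℕ} (hX : ∑ θ ∈ Θ, natDeg (θ : core L → ℂ) ^ 2 = X)
    (hsmall : 2 * (p - 1) * (core L).index ≤ X) :
    (X : ℝ) * ((4 / 5 : ℝ) * (TypeOneBound.dist p ((core L).index : ℕ) : ℝ) ^ 2) ≤
      (core L).index * Nat.card ↥(L ⊓ M) := by
  set e := (core L).index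
  have he : 0 < e := Nat.pos_of_ne_zero Subgroup.index_ne_zero_of_finite
  obtain ⟨θ₁, hθ₁, hd₁⟩ := hlin
  have hsq := mult_sq (core L) Θ hirr hst
  rw [hX] at hsq
  have hb := TypeOneSetup.bound hG c (Θ.image (ind (core L)))
    (fun φ hφ => by
      obtain ⟨θ, hθ, rfl⟩ := Finset.mem_image.mp hφ
      exact hirr θ hθ) hcoh e (mult (core L)) (ind (core L) θ₁) (Finset.mem_image_of_mem _ hθ₁)
    (by rw [mult_ind, hd₁])
    (fun φ hφ => by
      obtain ⟨θ, -, rfl⟩ := Finset.mem_image.mp hφ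
      exact ind_one _ θ)
    (fun k hk => by
      have hmem : (⟨x, c.A_le_L c.mem⟩ : L) ^ k ∈ core L := by
        rw [Subgroup.mem_subgroupOf, SubmonoidClass.coe_pow]
        exact c.pow_mem_S hG k
      rw [show (⟨x, c.A_le_L c.mem⟩ : L) ^ k = ((⟨_, hmem⟩ : core L) : L) from rfl,
        sum_mult_mul (core L) Θ hirr hst, hf _ (Subgroup.npow_mem_zpowers x k) fun h1 => ?_]
      have := Nat.le_of_dvd (Finset.mem_Ico.mp hk).1
        (c.order ▸ orderOf_dvd_of_pow_eq_one (show x ^ k = 1 from h1))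
      have := (Finset.mem_Ico.mp hk).2
      omega)
    (Nat.le_of_mul_le_mul_left (by rw [hsq, mul_comm]; exact hsmall) he)
  have h2 := mul_le_mul_of_nonneg_left hb (Nat.cast_nonneg (α := ℝ) e)
  rw [← mul_assoc, ← Nat.cast_mul, hsq] at h2
  exact h2

end CfsgLib.OddOrder.TypeOneInduced
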