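import Cfsg.Agent.Lib.OddOrder.TypeOneNeighbour
import Cfsg.Agent.Lib.OddOrder.TypeP
import Cfsg.Agent.Lib.Char.CoprimeCoset
import Cfsg.Agent.S1365
import Cfsg.Agent.S1372
import Cfsg.Agent.S1373
import Cfsg.Agent.S1513
import Mathlib

set_option autoImplicit false
set_option linter.style.haveILetI false
set_option linter.unusedSectionVars false

/-!
The configuration of `TypeOneConfig` with `κ(L)` non-empty: `L = L_σ ⋊ K`.
-/

namespace CfsgLib.OddOrder.TypeOneKappa

open CfsgLib.Char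
open TypeOneConfig (Cfg)
open TypeOneInduced (core ind)
open StarPartner (Dstar)

variable {G : Type*} [Group G] {M L A K W : Subgroup G} {x : G} {p : ℕ}

/-- `L = L_σ ⋊ K` with `W = C_{L_σ}(k)` of prime order for the non-identity elements `k` of `K`. -/
structure Kap (L K W : Subgroup G) : Prop where
  K_le : K ≤ L
  ne : K ≠ ⊥
  cyclic : IsCyclic K
  sup : Cfsg.sigmaCore L ⊔ K = L
  coprime : (Nat.card K).Coprime (Nat.card (Cfsg.sigmaCore L))
  W_le : W ≤ Cfsg.sigmaCore L
  fix : ∀ k ∈ K, k ≠ 1 → Cfsg.sigmaCore L ⊓ Subgroup.centralizer ({k} : Set G) = W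
  W_prime : (Nat.card W).Prime
  W_der : W ≤ ⁅Cfsg.sigmaCore L, Cfsg.sigmaCore L⁆

variable [Finite G]

theorem exists_kap (hG : Cfsg.IsMinSimpleOddOrder G) (c : Cfg M L A x p) (hκ : Cfsg.kappa L ≠ ∅) :
    ∃ K : Subgroup G, Cfsg.IsSigmaDecomposition L K ⊥ ∧ K ≠ ⊥ ∧ Kap L K (Dstar L K) := by
  obtain ⟨K, U, h⟩ := FittingStructure.exists_decomp hG c.coatomL
  have hK : K ≠ ⊥ := fun e => hκ (Set.eq_empty_iff_forall_notMem.mpr (SigmaDecomp.kappa_empty h e))
  obtain rfl : U = ⊥ := by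
    by_contra hU
    obtain ⟨-, hTI, hSF⟩ := Cfsg.Agent.S1372.result hG L c.coatomL K U h hK hU
    obtain ⟨g, hg, hgL⟩ := SetLike.not_le_iff_exists.mp c.not_le
    refine c.x_ne_one (hTI g (fun hgN => hgL ?_) x (hSF (c.x_mem_S hG)) ?_)
    · have hne : Cfsg.fittingOf L ≠ ⊥ := fun e => c.x_ne_one (Subgroup.mem_bot.mp (e.le (hSF (c.x_mem_S hG))))
      rwa [(c.coatomL.le_iff.mp Basic.le_normalizer_fittingOf).resolve_left (Uniqueness.normalizer_ne_top hG.2 hne
        (hG.2.2.2 _ fun e => c.coatomL.1 (top_le_iff.mp (e ▸ Basic.fittingOf_le))))] at hgN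
    · rw [Subgroup.mem_centralizer_singleton_iff.mp hg, mul_inv_cancel_right]
      exact hSF (c.x_mem_S hG)
  have hder := TypeP.derived_bot hG c.coatomL h hK rfl
  have hsplit : Cfsg.sigmaCore L ⊔ K = L := by
    refine le_antisymm (sup_le (SigmaTools.sigmaCore_le L) (SigmaDecomp.K_le h)) fun m hm => ?_
    obtain ⟨u, hu, w, hw, rfl⟩ := h.compl.2.2.2 m hm
    rw [Subgroup.mem_bot] at hu
    rw [hu, one_mul, sup_comm]
    exact hw
  refine ⟨K, h, hK, SigmaDecomp.K_le h, hK, h.cyclic, hsplit, SigmaDecomp.coprime_K_core h, inf_le_left,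
    (SigmaDecomp.str hG c.coatomL h hK).fix, Cfsg.Agent.S1373.result hG L c.coatomL K ⊥ h hK rfl, ?_⟩
  have := (Cfsg.Agent.S1365.result hG L c.coatomL K ⊥ h hK).2
  rwa [hder] at this

/-- A prime order element of `L` outside `L_σ` is conjugate into `K`. -/
theorem Kap.exists_conj (hG : Cfsg.IsMinSimpleOddOrder G) (hL : IsCoatom L) (h : Kap L K W) {y : G} (hy : y ∈ L)
    (hyS : y ∉ Cfsg.sigmaCore L) (hyp : (orderOf y).Prime) :
    ∃ s ∈ Cfsg.sigmaCore L, ∃ k ∈ K, k ≠ 1 ∧ s * y * s⁻¹ = k := by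
  haveI := Fact.mk hyp
  set S := Cfsg.sigmaCore L with hS
  have hrS : ¬ orderOf y ∣ Nat.card S := fun hd => hyS (SigmaTools.pGroup_le_sigmaCore hG hL
    (SigmaTools.mem_sigma_of_card hd) (Subgroup.zpowers_le.mpr hy) (IsPGroup.of_card (n := 1)
      (G := ↥(Subgroup.zpowers y)) (by rw [Nat.card_zpowers, pow_one])) (Subgroup.mem_zpowers y))
  have hy' : y ∈ S ⊔ K := by rwa [h.sup]
  rw [← SetLike.mem_coe, Subgroup.coe_mul_of_right_le_normalizer_left S K
    (h.K_le.trans (SigmaTools.le_normalizer_sigmaCore L))] at hy'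
  obtain ⟨a, ha, k, hk, rfl⟩ := Set.mem_mul.mp hy'
  have hk1 : k ≠ 1 := fun e => hyS (by rw [e, mul_one]; exact ha)
  obtain ⟨s, hs, d, hd, hdk, e⟩ := exists_conj_commuting S k
    (SigmaTools.le_normalizer_sigmaCore L (h.K_le hk))
    (h.coprime.coprime_dvd_left (Subgroup.orderOf_dvd_natCard _ hk)) a ha
  refine ⟨s, hs, k, hk, hk1, ?_⟩
  have hdr : orderOf d ∣ orderOf (a * k) := by
    have h1 : (d * k) ^ orderOf (a * k) = 1 := by
      rw [← e, conj_pow, pow_orderOf_eq_one, mul_one, mul_inv_cancel]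
    rw [(show Commute d k from hdk).mul_pow, mul_eq_one_iff_eq_inv] at h1
    refine orderOf_dvd_of_pow_eq_one ?_
    have hdis : d ^ orderOf (a * k) ∈ S ⊓ K := ⟨pow_mem hd _, h1 ▸ K.inv_mem (pow_mem hk _)⟩
    rwa [Subgroup.inf_eq_bot_of_coprime h.coprime.symm, Subgroup.mem_bot] at hdis
  rcases hyp.eq_one_or_self_of_dvd _ hdr with h1 | h1
  · rwa [orderOf_eq_one_iff.mp h1, one_mul] at e
  · exact absurd (h1 ▸ Subgroup.orderOf_dvd_natCard _ hd) hrS

/-- The fixed points in `L_σ` of such an element. -/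
theorem Kap.conj_mem_W (hG : Cfsg.IsMinSimpleOddOrder G) (hL : IsCoatom L) (h : Kap L K W) {y : G} (hy : y ∈ L)
    (hyS : y ∉ Cfsg.sigmaCore L) (hyp : (orderOf y).Prime) :
    ∃ s ∈ Cfsg.sigmaCore L, ∀ w ∈ Cfsg.sigmaCore L, Commute y w → s * w * s⁻¹ ∈ W := by
  obtain ⟨s, hs, k, hk, hk1, e⟩ := h.exists_conj hG hL hy hyS hyp
  refine ⟨s, hs, fun w hw hyw => (h.fix k hk hk1).le ⟨mul_mem (mul_mem hs hw) ((Cfsg.sigmaCore L).inv_mem hs), ?_⟩⟩
  refine Subgroup.mem_centralizer_singleton_iff.mpr ?_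
  rw [← e]
  calc s * w * s⁻¹ * (s * y * s⁻¹) = s * (w * y) * s⁻¹ := by group
    _ = s * (y * w) * s⁻¹ := by rw [hyw.eq]
    _ = s * y * s⁻¹ * (s * w * s⁻¹) := by group

theorem Kap.W_cyclic (h : Kap L K W) : IsCyclic W :=
  haveI := Fact.mk h.W_prime
  isCyclic_of_prime_card (p := Nat.card W) rfl

/-- If `L ∩ M` is not in `L_σ` then `W` has order `p`. -/
theorem Kap.W_eq_p (hG : Cfsg.IsMinSimpleOddOrder G) (c : Cfg M L A x p) (h : Kap L K W) {y : G} (hy : y ∈ L ⊓ M)
    (hyS : y ∉ Cfsg.sigmaCore L) (hyp : (orderOf y).Prime) : Nat.card W = p := by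
  obtain ⟨w, hw, hw1, hyw⟩ := c.exists_fixed_in_A hG hy hyS hyp
  obtain ⟨s, -, hs⟩ := h.conj_mem_W hG c.coatomL hy.1 hyS hyp
  have hm := hs w (c.A_le_S hG hw) hyw
  have ho : orderOf (s * w * s⁻¹) = p := by
    rw [show orderOf (s * w * s⁻¹) = orderOf w from MulEquiv.orderOf_eq (MulAut.conj s) w]
    exact @orderOf_eq_prime _ _ _ _ ⟨c.prime⟩ (c.ea.2 w hw) hw1
  exact ((Nat.prime_dvd_prime_iff_eq c.prime h.W_prime).mp (ho ▸ Subgroup.orderOf_dvd_natCard _ hm)).symm

section inL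

theorem Kap.inf_K (h : Kap L K W) : core L ⊓ K.subgroupOf L = ⊥ := by
  rw [eq_bot_iff]
  intro z hz
  obtain ⟨h1, h2⟩ := hz
  rw [Subgroup.mem_bot]
  refine Subtype.ext (Subgroup.mem_bot.mp ((Subgroup.inf_eq_bot_of_coprime h.coprime.symm).le ⟨?_, ?_⟩))
  · exact Subgroup.mem_subgroupOf.mp h1
  · exact Subgroup.mem_subgroupOf.mp h2

theorem Kap.sup_K (h : Kap L K W) : core L ⊔ K.subgroupOf L = ⊤ := by
  rw [core, ← Subgroup.subgroupOf_sup (SigmaTools.sigmaCore_le L) h.K_le, h.sup, Subgroup.subgroupOf_self]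

theorem Kap.card_K (h : Kap L K W) : Nat.card (K.subgroupOf L) = Nat.card K :=
  Nat.card_congr (Subgroup.subgroupOfEquivOfLe h.K_le).toEquiv

theorem Kap.index_eq (h : Kap L K W) : (core L).index = Nat.card K := by
  have h1 := Coprime.card_sup_of_le_normalizer (N := core L) (H := K.subgroupOf L)
    (by rw [Subgroup.normalizer_eq_top]; exact le_top) (disjoint_iff.mpr h.inf_K)
  rw [h.sup_K, Subgroup.card_top, h.card_K] at h1
  have h2 := (core L).card_mul_index
  rw [h1] at h2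
  exact Nat.eq_of_mul_eq_mul_left Nat.card_pos h2

theorem Kap.index_ne_one (h : Kap L K W) : (core L).index ≠ 1 := by
  rw [h.index_eq]
  exact fun e => h.ne (Subgroup.eq_bot_of_card_eq _ e)

theorem card_core (L : Subgroup G) : Nat.card (core L) = Nat.card (Cfsg.sigmaCore L) :=
  Nat.card_congr (Subgroup.subgroupOfEquivOfLe (SigmaTools.sigmaCore_le L)).toEquiv

theorem Kap.coprime_orderOf (h : Kap L K W) {k : L} (hk : k ∈ K.subgroupOf L) :
    (orderOf k).Coprime (Nat.card (core L)) := by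
  rw [card_core, ← Subgroup.orderOf_coe]
  exact h.coprime.coprime_dvd_left (Subgroup.orderOf_dvd_natCard _ (Subgroup.mem_subgroupOf.mp hk))

theorem Kap.fix_L (h : Kap L K W) {k : L} (hk : k ∈ K.subgroupOf L) (hk1 : k ≠ 1) :
    core L ⊓ Subgroup.centralizer ({k} : Set L) = W.subgroupOf L := by
  have hf := h.fix k (Subgroup.mem_subgroupOf.mp hk) fun e => hk1 (Subtype.ext e)
  ext z
  simp only [Subgroup.mem_inf, core, Subgroup.mem_subgroupOf, ← hf, Subgroup.mem_centralizer_singleton_iff]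
  exact and_congr_right fun _ => Subtype.ext_iff

variable [Fintype L] [Fintype (core L)]

/-- A non-principal character with trivial restriction to `N` is not fixed by an element fixing only points of `N`. -/
theorem eq_one_of_fixed {X : Type*} [Group X] [Fintype X] (C : Subgroup X) [C.Normal] [Fintype C] (N : Subgroup X)
    [N.Normal] {k : X} (hk : (orderOf k).Coprime (Nat.card C))
    (hC : C ⊓ Subgroup.centralizer ({k} : Set X) ≤ N) (hNC : N ≤ C) {θ : C → ℂ} (hθ : Cfsg.IsIrrCharacter C θ)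
    (htriv : Coherence.TrivOn C N θ) (hfix : conjG θ k = θ) : θ = fun _ => 1 := by
  classical
  set N' := N.subgroupOf C
  haveI : N'.Normal := Subgroup.Normal.subgroupOf ‹N.Normal› _
  haveI := Fintype.ofFinite (C ⧸ N')
  let α₀ : C ≃* C := MulAut.conjNormal k
  have hmap : N'.map (α₀ : C ≃* C).toMonoidHom = N' := by
    refine Subgroup.eq_of_le_of_card_ge ?_ (le_of_eq (Subgroup.card_map_of_injective
      (f := (α₀ : C ≃* C).toMonoidHom) α₀.injective).symm)
    rintro _ ⟨n, hn, rfl⟩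
    show ((α₀ n : C) : X) ∈ N
    rw [MulAut.conjNormal_apply]
    exact ‹N.Normal›.conj_mem _ hn k
  let α : (C ⧸ N') ≃* (C ⧸ N') := QuotientGroup.congr N' N' α₀ hmap
  have hα : ∀ a : C, α (a : C ⧸ N') = ((α₀ a : C) : C ⧸ N') := fun a => QuotientGroup.congr_mk N' N' α₀ hmap a
  have hcount : Nat.card {D : ConjClasses (C ⧸ N') // ∀ q, ConjClasses.mk q = D → IsConj (α q) q} = 1 := by
    have key : ∀ q : C ⧸ N', IsConj (α q) q → q = 1 := by
      intro q hq
      obtain ⟨a, rfl⟩ := QuotientGroup.mk_surjective q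
      obtain ⟨m', hm⟩ := isConj_iff.mp hq
      obtain ⟨m, rfl⟩ := QuotientGroup.mk_surjective m'
      rw [hα, ← QuotientGroup.mk_inv, ← QuotientGroup.mk_mul, ← QuotientGroup.mk_mul] at hm
      set π := QuotientGroup.mk' N
      have hcomm : Commute (π ((m : X) * k)) (π (a : X)) := by
        show π ((m : X) * k) * π a = π a * π ((m : X) * k)
        rw [← map_mul, ← map_mul]
        refine (QuotientGroup.eq.mpr ?_).symm
        have h1 : ((m : X) * (k * a * k⁻¹) * (m : X)⁻¹)⁻¹ * a ∈ N := by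
          have := Subgroup.mem_subgroupOf.mp (QuotientGroup.eq.mp hm)
          simpa [α₀, MulAut.conjNormal_apply] using this
        have := ‹N.Normal›.conj_mem _ (inv_mem h1) ((m : X) * k)⁻¹
        rw [show ((a : X) * ((m : X) * k))⁻¹ * ((m : X) * k * a) =
          ((m : X) * k)⁻¹ * (((m : X) * (k * a * k⁻¹) * (m : X)⁻¹)⁻¹ * a)⁻¹ * ((m : X) * k)⁻¹⁻¹ by group]
        exact this
      obtain ⟨z, hz, d, hd, hdk, e⟩ := exists_conj_commuting C k
        (by rw [Subgroup.normalizer_eq_top]; exact Subgroup.mem_top k) hk m m.2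
      set a' : X := z * a * z⁻¹
      have hcomm' : Commute (π (d * k)) (π a') := by
        rw [← e]
        simp only [a', map_mul, map_inv]
        exact ((Commute.conj_iff (π z)).mpr (by rwa [map_mul] at hcomm))
      obtain ⟨s, hs⟩ := Nat.chineseRemainder
        (Nat.Coprime.coprime_dvd_right (Subgroup.orderOf_dvd_natCard C hd) hk) 1 0
      have hpow : (d * k) ^ s = k := by
        rw [(show Commute d k from hdk).mul_pow,
          orderOf_dvd_iff_pow_eq_one.mp (Nat.modEq_zero_iff_dvd.mp hs.2), one_mul]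
        conv_rhs => rw [← pow_one k]
        exact pow_eq_pow_iff_modEq.mpr hs.1
      have hka : Commute (π k) (π a') := by
        have := hcomm'.pow_left s
        rwa [← map_pow, hpow] at this
      -- lift the fixed coset
      have hn : k * a' * k⁻¹ * a'⁻¹ ∈ N := by
        rw [← QuotientGroup.eq_one_iff (N := N), ← QuotientGroup.mk'_apply]
        rw [show QuotientGroup.mk' N = π from rfl, map_mul, map_mul, map_mul, map_inv, map_inv]
        rw [hka.eq, mul_inv_cancel_right, mul_inv_cancel]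
      have ha'C : a' ∈ C := mul_mem (mul_mem hz a.2) (inv_mem hz)
      set n := a' * k * a'⁻¹ * k⁻¹ with hndef
      have hnN : n ∈ N := by
        have := ‹N.Normal›.conj_mem _ (inv_mem hn) 1
        rw [one_mul, inv_one, mul_one] at this
        convert this using 1
        rw [hndef]; group
      obtain ⟨z', hz', d', hd', hdk', e'⟩ := exists_conj_commuting N k
        (by rw [Subgroup.normalizer_eq_top]; exact Subgroup.mem_top k)
        (hk.coprime_dvd_right (Subgroup.card_dvd_of_le hNC)) n hnN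
      have hnk : n * k = a' * k * a'⁻¹ := by rw [hndef]; group
      rw [hnk] at e'
      have hd1 : d' = 1 := by
        have h1 : (d' * k) ^ orderOf k = 1 := by
          rw [← e', conj_pow, conj_pow, pow_orderOf_eq_one]; group
        rw [(show Commute d' k from hdk').mul_pow, pow_orderOf_eq_one, mul_one] at h1
        exact orderOf_eq_one_iff.mp (Nat.eq_one_of_dvd_coprimes hk (orderOf_dvd_of_pow_eq_one h1)
          (Subgroup.orderOf_dvd_natCard C (hNC hd')))
      rw [hd1, one_mul] at e'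
      have hfixz : z' * a' ∈ C ⊓ Subgroup.centralizer ({k} : Set X) := by
        refine ⟨mul_mem (hNC hz') ha'C, Subgroup.mem_centralizer_singleton_iff.mpr ?_⟩
        calc z' * a' * k = (z' * (a' * k * a'⁻¹) * z'⁻¹) * (z' * a') := by group
          _ = k * (z' * a') := by rw [e']
      have ha'N : a' ∈ N := by
        have := mul_mem (inv_mem hz') (hC hfixz)
        rwa [inv_mul_cancel_left] at this
      rw [QuotientGroup.eq_one_iff, Subgroup.mem_subgroupOf]
      have := ‹N.Normal›.conj_mem _ ha'N z⁻¹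
      simpa [a', mul_assoc] using this
    refine Nat.card_eq_one_iff_unique.mpr ⟨⟨fun D₁ D₂ => ?_⟩, ⟨⟨ConjClasses.mk 1, fun q hq => ?_⟩⟩⟩
    · obtain ⟨q₁, hq₁⟩ := ConjClasses.mk_surjective D₁.1
      obtain ⟨q₂, hq₂⟩ := ConjClasses.mk_surjective D₂.1
      refine Subtype.ext ?_
      rw [← hq₁, ← hq₂, key q₁ (D₁.2 q₁ hq₁), key q₂ (D₂.2 q₂ hq₂)]
    · rw [ConjClasses.mk_eq_mk_iff_isConj, isConj_one_left] at hq
      rw [hq, map_one]
  have hirr := card_fixed_irr_eq (G := C ⧸ N') α (fun a b hab => α.toMonoidHom.map_isConj hab)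
    (fun χ hχ => IsIrrCharacter.comp_equiv hχ α)
  rw [hcount] at hirr
  haveI := (Nat.card_eq_one_iff_unique.mp hirr).1
  obtain ⟨ψ, hψ, he⟩ := IsIrrCharacter.exists_deflate hθ N' fun n hn => htriv n (Subgroup.mem_subgroupOf.mp hn)
  have hψfix : ψ ∘ α = ψ := funext fun q => by
    obtain ⟨a, rfl⟩ := QuotientGroup.mk_surjective q
    rw [Function.comp_apply, hα]
    have h1 := congrFun hfix a
    rw [conjG_eq_comp] at h1
    rw [he] at h1
    exact h1
  have h := congrArg Subtype.val (Subsingleton.elim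
    (⟨⟨ψ, hψ⟩, hψfix⟩ : {χ : Cfsg.IrrCharacter (C ⧸ N') // (χ : C ⧸ N' → ℂ) ∘ α = (χ : C ⧸ N' → ℂ)})
    ⟨⟨fun _ => 1, isIrrCharacter_one⟩, rfl⟩)
  rw [he, show ψ = fun _ => 1 from congrArg Subtype.val h]
  rfl

/-- The characters fixed by all of `K`, and the irreducibility of the others. -/
theorem Kap.chars (hodd : Odd (Nat.card L)) (h : Kap L K W) :
    (∀ θ : Cfsg.IrrCharacter (core L),
      ¬ Cfsg.IsIrrCharacter L (ind (core L) θ) → ∀ k ∈ K.subgroupOf L, conjG (θ : core L → ℂ) k = θ) ∧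
    Nat.card {θ : Cfsg.IrrCharacter (core L) // ∀ k ∈ K.subgroupOf L, conjG (θ : core L → ℂ) k = θ} = Nat.card W := by
  haveI := h.cyclic
  haveI := h.W_cyclic
  haveI : IsCyclic (K.subgroupOf L) :=
    isCyclic_of_surjective (Subgroup.subgroupOfEquivOfLe h.K_le).symm (MulEquiv.surjective _)
  have hWL : W ≤ L := h.W_le.trans (SigmaTools.sigmaCore_le L)
  have hWc : Nat.card (W.subgroupOf L) = Nat.card W := Nat.card_congr (Subgroup.subgroupOfEquivOfLe hWL).toEquiv
  haveI : IsCyclic (W.subgroupOf L) :=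
    isCyclic_of_surjective (Subgroup.subgroupOfEquivOfLe hWL).symm (MulEquiv.surjective _)
  have h1 := Cfsg.Agent.S1513.result (core L) (K.subgroupOf L) (W.subgroupOf L) h.inf_K h.sup_K
    (fun e => h.ne (Subgroup.eq_bot_of_card_eq _ (by rw [← h.card_K, e, Subgroup.card_bot]))) inferInstance
    (by
      rw [h.card_K]
      have h2 := (K.subgroupOf L).index_mul_card
      rw [← (core L).index_mul_card, h.index_eq, h.card_K, mul_comm] at h2
      rw [Nat.eq_of_mul_eq_mul_left Nat.card_pos h2, card_core]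
      exact h.coprime)
    (fun e => h.W_prime.ne_one (by rw [← hWc, e, Subgroup.card_bot])) inferInstance
    (fun z hz => Subgroup.mem_subgroupOf.mpr (h.W_le (Subgroup.mem_subgroupOf.mp hz)))
    (fun k hk hk1 => h.fix_L hk hk1) (hodd.of_dvd_nat (Subgroup.card_subgroup_dvd_card _))
  refine ⟨fun θ hθ k hk => ?_, h1.2.1.trans hWc⟩
  by_contra hne
  exact hθ (h1.1 θ θ.2 ⟨k, hk, hne⟩)

end inL

end CfsgLib.OddOrder.TypeOneKappa
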