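import Cfsg.Agent.Lib.OddOrder.TypeOneKappa
import Cfsg.Agent.Lib.OddOrder.FittingTypeV
import Cfsg.Agent.Lib.Solvable.FrattiniFitting
import Mathlib

set_option autoImplicit false
set_option linter.style.haveILetI false
set_option linter.unusedSectionVars false

/-!
The central line of a nilpotent non-abelian `L_σ` in the configuration of `TypeOneConfig`.
-/

namespace CfsgLib.OddOrder.TypeOneLine

open scoped commutatorElement
open CfsgLib.Char
open TypeOneConfig (Cfg)
open TypeOneInduced (core)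
open TypeOneKappa (card_core)
open FittingNonTI (NT line)

variable {G : Type*} [Group G] [Finite G] {M L A : Subgroup G} {x g : G} {p : ℕ}

/-- The facts on the line. -/
theorem line_facts (hG : Cfsg.IsMinSimpleOddOrder G) (c : Cfg M L A x p) (h : NT L M g x p)
    (hab : ¬ IsMulCommutative (Cfsg.sigmaCore L)) :
    Nat.card (line L p) = p ∧ line L p ≤ A ∧ line L p ≤ ⁅Cfsg.sigmaCore L, Cfsg.sigmaCore L⁆ ∧ x ∉ line L p := by
  haveI := Fact.mk c.prime
  have hc := h.line_card hG hab c.prime (c.order ▸ Subgroup.orderOf_dvd_natCard _ (c.x_mem_S hG))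
  have hA : line L p ≤ A := fun z hz => by
    refine c.mem_A hG (TypeOneNeighbour.le_E_of_commute c (FittingNonTI.line_le L p)
      (fun a ha => ?_) hz) hz.2.2
    exact (Subgroup.mem_centralizer_iff.mp ha.2.1 x (c.x_mem_S hG)).symm
  obtain ⟨T, hT, -, hmem⟩ := h.exists_sylow hG
  have hder : line L p ≤ ⁅Cfsg.sigmaCore L, Cfsg.sigmaCore L⁆ := by
    haveI : Group.IsNilpotent (T : Subgroup G) := T.isPGroup'.isNilpotent
    have hne : commutator (T : Subgroup G) ≠ ⊥ := fun e => h.sylow_nonabelian hG hab T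
      ⟨⟨fun a b => commutatorElement_eq_one_iff_mul_comm.mp (Subgroup.mem_bot.mp (e.le
        (Subgroup.commutator_mem_commutator (Subgroup.mem_top a) (Subgroup.mem_top b))))⟩⟩
    have h2 := Solvable.FrattiniFitting.inf_center_ne_bot _ hne
    obtain ⟨z, hz⟩ := exists_prime_orderOf_dvd_card'
      (G := ↥(commutator (T : Subgroup G) ⊓ Subgroup.center (T : Subgroup G))) p
      ((T.isPGroup'.to_subgroup _).card_eq_or_dvd.resolve_left fun e => h2 (Subgroup.eq_bot_of_card_eq _ e))
    set w : G := ((z : (T : Subgroup G)) : G) with hw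
    have hwo : orderOf w = p := by rw [hw, Subgroup.orderOf_coe, Subgroup.orderOf_coe, hz]
    have hwl : w ∈ line L p := ⟨hT (z : (T : Subgroup G)).2,
      FittingTypeV.central h hT hmem (z : (T : Subgroup G)).2 fun a ha =>
        congrArg Subtype.val (Subgroup.mem_center_iff.mp z.2.2 ⟨a, ha⟩), hwo ▸ pow_orderOf_eq_one w⟩
    have hwd : w ∈ ⁅Cfsg.sigmaCore L, Cfsg.sigmaCore L⁆ := by
      refine Subgroup.commutator_mono hT hT ?_
      rw [← Subgroup.map_subtype_commutator]
      exact ⟨_, z.2.1, rfl⟩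
    rw [← Subgroup.eq_of_le_of_card_ge (Subgroup.zpowers_le.mpr hwl) (by rw [Nat.card_zpowers, hwo, hc])]
    exact Subgroup.zpowers_le.mpr hwd
  exact ⟨hc, hA, hder, fun hx => c.not_mem_derived hG (hder hx)⟩

theorem map_core (L : Subgroup G) : (core L).map L.subtype = Cfsg.sigmaCore L :=
  Subgroup.map_subgroupOf_eq_of_le (SigmaTools.sigmaCore_le L)

theorem comm_core (L : Subgroup G) :
    (⁅Cfsg.sigmaCore L, Cfsg.sigmaCore L⁆).subgroupOf L = ⁅core L, core L⁆ := by
  have h := Subgroup.map_commutator (core L) (core L) L.subtype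
  rw [map_core] at h
  rw [← h]
  exact Subgroup.comap_map_eq_self_of_injective L.subtype_injective _

theorem line_normal_L (L : Subgroup G) (r : ℕ) : ((line L r).subgroupOf L).Normal :=
  (Subgroup.normal_subgroupOf_iff_le_normalizer ((FittingNonTI.line_le L r).trans (SigmaTools.sigmaCore_le L))).mpr
    (FittingNonTI.line_normal L r)

theorem line_le_center (L : Subgroup G) (r : ℕ) :
    ((line L r).subgroupOf L).subgroupOf (core L) ≤ Subgroup.center (core L) := fun z hz => by
  refine Subgroup.mem_center_iff.mpr fun a => Subtype.ext (Subtype.ext ?_)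
  exact Subgroup.mem_centralizer_iff.mp (Subgroup.mem_subgroupOf.mp (Subgroup.mem_subgroupOf.mp hz)).2.1 _
    (Subgroup.mem_subgroupOf.mp a.2)

/-- The order of `L_σ` over the line. -/
theorem index_line {L : Subgroup G} {p : ℕ} (hc : Nat.card (line L p) = p) :
    (((line L p).subgroupOf L).subgroupOf (core L)).index * p = Nat.card (Cfsg.sigmaCore L) := by
  have hle : (line L p).subgroupOf L ≤ core L := fun z hz =>
    Subgroup.mem_subgroupOf.mpr (FittingNonTI.line_le L p (Subgroup.mem_subgroupOf.mp hz))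
  have h1 : Nat.card (((line L p).subgroupOf L).subgroupOf (core L)) = p := by
    rw [Nat.card_congr (Subgroup.subgroupOfEquivOfLe hle).toEquiv, Nat.card_congr (Subgroup.subgroupOfEquivOfLe
      ((FittingNonTI.line_le L p).trans (SigmaTools.sigmaCore_le L))).toEquiv, hc]
  rw [← card_core, ← (((line L p).subgroupOf L).subgroupOf (core L)).index_mul_card, h1]

/-- `L_σ ∩ M` has index a non-trivial power of `p` in `L_σ`. -/
theorem exists_inter_index (hG : Cfsg.IsMinSimpleOddOrder G) (c : Cfg M L A x p)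
    (hn : Group.IsNilpotent (Cfsg.sigmaCore L)) (hab : ¬ IsMulCommutative (Cfsg.sigmaCore L)) :
    ∃ j, 1 ≤ j ∧ Nat.card (Cfsg.sigmaCore L) = p ^ j * Nat.card ↥(Cfsg.sigmaCore L ⊓ M) := by
  haveI := Fact.mk c.prime
  haveI := Fintype.ofFinite (core L)
  have hnc : Group.IsNilpotent (core L) :=
    haveI := hn
    Group.nilpotent_of_mulEquiv (Subgroup.subgroupOfEquivOfLe (SigmaTools.sigmaCore_le L)).symm
  obtain ⟨U, -, -, hUc, m, hm⟩ := TypeOneNeighbour.exists_central hG c hnc
  set E' := (M.subgroupOf L).subgroupOf (core L) with hE'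
  have hUE : U.subgroupOf (core L) ≤ E' := fun u hu => by
    refine Subgroup.mem_subgroupOf.mpr (Subgroup.mem_subgroupOf.mpr (c.cent ?_))
    have := Subgroup.mem_center_iff.mp (hUc hu) ⟨⟨x, c.A_le_L c.mem⟩, Subgroup.mem_subgroupOf.mpr (c.x_mem_S hG)⟩
    exact Subgroup.mem_centralizer_singleton_iff.mpr (congrArg (fun z : core L => ((z : L) : G)) this).symm
  obtain ⟨j, -, hj⟩ := (Nat.dvd_prime_pow c.prime).mp (hm ▸ Subgroup.index_dvd_of_le hUE)
  have hcard : Nat.card E' = Nat.card ↥(Cfsg.sigmaCore L ⊓ M) := by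
    refine Nat.card_congr
      { toFun := fun z => ⟨((z : core L) : L), Subgroup.mem_subgroupOf.mp (z : core L).2,
          Subgroup.mem_subgroupOf.mp (Subgroup.mem_subgroupOf.mp z.2)⟩
        invFun := fun z => ⟨⟨⟨z, SigmaTools.sigmaCore_le L z.2.1⟩, Subgroup.mem_subgroupOf.mpr z.2.1⟩,
          Subgroup.mem_subgroupOf.mpr (Subgroup.mem_subgroupOf.mpr z.2.2)⟩
        left_inv := fun z => rfl
        right_inv := fun z => rfl }
  have h0 := E'.index_mul_card
  rw [card_core, hcard, hj] at h0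
  refine ⟨j, Nat.one_le_iff_ne_zero.mpr fun e => hab ?_, h0.symm⟩
  rw [e, pow_zero, one_mul] at h0
  have hSM := Subgroup.eq_of_le_of_card_ge (inf_le_left : Cfsg.sigmaCore L ⊓ M ≤ _) h0.ge
  exact TypeOneNeighbour.abelian_E hG c (le_inf (SigmaTools.sigmaCore_le L) (hSM.ge.trans inf_le_right)) hn

/-- `|L ∩ M|` over `|L_σ ∩ M|` divides the index of `L_σ`. -/
theorem exists_e1 (L M : Subgroup G) :
    ∃ e₁, e₁ ∣ (core L).index ∧ Nat.card ↥(L ⊓ M) = e₁ * Nat.card ↥(Cfsg.sigmaCore L ⊓ M) := by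
  set E := M.subgroupOf L
  refine ⟨(core L).relIndex E, Subgroup.relIndex_dvd_index_of_normal _ _, ?_⟩
  have hE : Nat.card E = Nat.card ↥(L ⊓ M) := by
    rw [show E = (L ⊓ M).subgroupOf L from (Subgroup.inf_subgroupOf_left M L).symm]
    exact Nat.card_congr (Subgroup.subgroupOfEquivOfLe inf_le_left).toEquiv
  have hS : Nat.card ((core L).subgroupOf E) = Nat.card ↥(Cfsg.sigmaCore L ⊓ M) :=
    Nat.card_congr
      { toFun := fun z => ⟨((z : E) : L), Subgroup.mem_subgroupOf.mp (Subgroup.mem_subgroupOf.mp z.2),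
          Subgroup.mem_subgroupOf.mp (z : E).2⟩
        invFun := fun z => ⟨⟨⟨z, SigmaTools.sigmaCore_le L z.2.1⟩, Subgroup.mem_subgroupOf.mpr z.2.2⟩,
          Subgroup.mem_subgroupOf.mpr (Subgroup.mem_subgroupOf.mpr z.2.1)⟩
        left_inv := fun z => rfl
        right_inv := fun z => rfl }
  rw [← hE, ← hS, Subgroup.relIndex, Subgroup.index_mul_card]

theorem dist_eq {p e : ℕ} (hp : 0 < p) (h : 2 * e ≤ p) : TypeOneBound.dist p (e : ℕ) = e := by
  unfold TypeOneBound.dist
  rw [Int.emod_eq_of_lt (by omega) (by omega)]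
  omega

end CfsgLib.OddOrder.TypeOneLine
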