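import Cfsg.Agent.Lib.OddOrder.TypeOneLineNe
import Cfsg.Agent.Lib.OddOrder.TypeOneGain
import Cfsg.Agent.Lib.OddOrder.TypeOneFrobenius
import Cfsg.Agent.S1419
import Cfsg.Agent.S1423
import Mathlib

set_option autoImplicit false
set_option linter.style.haveILetI false
set_option linter.unusedSectionVars false

/-!
The configuration of `TypeOneConfig` with a nilpotent `L_σ` and `K` centralising the central line.
-/

namespace CfsgLib.OddOrder.TypeOneLineEq

open scoped commutatorElement Classical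
open CfsgLib.Char
open CfsgLib.Char.Coherence (natDeg natDeg_spec natDeg_pos TrivOn)
open TypeOneConfig (Cfg)
open TypeOneInduced (core ind mult)
open TypeOneKappa (Kap card_core)
open TypeOneAbove (above mem_above trivOn_iff)
open TypeOneCyclic (wt)
open FittingNonTI (NT line)

variable {G : Type*} [Group G] [Fintype G] {M L A K W : Subgroup G} {x g : G} {p : ℕ}

/-- `L_σ` modulo the line is abelian when the Sylow subgroup has order `p ^ 3`. -/
theorem derived_le_line (hG : Cfsg.IsMinSimpleOddOrder G) (c : Cfg M L A x p) (h : NT L M g x p)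
    (hab : ¬ IsMulCommutative (Cfsg.sigmaCore L)) {T : Sylow p G} (hT : (T : Subgroup G) ≤ Cfsg.sigmaCore L)
    (hTc : Nat.card (T : Subgroup G) = p ^ 3) :
    ⁅Cfsg.sigmaCore L, Cfsg.sigmaCore L⁆ ≤ line L p := by
  haveI := Fact.mk c.prime
  haveI := Fintype.ofFinite (core L)
  haveI hn := h.nilpotent
  have hnc : Group.IsNilpotent (core L) :=
    Group.nilpotent_of_mulEquiv (Subgroup.subgroupOfEquivOfLe (SigmaTools.sigmaCore_le L)).symm
  obtain ⟨U, hUn, hUp, hUc, m, hm⟩ := TypeOneNeighbour.exists_central hG c hnc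
  haveI : (U.subgroupOf (core L)).Normal := Subgroup.Normal.subgroupOf hUn _
  obtain ⟨hc, hA, hder, -⟩ := TypeOneLine.line_facts hG c h hab
  -- the members of `S` of order prime to `p` are central
  have hcent : ∀ a ∈ Cfsg.sigmaCore L, ¬ p ∣ orderOf a → ∀ b ∈ Cfsg.sigmaCore L, Commute a b := by
    intro a ha hpa b hb
    set a' : core L := ⟨⟨a, SigmaTools.sigmaCore_le L ha⟩, Subgroup.mem_subgroupOf.mpr ha⟩
    have haU : a' ∈ U.subgroupOf (core L) := by
      refine SigmaCore.le_of_coprime_index (N := U.subgroupOf (core L)) (K := Subgroup.zpowers a') ?_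
        (Subgroup.mem_zpowers a')
      rw [Nat.card_zpowers, hm, ← Subgroup.orderOf_coe a', ← Subgroup.orderOf_coe (a' : L)]
      exact ((c.prime.coprime_iff_not_dvd.mpr hpa).symm).pow_right m
    have := Subgroup.mem_center_iff.mp (hUc haU) ⟨⟨b, SigmaTools.sigmaCore_le L hb⟩, Subgroup.mem_subgroupOf.mpr hb⟩
    exact (congrArg (fun z : core L => ((z : L) : G)) this).symm
  obtain ⟨T', hT', -, hmem⟩ := h.exists_sylow hG
  have hT'c : Nat.card (T' : Subgroup G) = p ^ 3 := by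
    rw [← hTc]; exact Nat.card_congr (Sylow.equiv T' T).toEquiv
  have hlT : line L p ≤ (T' : Subgroup G) := hder.trans (FittingTypeV.derived_le hG h hab hT' hmem)
  have hTcomm : ∀ a ∈ (T' : Subgroup G), ∀ b ∈ (T' : Subgroup G), ⁅a, b⁆ ∈ line L p := by
    intro a ha b hb
    set Z' := (line L p).subgroupOf (T' : Subgroup G)
    haveI : Z'.Normal := (Subgroup.normal_subgroupOf_iff_le_normalizer hlT).mpr
      (hT'.trans ((SigmaTools.sigmaCore_le L).trans (FittingNonTI.line_normal L p)))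
    have hq : Nat.card ((T' : Subgroup G) ⧸ Z') = p ^ 2 := by
      have h1 := Subgroup.card_eq_card_quotient_mul_card_subgroup Z'
      rw [hT'c, Nat.card_congr (Subgroup.subgroupOfEquivOfLe hlT).toEquiv, hc] at h1
      refine Nat.eq_of_mul_eq_mul_right c.prime.pos ?_
      rw [← h1]; ring
    have h2 : ((⁅(⟨a, ha⟩ : (T' : Subgroup G)), ⟨b, hb⟩⁆ : (T' : Subgroup G)) : (T' : Subgroup G) ⧸ Z') = 1 := by
      rw [← QuotientGroup.mk'_apply, map_commutatorElement]
      exact commutatorElement_eq_one_iff_mul_comm.mpr (IsPGroup.commutative_of_card_eq_prime_sq hq _ _)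
    have h3 := Subgroup.mem_subgroupOf.mp ((QuotientGroup.eq_one_iff _).mp h2)
    rwa [← Subgroup.coe_subtype, map_commutatorElement] at h3
  refine Subgroup.commutator_le.mpr fun a ha b hb => ?_
  obtain ⟨a₁, a₂, ha₁, ha₂, rfl, -, ha₁p, ha₂p⟩ := SigmaCover.exists_parts ({p} : Set ℕ) a
  obtain ⟨b₁, b₂, hb₁, hb₂, rfl, -, hb₁p, hb₂p⟩ := SigmaCover.exists_parts ({p} : Set ℕ) b
  have ha₁L := (Cfsg.sigmaCore L).zpowers_le.mpr ha ha₁
  have ha₂L := (Cfsg.sigmaCore L).zpowers_le.mpr ha ha₂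
  have hb₁L := (Cfsg.sigmaCore L).zpowers_le.mpr hb hb₁
  have hb₂L := (Cfsg.sigmaCore L).zpowers_le.mpr hb hb₂
  have hnd : ∀ u : G, (∀ t : ℕ, t.Prime → t ∣ orderOf u → t ∉ ({p} : Set ℕ)) → ¬ p ∣ orderOf u :=
    fun u hu hd => hu p c.prime hd rfl
  have c1 : Commute a₂ (b₁ * b₂) := hcent a₂ ha₂L (hnd _ ha₂p) _ hb
  have c2 : Commute b₂ a₁ := hcent b₂ hb₂L (hnd _ hb₂p) _ ha₁L
  have e : ⁅a₁ * a₂, b₁ * b₂⁆ = ⁅a₁, b₁⁆ := by
    simp only [commutatorElement_def]
    calc a₁ * a₂ * (b₁ * b₂) * (a₁ * a₂)⁻¹ * (b₁ * b₂)⁻¹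
        = a₁ * (a₂ * (b₁ * b₂)) * a₂⁻¹ * a₁⁻¹ * (b₁ * b₂)⁻¹ := by group
      _ = a₁ * b₁ * (b₂ * a₁⁻¹) * b₂⁻¹ * b₁⁻¹ := by rw [c1.eq]; group
      _ = a₁ * b₁ * (a₁⁻¹ * b₂) * b₂⁻¹ * b₁⁻¹ := by rw [c2.inv_right.eq]
      _ = _ := by group
  rw [e]
  exact hTcomm a₁ (hmem a₁ ha₁L fun t ht hd => ha₁p t ht hd) b₁ (hmem b₁ hb₁L fun t ht hd => hb₁p t ht hd)

/-- An element of prime order outside `L_σ` fixing the line has order dividing `p - 1`. -/
theorem dvd_of_fix_line (hG : Cfsg.IsMinSimpleOddOrder G) (c : Cfg M L A x p) (hk : Kap L K W)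
    (hc : Nat.card (line L p) = p) (hA : line L p ≤ A) (hW : W = line L p) (hxZ : x ∉ line L p) {y : G}
    (hy : y ∈ L ⊓ M) (hyS : y ∉ Cfsg.sigmaCore L) (hyp : (orderOf y).Prime) :
    orderOf y ∣ p - 1 := by
  haveI := Fact.mk c.prime
  haveI := Fact.mk hyp
  haveI := c.ea.1
  obtain ⟨s, hs, hfix⟩ := hk.conj_mem_W hG c.coatomL hy.1 hyS hyp
  have hCy : ∀ w ∈ Cfsg.sigmaCore L, Commute y w → w ∈ line L p := fun w hw hyw => by
    have h1 := hfix w hw hyw
    rw [hW] at h1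
    exact (Subgroup.mem_normalizer_iff.mp (FittingNonTI.line_normal L p (SigmaTools.sigmaCore_le L hs)) w).mpr h1
  -- `A` is the product of `⟨x⟩` and the line
  have hAdec : ∀ a ∈ A, ∃ i : ℕ, ∃ z ∈ line L p, a = x ^ i * z := by
    have hle : Subgroup.zpowers x ⊔ line L p ≤ A := sup_le (Subgroup.zpowers_le.mpr c.mem) hA
    have heq : Subgroup.zpowers x ⊔ line L p = A := by
      refine Subgroup.eq_of_le_of_card_ge hle ?_
      obtain ⟨j, -, hj⟩ := (Nat.dvd_prime_pow c.prime).mp (c.card ▸ Subgroup.card_dvd_of_le hle)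
      rw [c.card, hj]
      refine Nat.pow_le_pow_right c.prime.pos ?_
      by_contra hj2
      have h1 : Nat.card ↥(Subgroup.zpowers x ⊔ line L p) ≤ Nat.card (line L p) := by
        rw [hj, hc]; calc p ^ j ≤ p ^ 1 := Nat.pow_le_pow_right c.prime.pos (by omega)
          _ = p := pow_one p
      have := Subgroup.eq_of_le_of_card_ge (le_sup_right : line L p ≤ _) h1
      exact hxZ (this.ge (Subgroup.mem_sup_left (Subgroup.mem_zpowers x)))
    intro a ha
    rw [← heq, ← SetLike.mem_coe, Subgroup.coe_mul_of_left_le_normalizer_right _ _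
      (Subgroup.zpowers_le.mpr (FittingNonTI.line_normal L p (c.A_le_L c.mem)))] at ha
    obtain ⟨u, hu, z, hz, rfl⟩ := Set.mem_mul.mp ha
    obtain ⟨i, hi⟩ := (mem_powers_iff_mem_zpowers.mpr hu : u ∈ Submonoid.powers x)
    exact ⟨i, z, hz, by rw [show x ^ i = u from hi]⟩
  have hyz : ∀ z ∈ line L p, Commute y z := by
    obtain ⟨w, hw, hw1, hyw⟩ := c.exists_fixed_in_A hG hy hyS hyp
    have hwl := hCy w (c.A_le_S hG hw) hyw
    have hzw : Subgroup.zpowers w = line L p := Subgroup.eq_of_le_of_card_ge (Subgroup.zpowers_le.mpr hwl)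
      (by rw [Nat.card_zpowers, orderOf_eq_prime (c.ea.2 w hw) hw1, hc])
    intro z hz
    rw [← hzw] at hz
    obtain ⟨i, rfl⟩ := Subgroup.mem_zpowers_iff.mp hz
    exact hyw.zpow_right i
  obtain ⟨i, z₀, hz₀, hxi⟩ := hAdec (y * x * y⁻¹)
    ((Subgroup.mem_normalizer_iff.mp (c.le_normalizer_A hG hy) x).mp c.mem)
  have hpow : ∀ n : ℕ, ∃ z ∈ line L p, y ^ n * x * (y ^ n)⁻¹ = x ^ (i ^ n) * z := by
    intro n
    induction n with
    | zero => exact ⟨1, one_mem _, by simp⟩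
    | succ n ih =>
      obtain ⟨z, hz, ez⟩ := ih
      refine ⟨z₀ ^ (i ^ n) * z, mul_mem (pow_mem hz₀ _) hz, ?_⟩
      have hxz : Commute (x ^ i) z₀ := Commute.pow_left
        (congrArg Subtype.val (c.ea.1.is_comm.comm (⟨x, c.mem⟩ : A) ⟨z₀, hA hz₀⟩)) i
      calc y ^ (n + 1) * x * (y ^ (n + 1))⁻¹ = y * (y ^ n * x * (y ^ n)⁻¹) * y⁻¹ := by rw [pow_succ']; group
        _ = (y * x * y⁻¹) ^ (i ^ n) * (y * z * y⁻¹) := by rw [ez, conj_pow]; group
        _ = (x ^ i * z₀) ^ (i ^ n) * z := by rw [hxi, (hyz z hz).eq, mul_inv_cancel_right]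
        _ = _ := by rw [hxz.mul_pow, ← pow_mul, ← pow_succ', mul_assoc]
  have hxdis : ∀ j : ℕ, x ^ j ∈ line L p → p ∣ j := fun j hj => by
    by_contra hpj
    refine hxZ ?_
    obtain ⟨u, hu⟩ := exists_pow_eq_self_of_coprime (x := x) (n := j)
      (by rw [c.order]; exact (c.prime.coprime_iff_not_dvd.mpr hpj).symm)
    rw [← hu]
    exact pow_mem hj u
  obtain ⟨z, hz, ez⟩ := hpow (orderOf y)
  rw [pow_orderOf_eq_one, one_mul, inv_one, mul_one] at ez
  have hi : ((i : ZMod p)) ^ orderOf y = 1 := by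
    rw [← Nat.cast_pow, ← Nat.cast_one, ZMod.natCast_eq_natCast_iff, ← c.order, ← pow_eq_pow_iff_modEq, pow_one]
    have h1 : (x ^ i ^ orderOf y)⁻¹ * x = z := by
      conv_lhs => arg 2; rw [ez]
      group
    have h2 : x ^ (p * i ^ orderOf y) = 1 := by rw [pow_mul, ← c.order, pow_orderOf_eq_one, one_pow]
    have h3 : x ^ ((p - 1) * i ^ orderOf y + 1) = z := by
      rw [← h1, pow_succ]
      congr 1
      refine eq_inv_of_mul_eq_one_left ?_
      rw [← pow_add, ← Nat.succ_mul, Nat.succ_eq_add_one, Nat.sub_add_cancel c.prime.pos, h2]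
    have h4 := hxdis _ (h3 ▸ hz)
    have h5 : z = 1 := by
      rw [← h3]
      exact orderOf_dvd_iff_pow_eq_one.mp (c.order ▸ h4)
    rw [h5, mul_one] at ez
    exact ez.symm
  have hi1 : (i : ZMod p) ≠ 1 := by
    intro e
    rw [← Nat.cast_one, ZMod.natCast_eq_natCast_iff, ← c.order, ← pow_eq_pow_iff_modEq, pow_one] at e
    rw [e] at hxi
    have h1 : ∀ n : ℕ, y ^ n * x * (y ^ n)⁻¹ = x * z₀ ^ n := by
      intro n
      induction n with
      | zero => simp
      | succ n ih =>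
        calc y ^ (n + 1) * x * (y ^ (n + 1))⁻¹ = y * (y ^ n * x * (y ^ n)⁻¹) * y⁻¹ := by rw [pow_succ']; group
          _ = (y * x * y⁻¹) * (y * z₀ ^ n * y⁻¹) := by rw [ih]; group
          _ = x * z₀ * z₀ ^ n := by rw [hxi, ((hyz z₀ hz₀).pow_right n).eq, mul_inv_cancel_right]
          _ = _ := by rw [pow_succ', mul_assoc]
    have h2 := h1 (orderOf y)
    rw [pow_orderOf_eq_one, one_mul, inv_one, mul_one, left_eq_mul] at h2
    have hz01 : z₀ = 1 := by
      by_contra hne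
      have hzo : orderOf z₀ = p := orderOf_eq_prime hz₀.2.2 hne
      have := (Nat.prime_dvd_prime_iff_eq c.prime hyp).mp (hzo ▸ orderOf_dvd_of_pow_eq_one h2)
      refine (c.fpf_out hG hy hyS hyp).1 ?_
      rw [← this]; exact c.sigmaL
    rw [hz01, mul_one, mul_inv_eq_iff_eq_mul] at hxi
    exact hxZ (hCy x (c.x_mem_S hG) hxi)
  have := orderOf_eq_prime hi hi1
  rw [← this]
  exact ZMod.orderOf_dvd_card_sub_one fun e0 => by
    rw [e0, zero_pow hyp.ne_zero] at hi
    exact zero_ne_one hi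

/-- An element of `L ∩ M` mapping onto a generator of `L / L_σ`. -/
theorem exists_compl (hG : Cfsg.IsMinSimpleOddOrder G) (c : Cfg M L A x p) (hk : Kap L K W)
    (he : (core L).index * Nat.card ↥(Cfsg.sigmaCore L ⊓ M) = Nat.card ↥(L ⊓ M)) :
    ∃ b ∈ L ⊓ M, orderOf b = (core L).index ∧ ∀ i : ℕ, b ^ i ≠ 1 → b ^ i ∉ Cfsg.sigmaCore L := by
  have hK := hk.cyclic
  obtain ⟨k₀, hk₀⟩ := hK.exists_generator
  have hko : orderOf (k₀ : G) = (core L).index := by
    rw [Subgroup.orderOf_coe, orderOf_eq_card_of_forall_mem_zpowers hk₀, hk.index_eq]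
  set E := M.subgroupOf L
  have hsup : E ⊔ core L = ⊤ := by
    rw [← Subgroup.index_eq_one]
    have h1 := Subgroup.relIndex_mul_index (le_sup_right : core L ≤ E ⊔ core L)
    obtain ⟨e₁, -, h2⟩ := TypeOneLine.exists_e1 L M
    have hEc : Nat.card E = Nat.card ↥(L ⊓ M) := by
      rw [show E = (L ⊓ M).subgroupOf L from (Subgroup.inf_subgroupOf_left M L).symm]
      exact Nat.card_congr (Subgroup.subgroupOfEquivOfLe inf_le_left).toEquiv
    have h3 : (core L).relIndex E = (core L).index := by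
      have h4 : Nat.card ((core L).subgroupOf E) = Nat.card ↥(Cfsg.sigmaCore L ⊓ M) :=
        Nat.card_congr
          { toFun := fun z => ⟨((z : E) : L), Subgroup.mem_subgroupOf.mp (Subgroup.mem_subgroupOf.mp z.2),
              Subgroup.mem_subgroupOf.mp (z : E).2⟩
            invFun := fun z => ⟨⟨⟨z, SigmaTools.sigmaCore_le L z.2.1⟩, Subgroup.mem_subgroupOf.mpr z.2.2⟩,
              Subgroup.mem_subgroupOf.mpr (Subgroup.mem_subgroupOf.mpr z.2.1)⟩
            left_inv := fun z => rfl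
            right_inv := fun z => rfl }
      refine Nat.eq_of_mul_eq_mul_right (Nat.card_pos (α := ↥(Cfsg.sigmaCore L ⊓ M))) ?_
      rw [he, ← hEc, ← h4, Subgroup.relIndex, Subgroup.index_mul_card]
    rw [Subgroup.relIndex_sup_right, h3] at h1
    exact (mul_eq_left₀ Subgroup.index_ne_zero_of_finite).mp h1
  have hmem : (⟨(k₀ : G), hk.K_le k₀.2⟩ : L) ∈ E ⊔ core L := hsup ▸ Subgroup.mem_top _
  obtain ⟨b, hb, a, ha, hba⟩ := Subgroup.mem_sup_of_normal_right.mp hmem
  rw [Subgroup.mem_subgroupOf] at ha hb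
  have hba' : (b : G) * (a : G) = k₀ := congrArg Subtype.val hba
  have hkN := SigmaTools.le_normalizer_sigmaCore L (hk.K_le k₀.2)
  -- `b = a' k₀`
  have ha' : (k₀ : G) * (a : G)⁻¹ * (k₀ : G)⁻¹ ∈ Cfsg.sigmaCore L :=
    (Subgroup.mem_normalizer_iff.mp hkN _).mp (inv_mem ha)
  have hb' : (b : G) = (k₀ : G) * (a : G)⁻¹ * (k₀ : G)⁻¹ * k₀ := by
    rw [inv_mul_cancel_right, ← hba', mul_inv_cancel_right]
  obtain ⟨s, hs, d, hd, hdk, e⟩ := exists_conj_commuting (Cfsg.sigmaCore L) (k₀ : G) hkN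
    (hk.coprime.coprime_dvd_left (Subgroup.orderOf_dvd_natCard _ k₀.2)) _ ha'
  rw [← hb'] at e
  obtain ⟨t, ht⟩ := Nat.chineseRemainder
    (Nat.Coprime.coprime_dvd_right (Subgroup.orderOf_dvd_natCard (Cfsg.sigmaCore L) hd)
      (hk.coprime.coprime_dvd_left (Subgroup.orderOf_dvd_natCard _ k₀.2))) 1 0
  have hpow : (d * (k₀ : G)) ^ t = k₀ := by
    rw [(show Commute d (k₀ : G) from hdk).mul_pow,
      orderOf_dvd_iff_pow_eq_one.mp (Nat.modEq_zero_iff_dvd.mp ht.2), one_mul]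
    conv_rhs => rw [← pow_one (k₀ : G)]
    exact pow_eq_pow_iff_modEq.mpr ht.1
  rw [← e, conj_pow] at hpow
  have hbt : (b : G) ^ t = s⁻¹ * k₀ * s := by rw [← hpow]; group
  refine ⟨(b : G) ^ t, pow_mem (show (b : G) ∈ L ⊓ M from ⟨b.2, hb⟩) t, ?_, fun i hi hiS => ?_⟩
  · rw [← hko]
    exact (MulEquiv.orderOf_eq (MulAut.conj s) _).symm.trans (by rw [MulAut.conj_apply, hpow])
  · have h1 : s * ((b : G) ^ t) ^ i * s⁻¹ = (k₀ : G) ^ i := by rw [← conj_pow, hpow]
    have h2 : (k₀ : G) ^ i ∈ Cfsg.sigmaCore L ⊓ K :=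
      ⟨h1 ▸ mul_mem (mul_mem hs hiS) ((Cfsg.sigmaCore L).inv_mem hs), pow_mem k₀.2 i⟩
    rw [Subgroup.inf_eq_bot_of_coprime hk.coprime.symm, Subgroup.mem_bot] at h2
    refine hi ?_
    rw [h2] at h1
    exact conj_eq_one_iff.mp h1

variable [Fintype L] [Fintype (core L)]

/-- **No configuration with `W` the line.** -/
theorem main (hG : Cfsg.IsMinSimpleOddOrder G) (c : Cfg M L A x p) (hn : Group.IsNilpotent (Cfsg.sigmaCore L))
    (hk : Kap L K W) (h : NT L M g x p) (hab : ¬ IsMulCommutative (Cfsg.sigmaCore L)) (hW : W = line L p)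
    (hcase : Nat.card K ∣ p - 1 ∨ Nat.card K ∣ p + 1 ∧
      ∃ T : Sylow p G, (T : Subgroup G) ≤ Cfsg.sigmaCore L ∧ Nat.card (T : Subgroup G) = p ^ 3) :
    False := by
  haveI := Fact.mk c.prime
  have hnc : Group.IsNilpotent (core L) :=
    haveI := hn
    Group.nilpotent_of_mulEquiv (Subgroup.subgroupOfEquivOfLe (SigmaTools.sigmaCore_le L)).symm
  obtain ⟨hc, hA, hder, hxZ⟩ := TypeOneLine.line_facts hG c h hab
  have hoddL : Odd (Nat.card L) := hG.1.of_dvd_nat (Subgroup.card_subgroup_dvd_card _)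
  have hodd := TypeOneNeighbour.core_odd (L := L) hG
  have he1 := hk.index_ne_one
  rw [← hk.index_eq] at hcase
  set e := (core L).index with he
  have he3 : 3 ≤ e := by rcases hodd with ⟨i, hi⟩; omega
  have hep := TypeOneFrobenius.two_mul_le c.prime (c.odd hG) hodd (hcase.imp_right fun h => h.1)
  -- the line in `L`
  set Z : Subgroup L := (line L p).subgroupOf L with hZdef
  haveI : Z.Normal := TypeOneLine.line_normal_L L p
  set Z' := Z.subgroupOf (core L) with hZ'def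
  obtain ⟨k₀, hk₀, hk₀1⟩ := (Subgroup.bot_or_exists_ne_one (K.subgroupOf L)).resolve_left fun eK =>
    hk.ne (Subgroup.eq_bot_of_card_eq _ (by rw [← hk.card_K, eK, Subgroup.card_bot]))
  obtain ⟨hfixall, -⟩ := hk.chars hoddL
  have hZle : Z ≤ core L := fun z hz =>
    Subgroup.mem_subgroupOf.mpr (FittingNonTI.line_le L p (Subgroup.mem_subgroupOf.mp hz))
  have hirr : ∀ θ ∈ above L Z, Cfsg.IsIrrCharacter L (ind (core L) θ) := fun θ hθ => by
    by_contra hni
    obtain ⟨h1, h2⟩ := mem_above.mp hθ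
    refine (DegreeTools.ne_oneChar_iff θ).mp h1 (TypeOneKappa.eq_one_of_fixed (core L) Z
      (hk.coprime_orderOf hk₀) ((hk.fix_L hk₀ hk₀1).le.trans ?_) hZle θ.2 h2 (hfixall θ hni k₀ hk₀))
    rw [hW]
  have hn' := TypeOneLine.index_line hc
  -- `|L_σ : Z| ≥ p ^ 2`
  have hbig : p ^ 2 ≤ Z'.index := by
    obtain ⟨T, hT, -, -⟩ := h.exists_sylow hG
    obtain ⟨i, hi⟩ := T.isPGroup'.exists_card_eq
    have hi3 : 3 ≤ i := by
      by_contra hi3
      refine h.sylow_nonabelian hG hab T ?_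
      interval_cases i
      · haveI : Subsingleton (T : Subgroup G) := (Nat.card_eq_one_iff_unique.mp (by rw [hi, pow_zero])).1
        exact ⟨⟨fun a b => Subsingleton.elim _ _⟩⟩
      · haveI := isCyclic_of_prime_card (α := (T : Subgroup G)) (p := p) (by rw [hi, pow_one])
        exact ⟨⟨fun a b => (IsCyclic.commGroup (α := (T : Subgroup G))).mul_comm a b⟩⟩
      · exact ⟨⟨IsPGroup.commutative_of_card_eq_prime_sq hi⟩⟩
    have h1 : p ^ 3 ∣ Nat.card (Cfsg.sigmaCore L) :=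
      (Nat.pow_dvd_pow p hi3).trans (hi ▸ Subgroup.card_dvd_of_le hT)
    refine Nat.le_of_mul_le_mul_right ?_ c.prime.pos
    rw [hn', ← pow_succ]
    exact Nat.le_of_dvd Nat.card_pos h1
  have hZlt : Z < core L := lt_of_le_of_ne hZle fun eZ => by
    have : Z'.index = 1 := by rw [Subgroup.index_eq_one, hZ'def, Subgroup.subgroupOf_eq_top]; exact eZ.ge
    have := Nat.one_lt_pow two_ne_zero c.prime.one_lt
    omega
  have hxL : (⟨x, c.A_le_L c.mem⟩ : L) ∉ Z := fun h1 => hxZ (Subgroup.mem_subgroupOf.mp h1)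
  obtain ⟨U, hUn, -, hUc, m, hm⟩ := TypeOneNeighbour.exists_central hG c hnc
  haveI := hUn
  have hcent : Z' ⊔ U.subgroupOf (core L) ≤ Subgroup.center (core L) :=
    sup_le (TypeOneLine.line_le_center L p) hUc
  obtain ⟨m', -, hm'⟩ := (Nat.dvd_prime_pow c.prime).mp
    (hm ▸ Subgroup.index_dvd_of_le (le_sup_right : U.subgroupOf (core L) ≤ Z' ⊔ _))
  obtain ⟨j, hj1, hj⟩ := TypeOneLine.exists_inter_index hG c hn hab
  obtain ⟨e₁, he₁, hE⟩ := TypeOneLine.exists_e1 L M
  by_cases hd : e ∣ p - 1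
  swap
  · -- `e ∣ p + 1`
    obtain ⟨hd2, T, hT, hTc⟩ := hcase.resolve_left hd
    have hES : L ⊓ M ≤ Cfsg.sigmaCore L := TypeOneNeighbour.inter_le hG c fun y hy hyS hyp => by
      have hr1 := dvd_of_fix_line hG c hk hc hA hW hxZ hy hyS hyp
      obtain ⟨s, -, k, hkK, -, hk'⟩ := hk.exists_conj hG c.coatomL hy.1 hyS hyp
      have hre : orderOf y ∣ e := by
        rw [← (show orderOf k = orderOf y by rw [← hk']; exact MulEquiv.orderOf_eq (MulAut.conj s) y),
          he, hk.index_eq]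
        exact Subgroup.orderOf_dvd_natCard _ hkK
      have hr2 := Nat.dvd_sub (hre.trans hd2) hr1
      rw [show p + 1 - (p - 1) = 2 by have := c.prime.two_le; omega] at hr2
      have := hodd.of_dvd_nat hre
      rw [(Nat.prime_dvd_prime_iff_eq hyp Nat.prime_two).mp hr2] at this
      exact absurd this (by decide)
    have hlin : ∀ θ ∈ above L Z, natDeg (θ : core L → ℂ) = 1 := fun θ hθ => by
      refine (Feit.trivOn_commutator_iff _ θ.2).mp fun a ha => (mem_above.mp hθ).2 a ?_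
      rw [← TypeOneLine.comm_core] at ha
      exact Subgroup.mem_subgroupOf.mpr (derived_le_line hG c h hab hT hTc (Subgroup.mem_subgroupOf.mp ha))
    have hb := TypeOneAbove.bound hG c Z U hZlt hxL hcent hm' hirr (Or.inr hlin) hep hbig
    refine TypeOneNeighbour.no_small c.prime hodd he1 hep hbig ?_ hb
    refine Nat.le_of_mul_le_mul_right ?_ c.prime.pos
    rw [hn', hj, mul_comm]
    refine Nat.mul_le_mul (Nat.le_self_pow (by omega) p) (Subgroup.card_le_of_le ?_)
    exact le_inf hES inf_le_right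
  have h2e : 2 * e + 1 ≤ p := by
    rcases c.odd hG with ⟨i, hi⟩
    have hp2 := c.prime.two_le
    have : 2 * e ≤ p - 1 := Nat.le_of_dvd (by omega)
      ((Nat.Coprime.mul_dvd_of_dvd_of_dvd (Nat.coprime_two_left.mpr hodd)) ⟨i, by omega⟩ hd)
    omega
  have hb := TypeOneAbove.bound hG c Z U hZlt hxL hcent hm' hirr (Or.inl h2e) hep hbig
  rw [TypeOneLine.dist_eq c.prime.pos (by omega)] at hb
  set n := Z'.index with hndef
  have hp7 : 7 ≤ p := by omega
  have hn2 : 49 ≤ n := le_trans (by nlinarith) hbig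
  have hnr : (49 : ℝ) ≤ n := by exact_mod_cast hn2
  have hSM : p ^ j * Nat.card ↥(Cfsg.sigmaCore L ⊓ M) = n * p := by rw [hn', hj]
  by_cases hgen : e₁ = e ∧ j = 1
  swap
  · have hEle : 3 * Nat.card ↥(L ⊓ M) ≤ e * n := by
      rcases eq_or_ne e₁ e with h1 | h1
      · have h2 : 2 ≤ j := by have : j ≠ 1 := fun h2 => hgen ⟨h1, h2⟩; omega
        have h3 : p ^ 2 * Nat.card ↥(Cfsg.sigmaCore L ⊓ M) ≤ n * p :=
          hSM ▸ Nat.mul_le_mul_right _ (Nat.pow_le_pow_right c.prime.pos h2)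
        rw [hE, h1]
        have h4 : p * (p * Nat.card ↥(Cfsg.sigmaCore L ⊓ M)) ≤ p * n := by linarith [sq p]
        have h5 := Nat.le_of_mul_le_mul_left h4 c.prime.pos
        have h6 : 3 * Nat.card ↥(Cfsg.sigmaCore L ⊓ M) ≤ n := le_trans (Nat.mul_le_mul_right _ (by omega)) h5
        calc 3 * (e * Nat.card ↥(Cfsg.sigmaCore L ⊓ M)) = e * (3 * Nat.card ↥(Cfsg.sigmaCore L ⊓ M)) := by ring
          _ ≤ e * n := Nat.mul_le_mul_left _ h6
      · have h2 : 3 * e₁ ≤ e := by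
          obtain ⟨u, hu⟩ := he₁
          rw [show e = e₁ * u from hu] at h1 hodd ⊢
          have hu2 : Odd u := (Nat.odd_mul.mp hodd).2
          rcases hu2 with ⟨v, rfl⟩
          rcases Nat.eq_zero_or_pos v with rfl | hv
          · exact absurd (by ring) h1
          · rw [mul_comm]; exact Nat.mul_le_mul_left _ (by omega)
        have h3 : p * Nat.card ↥(Cfsg.sigmaCore L ⊓ M) ≤ p * n := by
          rw [mul_comm p n, ← hSM]
          exact Nat.mul_le_mul_right _ (Nat.le_self_pow (by omega) p)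
        rw [hE, ← mul_assoc]
        exact Nat.mul_le_mul h2 (Nat.le_of_mul_le_mul_left h3 c.prime.pos)
    have hEr : 3 * (Nat.card ↥(L ⊓ M) : ℝ) ≤ e * (n : ℝ) := by exact_mod_cast hEle
    have he0 : (0 : ℝ) < (e : ℝ) ^ 2 := pow_pos (Nat.cast_pos.mpr (by omega)) 2
    push_cast at hb
    nlinarith [mul_le_mul_of_nonneg_left hEr (Nat.cast_nonneg (α := ℝ) e), mul_le_mul_of_nonneg_left hnr he0.le]
  -- the gain
  obtain ⟨rfl, rfl⟩ := hgen
  rw [pow_one] at hSM hj
  have hSMn : Nat.card ↥(Cfsg.sigmaCore L ⊓ M) = n :=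
    Nat.eq_of_mul_eq_mul_left c.prime.pos (by rw [hSM, mul_comm])
  obtain ⟨b, hb', hbo, hbS⟩ := exists_compl hG c hk hE.symm
  set H := Cfsg.sigmaCore M with hHdef
  have hMn := SigmaTools.le_normalizer_sigmaCore M
  obtain ⟨-, ⟨hA₀c, -⟩, hother⟩ := Cfsg.Agent.S1419.result hG M c.coatomM (L ⊓ M) c.ovr.compl p c.tau2
    (h.sylow_nonabelian hG hab) A ⟨c.A_le_E, c.ea, c.card⟩
  set A₀ := A ⊓ Subgroup.centralizer (H : Set G) with hA₀
  have hxA₀ : Subgroup.zpowers x = A₀ := by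
    by_contra hne
    obtain ⟨h1, -⟩ := hother (Subgroup.zpowers x) (Subgroup.zpowers_le.mpr (c.A_le_E c.mem))
      (by rw [Nat.card_zpowers, c.order]) hne
    rw [SigmaTools.centralizer_zpowers] at h1
    exact c.proper (h1.le.trans bot_le)
  have hHx : H ≤ H ⊓ Subgroup.centralizer ({x} : Set G) := le_inf le_rfl fun u hu =>
    Subgroup.mem_centralizer_singleton_iff.mpr
      (Subgroup.mem_centralizer_iff.mp (hxA₀.le (Subgroup.mem_zpowers x)).2 u hu)
  obtain ⟨z₀, hz₀, hz₀1⟩ := (Subgroup.bot_or_exists_ne_one (line L p)).resolve_left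
    (fun eZ => c.prime.ne_one (by rw [← hc, eZ, Subgroup.card_bot]))
  have hz₀o : orderOf z₀ = p := orderOf_eq_prime hz₀.2.2 hz₀1
  have hz₀Z : Subgroup.zpowers z₀ = line L p :=
    Subgroup.eq_of_le_of_card_ge (Subgroup.zpowers_le.mpr hz₀) (by rw [Nat.card_zpowers, hz₀o, hc])
  have hZfix : ∀ u ∈ H, Commute z₀ u → u = 1 := by
    have hne : Subgroup.zpowers z₀ ≠ A₀ := fun e0 => hxZ (by
      rw [← hz₀Z, e0, ← hxA₀]; exact Subgroup.mem_zpowers x)
    obtain ⟨h1, -⟩ := hother (Subgroup.zpowers z₀) (Subgroup.zpowers_le.mpr (c.A_le_E (hA hz₀)))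
      (by rw [Nat.card_zpowers, hz₀o]) hne
    rw [SigmaTools.centralizer_zpowers] at h1
    exact fun u hu hcu => Subgroup.mem_bot.mp (h1.le ⟨hu, Subgroup.mem_centralizer_singleton_iff.mpr hcu.eq.symm⟩)
  have hBfix : ∀ v ∈ Subgroup.zpowers b, v ≠ 1 → ∀ u ∈ H, Commute v u → u = 1 := by
    intro v hv hv1 u hu hvu
    obtain ⟨t, ht, htd⟩ := Nat.exists_prime_and_dvd (mt orderOf_eq_one_iff.mp hv1)
    have ho : orderOf (v ^ (orderOf v / t)) = t := orderOf_pow_orderOf_div (orderOf_pos v).ne' htd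
    obtain ⟨i, hi⟩ := (mem_powers_iff_mem_zpowers.mpr (pow_mem hv (orderOf v / t)) :
      v ^ (orderOf v / t) ∈ Submonoid.powers b)
    have hi1 : b ^ i ≠ 1 := fun e0 => ht.ne_one (by rw [← ho, ← (show b ^ i = _ from hi), e0, orderOf_one])
    have hfp := (c.fpf_out hG (pow_mem hb' i) (hbS i hi1)
      (by rw [show b ^ i = v ^ (orderOf v / t) from hi, ho]; exact ht)).2.2
    exact Subgroup.mem_bot.mp (hfp.le ⟨hu, Subgroup.mem_centralizer_singleton_iff.mpr
      ((show b ^ i = v ^ (orderOf v / t) from hi) ▸ (hvu.pow_left _).eq.symm)⟩)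
  have hde := TypeOneGain.card_dvd_linear_sub_one (H := H) (B := Subgroup.zpowers b)
    ((Subgroup.zpowers_le.mpr hb'.2).trans hMn) hBfix
  have hdp := TypeOneGain.card_dvd_linear_sub_one (H := H) (B := Subgroup.zpowers z₀)
    ((Subgroup.zpowers_le.mpr (c.le (hA hz₀))).trans hMn) fun v hv hv1 u hu hvu => by
      obtain ⟨i, hi⟩ := (mem_powers_iff_mem_zpowers.mpr hv : v ∈ Submonoid.powers z₀)
      obtain ⟨i', hi'⟩ := exists_pow_eq_self_of_coprime (x := z₀) (n := i) (by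
        rw [hz₀o]
        refine (c.prime.coprime_iff_not_dvd.mpr fun hd0 => hv1 ?_).symm
        rw [← (show z₀ ^ i = v from hi)]
        exact orderOf_dvd_iff_pow_eq_one.mp (hz₀o ▸ hd0))
      exact hZfix u hu (hi' ▸ ((show z₀ ^ i = v from hi) ▸ hvu).pow_left i')
  rw [Nat.card_zpowers, hbo] at hde
  rw [Nat.card_zpowers, hz₀o] at hdp
  obtain ⟨s, hsx, hsinj, hsne, hscard, hs2⟩ := TypeOneSetup.exists_family hG c
  have hres : Nat.card (TypeOneTheta.res (inf_le_left : H ⊓ Subgroup.centralizer ({x} : Set G) ≤ H)).range =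
      Nat.card (H →* ℂˣ) := by
    refine (Nat.card_congr (MonoidHom.ofInjective fun l₁ l₂ he12 => MonoidHom.ext fun u => ?_).toEquiv).symm
    exact DFunLike.congr_fun he12 (⟨u, hHx u.2⟩ : ↥(H ⊓ Subgroup.centralizer ({x} : Set G)))
  have hpe : Nat.Coprime (core L).index p := (c.prime.coprime_iff_not_dvd.mpr fun hd0 => by
    have := Nat.le_of_dvd (by omega) hd0; omega).symm
  have hepr : (core L).index * p + 1 ≤ s.card + 1 := by
    rw [hscard, hres]
    have h1 := Nat.Coprime.mul_dvd_of_dvd_of_dvd hpe hde hdp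
    have h2 : 2 * p + 1 ≤ Nat.card (H →* ℂˣ) := hres ▸ hscard ▸ hs2
    have := Nat.le_of_dvd (by omega) h1
    omega
  -- the family and the inequality
  set Θ := above L Z
  set e := (core L).index
  have hsol : Group.IsSolvable (core L) :=
    haveI := hG.2.2.2 L c.coatomL.1
    inferInstance
  have hlinc := TypeOneAbove.index_lt_linear Z hZlt hsol hoddL hirr
  obtain ⟨θ₁, hθ₁⟩ := Finset.card_pos.mp (lt_of_le_of_lt (Nat.zero_le _) hlinc)
  obtain ⟨hθ₁Θ, hd₁⟩ := Finset.mem_filter.mp hθ₁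
  have hst := TypeOneAbove.stable (L := L) Z
  set Zset : Finset L := (Finset.Ico 1 p).image fun k : ℕ => (⟨z₀, c.A_le_L (hA hz₀)⟩ : L) ^ k
  have hzk : ∀ k ∈ Finset.Ico 1 p, z₀ ^ k ≠ 1 := fun k hk' h1 => by
    have := Nat.le_of_dvd (Finset.mem_Ico.mp hk').1 (hz₀o ▸ orderOf_dvd_of_pow_eq_one h1)
    have := (Finset.mem_Ico.mp hk').2
    omega
  have hzset : ∀ z ∈ Zset, (z : G) ∈ line L p ∧ (z : G) ≠ 1 := fun z hz => by
    obtain ⟨k, hk', rfl⟩ := Finset.mem_image.mp hz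
    rw [SubmonoidClass.coe_pow]
    exact ⟨pow_mem hz₀ k, hzk k hk'⟩
  have hgenr : ∀ (B : Subgroup G) [Fintype B] (ψ : G → ℂ), Cfsg.IsGeneralizedCharacter G ψ →
      Cfsg.IsGeneralizedCharacter B fun u => ψ u := by
    rintro B _ ψ ⟨χ, χ', h1, h2, rfl⟩
    exact ⟨_, _, IsCharacter.restrict h1 B, IsCharacter.restrict h2 B, rfl⟩
  obtain ⟨α, mm, d, bb, hcong, hmm, hineq⟩ := TypeOneSetup.ineq hG c s hsx hsinj hsne
    (Θ.image (ind (core L)))
    (fun φ hφ => by
      obtain ⟨θ, hθ, rfl⟩ := Finset.mem_image.mp hφ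
      exact hirr θ hθ)
    (TypeOneAbove.coherence hG c.coatomL Z U hZlt hcent c.prime hm' hirr (Or.inl h2e))
    e (mult (core L)) (ind (core L) θ₁) (Finset.mem_image_of_mem _ hθ₁Θ)
    (by rw [TypeOneInduced.mult_ind, hd₁])
    (fun φ hφ => by
      obtain ⟨θ, -, rfl⟩ := Finset.mem_image.mp hφ
      exact TypeOneInduced.ind_one _ θ)
    (fun k hk' => by
      have hmem : (⟨x, c.A_le_L c.mem⟩ : L) ^ k ∈ core L := by
        rw [Subgroup.mem_subgroupOf, SubmonoidClass.coe_pow]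
        exact c.pow_mem_S hG k
      rw [show (⟨x, c.A_le_L c.mem⟩ : L) ^ k = ((⟨_, hmem⟩ : core L) : L) from rfl,
        TypeOneInduced.sum_mult_mul (core L) Θ hirr hst]
      refine TypeOneAbove.sum_mul Z fun h1 => hxL ?_
      obtain ⟨u, hu⟩ := exists_pow_eq_self_of_coprime (x := (⟨x, c.A_le_L c.mem⟩ : L)) (n := k) (by
        rw [← Subgroup.orderOf_coe, c.order]
        refine (c.prime.coprime_iff_not_dvd.mpr fun hd0 => ?_).symm
        have := Nat.le_of_dvd (Finset.mem_Ico.mp hk').1 hd0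
        have := (Finset.mem_Ico.mp hk').2
        omega)
      rw [← hu]
      exact pow_mem h1 u)
    Zset
    (fun z hz => ⟨FittingNonTI.line_le L p (hzset z hz).1, (hzset z hz).2⟩)
    (fun z hz k hk' l hl hlz => by
      refine hxZ ?_
      have h1 : x ^ k ∈ line L p :=
        (Subgroup.mem_normalizer_iff.mp (FittingNonTI.line_normal L p hl) _).mpr (hlz ▸ (hzset z hz).1)
      obtain ⟨u, hu⟩ := exists_pow_eq_self_of_coprime (x := x) (n := k) (by
        rw [c.order]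
        refine (c.prime.coprime_iff_not_dvd.mpr fun hd0 => ?_).symm
        have := Nat.le_of_dvd (Finset.mem_Ico.mp hk').1 hd0
        have := (Finset.mem_Ico.mp hk').2
        omega)
      rw [← hu]
      exact pow_mem h1 u)
    (fun z hz => by
      obtain ⟨⟨hle, -⟩, -⟩ := Cfsg.Agent.S1423.result hG L c.coatomL p c.sigmaL (line L p)
        ((FittingNonTI.line_le L p).trans (SigmaTools.sigmaCore_le L)) hc default (Or.inr hder)
      unfold Cfsg.supportR
      rw [dif_neg]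
      rintro ⟨hnle, -⟩
      refine hnle ((?_ : Subgroup.centralizer ({(z : G)} : Set G) ≤ Subgroup.centralizer (line L p : Set G)).trans hle)
      intro a ha
      have hzp : Subgroup.zpowers (z : G) = line L p :=
        Subgroup.eq_of_le_of_card_ge (Subgroup.zpowers_le.mpr (hzset z hz).1)
          (by rw [Nat.card_zpowers, orderOf_eq_prime (hzset z hz).1.2.2 (hzset z hz).2, hc])
      rw [← hzp, SigmaTools.centralizer_zpowers]
      exact ha)
    (fun z hz φ hφ => by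
      obtain ⟨θ, hθ, rfl⟩ := Finset.mem_image.mp hφ
      have hzc : z ∈ core L := hZle (Subgroup.mem_subgroupOf.mpr (hzset z hz).1)
      have h1 : ∀ y : core L, ind (core L) θ (y : L) =
          (Nat.card (core L) : ℂ)⁻¹ * ∑ l : L, conjG (θ : core L → ℂ) l y := fun y => by
        have := congrFun (indFun_restrict (H := core L) (θ : core L → ℂ)) y
        simpa [ind] using this
      rw [show z = ((⟨z, hzc⟩ : core L) : L) from rfl, show (1 : L) = ((1 : core L) : L) from rfl, h1, h1]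
      refine congrArg _ (Finset.sum_congr rfl fun l _ => ?_)
      exact Coherence.trivOn_conjG (mem_above.mp hθ).2 l ⟨z, hzc⟩ (Subgroup.mem_subgroupOf.mpr (hzset z hz).1))
    (fun v => (wt p v : ℝ))
    (fun ψ hψ v hv => by
      haveI := Fintype.ofFinite (Subgroup.zpowers z₀)
      refine (TypeOneCyclic.mass_pow c.prime hz₀o (hgenr (Subgroup.zpowers z₀) ψ hψ) hv).trans (le_of_eq ?_)
      rw [Finset.sum_image]
      · rfl
      · intro a ha a' ha' heq
        exact pow_injOn_Iio_orderOf (by rw [Set.mem_Iio, hz₀o]; exact (Finset.mem_Ico.mp (Finset.mem_coe.mp ha)).2)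
          (by rw [Set.mem_Iio, hz₀o]; exact (Finset.mem_Ico.mp (Finset.mem_coe.mp ha')).2)
          (congrArg (fun t : L => (t : G)) heq |> fun e0 => by simpa using e0))
  -- the numbers
  set N := ∑ φ ∈ Θ.image (ind (core L)), mult (core L) φ ^ 2
  have hNe : e * N + 1 = n := by
    rw [TypeOneInduced.mult_sq (core L) Θ hirr hst, TypeOneAbove.sum_sq]
  have hgain := TypeOneGain.gain c.prime he3 h2e hepr (N := (N : ℝ)) (by
    have h1 : ((p ^ 2 : ℕ) : ℝ) ≤ (n : ℝ) := Nat.cast_le.mpr hbig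
    rw [← hNe] at h1
    push_cast at h1
    linarith) s rfl α mm d bb hcong hmm
  have hEn : Nat.card ↥(L ⊓ M) = e * n := by rw [hE, hSMn]
  have hratio : (Nat.card ↥(L ⊓ M) : ℝ) / (Nat.card L : ℝ) = (p : ℝ)⁻¹ := by
    rw [← (core L).index_mul_card, card_core, ← hn', hEn, show (core L).index = e from rfl]
    push_cast
    have : (n : ℝ) ≠ 0 := by positivity
    have : (e : ℝ) ≠ 0 := Nat.cast_ne_zero.mpr (by omega)
    have : (p : ℝ) ≠ 0 := Nat.cast_ne_zero.mpr c.prime.ne_zero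
    field_simp
  rw [hratio, hEn, Nat.cast_mul] at hineq
  have hn1 : (n : ℝ) = e * N + 1 := by exact_mod_cast hNe.symm
  have he0 : (0 : ℝ) < e := Nat.cast_pos.mpr (by omega)
  have hP : (p : ℝ) ^ 2 - 1 ≤ (n : ℝ) - 1 := by
    have h1 : ((p ^ 2 : ℕ) : ℝ) ≤ (n : ℝ) := Nat.cast_le.mpr hbig
    push_cast at h1
    linarith
  have hP0 : (0 : ℝ) < (p : ℝ) ^ 2 - 1 := by
    have : (7 : ℝ) ≤ p := by exact_mod_cast hp7
    nlinarith
  have h5 := mul_lt_mul_of_pos_left hgain (show (0 : ℝ) < (n : ℝ) - 1 by linarith)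
  have h6 := mul_le_mul_of_nonneg_left hineq he0.le
  have h7 : (e : ℝ) ^ 2 ≤ ((n : ℝ) - 1) * ((e : ℝ) ^ 2 / ((p : ℝ) ^ 2 - 1)) := by
    rw [mul_div_assoc', le_div_iff₀ hP0, mul_comm ((n : ℝ) - 1)]
    exact mul_le_mul_of_nonneg_left hP (sq_nonneg _)
  rw [hn1] at h5 h7 h6
  nlinarith

end CfsgLib.OddOrder.TypeOneLineEq
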