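import Cfsg.Agent.Lib.OddOrder.TypeOneLine
import Cfsg.Agent.Lib.Char.AbelianDegreeBound
import Mathlib

set_option autoImplicit false
set_option linter.style.haveILetI false
set_option linter.unusedSectionVars false

/-!
The configuration of `TypeOneConfig` with a nilpotent `L_σ`, where `K` fixes no point of the central line.
-/

namespace CfsgLib.OddOrder.TypeOneLineNe

open scoped commutatorElement Classical
open CfsgLib.Char
open CfsgLib.Char.Coherence (natDeg natDeg_spec natDeg_pos TrivOn)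
open TypeOneConfig (Cfg)
open TypeOneInduced (core ind)
open TypeOneKappa (Kap card_core)
open TypeOneAbove (above mem_above trivOn_iff)
open FittingNonTI (NT line)

variable {G : Type*} [Group G] [Fintype G] {M L A K W : Subgroup G} {x g : G} {p : ℕ}

/-- The central line is not fixed pointwise by an element of `K`. -/
theorem line_fpf (hG : Cfsg.IsMinSimpleOddOrder G) (hk : Kap L K W) (hc : Nat.card (line L p) = p)
    (hp : p.Prime) (hW : W ≠ line L p) {k : G} (hkK : k ∈ K) (hk1 : k ≠ 1) {z : G} (hz : z ∈ line L p)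
    (hcom : Commute k z) : z = 1 := by
  by_contra hz1
  have hzW : z ∈ W := (hk.fix k hkK hk1).le ⟨hz.1, Subgroup.mem_centralizer_singleton_iff.mpr hcom.eq.symm⟩
  haveI := Fact.mk hp
  have ho : orderOf z = p := orderOf_eq_prime hz.2.2 hz1
  have hWp : Nat.card W = p :=
    ((Nat.prime_dvd_prime_iff_eq hp hk.W_prime).mp (ho ▸ Subgroup.orderOf_dvd_natCard _ hzW)).symm
  refine hW (Subgroup.eq_of_le_of_card_ge ?_ (by rw [hWp, hc]))
  have hzW' : Subgroup.zpowers z = W :=
    Subgroup.eq_of_le_of_card_ge (Subgroup.zpowers_le.mpr hzW) (by rw [Nat.card_zpowers, ho, hWp])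
  exact hzW' ▸ Subgroup.zpowers_le.mpr hz

theorem index_dvd (hG : Cfsg.IsMinSimpleOddOrder G) (hk : Kap L K W) (hc : Nat.card (line L p) = p)
    (hp : p.Prime) (hW : W ≠ line L p) : (core L).index ∣ p - 1 := by
  rw [hk.index_eq]
  refine FittingNonTI.card_dvd_sub_one hp hc (hk.K_le.trans (FittingNonTI.line_normal L p))
    (le_bot_iff.mp fun k hk' => Subgroup.mem_bot.mpr ?_)
  by_contra hk1
  obtain ⟨z, hz, hz1⟩ := (Subgroup.bot_or_exists_ne_one (line L p)).resolve_left (fun e => hp.ne_one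
    (by rw [← hc, e, Subgroup.card_bot]))
  exact hz1 (line_fpf hG hk hc hp hW hk'.1 hk1 hz (Subgroup.mem_centralizer_iff.mp hk'.2 z hz).symm)

variable [Fintype L] [Fintype (core L)]

/-- **No configuration with `W` different from the line.** -/
theorem main (hG : Cfsg.IsMinSimpleOddOrder G) (c : Cfg M L A x p) (hn : Group.IsNilpotent (Cfsg.sigmaCore L))
    (hk : Kap L K W) (h : NT L M g x p) (hab : ¬ IsMulCommutative (Cfsg.sigmaCore L)) (hW : W ≠ line L p) :
    False := by
  haveI := Fact.mk c.prime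
  have hnc : Group.IsNilpotent (core L) :=
    haveI := hn
    Group.nilpotent_of_mulEquiv (Subgroup.subgroupOfEquivOfLe (SigmaTools.sigmaCore_le L)).symm
  obtain ⟨hc, -, hder, hxZ⟩ := TypeOneLine.line_facts hG c h hab
  obtain ⟨hne, hn0⟩ : Cfsg.sigmaCore L ≠ ⊥ ∧ True := ⟨SigmaCore.sigmaCore_ne_bot hG c.coatomL, trivial⟩
  have hd := index_dvd hG hk hc c.prime hW
  have hoddL : Odd (Nat.card L) := hG.1.of_dvd_nat (Subgroup.card_subgroup_dvd_card _)
  have hodd := TypeOneNeighbour.core_odd (L := L) hG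
  have he1 := hk.index_ne_one
  set e := (core L).index with he
  have h2e : 2 * e ≤ p - 1 := by
    rcases c.odd hG with ⟨j, hj⟩
    have hp2 := c.prime.two_le
    exact Nat.le_of_dvd (by omega)
      ((Nat.Coprime.mul_dvd_of_dvd_of_dvd (Nat.coprime_two_left.mpr hodd)) ⟨j, by omega⟩ hd)
  -- the subgroups
  set Z : Subgroup L := (line L p).subgroupOf L with hZdef
  haveI : Z.Normal := TypeOneLine.line_normal_L L p
  haveI : (Z.subgroupOf (core L)).Normal := Subgroup.Normal.subgroupOf inferInstance _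
  set J : Subgroup L := ⁅core L, core L⁆ with hJdef
  have hJG : ∀ z : L, z ∈ J ↔ (z : G) ∈ ⁅Cfsg.sigmaCore L, Cfsg.sigmaCore L⁆ := fun z => by
    rw [hJdef, ← TypeOneLine.comm_core, Subgroup.mem_subgroupOf]
  have hZJ : Z ≤ J := fun z hz => (hJG z).mpr (hder (Subgroup.mem_subgroupOf.mp hz))
  have hWJ : W.subgroupOf L ≤ J := fun z hz => (hJG z).mpr (hk.W_der (Subgroup.mem_subgroupOf.mp hz))
  have hJle : J ≤ core L := Subgroup.commutator_le_left _ _
  have hJlt : J < core L := by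
    refine lt_of_le_of_ne hJle fun eJ => ?_
    haveI := hG.2.2.2 L c.coatomL.1
    refine (Coprime.commutator_self_lt
      (hG.2.2.2 (Cfsg.sigmaCore L) fun e => c.coatomL.1 (top_le_iff.mp (e ▸ SigmaTools.sigmaCore_le L))) hne).not_ge
      fun z hz => ?_
    exact (hJG ⟨z, SigmaTools.sigmaCore_le L hz⟩).mp (eJ.ge (Subgroup.mem_subgroupOf.mpr hz))
  obtain ⟨k₀, hk₀, hk₀1⟩ := (Subgroup.bot_or_exists_ne_one (K.subgroupOf L)).resolve_left fun eK =>
    hk.ne (Subgroup.eq_bot_of_card_eq _ (by rw [← hk.card_K, eK, Subgroup.card_bot]))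
  obtain ⟨hfixall, hcount⟩ := hk.chars hoddL
  -- irreducibility
  have hirrJ : ∀ θ ∈ above L J, Cfsg.IsIrrCharacter L (ind (core L) θ) := fun θ hθ => by
    by_contra hni
    obtain ⟨h1, h2⟩ := mem_above.mp hθ
    exact (DegreeTools.ne_oneChar_iff θ).mp h1 (TypeOneKappa.eq_one_of_fixed (core L) J
      (hk.coprime_orderOf hk₀) ((hk.fix_L hk₀ hk₀1).le.trans hWJ) hJle θ.2 h2 (hfixall θ hni k₀ hk₀))
  have hZc := TypeOneLine.line_le_center L p
  have hirrZ : ∀ θ : Cfsg.IrrCharacter (core L), ¬ TrivOn (core L) Z (θ : core L → ℂ) →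
      Cfsg.IsIrrCharacter L (ind (core L) θ) := by
    intro θ hθ
    by_contra hni
    refine hθ ?_
    have hfix := hfixall θ hni k₀ hk₀
    set Z' := Z.subgroupOf (core L)
    have hθ1 : (θ : core L → ℂ) 1 ≠ 0 := by
      rw [natDeg_spec θ.2]; exact Nat.cast_ne_zero.mpr (natDeg_pos θ.2).ne'
    have hval : ∀ z ∈ Z', (θ : core L → ℂ) z ≠ 0 := fun z hz => by
      obtain ⟨ω, hω1, hω⟩ := DegreeBound.apply_central_mul θ.2 (hZc hz)
      rw [← mul_one z, hω]
      exact mul_ne_zero (fun e => by rw [e, norm_zero] at hω1; exact one_ne_zero hω1.symm) hθ1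
    let f : Z' → Z' := fun z => ⟨⟨k₀ * ((z : core L) : L) * k₀⁻¹,
        (TypeOneInduced.core_normal L).conj_mem _ (z : core L).2 k₀⟩ * (z : core L)⁻¹,
      mul_mem (Subgroup.mem_subgroupOf.mpr ((inferInstance : Z.Normal).conj_mem _ z.2 k₀)) (inv_mem z.2)⟩
    have hfinj : Function.Injective f := fun a b e => by
      have e1 : k₀ * ((a : core L) : L) * k₀⁻¹ * (((a : core L) : L))⁻¹ =
          k₀ * ((b : core L) : L) * k₀⁻¹ * (((b : core L) : L))⁻¹ := congrArg (fun t : Z' => ((t : core L) : L)) e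
      have hab : (((a : core L) : L) : G) * (((b : core L) : L) : G)⁻¹ = 1 := by
        refine line_fpf hG hk hc c.prime hW (Subgroup.mem_subgroupOf.mp hk₀) (fun e => hk₀1 (Subtype.ext e))
          (mul_mem (Subgroup.mem_subgroupOf.mp a.2) (inv_mem (Subgroup.mem_subgroupOf.mp b.2))) ?_
        have hbc : Commute ((a : core L) : L) (((b : core L) : L))⁻¹ :=
          Commute.inv_right (congrArg Subtype.val (Subgroup.mem_center_iff.mp (hZc b.2) (a : core L)) :
            ((a : core L) : L) * ((b : core L) : L) = ((b : core L) : L) * ((a : core L) : L))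
        have h1 : Commute k₀ (((a : core L) : L) * (((b : core L) : L))⁻¹) := by
          show _ = _
          calc k₀ * (((a : core L) : L) * (((b : core L) : L))⁻¹)
              = (k₀ * ((a : core L) : L) * k₀⁻¹ * (((a : core L) : L))⁻¹) * ((a : core L) : L) * k₀ *
                  (((b : core L) : L))⁻¹ := by group
            _ = (k₀ * ((b : core L) : L) * k₀⁻¹) * ((((b : core L) : L))⁻¹ * ((a : core L) : L)) * k₀ *
                  (((b : core L) : L))⁻¹ := by rw [e1]; group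
            _ = (k₀ * ((b : core L) : L) * k₀⁻¹) * (((a : core L) : L) * (((b : core L) : L))⁻¹) * k₀ *
                  (((b : core L) : L))⁻¹ := by rw [hbc.eq]
            _ = _ := ?_
          have hcab : Commute (k₀ * ((b : core L) : L) * k₀⁻¹) (((a : core L) : L) * (((b : core L) : L))⁻¹) :=
            congrArg Subtype.val (Subgroup.mem_center_iff.mp
              (hZc (mul_mem a.2 (inv_mem b.2) : (a : core L) * (b : core L)⁻¹ ∈ Z'))
              ⟨_, (TypeOneInduced.core_normal L).conj_mem _ (b : core L).2 k₀⟩)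
          rw [hcab.eq]
          group
        exact h1.map L.subtype
      exact Subtype.ext (Subtype.ext (Subtype.ext (mul_inv_eq_one.mp hab)))
    intro a ha
    obtain ⟨z, hz⟩ := Finite.surjective_of_injective hfinj ⟨a, Subgroup.mem_subgroupOf.mpr ha⟩
    have hz' : (⟨k₀ * ((z : core L) : L) * k₀⁻¹, (TypeOneInduced.core_normal L).conj_mem _ (z : core L).2 k₀⟩
        : core L) = a * (z : core L) := by
      have := congrArg Subtype.val hz
      simp only [f] at this
      rw [← this, inv_mul_cancel_right]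
    obtain ⟨ω, -, hω⟩ := DegreeBound.apply_central_mul θ.2 (hZc (Subgroup.mem_subgroupOf.mpr ha : a ∈ Z'))
    have h1 := congrFun hfix (z : core L)
    rw [conjG_apply, hz', hω] at h1
    have hω1 : ω = 1 := mul_right_cancel₀ (hval _ z.2) (h1.trans (one_mul _).symm)
    rw [← mul_one a, hω, hω1, one_mul]
  -- coherence
  set Θf : Finset (Cfsg.IrrCharacter (core L)) :=
    Finset.univ.filter fun θ => Cfsg.IsIrrCharacter L (ind (core L) θ) with hΘf
  obtain ⟨U, hUn, -, hUc, m, hm⟩ := TypeOneNeighbour.exists_central hG c hnc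
  haveI := hUn
  haveI : (U.subgroupOf (core L)).Normal := Subgroup.Normal.subgroupOf hUn _
  have hprior := fun θ hθ => TypeOneDegrees.prior (⊥ : Subgroup (core L)) (U.subgroupOf (core L))
    (by rwa [bot_sup_eq]) c.prime (m := m) (by rwa [bot_sup_eq]) θ hθ
  have hsol : Group.IsSolvable (core L) :=
    haveI := hG.2.2.2 L c.coatomL.1
    inferInstance
  have hlinJ := TypeOneAbove.index_lt_linear J hJlt hsol hoddL hirrJ
  have hcoh := TypeOneInduced.coherent hG c.coatomL Θf (fun θ hθ => (Finset.mem_filter.mp hθ).2)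
    (fun θ hθ ψ eψ => Finset.mem_filter.mpr ⟨Finset.mem_univ _, eψ ▸ (Finset.mem_filter.mp hθ).2⟩)
    (lt_of_lt_of_le hlinJ (Finset.card_le_card fun θ hθ => Finset.mem_filter.mpr
      ⟨Finset.mem_filter.mpr ⟨Finset.mem_univ _, hirrJ θ (Finset.mem_filter.mp hθ).1⟩,
        (Finset.mem_filter.mp hθ).2⟩))
    fun θ _ hd => by
      obtain ⟨k, hk1, hdeg, hle⟩ := hprior θ hd
      rw [hdeg] at hle ⊢
      set S₀ := Finset.univ.filter fun ψ : Cfsg.IrrCharacter (core L) =>
        (∀ n ∈ (⊥ : Subgroup (core L)), (ψ : core L → ℂ) n = (ψ : core L → ℂ) 1) ∧ natDeg (ψ : core L → ℂ) < p ^ k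
      set T := Θf.filter fun ψ : Cfsg.IrrCharacter (core L) =>
        natDeg (ψ : core L → ℂ) = 1 ∨ natDeg (ψ : core L → ℂ) < p ^ k
      set F := S₀.filter fun ψ : Cfsg.IrrCharacter (core L) => ψ ∉ Θf
      have hsplit : ∑ ψ ∈ S₀, natDeg (ψ : core L → ℂ) ^ 2 ≤
          ∑ ψ ∈ T, natDeg (ψ : core L → ℂ) ^ 2 + ∑ ψ ∈ F, natDeg (ψ : core L → ℂ) ^ 2 := by
        rw [← Finset.sum_filter_add_sum_filter_not S₀ (fun ψ => ψ ∈ Θf)]
        refine Nat.add_le_add_right (Finset.sum_le_sum_of_subset fun ψ hψ => ?_) _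
        obtain ⟨h1, h2⟩ := Finset.mem_filter.mp hψ
        exact Finset.mem_filter.mpr ⟨h2, Or.inr (Finset.mem_filter.mp h1).2.2⟩
      have hFfix : ∀ ψ ∈ F, ∀ k' ∈ K.subgroupOf L, conjG (ψ : core L → ℂ) k' = ψ := fun ψ hψ =>
        hfixall ψ fun hi => (Finset.mem_filter.mp hψ).2 (Finset.mem_filter.mpr ⟨Finset.mem_univ _, hi⟩)
      have hFlin : ∀ ψ ∈ F, natDeg (ψ : core L → ℂ) = 1 → ψ = DegreeTools.oneChar (core L) := fun ψ hψ h1 => by
        refine Subtype.ext ((TypeOneKappa.eq_one_of_fixed (core L) J (hk.coprime_orderOf hk₀)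
          ((hk.fix_L hk₀ hk₀1).le.trans hWJ) hJle ψ.2 ((Feit.trivOn_commutator_iff _ ψ.2).mpr h1)
          (hFfix ψ hψ k₀ hk₀)).trans ?_)
        exact funext fun g => (DegreeTools.coe_oneChar g).symm
      have hFdeg : ∀ ψ ∈ F, natDeg (ψ : core L → ℂ) ^ 2 ≤ (p ^ (k - 1)) ^ 2 := fun ψ hψ => by
        refine Nat.pow_le_pow_left ?_ 2
        rcases eq_or_ne (natDeg (ψ : core L → ℂ)) 1 with h1 | h1
        · rw [h1]; exact Nat.one_le_pow _ _ c.prime.pos
        obtain ⟨i, -, hi, -⟩ := hprior ψ h1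
        have hlt := (Finset.mem_filter.mp (Finset.mem_filter.mp hψ).1).2.2
        rw [hi] at hlt ⊢
        exact Nat.pow_le_pow_right c.prime.pos (by
          have := (Nat.pow_lt_pow_iff_right c.prime.one_lt).mp hlt
          omega)
      have hFcard : F.card ≤ p := by
        have hWle : Nat.card W ≤ p := by
          have : Nat.card W ∣ Nat.card (Cfsg.sigmaCore L) := Subgroup.card_dvd_of_le hk.W_le
          obtain ⟨T₀, hT₀, -, hmem⟩ := h.exists_sylow hG
          have hWT := hk.W_der.trans (FittingTypeV.derived_le hG h hab hT₀ hmem)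
          obtain ⟨i, hi⟩ := (T₀.isPGroup'.to_le hWT).exists_card_eq
          exact ((Nat.prime_dvd_prime_iff_eq hk.W_prime c.prime).mp (hk.W_prime.dvd_of_dvd_pow hi.dvd)).le
        refine le_trans ?_ hWle
        rw [← hcount, Nat.card_eq_fintype_card, ← Finset.card_univ]
        exact Finset.card_le_card_of_injOn
          (fun ψ => if hψ : ψ ∈ F then ⟨ψ, hFfix ψ hψ⟩ else ⟨DegreeTools.oneChar _, fun _ _ => rfl⟩)
          (fun _ _ => Finset.mem_coe.mpr (Finset.mem_univ _))
          fun a ha b hb e => by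
            simp only [dif_pos (Finset.mem_coe.mp ha), dif_pos (Finset.mem_coe.mp hb)] at e
            exact congrArg Subtype.val e
      have hp2 := c.prime.two_le
      rcases eq_or_ne k 1 with rfl | hk2
      · have hF1 : ∑ ψ ∈ F, natDeg (ψ : core L → ℂ) ^ 2 ≤ 1 := by
          refine le_trans (Finset.sum_le_sum_of_subset (t := {DegreeTools.oneChar (core L)}) fun ψ hψ => ?_)
            (by rw [Finset.sum_singleton, TypeOneDegrees.natDeg_oneChar, one_pow])
          refine Finset.mem_singleton.mpr (hFlin ψ hψ ?_)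
          have h0 := hFdeg ψ hψ
          rw [Nat.sub_self, pow_zero, one_pow] at h0
          have h2 := natDeg_pos ψ.2
          nlinarith
        rw [pow_one]
        rw [show 2 * 1 = 2 from rfl] at hle
        have h3 : 2 * e * p + p ≤ p ^ 2 := by
          have := Nat.mul_le_mul_right p (show 2 * e + 1 ≤ p by omega)
          rw [sq]; linarith
        rw [show (core L).index = e from rfl]
        omega
      · obtain ⟨k', rfl⟩ : ∃ k', k = k' + 2 := ⟨k - 2, by omega⟩
        have hF : ∑ ψ ∈ F, natDeg (ψ : core L → ℂ) ^ 2 ≤ p * (p ^ (k' + 1)) ^ 2 := by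
          refine (Finset.sum_le_card_nsmul F _ _ fun ψ hψ => hFdeg ψ hψ).trans ?_
          rw [smul_eq_mul, show k' + 2 - 1 = k' + 1 from rfl]
          exact Nat.mul_le_mul_right _ hFcard
        have h3 := Nat.mul_le_mul_left (p ^ (k' + 2)) (show 2 * e + 1 ≤ p by omega)
        have h4 : p ^ (k' + 2) * p * 1 ≤ p ^ (k' + 2) * p * p ^ k' :=
          Nat.mul_le_mul_left _ (Nat.one_le_pow _ _ c.prime.pos)
        have h5 : p * (p ^ (k' + 1)) ^ 2 + p ^ (k' + 2) * p * p ^ k' ≤ p ^ (2 * (k' + 2)) := by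
          have e1 : p * (p ^ (k' + 1)) ^ 2 = (p ^ k') ^ 2 * (p ^ 3) := by ring
          have e2 : p ^ (k' + 2) * p * p ^ k' = (p ^ k') ^ 2 * (p ^ 3) := by ring
          have e3 : p ^ (2 * (k' + 2)) = (p ^ k') ^ 2 * (p ^ 3 * p) := by ring
          rw [e1, e2, e3, ← Nat.mul_add]
          exact Nat.mul_le_mul_left _ (by nlinarith [Nat.mul_le_mul_left (p ^ 3) hp2])
        have h6 : 2 * e * p ^ (k' + 2) + p ^ (k' + 2) ≤ p ^ (k' + 2) * p := by linarith
        have h7 : 0 < p ^ (k' + 2) := pow_pos c.prime.pos _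
        rw [show (core L).index = e from rfl]
        omega
  -- the family
  set N₁ := Finset.univ.filter fun θ : Cfsg.IrrCharacter (core L) => ¬ TrivOn (core L) Z (θ : core L → ℂ) with hN₁
  set Θ := above L J ∪ N₁ with hΘ
  have hdisj : Disjoint (above L J) N₁ := Finset.disjoint_left.mpr fun θ h1 h2 =>
    (Finset.mem_filter.mp h2).2 fun a ha => (mem_above.mp h1).2 a (hZJ ha)
  have hsub : Θ ⊆ Θf := fun θ hθ => Finset.mem_filter.mpr ⟨Finset.mem_univ _, (Finset.mem_union.mp hθ).elim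
    (hirrJ θ) fun h1 => hirrZ θ (Finset.mem_filter.mp h1).2⟩
  have hst : ∀ θ ∈ Θ, ∀ ψ : Cfsg.IrrCharacter (core L), ind (core L) ψ = ind (core L) θ → ψ ∈ Θ := by
    intro θ hθ ψ eψ
    rcases Finset.mem_union.mp hθ with h1 | h1
    · exact Finset.mem_union_left _ (TypeOneAbove.stable J θ h1 ψ eψ)
    · exact Finset.mem_union_right _ (Finset.mem_filter.mpr ⟨Finset.mem_univ _, fun ht =>
        (Finset.mem_filter.mp h1).2 (Coherence.trivOn_of_indFun_eq θ.2 ψ.2 eψ.symm ht)⟩)
  set Z' := Z.subgroupOf (core L)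
  have hTZ : Finset.univ.filter (fun θ : Cfsg.IrrCharacter (core L) => TrivOn (core L) Z (θ : core L → ℂ)) =
      Finset.univ.filter (fun θ : Cfsg.IrrCharacter (core L) =>
        ∀ n ∈ Z', (θ : core L → ℂ) n = (θ : core L → ℂ) 1) := by
    ext θ
    simp [trivOn_iff, Z']
  have hall : ∑ θ : Cfsg.IrrCharacter (core L), natDeg (θ : core L → ℂ) ^ 2 = Nat.card (core L) := by
    rw [← Subgroup.index_bot, ← TypeOneDegrees.sum_above (⊥ : Subgroup (core L))]
    refine Finset.sum_congr ?_ fun _ _ => rfl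
    ext θ
    simp
  have hN₁sq : ∑ θ ∈ N₁, natDeg (θ : core L → ℂ) ^ 2 + Z'.index = Nat.card (core L) := by
    rw [← TypeOneDegrees.sum_above Z', ← hTZ, ← hall, add_comm]
    exact Finset.sum_filter_add_sum_filter_not _ _ _
  have hn' := TypeOneLine.index_line hc
  obtain ⟨j, hj1, hj⟩ := TypeOneLine.exists_inter_index hG c hn hab
  obtain ⟨e₁, he₁, hE⟩ := TypeOneLine.exists_e1 L M
  have hsq := TypeOneNeighbour.sq_dvd_card hG c
  rw [card_core] at hN₁sq hsq
  set X := ∑ θ ∈ Θ, natDeg (θ : core L → ℂ) ^ 2 with hXdef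
  have hX : Z'.index * (p - 1) ≤ X := by
    rw [hXdef, hΘ, Finset.sum_union hdisj, Nat.mul_sub, mul_one]
    have hnn : Z'.index * p = Nat.card (Cfsg.sigmaCore L) := hn'
    omega
  have hnp : p ≤ Z'.index := by
    have := Nat.le_of_dvd Nat.card_pos hsq
    have hnn : Z'.index * p = Nat.card (Cfsg.sigmaCore L) := hn'
    rw [sq, ← hnn] at this
    exact Nat.le_of_mul_le_mul_right this c.prime.pos
  have hf : ∀ y : core L, ((y : L) : G) ∈ Subgroup.zpowers x → ((y : L) : G) ≠ 1 →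
      ∑ θ ∈ Θ, (natDeg (θ : core L → ℂ) : ℂ) * (θ : core L → ℂ) y = -1 := by
    intro y hy hy1
    have hnot : ((y : L) : G) ∉ ⁅Cfsg.sigmaCore L, Cfsg.sigmaCore L⁆ := by
      intro hmem
      refine c.not_mem_derived hG ?_
      have hzp : Subgroup.zpowers ((y : L) : G) = Subgroup.zpowers x :=
        Subgroup.eq_of_le_of_card_ge (Subgroup.zpowers_le.mpr hy) (by
          rw [Nat.card_zpowers, Nat.card_zpowers, c.order]
          refine le_of_eq (Eq.symm ?_)
          refine ((c.prime.eq_one_or_self_of_dvd _ ?_).resolve_left fun h1 => hy1 (orderOf_eq_one_iff.mp h1))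
          rw [← c.order, ← Nat.card_zpowers x]
          exact Subgroup.orderOf_dvd_natCard _ hy)
      exact Subgroup.zpowers_le.mp (hzp ▸ Subgroup.zpowers_le.mpr hmem)
    have hyJ : (y : L) ∉ J := fun h1 => hnot ((hJG _).mp h1)
    rw [hΘ, Finset.sum_union hdisj, TypeOneAbove.sum_mul J hyJ, hN₁]
    have h1 := Finset.sum_filter_add_sum_filter_not Finset.univ
      (fun θ : Cfsg.IrrCharacter (core L) => TrivOn (core L) Z (θ : core L → ℂ))
      (fun θ => (natDeg (θ : core L → ℂ) : ℂ) * (θ : core L → ℂ) y)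
    rw [TypeOneDegrees.sum_natDeg_mul fun e => hy1 (by rw [e]; rfl), hTZ,
      TypeOneDegrees.sum_above_mul Z' fun h2 => hyJ (hZJ (Subgroup.mem_subgroupOf.mp h2)), zero_add] at h1
    rw [h1, add_zero]
  have hlin : ∃ θ ∈ Θ, natDeg (θ : core L → ℂ) = 1 := by
    obtain ⟨θ, hθ⟩ := Finset.card_pos.mp (lt_of_le_of_lt (Nat.zero_le _) hlinJ)
    exact ⟨θ, Finset.mem_union_left _ (Finset.mem_filter.mp hθ).1, (Finset.mem_filter.mp hθ).2⟩
  have hnz : ∃ α ∈ Cfsg.zspanOn (↑(Θ.image (ind (core L))) : Set (L → ℂ)) {1}ᶜ, α ≠ 0 := by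
    obtain ⟨θ₁, hθ₁⟩ := Finset.card_pos.mp (lt_of_le_of_lt (Nat.zero_le _) hlinJ)
    obtain ⟨θ₂, hθ₂, hne₂⟩ : ∃ θ₂ ∈ (above L J).filter fun θ : Cfsg.IrrCharacter (core L) =>
        natDeg (θ : core L → ℂ) = 1, ind (core L) θ₂ ≠ ind (core L) θ₁ := by
      by_contra hno
      push Not at hno
      refine (not_le.mpr hlinJ) (le_trans (Finset.card_le_card fun θ hθ => ?_)
        (Coherence.card_fibre (core L) (φ₀ := θ₁) (hirrJ θ₁ (Finset.mem_filter.mp hθ₁).1)).le)
      exact Finset.mem_filter.mpr ⟨Finset.mem_univ _, hno θ hθ⟩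
    refine Coherence.exists_ne_zero_of_two
      (Finset.mem_coe.mpr (Finset.mem_image_of_mem _ (Finset.mem_union_left _ (Finset.mem_filter.mp hθ₂).1)))
      (Finset.mem_coe.mpr (Finset.mem_image_of_mem _ (Finset.mem_union_left _ (Finset.mem_filter.mp hθ₁).1))) hne₂ ?_
    rw [TypeOneInduced.ind_one, TypeOneInduced.ind_one, TypeOneInduced.mult_ind, TypeOneInduced.mult_ind,
      (Finset.mem_filter.mp hθ₂).2, (Finset.mem_filter.mp hθ₁).2]
  have hb := TypeOneInduced.contra hG c Θ (fun θ hθ => (Finset.mem_filter.mp (hsub hθ)).2) hst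
    (Coherence.isCoherent_mono (Finset.coe_subset.mpr (Finset.image_subset_image hsub)) hnz hcoh)
    hlin hf hXdef.symm (by
      refine le_trans ?_ hX
      have h1 : 2 * e * (p - 1) ≤ p * (p - 1) := Nat.mul_le_mul_right _ (by omega)
      have h2 : p * (p - 1) ≤ Z'.index * (p - 1) := Nat.mul_le_mul_right _ hnp
      have : 2 * (p - 1) * e = 2 * e * (p - 1) := by ring
      rw [show (core L).index = e from rfl]
      omega)
  rw [TypeOneLine.dist_eq c.prime.pos (by omega)] at hb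
  -- numerics
  have hEle : Nat.card ↥(L ⊓ M) ≤ e * Z'.index := by
    rw [hE]
    refine Nat.mul_le_mul (Nat.le_of_dvd hodd.pos he₁) ?_
    refine Nat.le_of_mul_le_mul_left ?_ c.prime.pos
    calc p * Nat.card ↥(Cfsg.sigmaCore L ⊓ M) ≤ p ^ j * Nat.card ↥(Cfsg.sigmaCore L ⊓ M) :=
          Nat.mul_le_mul_right _ (Nat.le_self_pow (by omega) p)
      _ = p * Z'.index := by rw [← hj, ← hn', mul_comm]
  have he3 : 3 ≤ e := by rcases hodd with ⟨i, hi⟩; omega
  have hp7 : (7 : ℝ) ≤ p := by exact_mod_cast (show 7 ≤ p by omega)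
  have hEr : (Nat.card ↥(L ⊓ M) : ℝ) ≤ e * (Z'.index : ℝ) := by exact_mod_cast hEle
  have hXr : (Z'.index : ℝ) * ((p : ℝ) - 1) ≤ X := by
    have := hX
    rw [← Nat.cast_le (α := ℝ), Nat.cast_mul, Nat.cast_sub c.prime.pos, Nat.cast_one] at this
    exact this
  have hn0 : (0 : ℝ) < Z'.index := Nat.cast_pos.mpr (lt_of_lt_of_le c.prime.pos hnp)
  have he0 : (0 : ℝ) < e := Nat.cast_pos.mpr (by omega)
  have h8 := mul_le_mul_of_nonneg_right hXr (show (0 : ℝ) ≤ 4 / 5 * (e : ℝ) ^ 2 by positivity)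
  have h9 := mul_le_mul_of_nonneg_left hEr he0.le
  push_cast at hb
  nlinarith [mul_le_mul_of_nonneg_left hp7 (mul_nonneg hn0.le (sq_nonneg (e : ℝ))), mul_pos hn0 (pow_pos he0 2)]

end CfsgLib.OddOrder.TypeOneLineNe
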