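import Cfsg.Agent.Lib.OddOrder.TypeOneDegrees
import Cfsg.Agent.Lib.Char.CliffordCorr
import Cfsg.Agent.Lib.Char.Linear
import Cfsg.Agent.Lib.Char.Perm
import Cfsg.Agent.Lib.Char.CoherenceCentral
import Mathlib

set_option autoImplicit false
set_option linter.style.haveILetI false
set_option linter.unusedSectionVars false

/-!
The characters of a normal subgroup above the characters of an abelian one which have a conjugate fixed by a given
element.
-/

namespace CfsgLib.OddOrder.TypeOneOrbit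

open scoped Classical ComplexConjugate
open CfsgLib.Char
open CfsgLib.Char.Coherence (natDeg natDeg_spec natDeg_pos)

variable {X : Type*} [Group X] [Fintype X] {C N : Subgroup X} [C.Normal] [N.Normal] [Fintype C] [Fintype N]
  (hNC : N ≤ C) (hab : ∀ a b : N, a * b = b * a) (t : X)

/-- The characters of `N` with a conjugate fixed by `t`. -/
noncomputable def lam (N : Subgroup X) [N.Normal] [Fintype N] (t : X) : Finset (Cfsg.IrrCharacter N) :=
  Finset.univ.filter fun μ : Cfsg.IrrCharacter N => ∃ l : X, conjG (conjG (μ : N → ℂ) l) t = conjG (μ : N → ℂ) l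

theorem mem_lam {μ : Cfsg.IrrCharacter N} :
    μ ∈ lam N t ↔ ∃ l : X, conjG (conjG (μ : N → ℂ) l) t = conjG (μ : N → ℂ) l := by simp [lam]

theorem conj_mem_lam {μ : Cfsg.IrrCharacter N} (h : μ ∈ lam N t) (a : X) :
    (⟨conjG (μ : N → ℂ) a, IsIrrCharacter.conjG μ.2 a⟩ : Cfsg.IrrCharacter N) ∈ lam N t := by
  obtain ⟨l, hl⟩ := (mem_lam t).mp h
  refine (mem_lam t).mpr ⟨a⁻¹ * l, ?_⟩
  show conjG (conjG (conjG (μ : N → ℂ) a) (a⁻¹ * l)) t = conjG (conjG (μ : N → ℂ) a) (a⁻¹ * l)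
  rwa [conjG_mul (μ : N → ℂ) a (a⁻¹ * l), mul_inv_cancel_left]

include hab in
/-- As many as the fixed points of `t`. -/
theorem card_le_lam (U : Subgroup N) (hU : ∀ u ∈ U, t * (u : X) * t⁻¹ = u) :
    Nat.card U ≤ (lam N t).card := by
  let α : MulAut N := MulAut.conjNormal t
  have heq : ∀ a b : N, IsConj a b → a = b := fun a b h => by
    obtain ⟨m, hm⟩ := isConj_iff.mp h
    rw [← hm, hab m a, mul_inv_cancel_right]
  have h1 := card_fixed_irr_eq (G := N) α (fun a b hab' => α.toMonoidHom.map_isConj hab')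
    (fun χ hχ => IsIrrCharacter.comp_equiv hχ α)
  have h2 : Nat.card U ≤ Nat.card {D : ConjClasses N // ∀ g, ConjClasses.mk g = D → IsConj (α g) g} := by
    refine Nat.card_le_card_of_injective (fun u : U => ⟨ConjClasses.mk (u : N), fun g hg => ?_⟩) fun u v e => ?_
    · rw [heq g u (ConjClasses.mk_eq_mk_iff_isConj.mp hg)]
      have hfix : α (u : N) = (u : N) := Subtype.ext (by
        rw [MulAut.conjNormal_apply]; exact hU u u.2)
      rw [hfix]
    · exact Subtype.ext (heq _ _ (ConjClasses.mk_eq_mk_iff_isConj.mp (congrArg Subtype.val e)))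
  rw [← h1] at h2
  refine h2.trans ?_
  rw [Nat.card_eq_fintype_card, Fintype.card_subtype]
  refine Finset.card_le_card fun μ hμ => (mem_lam t).mpr ⟨1, ?_⟩
  rw [conjG_one, conjG_eq_comp]
  exact (Finset.mem_filter.mp hμ).2

/-- `θ` lies above a member of `lam`. -/
def Over (θ : Cfsg.IrrCharacter C) : Prop :=
  ∃ μ ∈ lam N t, Cfsg.classInner (resLe hNC (θ : C → ℂ)) (μ : N → ℂ) ≠ 0

theorem resLe_conjG (θ : C → ℂ) (a : X) : resLe hNC (conjG θ a) = conjG (resLe hNC θ) a := rfl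

theorem classInner_conj_mem (θ : Cfsg.IrrCharacter C) (μ : N → ℂ) {a : X} (ha : a ∈ C) :
    Cfsg.classInner (resLe hNC (θ : C → ℂ)) (conjG μ a) = Cfsg.classInner (resLe hNC (θ : C → ℂ)) μ := by
  conv_lhs => rw [← conjG_of_mem (IsIrrCharacter.isClassFunction θ.2) ha, resLe_conjG, classInner_conjG]

/-- The constituents are conjugate. -/
theorem constituents_conj (θ : Cfsg.IrrCharacter C) {μ ν : Cfsg.IrrCharacter N}
    (h1 : Cfsg.classInner (resLe hNC (θ : C → ℂ)) (μ : N → ℂ) ≠ 0)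
    (h2 : Cfsg.classInner (resLe hNC (θ : C → ℂ)) (ν : N → ℂ) ≠ 0) :
    ∃ a ∈ C, (ν : N → ℂ) = conjG (μ : N → ℂ) a := by
  haveI : (N.subgroupOf C).Normal := Subgroup.Normal.subgroupOf ‹N.Normal› C
  let e : N.subgroupOf C ≃* N := Subgroup.subgroupOfEquivOfLe hNC
  have hθc : Cfsg.IsClassFunction C (θ : C → ℂ) := IsIrrCharacter.isClassFunction θ.2
  have hres : Cfsg.IsCharacter (N.subgroupOf C) fun n : N.subgroupOf C => (θ : C → ℂ) n :=
    IsCharacter.restrict (IsIrrCharacter.isCharacter θ.2) _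
  have key : ∀ φ : Cfsg.IrrCharacter N, Cfsg.classInner (resLe hNC (θ : C → ℂ)) (φ : N → ℂ) ≠ 0 →
      Cfsg.classInner (Cfsg.indFun (N.subgroupOf C) ((φ : N → ℂ) ∘ e)) (θ : C → ℂ) ≠ 0 := fun φ hφ => by
    rw [classInner_indFun _ _ hθc,
      IsCharacter.classInner_comm (IsIrrCharacter.isCharacter (IsIrrCharacter.comp_equiv φ.2 e)) hres]
    have := classInner_resLe (G := X) hNC (θ : C → ℂ) (φ : N → ℂ)
    exact fun h => hφ (this.symm.trans h)
  obtain ⟨g, hg⟩ := exists_conjG_eq (IsIrrCharacter.comp_equiv ν.2 e) (IsIrrCharacter.comp_equiv μ.2 e) θ.2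
    (key ν h2) (key μ h1)
  refine ⟨g, g.2, funext fun u => ?_⟩
  have h := congrFun hg (e.symm u)
  rw [Function.comp_apply, e.apply_symm_apply] at h
  rw [h]
  rfl

include hab in
theorem natDeg_eq_sum (θ : Cfsg.IrrCharacter C) :
    (natDeg (θ : C → ℂ) : ℂ) = ∑ μ : Cfsg.IrrCharacter N, Cfsg.classInner (resLe hNC (θ : C → ℂ)) (μ : N → ℂ) := by
  have h := congrFun (IsClassFunction.eq_sum_irr
    (IsCharacter.isClassFunction (IsCharacter.resLe hNC (IsIrrCharacter.isCharacter θ.2)))) 1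
  rw [← natDeg_spec θ.2, show (θ : C → ℂ) 1 = resLe hNC (θ : C → ℂ) 1 from rfl, h, Finset.sum_apply]
  refine Finset.sum_congr rfl fun μ _ => ?_
  rw [Pi.smul_apply, apply_one_eq_one_of_comm hab μ.2, smul_eq_mul, mul_one]

include hab in
theorem sum_lam (θ : Cfsg.IrrCharacter C) :
    ∑ μ ∈ lam N t, Cfsg.classInner (resLe hNC (θ : C → ℂ)) (μ : N → ℂ) =
      if Over hNC t θ then (natDeg (θ : C → ℂ) : ℂ) else 0 := by
  split_ifs with h
  · obtain ⟨μ, hμ, hc⟩ := h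
    rw [natDeg_eq_sum hNC hab θ]
    refine Finset.sum_subset (Finset.subset_univ _) fun ν _ hν => ?_
    by_contra hne
    obtain ⟨a, -, e⟩ := constituents_conj hNC θ hc hne
    exact hν (by rw [show ν = ⟨_, IsIrrCharacter.conjG μ.2 a⟩ from Subtype.ext e]; exact conj_mem_lam t hμ a)
  · exact Finset.sum_eq_zero fun μ hμ => by_contra fun hne => h ⟨μ, hμ, hne⟩

include hab in
/-- The sum over the family. -/
theorem sum_over_mul (g : C) :
    ∑ θ ∈ Finset.univ.filter (Over hNC t), (natDeg (θ : C → ℂ) : ℂ) * (θ : C → ℂ) g =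
      ∑ μ ∈ lam N t, (Nat.card N : ℂ)⁻¹ * ∑ h : N, conj ((μ : N → ℂ) h) *
        (if IsConj g (⟨(h : X), hNC h.2⟩ : C)⁻¹ then
          (Nat.card (Subgroup.centralizer ({(⟨(h : X), hNC h.2⟩ : C)⁻¹} : Set C)) : ℂ) else 0) := by
  rw [Finset.sum_filter, Finset.sum_congr rfl fun θ _ => show
      (if Over hNC t θ then (natDeg (θ : C → ℂ) : ℂ) * (θ : C → ℂ) g else 0) =
        ∑ μ ∈ lam N t, Cfsg.classInner (resLe hNC (θ : C → ℂ)) (μ : N → ℂ) * (θ : C → ℂ) g by
    rw [← Finset.sum_mul, sum_lam hNC hab t θ, ite_mul, zero_mul], Finset.sum_comm]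
  refine Finset.sum_congr rfl fun μ _ => ?_
  simp only [Cfsg.classInner, mul_assoc, ← Finset.mul_sum, Finset.sum_mul]
  congr 1
  rw [Finset.sum_comm]
  refine Finset.sum_congr rfl fun h _ => ?_
  rw [← sum_irr_mul_conj (G := C) g, Finset.mul_sum]
  refine Finset.sum_congr rfl fun θ _ => ?_
  rw [IsIrrCharacter.apply_inv θ.2, Complex.conj_conj]
  show (θ : C → ℂ) ⟨(h : X), hNC h.2⟩ * (conj ((μ : N → ℂ) h) * (θ : C → ℂ) g) = _
  ring

include hab in
theorem sum_over_zero (g : C) (hg : (g : X) ∉ N) :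
    ∑ θ ∈ Finset.univ.filter (Over hNC t), (natDeg (θ : C → ℂ) : ℂ) * (θ : C → ℂ) g = 0 := by
  rw [sum_over_mul hNC hab t g]
  refine Finset.sum_eq_zero fun μ _ => ?_
  rw [Finset.sum_eq_zero fun h _ => ?_, mul_zero]
  rw [if_neg fun hc => hg ?_, mul_zero]
  obtain ⟨m, hm⟩ := isConj_iff.mp hc.symm
  rw [← hm]
  exact ‹N.Normal›.conj_mem _ (N.inv_mem h.2) m

include hab in
theorem sum_over_sq :
    (∑ θ ∈ Finset.univ.filter (Over hNC t), natDeg (θ : C → ℂ) ^ 2) * Nat.card N =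
      (lam N t).card * Nat.card C := by
  refine Nat.cast_injective (R := ℂ) ?_
  push_cast
  have hsq : ∀ θ : Cfsg.IrrCharacter C,
      ((natDeg (θ : C → ℂ) : ℂ)) ^ 2 = (natDeg (θ : C → ℂ) : ℂ) * (θ : C → ℂ) 1 := fun θ => by
    rw [natDeg_spec θ.2, sq]
  rw [Finset.sum_congr rfl fun θ _ => hsq θ, sum_over_mul hNC hab t 1]
  rw [Finset.sum_congr rfl fun (μ : Cfsg.IrrCharacter N) _ => show
      (Nat.card N : ℂ)⁻¹ * ∑ h : N, conj ((μ : N → ℂ) h) *
        (if IsConj (1 : C) (⟨(h : X), hNC h.2⟩ : C)⁻¹ then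
          (Nat.card (Subgroup.centralizer ({(⟨(h : X), hNC h.2⟩ : C)⁻¹} : Set C)) : ℂ) else 0) =
        (Nat.card N : ℂ)⁻¹ * (Nat.card C : ℂ) by
    congr 1
    rw [Finset.sum_eq_single (1 : N) (fun h _ hh => ?_) (fun h => absurd (Finset.mem_univ _) h)]
    · rw [apply_one_eq_one_of_comm hab μ.2, map_one, one_mul]
      have h1 : (⟨((1 : N) : X), hNC (1 : N).2⟩ : C)⁻¹ = 1 := inv_eq_one.mpr rfl
      rw [if_pos (by rw [h1])]
      have h2 : Subgroup.centralizer ({(⟨((1 : N) : X), hNC (1 : N).2⟩ : C)⁻¹} : Set C) = ⊤ :=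
        eq_top_iff.mpr fun z _ => Subgroup.mem_centralizer_singleton_iff.mpr (by rw [h1, mul_one, one_mul])
      rw [h2, Subgroup.card_top]
    · rw [if_neg fun hc => hh ?_, mul_zero]
      have h2 := inv_eq_one.mp (isConj_one_right.mp hc)
      exact Subtype.ext (congrArg (fun z : C => (z : X)) h2)]
  rw [Finset.sum_const, nsmul_eq_mul]
  field_simp [Nat.cast_ne_zero.mpr (Nat.card_pos (α := N)).ne']

theorem over_conj {θ : Cfsg.IrrCharacter C} (h : Over hNC t θ) {ψ : Cfsg.IrrCharacter C} {a : X}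
    (e : (ψ : C → ℂ) = conjG (θ : C → ℂ) a) : Over hNC t ψ := by
  obtain ⟨μ, hμ, hc⟩ := h
  refine ⟨⟨_, IsIrrCharacter.conjG μ.2 a⟩, conj_mem_lam t hμ a, ?_⟩
  rw [e, resLe_conjG, classInner_conjG]
  exact hc

theorem over_stable {θ ψ : Cfsg.IrrCharacter C} (h : Over hNC t θ)
    (e : Cfsg.indFun C (ψ : C → ℂ) = Cfsg.indFun C (θ : C → ℂ)) : Over hNC t ψ := by
  obtain ⟨a, ha⟩ := Coherence.exists_conjG_of_indFun_eq ψ.2 θ.2 e
  exact over_conj hNC t h ha

theorem one_mem_lam : (⟨fun _ => 1, isIrrCharacter_one⟩ : Cfsg.IrrCharacter N) ∈ lam N t :=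
  (mem_lam t).mpr ⟨1, rfl⟩

theorem over_of_trivOn {θ : Cfsg.IrrCharacter C} (h : Coherence.TrivOn C N (θ : C → ℂ)) : Over hNC t θ := by
  refine ⟨_, one_mem_lam t, ?_⟩
  have h1 : resLe hNC (θ : C → ℂ) = (θ : C → ℂ) 1 • fun _ => (1 : ℂ) := funext fun u => by
    show (θ : C → ℂ) ⟨(u : X), hNC u.2⟩ = _
    rw [h ⟨(u : X), hNC u.2⟩ u.2, Pi.smul_apply, smul_eq_mul, mul_one]
  rw [h1, classInner_smul_left, classInner_irr_self isIrrCharacter_one, mul_one]
  exact IsIrrCharacter.apply_one_ne_zero θ.2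

include hab in
/-- If the constituents are principal the kernel contains `N`. -/
theorem trivOn_of_one {θ : Cfsg.IrrCharacter C}
    (h : Cfsg.classInner (resLe hNC (θ : C → ℂ)) (fun _ => 1) ≠ 0) : Coherence.TrivOn C N (θ : C → ℂ) := by
  intro a ha
  have hres := IsCharacter.isClassFunction (IsCharacter.resLe hNC (IsIrrCharacter.isCharacter θ.2))
  have he := congrFun (IsClassFunction.eq_sum_irr hres)
  have hz : ∀ ν : Cfsg.IrrCharacter N, ν ≠ ⟨fun _ => 1, isIrrCharacter_one⟩ →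
      Cfsg.classInner (resLe hNC (θ : C → ℂ)) (ν : N → ℂ) = 0 := fun ν hν => by
    by_contra hne
    obtain ⟨g, -, e⟩ := constituents_conj hNC θ (μ := ⟨fun _ => 1, isIrrCharacter_one⟩) h hne
    exact hν (Subtype.ext e)
  have hval : ∀ u : N, resLe hNC (θ : C → ℂ) u = Cfsg.classInner (resLe hNC (θ : C → ℂ)) (fun _ => 1) := fun u => by
    rw [he u, Finset.sum_apply, Finset.sum_eq_single (⟨fun _ => 1, isIrrCharacter_one⟩ : Cfsg.IrrCharacter N)
      (fun ν _ hν => by rw [Pi.smul_apply, hz ν hν, zero_smul]) (fun h => absurd (Finset.mem_univ _) h)]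
    rw [Pi.smul_apply, smul_eq_mul, mul_one]
  exact (hval ⟨(a : X), ha⟩).trans (hval 1).symm

include hab in
/-- A fixed character has a fixed constituent. -/
theorem exists_fixed_constituent {θ : Cfsg.IrrCharacter C} {μ : Cfsg.IrrCharacter N}
    (h : Cfsg.classInner (resLe hNC (θ : C → ℂ)) (μ : N → ℂ) ≠ 0) {k : X} (hk : (orderOf k).Prime)
    (hcop : (orderOf k).Coprime (Nat.card C)) (hfix : conjG (θ : C → ℂ) k = θ) :
    ∃ ν : Cfsg.IrrCharacter N, Cfsg.classInner (resLe hNC (θ : C → ℂ)) (ν : N → ℂ) ≠ 0 ∧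
      conjG (ν : N → ℂ) k = ν := by
  obtain ⟨mm, hmm, -⟩ := IsCharacter.exists_multiplicity (IsCharacter.resLe hNC (IsIrrCharacter.isCharacter θ.2))
  set O := Finset.univ.filter fun ν : Cfsg.IrrCharacter N => mm ν ≠ 0
  have hmem : ∀ ν, ν ∈ O ↔ Cfsg.classInner (resLe hNC (θ : C → ℂ)) (ν : N → ℂ) ≠ 0 := fun ν => by
    rw [hmm ν, Nat.cast_ne_zero]; simp [O]
  have hdeg : natDeg (θ : C → ℂ) = O.card * mm μ := by
    refine Nat.cast_injective (R := ℂ) ?_
    rw [natDeg_eq_sum hNC hab θ, Finset.sum_congr rfl fun ν _ => hmm ν, ← Nat.cast_sum, Nat.cast_inj,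
      ← Finset.sum_filter_ne_zero, ← smul_eq_mul, ← Finset.sum_const]
    refine Finset.sum_congr rfl fun ν hν => ?_
    obtain ⟨a, ha, e⟩ := constituents_conj hNC θ h ((hmem ν).mp hν)
    refine Nat.cast_injective (R := ℂ) ?_
    rw [← hmm ν, ← hmm μ, e, classInner_conj_mem hNC θ _ ha]
  have hdvd : natDeg (θ : C → ℂ) ∣ Nat.card C := by
    rw [TypeOneDegrees.natDeg_eq]; exact DegreeTools.deg_dvd_card θ
  have hstep : ∀ ν : Cfsg.IrrCharacter N, ∀ a : X, conjG (θ : C → ℂ) a = θ → ν ∈ O →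
      (⟨_, IsIrrCharacter.conjG ν.2 a⟩ : Cfsg.IrrCharacter N) ∈ O := fun ν a ha hν => by
    rw [hmem] at hν ⊢
    rw [← ha, resLe_conjG, classInner_conjG]
    exact hν
  have hfix' : conjG (θ : C → ℂ) k⁻¹ = θ := (stab (θ : C → ℂ)).inv_mem hfix
  let σ : Equiv.Perm O :=
    { toFun := fun ν => ⟨_, hstep ν.1 k hfix ν.2⟩
      invFun := fun ν => ⟨_, hstep ν.1 k⁻¹ hfix' ν.2⟩
      left_inv := fun ν => Subtype.ext (Subtype.ext (by
        show conjG (conjG (ν.1 : N → ℂ) k) k⁻¹ = _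
        rw [conjG_mul, mul_inv_cancel, conjG_one]))
      right_inv := fun ν => Subtype.ext (Subtype.ext (by
        show conjG (conjG (ν.1 : N → ℂ) k⁻¹) k = _
        rw [conjG_mul, inv_mul_cancel, conjG_one])) }
  have hpow : ∀ (n : ℕ) (ν : O), (((σ ^ n) ν).1 : N → ℂ) = conjG (ν.1 : N → ℂ) (k ^ n) := fun n => by
    induction n with
    | zero => intro ν; rw [pow_zero, pow_zero, conjG_one]; rfl
    | succ n ih =>
      intro ν
      rw [pow_succ', Equiv.Perm.mul_apply, pow_succ, ← conjG_mul, ← ih ν]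
      rfl
  haveI := Fact.mk hk
  obtain ⟨ν, hν⟩ := Equiv.Perm.exists_fixed_point_of_prime (σ := σ) (p := orderOf k) (n := 1) (fun hd => by
    rw [Fintype.card_coe] at hd
    exact (hk.coprime_iff_not_dvd.mp hcop) ((hd.trans ⟨mm μ, hdeg⟩).trans hdvd)) (by
    rw [pow_one]
    refine Equiv.ext fun ν => Subtype.ext (Subtype.ext ?_)
    rw [hpow, pow_orderOf_eq_one, conjG_one]
    rfl)
  exact ⟨ν.1, (hmem _).mp ν.2, congrArg (fun w : O => (w.1 : N → ℂ)) hν⟩

end CfsgLib.OddOrder.TypeOneOrbit
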