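import Cfsg.Agent.Lib.OddOrder.TypeOneDegrees
import Cfsg.Agent.Lib.Char.CliffordCorr
import Cfsg.Agent.Lib.Char.CliffordAbelian
import Cfsg.Agent.Lib.Char.Linear
import Cfsg.Agent.Lib.OddOrder.SigmaCover
import Cfsg.Agent.Lib.OddOrder.Basic
import Mathlib

set_option autoImplicit false
set_option linter.style.haveILetI false
set_option linter.unusedSectionVars false

/-!
The characters above a linear character of a complemented abelian normal subgroup.
-/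

namespace CfsgLib.OddOrder.TypeOneTwist

open scoped Classical
open CfsgLib.Char
open CfsgLib.Char.Coherence (natDeg natDeg_spec natDeg_pos)

/-- In a nilpotent group with commuting `p'`-elements the centre has index a power of `p`. -/
theorem center_index {X : Type*} [Group X] [Finite X] [Group.IsNilpotent X] {p : ℕ} (hp : p.Prime)
    (h : ∀ a b : X, ¬ p ∣ orderOf a → ¬ p ∣ orderOf b → Commute a b) :
    ∃ j, (Subgroup.center X).index = p ^ j := by
  have hcent : ∀ a : X, ¬ p ∣ orderOf a → a ∈ Subgroup.center X := fun a ha => Subgroup.mem_center_iff.mpr fun g => by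
    obtain ⟨b, c, hb, hc, rfl, -, hbp, hcp⟩ := SigmaCover.exists_parts ({p} : Set ℕ) g
    haveI : Group.IsNilpotent (⊤ : Subgroup X) := Group.nilpotent_of_mulEquiv Subgroup.topEquiv.symm
    have h1 : Commute b a := Basic.commute_of_mem_nilpotent (K := (⊤ : Subgroup X)) (Subgroup.mem_top b)
      (Subgroup.mem_top a) (Nat.coprime_of_dvd fun t ht d1 d2 => ha ((show t = p from hbp t ht d1) ▸ d2))
    exact ((h1.mul_left (h c a (fun hd => hcp p hp hd rfl) ha))).eq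
  have hall : ∀ t : ℕ, t.Prime → t ∣ (Subgroup.center X).index → t = p := fun t ht hd => by
    by_contra htp
    haveI := Fact.mk ht
    obtain ⟨S⟩ : Nonempty (Sylow t X) := inferInstance
    have hle : (S : Subgroup X) ≤ Subgroup.center X := fun a ha => hcent a fun hpd => by
      obtain ⟨i, hi⟩ := S.isPGroup'.exists_card_eq
      have h1 := hpd.trans (Subgroup.orderOf_dvd_natCard _ ha)
      rw [hi] at h1
      exact htp ((Nat.prime_dvd_prime_iff_eq hp ht).mp (hp.dvd_of_dvd_pow h1)).symm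
    exact S.not_dvd_index (hd.trans (Subgroup.index_dvd_of_le hle))
  exact ⟨_, Nat.eq_prime_pow_of_unique_prime_dvd Subgroup.index_ne_zero_of_finite fun {t} ht hd => hall t ht hd⟩

variable {C : Type*} [Group C] [Fintype C] (N Dh : Subgroup C) [N.Normal] [Fintype N]

/-- The degrees over a linear character `μ` and the squares of the smaller ones. -/
theorem main (hab : ∀ a b : N, a * b = b * a) (hdis : N ⊓ Dh = ⊥) (hsup : N ⊔ Dh = ⊤) [Group.IsNilpotent Dh]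
    {p : ℕ} (hp : p.Prime) (hD : ∀ a b : Dh, ¬ p ∣ orderOf a → ¬ p ∣ orderOf b → Commute a b)
    (μ : N →* ℂˣ) (θ : Cfsg.IrrCharacter C)
    (hθ : Cfsg.classInner (fun n : N => (θ : C → ℂ) n) (fun n : N => (μ n : ℂ)) ≠ 0) :
    ∃ k : ℕ, natDeg (θ : C → ℂ) = (stab (fun n : N => (μ n : ℂ))).index * p ^ k ∧
      (1 ≤ k → (natDeg (θ : C → ℂ)) ^ 2 ≤ ∑ ψ ∈ Finset.univ.filter (fun ψ : Cfsg.IrrCharacter C =>
        Cfsg.classInner (fun n : N => (ψ : C → ℂ) n) (fun n : N => (μ n : ℂ)) ≠ 0 ∧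
          natDeg (ψ : C → ℂ) < natDeg (θ : C → ℂ)), natDeg (ψ : C → ℂ) ^ 2) := by
  set μf : N → ℂ := fun n => (μ n : ℂ) with hμf
  have hμ : Cfsg.IsIrrCharacter N μf := isIrrCharacter_hom μ
  set T := stab μf with hTdef
  haveI := Fintype.ofFinite T
  have hNT : N ≤ T := le_stab (IsIrrCharacter.isClassFunction hμ)
  have hT : IsInertia μf T := isInertia_stab μf
  obtain ⟨ψ₀, hψ₀, hψ₀c, hθeq⟩ := exists_eq_indFun_inertia hNT hμ hT θ.2 hθ
  set N' := N.subgroupOf T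
  haveI : N'.Normal := Subgroup.Normal.subgroupOf inferInstance T
  -- the quotient by `N`
  let g : ↥(T ⊓ Dh) →* T ⧸ N' := (QuotientGroup.mk' N').comp (Subgroup.inclusion inf_le_left)
  have hgb : Function.Bijective g := by
    refine ⟨(injective_iff_map_eq_one g).mpr fun d hd => ?_, fun v => ?_⟩
    · have h1 := (QuotientGroup.eq_one_iff _).mp hd
      have h2 : (d : C) ∈ N ⊓ Dh := ⟨Subgroup.mem_subgroupOf.mp h1, d.2.2⟩
      rw [hdis, Subgroup.mem_bot] at h2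
      exact Subtype.ext h2
    · obtain ⟨t, rfl⟩ := QuotientGroup.mk_surjective v
      obtain ⟨a, ha, d, hd, e⟩ := Subgroup.mem_sup_of_normal_left.mp (hsup ▸ Subgroup.mem_top (t : C) : (t : C) ∈ N ⊔ Dh)
      have hdT : d ∈ T := by
        rw [show d = a⁻¹ * t by rw [← e, inv_mul_cancel_left]]
        exact mul_mem (inv_mem (hNT ha)) t.2
      refine ⟨⟨d, hdT, hd⟩, QuotientGroup.eq.mpr (Subgroup.mem_subgroupOf.mpr ?_)⟩
      show d⁻¹ * (t : C) ∈ N
      rw [← e, ← mul_assoc]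
      have := ‹N.Normal›.conj_mem a ha d⁻¹
      rwa [inv_inv] at this
  let e : ↥(T ⊓ Dh) ≃* T ⧸ N' := MulEquiv.ofBijective g hgb
  haveI : Group.IsNilpotent ↥(T ⊓ Dh) :=
    Group.nilpotent_of_mulEquiv (Subgroup.subgroupOfEquivOfLe (inf_le_right : T ⊓ Dh ≤ Dh))
  haveI : Group.IsNilpotent (T ⧸ N') := Group.nilpotent_of_mulEquiv e
  haveI := Fintype.ofFinite (T ⧸ N')
  obtain ⟨j, hj⟩ := center_index (X := T ⧸ N') hp fun a b ha hb => by
    obtain ⟨a, rfl⟩ := e.surjective a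
    obtain ⟨b, rfl⟩ := e.surjective b
    rw [e.orderOf_eq, ← Subgroup.orderOf_coe] at ha hb
    have h1 := hD ⟨a, a.2.2⟩ ⟨b, b.2.2⟩ (by rwa [← Subgroup.orderOf_coe]) (by rwa [← Subgroup.orderOf_coe])
    exact (show Commute a b from Subtype.ext (by simpa using congrArg Subtype.val h1.eq)).map e.toMonoidHom
  -- the extension of `μ`
  let r : T →* C := (Subgroup.subtype _).comp (e.symm.toMonoidHom.comp (QuotientGroup.mk' N'))
  have hrT : ∀ t : T, r t ∈ T := fun t => (e.symm (QuotientGroup.mk' N' t)).2.1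
  have hrN : ∀ t : T, (t : C) * (r t)⁻¹ ∈ N := fun t => by
    have h1 : QuotientGroup.mk' N' ⟨r t, hrT t⟩ = QuotientGroup.mk' N' t :=
      e.apply_symm_apply (QuotientGroup.mk' N' t)
    have h2 := Subgroup.mem_subgroupOf.mp (QuotientGroup.eq.mp h1)
    have h3 : (r t) * ((r t)⁻¹ * (t : C)) * (r t)⁻¹ ∈ N := ‹N.Normal›.conj_mem _ h2 _
    rwa [mul_inv_cancel_left] at h3
  let f : T →* ℂˣ := MonoidHom.mk' (fun t => μ ⟨_, hrN t⟩) fun t u => by
    have h1 : (⟨_, hrN (t * u)⟩ : N) = ⟨_, hrN t⟩ * ⟨r t * ((u : C) * (r u)⁻¹) * (r t)⁻¹,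
        ‹N.Normal›.conj_mem _ (hrN u) _⟩ := Subtype.ext (by
      show ((t * u : T) : C) * (r (t * u))⁻¹ = _
      rw [map_mul, Subgroup.coe_mul, Subgroup.coe_mul]
      group)
    rw [h1, map_mul]
    congr 1
    have h2 := congrFun (mem_stab.mp (hrT t)) ⟨_, hrN u⟩
    rw [conjG_apply] at h2
    exact Units.ext h2
  have hfN : ∀ n : T, ∀ hn : (n : C) ∈ N, f n = μ ⟨n, hn⟩ := fun n hn => by
    have h1 : r n = 1 := by
      show ((e.symm (QuotientGroup.mk' N' n) : ↥(T ⊓ Dh)) : C) = 1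
      rw [show QuotientGroup.mk' N' n = 1 from (QuotientGroup.eq_one_iff n).mpr (Subgroup.mem_subgroupOf.mpr hn),
        map_one, OneMemClass.coe_one]
    exact congrArg μ (Subtype.ext (by simp [h1]))
  have hf0 : ∀ t, (f t : ℂ) ≠ 0 := fun t => Units.ne_zero _
  -- over `μ` is trivial on `N` after the twist
  have hover : ∀ φ : T → ℂ, Cfsg.IsIrrCharacter T φ → Cfsg.classInner (resLe hNT φ) μf ≠ 0 →
      ∀ n ∈ N', φ n * ((f⁻¹ : T →* ℂˣ) n : ℂ) = φ 1 := by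
    intro φ hφ hc n hn
    have hn' := Subgroup.mem_subgroupOf.mp hn
    obtain ⟨mm, hmm, hexp⟩ := IsCharacter.exists_multiplicity (IsCharacter.resLe hNT (IsIrrCharacter.isCharacter hφ))
    have h1 := apply_one_inertia hNT hμ hT hφ hc
    rw [show μf 1 = 1 by simp [μf], mul_one] at h1
    have hμ' : Cfsg.classInner (resLe hNT φ) μf = (mm ⟨μf, hμ⟩ : ℂ) := hmm ⟨μf, hμ⟩
    have h2 := hexp 1
    rw [show resLe hNT φ 1 = φ 1 from rfl, h1, hμ'] at h2
    rw [Finset.sum_congr rfl fun ν _ => show (mm ν : ℂ) * (ν : N → ℂ) 1 = (mm ν : ℂ) by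
      rw [apply_one_eq_one_of_comm hab ν.2, mul_one]] at h2
    rw [← Nat.cast_sum, Nat.cast_inj, ← Finset.add_sum_erase _ _ (Finset.mem_univ (⟨μf, hμ⟩ : Cfsg.IrrCharacter N))]
      at h2
    have h3 : ∀ ν : Cfsg.IrrCharacter N, ν ≠ ⟨μf, hμ⟩ → mm ν = 0 := fun ν hν =>
      Finset.sum_eq_zero_iff.mp (by omega : ∑ ν ∈ Finset.univ.erase (⟨μf, hμ⟩ : Cfsg.IrrCharacter N), mm ν = 0) ν
        (Finset.mem_erase.mpr ⟨hν, Finset.mem_univ _⟩)
    have h4 := hexp ⟨n, hn'⟩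
    rw [Finset.sum_eq_single (⟨μf, hμ⟩ : Cfsg.IrrCharacter N) (fun ν _ hν => by rw [h3 ν hν, Nat.cast_zero, zero_mul])
      (fun h => absurd (Finset.mem_univ _) h), ← hμ', ← h1] at h4
    rw [show φ n = φ 1 * μf ⟨n, hn'⟩ from h4, show μf ⟨(n : C), hn'⟩ = (f n : ℂ) by rw [hfN n hn'],
      MonoidHom.inv_apply, Units.val_inv_eq_inv_val, mul_inv_cancel_right₀ (hf0 n)]
  -- deflate
  set φ₀ : T → ℂ := ψ₀ * fun t => ((f⁻¹ : T →* ℂˣ) t : ℂ) with hφ₀
  have hφ₀irr : Cfsg.IsIrrCharacter T φ₀ := IsIrrCharacter.mul_hom hψ₀ f⁻¹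
  obtain ⟨ψ', hψ', hψ'eq⟩ := IsIrrCharacter.exists_deflate hφ₀irr N' fun n hn => by
    simp only [φ₀, Pi.mul_apply]
    rw [hover ψ₀ hψ₀ hψ₀c n hn, map_one, Units.val_one, mul_one]
  have hψ₀val : ∀ t : T, ψ₀ t = ψ' (QuotientGroup.mk' N' t) * (f t : ℂ) := fun t => by
    have h1 := congrFun hψ'eq t
    simp only [φ₀, Pi.mul_apply, MonoidHom.inv_apply, Units.val_inv_eq_inv_val, Function.comp_apply] at h1
    rw [← h1, inv_mul_cancel_right₀ (hf0 t)]
  have hprior := TypeOneDegrees.prior (⊥ : Subgroup (T ⧸ N')) (Subgroup.center (T ⧸ N'))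
    (by rw [bot_sup_eq]) hp (m := j) (by rw [bot_sup_eq]; exact hj) ⟨ψ', hψ'⟩
  obtain ⟨d, hd⟩ : ∃ d, natDeg (ψ' : T ⧸ N' → ℂ) = p ^ d := by
    by_cases h1 : natDeg (ψ' : T ⧸ N' → ℂ) = 1
    · exact ⟨0, by rw [h1, pow_zero]⟩
    · obtain ⟨k, -, hk, -⟩ := hprior h1
      exact ⟨k, hk⟩
  have hdegθ : natDeg (θ : C → ℂ) = T.index * p ^ d := by
    refine Nat.cast_injective (R := ℂ) ?_
    rw [← natDeg_spec θ.2, hθeq, indFun_one, hψ₀val, map_one, map_one, Units.val_one, mul_one, Nat.cast_mul,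
      natDeg_spec hψ', hd]
  refine ⟨d, hdegθ, fun hd1 => ?_⟩
  obtain ⟨k, -, hk, hle⟩ := hprior (by rw [hd]; exact (Nat.one_lt_pow (by omega) hp.one_lt).ne')
  rw [hd] at hk hle
  obtain rfl : d = k := Nat.pow_right_injective hp.two_le hk
  set S' := Finset.univ.filter fun χ : Cfsg.IrrCharacter (T ⧸ N') =>
    (∀ n ∈ (⊥ : Subgroup (T ⧸ N')), (χ : T ⧸ N' → ℂ) n = (χ : T ⧸ N' → ℂ) 1) ∧ natDeg (χ : T ⧸ N' → ℂ) < p ^ d
  let lift : Cfsg.IrrCharacter (T ⧸ N') → (T → ℂ) := fun χ =>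
    ((χ : T ⧸ N' → ℂ) ∘ QuotientGroup.mk' N') * fun t => (f t : ℂ)
  have hlift : ∀ χ, Cfsg.IsIrrCharacter T (lift χ) := fun χ =>
    IsIrrCharacter.mul_hom (IsIrrCharacter.comp_surjective χ.2 _ (QuotientGroup.mk'_surjective N')) f
  have hliftc : ∀ χ, Cfsg.classInner (resLe hNT (lift χ)) μf ≠ 0 := fun χ => by
    have h1 : resLe hNT (lift χ) = (χ : T ⧸ N' → ℂ) 1 • μf := funext fun n => by
      show (χ : T ⧸ N' → ℂ) (QuotientGroup.mk' N' ⟨n, hNT n.2⟩) * (f ⟨n, hNT n.2⟩ : ℂ) = _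
      rw [show QuotientGroup.mk' N' ⟨n, hNT n.2⟩ = 1 from (QuotientGroup.eq_one_iff _).mpr
        (Subgroup.mem_subgroupOf.mpr n.2), hfN _ n.2]
      rfl
    rw [h1, classInner_smul_left, classInner_irr_self hμ, mul_one]
    exact IsIrrCharacter.apply_one_ne_zero χ.2
  let F : Cfsg.IrrCharacter (T ⧸ N') → Cfsg.IrrCharacter C := fun χ =>
    ⟨_, (indFun_inertia hNT hμ hT (hlift χ) (hliftc χ)).1⟩
  have hFdeg : ∀ χ, natDeg (F χ : C → ℂ) = T.index * natDeg (χ : T ⧸ N' → ℂ) := fun χ => by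
    refine Nat.cast_injective (R := ℂ) ?_
    rw [← natDeg_spec (F χ).2, Nat.cast_mul, ← natDeg_spec χ.2]
    show Cfsg.indFun T (lift χ) 1 = _
    rw [indFun_one]
    simp [lift]
  have hFinj : ∀ a b, F a = F b → a = b := fun a b hab' => by
    have h1 := indFun_inertia_inj hNT hμ hT (hlift a) (hliftc a) (hlift b) (hliftc b) (congrArg Subtype.val hab')
    refine Subtype.ext (funext fun q => ?_)
    obtain ⟨t, rfl⟩ := QuotientGroup.mk'_surjective N' q
    exact mul_right_cancel₀ (hf0 t) (congrFun h1 t)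
  rw [hdegθ, mul_pow, ← pow_mul, mul_comm d 2]
  refine le_trans (Nat.mul_le_mul_left _ hle) ?_
  rw [Finset.mul_sum]
  refine le_trans (le_of_eq (Finset.sum_congr rfl fun χ _ => show T.index ^ 2 * natDeg (χ : T ⧸ N' → ℂ) ^ 2 =
    natDeg (F χ : C → ℂ) ^ 2 by rw [hFdeg, mul_pow])) ?_
  rw [← Finset.sum_image (f := fun ψ : Cfsg.IrrCharacter C => natDeg (ψ : C → ℂ) ^ 2) fun a _ b _ h => hFinj a b h]
  refine Finset.sum_le_sum_of_subset fun ψ hψ => ?_
  obtain ⟨χ, hχ, rfl⟩ := Finset.mem_image.mp hψ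
  refine Finset.mem_filter.mpr ⟨Finset.mem_univ _, ?_, ?_⟩
  · rw [show Cfsg.classInner (fun n : N => (F χ : C → ℂ) n) μf = _ from
      (indFun_inertia hNT hμ hT (hlift χ) (hliftc χ)).2]
    exact hliftc χ
  · rw [hFdeg]
    exact Nat.mul_lt_mul_of_pos_left (Finset.mem_filter.mp hχ).2.2 (Nat.pos_of_ne_zero Subgroup.index_ne_zero_of_finite)

end CfsgLib.OddOrder.TypeOneTwist
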