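import Cfsg.Agent.Lib.OddOrder.TypeOneSplitAbelian
import Cfsg.Agent.Lib.OddOrder.TypeOneOrbit
import Cfsg.Agent.Lib.OddOrder.TypeOneTwist
import Cfsg.Agent.Lib.OddOrder.TypeOneLine
import Mathlib

set_option autoImplicit false
set_option linter.style.haveILetI false
set_option linter.unusedSectionVars false

/-!
The non-nilpotent configuration with a non-abelian `D`.
-/

namespace CfsgLib.OddOrder.TypeOneSplit

open scoped commutatorElement Classical
open CfsgLib.Char
open CfsgLib.Char.Coherence (natDeg natDeg_spec natDeg_pos)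
open TypeOneConfig (Cfg)
open TypeOneInduced (core ind)
open TypeOneAbove (above mem_above)
open TypeOneOrbit (lam Over mem_lam)
open StarPartner (Dstar)

variable {G : Type*} [Group G] [Fintype G] {M L A K Q D : Subgroup G} {x : G} {p q : ℕ} [Fintype L]

namespace Sys

variable (s : Sys M L A x p K Q D q)

include s

/-- `⁅L_σ, L_σ⁆ Q` fixes every character of `Q`. -/
theorem derived_fix (hG : Cfsg.IsMinSimpleOddOrder G) (c : Cfg M L A x p) [(Q.subgroupOf L).Normal]
    {μ : Q.subgroupOf L → ℂ} (hμ : Cfsg.IsClassFunction (Q.subgroupOf L) μ) :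
    ⁅core L, core L⁆ ⊔ Q.subgroupOf L ≤ stab μ := by
  refine sup_le ?_ (le_stab hμ)
  have hQL : Q ≤ L := s.Q_le.trans (SigmaTools.sigmaCore_le L)
  have hD'L : ⁅D, D⁆ ≤ L := (Subgroup.commutator_le_self D).trans (s.D_le.trans (SigmaTools.sigmaCore_le L))
  have hSn : Cfsg.sigmaCore L ≤ Subgroup.normalizer ((Q ⊔ ⁅D, D⁆ : Subgroup G) : Set G) := by
    conv_lhs => rw [← s.QD]
    refine sup_le ((le_inf Subgroup.le_normalizer ?_).trans (Subgroup.normalizer_inf_normalizer_le_normalizer_sup _ _))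
      ((le_inf s.D_normQ ?_).trans (Subgroup.normalizer_inf_normalizer_le_normalizer_sup _ _))
    · exact (Subgroup.le_centralizer_iff.mp s.derived_D).trans (Subgroup.centralizer_le_normalizer _)
    · exact CoreStructure.le_normalizer_commutator Subgroup.le_normalizer Subgroup.le_normalizer
  have hder : ⁅Cfsg.sigmaCore L, Cfsg.sigmaCore L⁆ ≤ Q ⊔ ⁅D, D⁆ :=
    derived_le_of s.QD s.D_normQ hSn ((Subgroup.commutator_le_self Q).trans le_sup_left)
      (s.R_le.trans le_sup_left) le_sup_right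
  rw [← TypeOneLine.comm_core]
  intro z hz
  have hz' : (z : G) ∈ Q ⊔ ⁅D, D⁆ := hder (Subgroup.mem_subgroupOf.mp hz)
  have hsup : z ∈ Q.subgroupOf L ⊔ ⁅D, D⁆.subgroupOf L := by
    rw [← Subgroup.subgroupOf_sup hQL hD'L]
    exact Subgroup.mem_subgroupOf.mpr hz'
  refine (sup_le (le_stab hμ) ?_ : Q.subgroupOf L ⊔ ⁅D, D⁆.subgroupOf L ≤ stab μ) hsup
  intro d hd
  refine mem_stab.mpr (funext fun u => congrArg μ (Subtype.ext (Subtype.ext ?_)))
  show (d : G) * ((u : L) : G) * (d : G)⁻¹ = ((u : L) : G)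
  have h1 := Subgroup.mem_centralizer_iff.mp (s.derived_D (Subgroup.mem_subgroupOf.mp hd)) _
    (Subgroup.mem_subgroupOf.mp u.2)
  rw [← h1, mul_inv_cancel_right]

/-- The `p'`-elements of `D` commute. -/
theorem commute_p' (hG : Cfsg.IsMinSimpleOddOrder G) (c : Cfg M L A x p) {a b : G} (ha : a ∈ D) (hb : b ∈ D)
    (hap : ¬ p ∣ orderOf a) (hbp : ¬ p ∣ orderOf b) : Commute a b := by
  haveI := s.nilD
  have hM : ∀ d ∈ D, ¬ p ∣ orderOf d → d ∈ M := fun d hd hdp => c.cent (Subgroup.mem_centralizer_singleton_iff.mpr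
    (Basic.commute_of_mem_nilpotent hd (s.x_mem c)
      (by rw [c.order]; exact (c.prime.coprime_iff_not_dvd.mpr hdp).symm)).eq)
  have hle : D ⊓ M ≤ L ⊓ M := inf_le_inf_right _ (s.D_le.trans (SigmaTools.sigmaCore_le L))
  haveI : Group.IsNilpotent ↥(D ⊓ M) :=
    Group.nilpotent_of_mulEquiv (Subgroup.subgroupOfEquivOfLe (inf_le_left : D ⊓ M ≤ D))
  have := TypeOneNeighbour.abelian_E hG c hle inferInstance
  exact congrArg Subtype.val
    (this.is_comm.comm (⟨a, ha, hM a ha hap⟩ : ↥(D ⊓ M)) ⟨b, hb, hM b hb hbp⟩)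

/-- A character of `Q` fixed by `K` with a conjugate fixed by `x` is principal. -/
theorem eq_one_of_lam (hG : Cfsg.IsMinSimpleOddOrder G) (c : Cfg M L A x p) [(Q.subgroupOf L).Normal]
    [Fintype (Q.subgroupOf L)] {μ : Cfsg.IrrCharacter (Q.subgroupOf L)}
    (hμ : μ ∈ lam (Q.subgroupOf L) (⟨x, c.A_le_L c.mem⟩ : L)) {k : L} (hk : k ∈ K.subgroupOf L) (hk1 : k ≠ 1)
    (hfix : conjG (μ : Q.subgroupOf L → ℂ) k = μ) : (μ : Q.subgroupOf L → ℂ) = fun _ => 1 := by
  set xL : L := ⟨x, c.A_le_L c.mem⟩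
  set T := stab (μ : Q.subgroupOf L → ℂ)
  haveI hQc := s.Q_comm hG c
  have hab : ∀ a b : Q.subgroupOf L, a * b = b * a := fun a b => Subtype.ext (Subtype.ext
    (by simpa using congrArg Subtype.val (hQc.is_comm.comm (⟨_, Subgroup.mem_subgroupOf.mp a.2⟩ : Q)
      ⟨_, Subgroup.mem_subgroupOf.mp b.2⟩)))
  have hJ := s.derived_fix hG c (IsIrrCharacter.isClassFunction μ.2)
  -- `K` is in the stabiliser
  haveI := Fact.mk s.fix_prime
  have hKT : K.subgroupOf L ≤ T := by
    have hcard : Nat.card (Subgroup.zpowers k) = Nat.card (K.subgroupOf L) := by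
      refine ((s.fix_prime.eq_one_or_self_of_dvd _ ?_).resolve_left fun h1 => hk1 ?_).trans s.kap.card_K.symm
      · rw [Nat.card_zpowers, ← s.kap.card_K]
        exact Subgroup.orderOf_dvd_natCard _ hk
      · rw [Nat.card_zpowers] at h1
        exact orderOf_eq_one_iff.mp h1
    rw [← Subgroup.eq_of_le_of_card_ge (Subgroup.zpowers_le.mpr hk) hcard.ge]
    exact Subgroup.zpowers_le.mpr (mem_stab.mpr hfix)
  obtain ⟨l, hl⟩ := (mem_lam xL).mp hμ
  have hlx : l * xL * l⁻¹ ∈ T := by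
    refine mem_stab.mpr ?_
    have := congrArg (fun f => conjG f l⁻¹) hl
    simp only [conjG_mul, mul_inv_cancel, conjG_one] at this
    exact this
  have hxT : xL ∈ T := by
    obtain ⟨k', hk', a, ha, rfl⟩ := Subgroup.mem_sup_of_normal_right.mp
      (by rw [sup_comm, s.kap.sup_K]; exact Subgroup.mem_top l : l ∈ K.subgroupOf L ⊔ core L)
    have h1 : a * xL * a⁻¹ ∈ T := by
      have := mul_mem (mul_mem (T.inv_mem (hKT hk')) hlx) (hKT hk')
      rwa [show k'⁻¹ * (k' * a * xL * (k' * a)⁻¹) * k' = a * xL * a⁻¹ by group] at this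
    have h2 : ⁅a, xL⁆ ∈ T :=
      hJ (Subgroup.mem_sup_left (Subgroup.commutator_mem_commutator ha (Subgroup.mem_subgroupOf.mpr (c.x_mem_S hG))))
    have := mul_mem (T.inv_mem h2) h1
    rwa [show ⁅a, xL⁆⁻¹ * (a * xL * a⁻¹) = xL by rw [commutatorElement_def]; group] at this
  obtain ⟨f, hf⟩ := exists_hom_of_apply_one_eq_one (IsIrrCharacter.isCharacter μ.2)
    (apply_one_eq_one_of_comm hab μ.2)
  have hkill : ∀ u : Q.subgroupOf L, ∀ t ∈ T, ∀ h : ⁅(u : L), t⁆ ∈ Q.subgroupOf L, f ⟨_, h⟩ = 1 := by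
    intro u t ht h
    have h1 := congrFun (mem_stab.mp ht) u⁻¹
    rw [conjG_apply, hf] at h1
    have h2 : (⟨⁅(u : L), t⁆, h⟩ : Q.subgroupOf L) =
        u * ⟨t * ((u⁻¹ : Q.subgroupOf L) : L) * t⁻¹, ‹(Q.subgroupOf L).Normal›.conj_mem _ (u⁻¹).2 t⟩ :=
      Subtype.ext (by
        show ⁅(u : L), t⁆ = (u : L) * (t * (u : L)⁻¹ * t⁻¹)
        rw [commutatorElement_def]; group)
    rw [h2, map_mul, Units.ext h1, map_inv, mul_inv_cancel]
  have hgen : Q ≤ (f.ker.map (Q.subgroupOf L).subtype).map L.subtype := by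
    refine (s.gen hG c).trans (sup_le (Subgroup.commutator_le.mpr fun u hu t ht => ?_)
      (Subgroup.commutator_le.mpr fun u hu t ht => ?_))
    · have htL : t ∈ L := s.split.K_le ht
      have hcm : ⁅u, t⁆ ∈ Q := Subgroup.le_normalizer_iff_commutator_le_left.mp (s.split.K_le.trans s.L_norm)
        (Subgroup.commutator_mem_commutator hu ht)
      have huL : u ∈ L := SigmaTools.sigmaCore_le L (s.Q_le hu)
      have hm : ⁅(⟨u, huL⟩ : L), ⟨t, htL⟩⁆ ∈ Q.subgroupOf L := Subgroup.mem_subgroupOf.mpr hcm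
      exact ⟨_, ⟨⟨_, hm⟩, hkill ⟨⟨u, huL⟩, Subgroup.mem_subgroupOf.mpr hu⟩ ⟨t, htL⟩
        (hKT (Subgroup.mem_subgroupOf.mpr ht)) hm, rfl⟩, rfl⟩
    · obtain ⟨i, rfl⟩ := Subgroup.mem_zpowers_iff.mp ht
      have htL : x ^ i ∈ L := zpow_mem (c.A_le_L c.mem) i
      have hcm : ⁅u, x ^ i⁆ ∈ Q := Subgroup.le_normalizer_iff_commutator_le_left.mp s.D_normQ
        (Subgroup.commutator_mem_commutator hu (zpow_mem (s.x_mem c) i))
      have huL : u ∈ L := SigmaTools.sigmaCore_le L (s.Q_le hu)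
      have hm : ⁅(⟨u, huL⟩ : L), xL ^ i⁆ ∈ Q.subgroupOf L := Subgroup.mem_subgroupOf.mpr hcm
      exact ⟨_, ⟨⟨_, hm⟩, hkill ⟨⟨u, huL⟩, Subgroup.mem_subgroupOf.mpr hu⟩ (xL ^ i) (zpow_mem hxT i) hm, rfl⟩,
        rfl⟩
  refine hf.trans (funext fun u => ?_)
  obtain ⟨_, ⟨v, hv, rfl⟩, e⟩ := hgen (Subgroup.mem_subgroupOf.mp u.2)
  rw [← show v = u from Subtype.ext (Subtype.ext e), show f v = 1 from hv, Units.val_one]

variable [Fintype (core L)]

theorem main_nonabelian (hG : Cfsg.IsMinSimpleOddOrder G) (c : Cfg M L A x p) (hD : ¬ IsMulCommutative D) :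
    False := by
  haveI := s.Q_comm hG c
  haveI := Fact.mk c.prime
  have hoddL : Odd (Nat.card L) := hG.1.of_dvd_nat (Subgroup.card_subgroup_dvd_card _)
  have hodd := TypeOneNeighbour.core_odd (L := L) hG
  have hk := s.kap
  have he1 : (core L).index ≠ 1 := hk.index_ne_one
  have h2ep : 2 * (core L).index + 1 ≤ p := by
    have h1 : (core L).index ∣ p - 1 := by rw [hk.index_eq]; exact s.dvd_of_nonabelian hG c hD
    have h2 : 2 ∣ p - 1 := (Nat.Odd.sub_odd (c.odd hG) odd_one).two_dvd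
    have h3 : 2 * (core L).index ≤ p - 1 := Nat.le_of_dvd (by have := c.prime.one_lt; omega)
      ((Nat.coprime_two_left.mpr hodd).mul_dvd_of_dvd_of_dvd h2 h1)
    have := c.prime.one_lt
    omega
  set QL : Subgroup L := Q.subgroupOf L with hQL
  have hQleL : Q ≤ L := s.Q_le.trans (SigmaTools.sigmaCore_le L)
  haveI hQn : QL.Normal := (Subgroup.normal_subgroupOf_iff_le_normalizer hQleL).mpr s.L_norm
  haveI := Fintype.ofFinite QL
  set xL : L := ⟨x, c.A_le_L c.mem⟩
  have hxC : xL ∈ core L := Subgroup.mem_subgroupOf.mpr (c.x_mem_S hG)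
  have hNC : QL ≤ core L := fun z hz => Subgroup.mem_subgroupOf.mpr (s.Q_le (Subgroup.mem_subgroupOf.mp hz))
  have hxQ : x ∉ Q := fun h => c.x_ne_one (Subgroup.mem_bot.mp (s.disj.le ⟨h, s.x_mem c⟩))
  have hab : ∀ a b : QL, a * b = b * a := fun a b => Subtype.ext (Subtype.ext
    (by simpa using congrArg Subtype.val ((s.Q_comm hG c).is_comm.comm (⟨_, Subgroup.mem_subgroupOf.mp a.2⟩ : Q)
      ⟨_, Subgroup.mem_subgroupOf.mp b.2⟩)))
  set F := Finset.univ.filter (Over hNC xL) with hF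
  set Θ := F.erase (DegreeTools.oneChar (core L)) with hΘ
  have hmem : ∀ θ, θ ∈ Θ ↔ θ ≠ DegreeTools.oneChar (core L) ∧ Over hNC xL θ := fun θ => by simp [Θ, F]
  have hone : DegreeTools.oneChar (core L) ∈ F :=
    Finset.mem_filter.mpr ⟨Finset.mem_univ _, TypeOneOrbit.over_of_trivOn hNC xL fun _ _ => rfl⟩
  -- stable
  have hst : ∀ θ ∈ Θ, ∀ ψ : Cfsg.IrrCharacter (core L), ind (core L) ψ = ind (core L) θ → ψ ∈ Θ := by
    intro θ hθ ψ h
    obtain ⟨hne, ho⟩ := (hmem θ).mp hθ
    refine (hmem ψ).mpr ⟨fun h1 => hne ?_, TypeOneOrbit.over_stable hNC xL ho h⟩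
    obtain ⟨g, hg⟩ := Coherence.exists_conjG_of_indFun_eq θ.2 ψ.2 h.symm
    subst h1
    exact Subtype.ext (hg.trans rfl)
  -- irreducible
  obtain ⟨k₀, hk₀, hk₀1⟩ := (Subgroup.bot_or_exists_ne_one (K.subgroupOf L)).resolve_left fun eK =>
    hk.ne (Subgroup.eq_bot_of_card_eq _ (by rw [← hk.card_K, eK, Subgroup.card_bot]))
  have hk₀p : (orderOf k₀).Prime := by
    have h1 := (s.fix_prime.eq_one_or_self_of_dvd _ (hk.card_K ▸ Subgroup.orderOf_dvd_natCard _ hk₀)).resolve_left
      fun h => hk₀1 (orderOf_eq_one_iff.mp h)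
    rw [h1]; exact s.fix_prime
  obtain ⟨hfixall, -⟩ := hk.chars hoddL
  have hirr : ∀ θ ∈ Θ, Cfsg.IsIrrCharacter L (ind (core L) θ) := fun θ hθ => by
    by_contra hni
    obtain ⟨hne, μ, hμ, hc⟩ := (hmem θ).mp hθ
    obtain ⟨ν, hν, hνfix⟩ := TypeOneOrbit.exists_fixed_constituent hNC hab hc hk₀p (hk.coprime_orderOf hk₀)
      (hfixall θ hni k₀ hk₀)
    obtain ⟨a, -, ea⟩ := TypeOneOrbit.constituents_conj hNC θ hc hν
    have hνlam : ν ∈ lam QL xL := by
      rw [show ν = ⟨_, IsIrrCharacter.conjG μ.2 a⟩ from Subtype.ext ea]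
      exact TypeOneOrbit.conj_mem_lam xL hμ a
    rw [s.eq_one_of_lam hG c hνlam hk₀ hk₀1 hνfix] at hν
    exact (DegreeTools.ne_oneChar_iff θ).mp hne (TypeOneKappa.eq_one_of_fixed (core L) QL
      (hk.coprime_orderOf hk₀) ((hk.fix_L hk₀ hk₀1).le.trans fun z hz => Subgroup.mem_subgroupOf.mpr
        (s.split.star (Subgroup.mem_subgroupOf.mp hz))) hNC θ.2 (TypeOneOrbit.trivOn_of_one hNC hab hν)
      (hfixall θ hni k₀ hk₀))
  -- linear members
  have hsol : Group.IsSolvable (core L) :=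
    haveI := hG.2.2.2 L c.coatomL.1
    inferInstance
  have hlt : QL < core L :=
    lt_of_le_of_ne hNC fun h => hxQ (Subgroup.mem_subgroupOf.mp (show xL ∈ QL from h ▸ hxC))
  have hsub : ∀ Z : Subgroup L, QL ≤ Z → above L Z ⊆ Θ := fun Z hZ θ hθ => by
    obtain ⟨h1, h2⟩ := mem_above.mp hθ
    exact (hmem θ).mpr ⟨h1, TypeOneOrbit.over_of_trivOn hNC xL fun a ha => h2 a (hZ ha)⟩
  have hlin : (core L).index < (Θ.filter fun θ : Cfsg.IrrCharacter (core L) => natDeg (θ : core L → ℂ) = 1).card :=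
    lt_of_lt_of_le
      (TypeOneAbove.index_lt_linear QL hlt hsol hoddL fun θ hθ => hirr θ (hsub QL le_rfl hθ))
      (Finset.card_le_card (Finset.filter_subset_filter _ (hsub QL le_rfl)))
  -- the derived subgroup
  set J := ⁅core L, core L⁆ ⊔ QL with hJ
  haveI : J.Normal := Subgroup.sup_normal _ _
  have hJC : J ≤ core L := sup_le (Subgroup.commutator_le_self _) hNC
  have hxJ : xL ∉ J := fun h => by
    obtain ⟨d, hd, u, hu, he'⟩ := Subgroup.mem_sup_of_normal_left.mp h
    set π := QuotientGroup.mk' ⁅core L, core L⁆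
    have hπ : π xL = π u := by
      rw [← he', map_mul, show π d = 1 from (QuotientGroup.eq_one_iff d).mpr hd, one_mul]
    have h1 : orderOf (π xL) ∣ p := by
      have := orderOf_map_dvd π xL
      rwa [← Subgroup.orderOf_coe xL, show ((xL : L) : G) = x from rfl, c.order] at this
    have h2 : orderOf (π xL) ∣ Nat.card Q := by
      rw [hπ]
      refine (orderOf_map_dvd π u).trans ?_
      rw [← Subgroup.orderOf_coe]
      exact Subgroup.orderOf_dvd_natCard _ (Subgroup.mem_subgroupOf.mp hu)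
    have hcop : p.Coprime (Nat.card Q) :=
      (c.order ▸ s.cop.coprime_dvd_right (Subgroup.orderOf_dvd_natCard _ (s.x_mem c))).symm
    have h3 := (QuotientGroup.eq_one_iff xL).mp (orderOf_eq_one_iff.mp (Nat.eq_one_of_dvd_coprimes hcop h1 h2))
    rw [← TypeOneLine.comm_core] at h3
    exact c.not_mem_derived hG (Subgroup.mem_subgroupOf.mp h3)
  -- the degrees
  set N' : Subgroup (core L) := QL.subgroupOf (core L)
  haveI : N'.Normal := Subgroup.Normal.subgroupOf hQn _
  haveI := Fintype.ofFinite N'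
  let eN : N' ≃* QL := Subgroup.subgroupOfEquivOfLe hNC
  have hDL : D ≤ L := s.D_le.trans (SigmaTools.sigmaCore_le L)
  set Dh : Subgroup (core L) := (D.subgroupOf L).subgroupOf (core L) with hDh
  have hDC : D.subgroupOf L ≤ core L := fun z hz => Subgroup.mem_subgroupOf.mpr (s.D_le (Subgroup.mem_subgroupOf.mp hz))
  haveI : Group.IsNilpotent Dh :=
    haveI := s.nilD
    Group.nilpotent_of_mulEquiv ((Subgroup.subgroupOfEquivOfLe hDC).trans (Subgroup.subgroupOfEquivOfLe hDL)).symm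
  have hdis : N' ⊓ Dh = ⊥ := eq_bot_iff.mpr fun z hz => Subgroup.mem_bot.mpr (Subtype.ext (Subtype.ext
    (Subgroup.mem_bot.mp (s.disj.le ⟨Subgroup.mem_subgroupOf.mp (Subgroup.mem_subgroupOf.mp hz.1),
      Subgroup.mem_subgroupOf.mp (Subgroup.mem_subgroupOf.mp hz.2)⟩))))
  have hsup : N' ⊔ Dh = ⊤ := by
    rw [← Subgroup.subgroupOf_sup hNC hDC, hQL, ← Subgroup.subgroupOf_sup hQleL hDL, s.QD]
    exact Subgroup.subgroupOf_self _
  have hdeg : ∀ θ ∈ Θ, natDeg (θ : core L → ℂ) ≠ 1 → 2 * (core L).index * natDeg (θ : core L → ℂ) <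
      ∑ ψ ∈ Θ.filter (fun ψ : Cfsg.IrrCharacter (core L) => natDeg (ψ : core L → ℂ) = 1 ∨
        natDeg (ψ : core L → ℂ) < natDeg (θ : core L → ℂ)), natDeg (ψ : core L → ℂ) ^ 2 := by
    intro θ hθ hne1
    obtain ⟨-, μ, hμ, hc⟩ := (hmem θ).mp hθ
    obtain ⟨f, hf⟩ := exists_hom_of_apply_one_eq_one (IsIrrCharacter.isCharacter μ.2)
      (apply_one_eq_one_of_comm hab μ.2)
    set μN : N' →* ℂˣ := f.comp eN.toMonoidHom with hμN
    have hμN' : (fun n : N' => (μN n : ℂ)) = (μ : QL → ℂ) ∘ eN := by rw [hf]; rfl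
    have htr : ∀ ψ : Cfsg.IrrCharacter (core L),
        Cfsg.classInner (fun n : N' => (ψ : core L → ℂ) n) (fun n : N' => (μN n : ℂ)) =
          Cfsg.classInner (resLe hNC (ψ : core L → ℂ)) (μ : QL → ℂ) := fun ψ => by
      rw [hμN']
      exact classInner_resLe (G := L) hNC (ψ : core L → ℂ) (μ : QL → ℂ)
    obtain ⟨k, hdk, hbig⟩ := TypeOneTwist.main N' Dh (fun a b => eN.injective (by rw [map_mul, map_mul]; exact hab _ _))
      hdis hsup c.prime (fun a b ha hb => Subtype.ext (Subtype.ext (Subtype.ext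
        (s.commute_p' hG c (Subgroup.mem_subgroupOf.mp (Subgroup.mem_subgroupOf.mp a.2))
          (Subgroup.mem_subgroupOf.mp (Subgroup.mem_subgroupOf.mp b.2))
          (by rwa [Subgroup.orderOf_coe, Subgroup.orderOf_coe, Subgroup.orderOf_coe])
          (by rwa [Subgroup.orderOf_coe, Subgroup.orderOf_coe, Subgroup.orderOf_coe])).eq)))
      μN θ (by rw [htr θ]; exact hc)
    set o := (stab (fun n : N' => (μN n : ℂ))).index with ho
    set d := natDeg (θ : core L → ℂ) with hd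
    have hd0 : 0 < d := natDeg_pos θ.2
    set S := Θ.filter fun ψ : Cfsg.IrrCharacter (core L) =>
      natDeg (ψ : core L → ℂ) = 1 ∨ natDeg (ψ : core L → ℂ) < d with hS
    show _ < ∑ ψ ∈ S, natDeg (ψ : core L → ℂ) ^ 2
    by_cases hk0 : 1 ≤ k
    · have h1 := (hbig hk0).trans (Finset.sum_le_sum_of_subset
        (t := insert (DegreeTools.oneChar (core L)) S) fun ψ hψ => by
        obtain ⟨-, h2, h3⟩ := Finset.mem_filter.mp hψ
        by_cases h1 : ψ = DegreeTools.oneChar (core L)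
        · exact Finset.mem_insert.mpr (Or.inl h1)
        · exact Finset.mem_insert_of_mem (Finset.mem_filter.mpr
            ⟨(hmem ψ).mpr ⟨h1, μ, hμ, by rw [← htr ψ]; exact h2⟩, Or.inr h3⟩))
      rw [Finset.sum_insert (fun h => ((hmem _).mp (Finset.mem_filter.mp h).1).1 rfl),
        TypeOneDegrees.natDeg_oneChar, one_pow] at h1
      have hpd : p ≤ d := by
        rw [hdk]
        exact (Nat.le_self_pow (by omega) p).trans
          (Nat.le_mul_of_pos_left _ (Nat.pos_of_ne_zero Subgroup.index_ne_zero_of_finite))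
      have h4 : (2 * (core L).index + 1) * d ≤ d * d := Nat.mul_le_mul_right _ (h2ep.trans hpd)
      have hdd : d ^ 2 = d * d := sq d
      rw [hdd] at h1
      rw [add_mul, one_mul] at h4
      have h5 : d * d ≤ 1 + ∑ ψ ∈ S, natDeg (ψ : core L → ℂ) ^ 2 := h1
      generalize ∑ ψ ∈ S, natDeg (ψ : core L → ℂ) ^ 2 = R at h5 ⊢
      have : 2 ≤ d := by omega
      omega
    · obtain rfl : k = 0 := by omega
      rw [pow_zero, mul_one] at hdk
      set J' := J.subgroupOf (core L)
      haveI : J'.Normal := Subgroup.Normal.subgroupOf ‹J.Normal› _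
      set T := stab (fun n : N' => (μN n : ℂ))
      have hiffT : ∀ g : core L, g ∈ T ↔ conjG (μ : QL → ℂ) (g : L) = μ := by
        intro g
        rw [mem_stab, hμN']
        constructor
        · intro h
          funext u
          have h1 := congrFun h (eN.symm u)
          rw [conjG_apply, Function.comp_apply, Function.comp_apply, eN.apply_symm_apply] at h1
          exact h1
        · intro h
          funext n
          exact congrFun h (eN n)
      have hJT : J' ≤ T := fun g hg => (hiffT g).mpr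
        (mem_stab.mp (s.derived_fix hG c (IsIrrCharacter.isClassFunction μ.2) (Subgroup.mem_subgroupOf.mp hg)))
      obtain ⟨l, hl⟩ := (mem_lam xL).mp hμ
      set t : core L := ⟨l * xL * l⁻¹, (TypeOneInduced.core_normal L).conj_mem _ hxC l⟩
      have htT : t ∈ T := (hiffT t).mpr (by
        have := congrArg (fun w => conjG w l⁻¹) hl
        simp only [conjG_mul, mul_inv_cancel, conjG_one] at this
        exact this)
      have htJ : t ∉ J' := fun h => hxJ (by
        have := ‹J.Normal›.conj_mem _ (Subgroup.mem_subgroupOf.mp h) l⁻¹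
        simpa [t, mul_assoc] using this)
      have htp : t ^ p = 1 := Subtype.ext (by
        show (l * xL * l⁻¹) ^ p = 1
        rw [conj_pow, show xL ^ p = 1 from Subtype.ext (by
          rw [SubmonoidClass.coe_pow, ← c.order]; exact pow_orderOf_eq_one x), mul_one, mul_inv_cancel])
      have hidx : d * p ≤ J'.index := by
        set π := QuotientGroup.mk' J'
        have h1 : (T.map π).index = T.index :=
          Subgroup.index_map_eq T (QuotientGroup.mk'_surjective J') (by rw [QuotientGroup.ker_mk']; exact hJT)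
        have h2 : orderOf (π t) = p := orderOf_eq_prime (by rw [← map_pow, htp, map_one])
          fun h => htJ ((QuotientGroup.eq_one_iff t).mp h)
        have h3 : p ∣ Nat.card (T.map π) := h2 ▸ Subgroup.orderOf_dvd_natCard _ ⟨t, htT, rfl⟩
        rw [J'.index_eq_card, ← (T.map π).card_mul_index, h1, hdk, mul_comm _ p]
        exact Nat.mul_le_mul_right _ (Nat.le_of_dvd Nat.card_pos h3)
      have hsq : ∑ ψ ∈ above L J, natDeg (ψ : core L → ℂ) ^ 2 + 1 = J'.index := TypeOneAbove.sum_sq J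
      have hsubS : above L J ⊆ S := fun ψ hψ => Finset.mem_filter.mpr ⟨hsub J le_sup_right hψ, Or.inl
        ((Feit.trivOn_commutator_iff _ ψ.2).mp fun a ha => (mem_above.mp hψ).2 a (Subgroup.mem_sup_left ha))⟩
      have h5 := Finset.sum_le_sum_of_subset (f := fun ψ : Cfsg.IrrCharacter (core L) => natDeg (ψ : core L → ℂ) ^ 2)
        hsubS
      have h6 : d * (2 * (core L).index + 1) ≤ d * p := Nat.mul_le_mul_left _ h2ep
      rw [mul_add, mul_one, mul_comm d (2 * (core L).index)] at h6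
      omega
  have hcoh := TypeOneInduced.coherent hG c.coatomL Θ hirr hst hlin hdeg
  obtain ⟨θ₁, hθ₁⟩ := Finset.card_pos.mp (lt_of_le_of_lt (Nat.zero_le _) hlin)
  -- the sums
  have hQLc : Nat.card QL = Nat.card Q := Nat.card_congr (Subgroup.subgroupOfEquivOfLe hQleL).toEquiv
  have hsq : ∑ θ ∈ Θ, natDeg (θ : core L → ℂ) ^ 2 + 1 = (lam QL xL).card * Nat.card D := by
    have h := TypeOneOrbit.sum_over_sq hNC hab xL
    rw [← hF, ← Finset.sum_erase_add _ _ hone, TypeOneDegrees.natDeg_oneChar, one_pow, ← hΘ, hQLc,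
      TypeOneKappa.card_core, s.card_S, mul_comm (Nat.card Q), ← mul_assoc] at h
    exact Nat.eq_of_mul_eq_mul_right Nat.card_pos h
  have hlam : Nat.card ↥(Q ⊓ M) ≤ (lam QL xL).card := by
    refine le_trans (le_of_eq ?_) (TypeOneOrbit.card_le_lam hab xL (((Q ⊓ M).subgroupOf L).subgroupOf QL) fun u hu => ?_)
    · exact ((Nat.card_congr (Subgroup.subgroupOfEquivOfLe (Subgroup.comap_mono inf_le_left : (Q ⊓ M).subgroupOf L ≤ QL)).toEquiv).trans
        (Nat.card_congr (Subgroup.subgroupOfEquivOfLe (inf_le_left.trans hQleL)).toEquiv)).symm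
    · refine Subtype.ext ?_
      show x * ((u : L) : G) * x⁻¹ = ((u : L) : G)
      rw [Subgroup.mem_centralizer_iff.mp
        (s.inter_Q hG c (Subgroup.mem_subgroupOf.mp (Subgroup.mem_subgroupOf.mp hu))) x c.mem, mul_inv_cancel_right]
  have hS : p ^ 2 ≤ (lam QL xL).card * Nat.card D :=
    (s.sq_le_D c).trans (Nat.le_mul_of_pos_left _ (lt_of_lt_of_le Nat.card_pos hlam))
  have hb := TypeOneInduced.contra hG c Θ hirr hst hcoh
    ⟨θ₁, (Finset.mem_filter.mp hθ₁).1, (Finset.mem_filter.mp hθ₁).2⟩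
    (fun g hg hg1 => ?_) (X := (lam QL xL).card * Nat.card D - 1) (by omega) ?_
  · rw [Nat.cast_sub (le_trans (Nat.one_le_pow _ _ c.prime.pos) hS), Nat.cast_one] at hb
    refine TypeOneNeighbour.no_small c.prime hodd he1 (by omega) hS ?_ hb
    exact (s.card_E hG).trans (Nat.mul_le_mul_right _ hlam)
  · have h := TypeOneOrbit.sum_over_zero hNC hab xL g fun hgQ => hxQ ?_
    · rw [← hF, ← Finset.sum_erase_add _ _ hone, TypeOneDegrees.natDeg_oneChar] at h
      simp only [DegreeTools.coe_oneChar, Nat.cast_one, mul_one, ← hΘ] at h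
      exact eq_neg_of_add_eq_zero_left h
    · have hzp : Subgroup.zpowers ((g : L) : G) = Subgroup.zpowers x :=
        Subgroup.eq_of_le_of_card_ge (Subgroup.zpowers_le.mpr hg) (by
          rw [Nat.card_zpowers, Nat.card_zpowers, c.order]
          refine le_of_eq (Eq.symm ?_)
          refine ((c.prime.eq_one_or_self_of_dvd _ ?_).resolve_left fun h1 => hg1 (orderOf_eq_one_iff.mp h1))
          rw [← c.order, ← Nat.card_zpowers x]
          exact Subgroup.orderOf_dvd_natCard _ hg)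
      exact Subgroup.zpowers_le.mp (hzp ▸ Subgroup.zpowers_le.mpr (Subgroup.mem_subgroupOf.mp hgQ))
  · have h1 := Nat.mul_le_mul_left (p - 1) (show 2 * (core L).index ≤ p + 1 by omega)
    have h2 : (p - 1) * (p + 1) + 1 = p ^ 2 := by
      obtain ⟨i, rfl⟩ : ∃ i, p = i + 1 := ⟨p - 1, by have := c.prime.one_lt; omega⟩
      simp only [Nat.add_sub_cancel]; ring
    rw [mul_assoc, mul_comm 2, mul_assoc, mul_comm _ 2]
    omega

end Sys

/-- **No configuration with a non-nilpotent `L_σ`.** -/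
theorem main {G : Type*} [Group G] [Finite G] {M L A : Subgroup G} {x : G} {p : ℕ}
    (hG : Cfsg.IsMinSimpleOddOrder G) (c : Cfg M L A x p) (hκ : Cfsg.kappa L ≠ ∅)
    (hn : ¬ Group.IsNilpotent (Cfsg.sigmaCore L)) : False := by
  haveI := Fintype.ofFinite G
  haveI := Fintype.ofFinite L
  haveI := Fintype.ofFinite (core L)
  obtain ⟨K, Q, D, q, s⟩ := exists_sys hG c hκ hn
  by_cases hD : IsMulCommutative D
  · exact s.main_abelian hG c hD
  · exact s.main_nonabelian hG c hD

end CfsgLib.OddOrder.TypeOneSplit
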