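import Cfsg.Agent.Lib.OddOrder.TypeOneNilpotent
import Cfsg.Agent.Lib.OddOrder.TypeOneSplitMain
import Cfsg.Agent.Lib.OddOrder.TypeOneFrobenius
import Mathlib

set_option autoImplicit false

/-!
A maximal subgroup with empty `κ` is a Frobenius group with kernel `M_σ`.
-/

namespace CfsgLib.OddOrder.TypeOneMain

variable {G : Type*} [Group G] [Finite G] {M : Subgroup G}

/-- The non-identity elements of `M_σ` have their centralisers in `M` inside `M_σ` when `κ(M)` is empty. -/
theorem centralizer_le (hG : Cfsg.IsMinSimpleOddOrder G) (hM : IsCoatom M) (hκ : Cfsg.kappa M = ∅) {h : G}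
    (hh : h ∈ Cfsg.sigmaCore M) (hh1 : h ≠ 1) :
    M ⊓ Subgroup.centralizer ({h} : Set G) ≤ Cfsg.sigmaCore M := by
  by_contra hC
  obtain ⟨M₀, L, A, x, p, c⟩ := TypeOneConfig.exists_cfg hG hM hκ hh hh1 hC
  by_cases hL : Cfsg.kappa L = ∅
  · exact TypeOneFrobenius.main hG c hL
  by_cases hn : Group.IsNilpotent (Cfsg.sigmaCore L)
  · exact TypeOneNilpotent.main hG c hL hn
  · exact TypeOneSplit.main hG c hL hn

end CfsgLib.OddOrder.TypeOneMain
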