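import Cfsg.Agent.Lib.OddOrder.TypeOneAbove
import Cfsg.Agent.Lib.OddOrder.FittingNonTI
import Cfsg.Agent.Lib.OddOrder.StarNormalizer
import Cfsg.Agent.Lib.Char.CoherenceFeit
import Mathlib

set_option autoImplicit false
set_option linter.style.haveILetI false
set_option linter.unusedSectionVars false

/-!
Facts about the neighbour `L` in the configuration of `TypeOneConfig`.
-/

namespace CfsgLib.OddOrder.TypeOneNeighbour

open CfsgLib.Char
open TypeOneConfig (Cfg)
open TypeOneInduced (core)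

variable {G : Type*} [Group G] [Finite G] {M L A : Subgroup G} {x : G} {p : ℕ}

/-- The final numerical contradiction. -/
theorem no_small (hp : p.Prime) {e S E : ℕ} (he : Odd e) (he1 : e ≠ 1) (hep : 2 * e ≤ p + 1) (hS : p ^ 2 ≤ S)
    (hE : E ≤ S) (h : ((S : ℝ) - 1) * ((4 / 5 : ℝ) * (TypeOneBound.dist p (e : ℕ) : ℝ) ^ 2) ≤ e * (E : ℝ)) :
    False := by
  have he3 : 3 ≤ e := by
    rcases he with ⟨k, hk⟩; omega
  have hp5 : 5 ≤ p := by omega
  have hd : ((e : ℤ) - 1) ≤ TypeOneBound.dist p (e : ℕ) := by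
    have h1 : ((e : ℕ) : ℤ) % (p : ℤ) = e := Int.emod_eq_of_lt (by omega) (by omega)
    unfold TypeOneBound.dist
    rw [h1]
    exact le_min (by omega) (by omega)
  have hd' : (e : ℝ) - 1 ≤ (TypeOneBound.dist p (e : ℕ) : ℝ) := by exact_mod_cast hd
  have he' : (3 : ℝ) ≤ e := by exact_mod_cast he3
  have hS' : (25 : ℝ) ≤ S := by
    exact_mod_cast ((Nat.pow_le_pow_left hp5 2).trans hS : 5 ^ 2 ≤ S)
  have hE' : (E : ℝ) ≤ S := by exact_mod_cast hE
  set δ : ℝ := (TypeOneBound.dist p (e : ℕ) : ℝ)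
  have h1 : (16 / 15 : ℝ) * e ≤ (4 / 5) * δ ^ 2 := by
    nlinarith [mul_self_le_mul_self (show (0 : ℝ) ≤ (e : ℝ) - 1 by linarith) hd', mul_nonneg (sub_nonneg.mpr he')
      (show (0 : ℝ) ≤ 12 * e by positivity)]
  have h2 := mul_le_mul_of_nonneg_left h1 (show (0 : ℝ) ≤ (S : ℝ) - 1 by linarith)
  have h3 := mul_le_mul_of_nonneg_left hE' (show (0 : ℝ) ≤ (e : ℝ) by linarith)
  nlinarith

theorem zpowers_pgroup (c : Cfg M L A x p) : IsPGroup p (Subgroup.zpowers x) :=
  IsPGroup.of_card (n := 1) (by rw [Nat.card_zpowers, c.order, pow_one])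

theorem sigma'_E (hG : Cfsg.IsMinSimpleOddOrder G) (c : Cfg M L A x p) {X : Subgroup G} (hX : X ≤ L ⊓ M)
    {t : ℕ} (ht : t.Prime) (hd : t ∣ Nat.card X) : t ∉ Cfsg.sigma M := fun h =>
  haveI := Fact.mk ht
  SigmaComplement.not_dvd_card hG c.coatomM c.ovr.compl h (hd.trans (Subgroup.card_dvd_of_le hX))

/-- Nilpotent subgroups of `L ∩ M` are abelian. -/
theorem abelian_E (hG : Cfsg.IsMinSimpleOddOrder G) (c : Cfg M L A x p) {X : Subgroup G} (hX : X ≤ L ⊓ M)
    (hn : Group.IsNilpotent X) : IsMulCommutative X :=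
  SigmaDecomp.abelian_of_nilpotent hG c.coatomM (hX.trans inf_le_right) hn fun _ ht hd => sigma'_E hG c hX ht hd

theorem le_E_of_commute (c : Cfg M L A x p) {X : Subgroup G} (hX : X ≤ Cfsg.sigmaCore L)
    (hC : ∀ a ∈ X, Commute a x) : X ≤ L ⊓ M :=
  le_inf (hX.trans (SigmaTools.sigmaCore_le L)) fun a ha =>
    c.cent (Subgroup.mem_centralizer_singleton_iff.mpr (hC a ha).eq)

theorem commute_x (hG : Cfsg.IsMinSimpleOddOrder G) (c : Cfg M L A x p)
    (hn : Group.IsNilpotent (Cfsg.sigmaCore L)) {a : G} (ha : a ∈ Cfsg.sigmaCore L) (hd : ¬ p ∣ orderOf a) :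
    Commute a x := by
  haveI := hn
  refine Basic.commute_of_mem_nilpotent ha (c.x_mem_S hG) ?_
  rw [c.order, Nat.coprime_comm, c.prime.coprime_iff_not_dvd]
  exact hd

theorem sq_dvd_card (hG : Cfsg.IsMinSimpleOddOrder G) (c : Cfg M L A x p) : p ^ 2 ∣ Nat.card (core L) := by
  rw [Nat.card_congr (Subgroup.subgroupOfEquivOfLe (SigmaTools.sigmaCore_le L)).toEquiv, ← c.card]
  exact Subgroup.card_dvd_of_le (c.A_le_S hG)

theorem core_odd (hG : Cfsg.IsMinSimpleOddOrder G) : Odd (core L).index :=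
  hG.1.of_dvd_nat ((Subgroup.index_dvd_card _).trans (Subgroup.card_subgroup_dvd_card _))

/-- `L ∩ M ≤ L_σ` as soon as it has no element of prime order outside `L_σ`. -/
theorem inter_le (hG : Cfsg.IsMinSimpleOddOrder G) (c : Cfg M L A x p)
    (h : ∀ y ∈ L ⊓ M, y ∉ Cfsg.sigmaCore L → (orderOf y).Prime → False) : L ⊓ M ≤ Cfsg.sigmaCore L := by
  intro z hz
  obtain ⟨a, b, ha, hb, hab, -, hap, hbp⟩ := SigmaCover.exists_parts (Cfsg.sigma L) z
  have haS : a ∈ Cfsg.sigmaCore L := by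
    refine SigmaTools.le_sigmaCore hG c.coatomL (Subgroup.zpowers_le.mpr (L.zpowers_le.mpr hz.1 ha))
      (fun t ht hd => hap t ht (by rwa [Nat.card_zpowers] at hd)) (Subgroup.mem_zpowers a)
  by_contra hzS
  have hb1 : b ≠ 1 := fun e => hzS (by rw [hab, e, mul_one]; exact haS)
  obtain ⟨t, ht, htd⟩ := Nat.exists_prime_and_dvd (mt orderOf_eq_one_iff.mp hb1)
  have ho : orderOf (b ^ (orderOf b / t)) = t := orderOf_pow_orderOf_div (orderOf_pos b).ne' htd
  refine h (b ^ (orderOf b / t)) (pow_mem ((L ⊓ M).zpowers_le.mpr hz hb) _) (fun hS => ?_) (by rw [ho]; exact ht)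
  haveI := Fact.mk ht
  exact hbp t ht htd (SigmaTools.mem_sigma_of_card (ho ▸ Subgroup.orderOf_dvd_natCard _ hS))

/-- An abelian `L_σ` has `A` normal in `L`. -/
theorem A_normal (hG : Cfsg.IsMinSimpleOddOrder G) (c : Cfg M L A x p)
    (hab : IsMulCommutative (Cfsg.sigmaCore L)) : L ≤ Subgroup.normalizer (A : Set G) := fun l hl =>
  NormalizerFusion.mem_normalizer_of_conj fun a ha => by
    have hS : l * a * l⁻¹ ∈ Cfsg.sigmaCore L :=
      (Subgroup.mem_normalizer_iff.mp (SigmaTools.le_normalizer_sigmaCore L hl) a).mp (c.A_le_S hG ha)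
    refine c.mem_A hG ⟨SigmaTools.sigmaCore_le L hS, c.cent (Subgroup.mem_centralizer_singleton_iff.mpr
      (congrArg Subtype.val (hab.is_comm.comm (⟨_, hS⟩ : Cfsg.sigmaCore L) ⟨x, c.x_mem_S hG⟩)))⟩ ?_
    rw [conj_pow, c.ea.2 a ha, mul_one, mul_inv_cancel]

/-- The non-trivial intersection of the conjugates of `F(L)`. -/
theorem exists_nt (hG : Cfsg.IsMinSimpleOddOrder G) (c : Cfg M L A x p)
    (hn : Group.IsNilpotent (Cfsg.sigmaCore L)) : ∃ g : G, FittingNonTI.NT L M g x p := by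
  obtain ⟨g, hg, hgL⟩ := SetLike.not_le_iff_exists.mp c.not_le
  have hxF : x ∈ Cfsg.fittingOf L :=
    StarNormalizer.le_fittingOf (SigmaTools.sigmaCore_le L) (SigmaTools.le_normalizer_sigmaCore L) hn (c.x_mem_S hG)
  refine ⟨g, c.coatomL, hgL, ⟨hxF, SigmaTools.mem_cj.mpr ?_⟩, c.order, c.prime, c.sigmaL, c.x_mem_S hG, hn, c.ovr⟩
  rwa [show g⁻¹ * x * g = x by
    rw [mul_assoc, ← Subgroup.mem_centralizer_singleton_iff.mp hg, inv_mul_cancel_left]]

/-- The `p'`-part of a nilpotent `L_σ` is central. -/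
theorem exists_central (hG : Cfsg.IsMinSimpleOddOrder G) (c : Cfg M L A x p)
    (hn : Group.IsNilpotent (core L)) :
    ∃ U : Subgroup L, U.Normal ∧ ¬ p ∣ Nat.card U ∧ U.subgroupOf (core L) ≤ Subgroup.center (core L) ∧
      ∃ m : ℕ, (U.subgroupOf (core L)).index = p ^ m := by
  haveI := Fact.mk c.prime
  have hnS : Group.IsNilpotent (Cfsg.sigmaCore L) :=
    haveI := hn
    Group.nilpotent_of_mulEquiv (Subgroup.subgroupOfEquivOfLe (SigmaTools.sigmaCore_le L))
  haveI := Fintype.ofFinite L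
  haveI := Fintype.ofFinite (core L)
  obtain ⟨P, U, E, hP, hU, -, hUn, hE⟩ := Feit.exists_split (core L) hn p
  have hUp : U.map (core L).subtype ≤ core L := Subgroup.map_subtype_le _
  have hsub : (U.map (core L).subtype).subgroupOf (core L) = U :=
    Subgroup.comap_map_eq_self_of_injective (core L).subtype_injective U
  refine ⟨U.map (core L).subtype, hUn, by rwa [Subgroup.card_map_of_injective (core L).subtype_injective], ?_, ?_⟩
  · rw [hsub]
    intro u hu
    rw [Subgroup.mem_center_iff]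
    intro g
    obtain ⟨⟨a, b⟩, rfl⟩ := E.surjective g
    set X := (U.map (core L).subtype).map L.subtype
    have hmemX : ∀ v : core L, v ∈ U → ((v : L) : G) ∈ X := fun v hv => ⟨_, ⟨v, hv, rfl⟩, rfl⟩
    have hXS : X ≤ Cfsg.sigmaCore L := by
      rintro _ ⟨_, ⟨v, -, rfl⟩, rfl⟩
      exact Subgroup.mem_subgroupOf.mp v.2
    have hXn : Group.IsNilpotent X :=
      haveI := hnS
      Group.nilpotent_of_mulEquiv (Subgroup.subgroupOfEquivOfLe hXS)
    have hXc : ∀ v ∈ X, Commute v x := fun v hv => by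
      refine commute_x hG c hnS (hXS hv) fun hd => hU ?_
      have := hd.trans (Subgroup.orderOf_dvd_natCard _ hv)
      rwa [Subgroup.card_map_of_injective L.subtype_injective,
        Subgroup.card_map_of_injective (core L).subtype_injective] at this
    have hab := abelian_E hG c (le_E_of_commute c hXS hXc) hXn
    have h0 := congrArg Subtype.val (hab.is_comm.comm (⟨_, hmemX b b.2⟩ : X) ⟨_, hmemX u hu⟩)
    have h1 : Commute ((b : core L)) u := Subtype.ext (Subtype.ext (by simpa using h0))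
    have h2 : Commute ((a : core L)) u := by
      have h3 : Commute ((a, 1) : P × U) ((1, ⟨u, hu⟩) : P × U) := by
        show _ = _
        simp
      have := h3.map E.toMonoidHom
      simp only [MulEquiv.toMonoidHom_eq_coe, MonoidHom.coe_coe, hE, OneMemClass.coe_one, mul_one, one_mul] at this
      exact this
    rw [hE]
    exact (h2.mul_left h1).eq
  · obtain ⟨m, hm⟩ := hP.exists_card_eq
    refine ⟨m, ?_⟩
    rw [hsub, ← hm]
    refine Nat.eq_of_mul_eq_mul_left (Nat.card_pos (α := U)) ?_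
    rw [Subgroup.card_mul_index, ← Nat.card_congr E.toEquiv, Nat.card_prod, mul_comm]

end CfsgLib.OddOrder.TypeOneNeighbour
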