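import Cfsg.Agent.Lib.OddOrder.TypeOneLineEq
import Mathlib

set_option autoImplicit false
set_option linter.style.haveILetI false
set_option linter.unusedSectionVars false

/-!
The configuration of `TypeOneConfig` with `κ(L)` non-empty and a nilpotent `L_σ`.
-/

namespace CfsgLib.OddOrder.TypeOneNilpotent

open TypeOneConfig (Cfg)

variable {G : Type*} [Group G] [Finite G] {M L A : Subgroup G} {x : G} {p : ℕ}

/-- **No configuration with `κ(L)` non-empty and `L_σ` nilpotent.** -/
theorem main (hG : Cfsg.IsMinSimpleOddOrder G) (c : Cfg M L A x p) (hκ : Cfsg.kappa L ≠ ∅)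
    (hn : Group.IsNilpotent (Cfsg.sigmaCore L)) : False := by
  haveI := Fintype.ofFinite G
  haveI := Fintype.ofFinite L
  haveI := Fintype.ofFinite (TypeOneInduced.core L)
  obtain ⟨K, hd, hK, hk⟩ := TypeOneKappa.exists_kap hG c hκ
  obtain ⟨g, h⟩ := TypeOneNeighbour.exists_nt hG c hn
  obtain ⟨hab, hcase⟩ := FittingTypeV.main hG hd hK rfl h
  by_cases hW : StarPartner.Dstar L K = FittingNonTI.line L p
  · exact TypeOneLineEq.main hG c hn hk h hab hW hcase
  · exact TypeOneLineNe.main hG c hn hk h hab hW

end CfsgLib.OddOrder.TypeOneNilpotent
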