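import Cfsg.Agent.Lib.OddOrder.TypeOneConfig
import Cfsg.Agent.Lib.OddOrder.TypeOneFamily
import Cfsg.Agent.Lib.OddOrder.TypeOneBound
import Cfsg.Agent.Lib.OddOrder.TypeOneTheta
import Cfsg.Agent.Lib.OddOrder.DadeSets
import Cfsg.Agent.Lib.OddOrder.FittingStructure
import Cfsg.Agent.Lib.OddOrder.SupportCount
import Mathlib

set_option autoImplicit false
set_option linter.style.haveILetI false
set_option linter.unusedSectionVars false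

/-!
The character inequality in the configuration of `TypeOneConfig`.
-/

namespace CfsgLib.OddOrder.TypeOneSetup

open CfsgLib.Char
open TypeOneConfig (Cfg)
open TypeOneCyclic (wt)

variable {G : Type*} [Group G] [Finite G] {M L A : Subgroup G} {x : G} {p : ℕ}

theorem dade_core (hG : Cfsg.IsMinSimpleOddOrder G) (hM : IsCoatom M) :
    Cfsg.DadeHypothesis ((Cfsg.sigmaCore M : Set G) \ {1}) M (Cfsg.supportR M) := by
  obtain ⟨K, U, h⟩ := FittingStructure.exists_decomp hG hM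
  have h1 := (DadeSets.main hG hM h (A := Cfsg.typeA1 M) (Or.inl rfl)).2
  have e : Cfsg.typeA1 M = (Cfsg.sigmaCore M : Set G) \ {1} := by
    unfold Cfsg.typeA1; rw [DadeSets.typeCore_eq hG hM h]
  rwa [e] at h1

theorem supp_le_tilde (M : Subgroup G) (A : Set G) :
    Dade.supp A M (Cfsg.supportR M) ⊆ Cfsg.tildeOf M A := by
  rintro g ⟨a, ha, y, u, hu, e⟩
  exact ⟨a, ha, u, hu, y⁻¹, by rw [← e]; group⟩

theorem supp_disjoint (hG : Cfsg.IsMinSimpleOddOrder G) (c : Cfg M L A x p) :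
    Dade.supp ((Cfsg.sigmaCore M : Set G) \ {1}) M (Cfsg.supportR M) ∩
      Dade.supp ((Cfsg.sigmaCore L : Set G) \ {1}) L (Cfsg.supportR L) = ∅ :=
  Set.eq_empty_iff_forall_notMem.mpr fun g hg => Set.eq_empty_iff_forall_notMem.mp
    (SupportCount.tilde_disjoint hG c.coatomM c.coatomL c.nonconj) g
    ⟨supp_le_tilde _ _ hg.1, supp_le_tilde _ _ hg.2⟩

theorem R_coprime (hG : Cfsg.IsMinSimpleOddOrder G) (c : Cfg M L A x p) :
    ¬ p ∣ Nat.card ↥(Cfsg.sigmaCore M ⊓ Subgroup.centralizer ({x} : Set G)) := fun hd =>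
  haveI := Fact.mk c.prime
  c.tau2.2.1 (SigmaTools.mem_sigma_of_card (hd.trans (Subgroup.card_dvd_of_le inf_le_left)))

open scoped Classical in
/-- The invariant linear characters of `M_σ`. -/
theorem exists_family (hG : Cfsg.IsMinSimpleOddOrder G) (c : Cfg M L A x p) :
    ∃ s : Finset (Cfsg.sigmaCore M →* ℂˣ),
      (∀ l ∈ s, ∀ (h : G) (hh : h ∈ Cfsg.sigmaCore M),
        l ⟨x * h * x⁻¹, (Subgroup.mem_normalizer_iff.mp (SigmaTools.le_normalizer_sigmaCore M (c.le c.mem)) h).mp hh⟩ =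
          l ⟨h, hh⟩) ∧
      Set.InjOn (fun l : Cfsg.sigmaCore M →* ℂˣ => l.comp (Subgroup.inclusion
        (inf_le_left : Cfsg.sigmaCore M ⊓ Subgroup.centralizer ({x} : Set G) ≤ _))) s ∧
      (∀ l ∈ s, l.comp (Subgroup.inclusion
        (inf_le_left : Cfsg.sigmaCore M ⊓ Subgroup.centralizer ({x} : Set G) ≤ _)) ≠ 1) ∧
      s.card + 1 = Nat.card (TypeOneTheta.res
        (inf_le_left : Cfsg.sigmaCore M ⊓ Subgroup.centralizer ({x} : Set G) ≤ _)).range ∧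
      2 * p + 1 ≤ s.card + 1 := by
  obtain ⟨y, hyA, hyo, hyR, hyfix⟩ := c.exists_fpf hG
  exact TypeOneTheta.exists_family c.prime (c.odd hG) c.order (SigmaTools.le_normalizer_sigmaCore M (c.le c.mem))
    inf_le_left (fun u hu => (Subgroup.mem_centralizer_singleton_iff.mp hu.2).symm)
    (hG.1.of_dvd_nat (Subgroup.card_subgroup_dvd_card _)) (R_coprime hG c) hyo
    (SigmaTools.le_normalizer_sigmaCore M (c.le hyA)) (NormalizerFusion.mem_normalizer_of_conj hyR) hyfix c.proper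

open scoped Classical in
/-- **The inequality in the configuration.** -/
theorem ineq [Fintype G] [Fintype L] (hG : Cfsg.IsMinSimpleOddOrder G) (c : Cfg M L A x p)
    (s : Finset (Cfsg.sigmaCore M →* ℂˣ))
    (hsx : ∀ l ∈ s, ∀ (h : G) (hh : h ∈ Cfsg.sigmaCore M),
      l ⟨x * h * x⁻¹, (Subgroup.mem_normalizer_iff.mp (SigmaTools.le_normalizer_sigmaCore M (c.le c.mem)) h).mp hh⟩ =
        l ⟨h, hh⟩)
    (hsinj : Set.InjOn (fun l : Cfsg.sigmaCore M →* ℂˣ => l.comp (Subgroup.inclusion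
        (inf_le_left : Cfsg.sigmaCore M ⊓ Subgroup.centralizer ({x} : Set G) ≤ _))) s)
    (hsne : ∀ l ∈ s, l.comp (Subgroup.inclusion
        (inf_le_left : Cfsg.sigmaCore M ⊓ Subgroup.centralizer ({x} : Set G) ≤ _)) ≠ 1)
    (Θ : Finset (L → ℂ)) (hirr : ∀ φ ∈ Θ, Cfsg.IsIrrCharacter L φ)
    (hcoh : Cfsg.IsCoherent (↑Θ : Set (L → ℂ)) {1}ᶜ
      (Cfsg.dadeIsometry ((Cfsg.sigmaCore L : Set G) \ {1}) L (Cfsg.supportR L)))
    (e : ℕ) (a : (L → ℂ) → ℕ) (φ₁ : L → ℂ) (hφ₁ : φ₁ ∈ Θ) (ha₁ : a φ₁ = 1)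
    (hdeg : ∀ φ ∈ Θ, φ 1 = (a φ : ℂ) * e)
    (hΦ : ∀ k ∈ Finset.Ico 1 p, ∑ φ ∈ Θ, (a φ : ℂ) * φ (⟨x, c.A_le_L c.mem⟩ ^ k) = -1)
    (Z : Finset L) (hZ : ∀ z ∈ Z, (z : G) ∈ ((Cfsg.sigmaCore L : Set G) \ {1}))
    (hZx : ∀ z ∈ Z, ∀ k ∈ Finset.Ico 1 p, ∀ l ∈ L, l * x ^ k * l⁻¹ ≠ (z : G))
    (hRZ : ∀ z ∈ Z, Cfsg.supportR L (z : G) = ⊥) (hker : ∀ z ∈ Z, ∀ φ ∈ Θ, φ z = φ 1)
    (w : ℤ → ℝ)
    (hw : ∀ ψ : G → ℂ, Cfsg.IsGeneralizedCharacter G ψ → ∀ m : ℤ, ψ 1 = m → w m ≤ ∑ z ∈ Z, ‖ψ (z : G)‖ ^ 2) :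
    ∃ (α m : ℤ) (d b : (Cfsg.sigmaCore M →* ℂˣ) → ℤ),
      (∀ i ∈ s, d i ≡ α + e - b i [ZMOD p]) ∧ m ≡ α + e [ZMOD p] ∧
      (((∑ φ ∈ Θ, a φ ^ 2 : ℕ)) : ℝ) *
        ((s.card + 1 : ℝ)⁻¹ * (∑ i ∈ s, (d i : ℝ) ^ 2) +
          (1 - (((∑ φ ∈ Θ, a φ ^ 2 : ℕ)) : ℝ)⁻¹) ^ 2 * (wt p α : ℝ) +
          ∑ i ∈ s, (wt p (b i) : ℝ) + (Nat.card ↥(L ⊓ M) : ℝ) / Nat.card L * w m) ≤ Nat.card ↥(L ⊓ M) := by
  haveI := Fact.mk c.prime
  have hxN := SigmaTools.le_normalizer_sigmaCore M (c.le c.mem)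
  have hdM := dade_core hG c.coatomM
  obtain ⟨y, hyA, hyo, hyR, hyfix⟩ := c.exists_fpf hG
  have hxpow : ∀ k ∈ Finset.Ico 1 p, x ^ k ≠ 1 := fun k hk h1 => by
    have := Nat.le_of_dvd (Finset.mem_Ico.mp hk).1 (c.order ▸ orderOf_dvd_of_pow_eq_one h1)
    have := (Finset.mem_Ico.mp hk).2
    omega
  have hcj : SigmaFusion.cj x M = M := SigmaFusion.cj_eq_self (Subgroup.le_normalizer (c.le c.mem))
  refine TypeOneFamily.main hdM (dade_core hG c.coatomL) (supp_disjoint hG c) (Cfsg.sigmaCore M) (SigmaTools.sigmaCore_le M)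
    (fun a => by simp) ?_ c.prime c.order
    (fun k hk => ⟨c.pow_mem_S hG k, hxpow k hk⟩) (c.A_le_L c.mem) ?_
    (Cfsg.sigmaCore M ⊓ Subgroup.centralizer ({x} : Set G)) (fun k hk => c.supportR_eq hG hk)
    inf_le_right inf_le_left (fun u => ?_) (fun h hh => (Subgroup.mem_normalizer_iff.mp hxN h).mp hh) ?_ ?_ ?_
    hyo hyR hyfix s (fun l => l) hsx hsinj hsne Θ hirr hcoh e a φ₁ hφ₁ ha₁ hdeg hΦ Z hZ hZx hRZ hker w hw
  · rw [← Subgroup.card_mul_index ((Cfsg.sigmaCore M).subgroupOf M),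
      Nat.card_congr (Subgroup.subgroupOfEquivOfLe (SigmaTools.sigmaCore_le M)).toEquiv, ← Subgroup.relIndex,
      Basic.IsComplIn.relIndex_right c.ovr.compl]
  · exact Subgroup.card_le_of_le (le_inf inf_le_left (inf_le_right.trans (c.normalizer_le hG)))
  · exact ⟨fun hu => ⟨hu.1, (Subgroup.mem_centralizer_singleton_iff.mp hu.2).symm⟩,
      fun hu => ⟨hu.1, Subgroup.mem_centralizer_singleton_iff.mpr hu.2.symm.eq⟩⟩
  · intro h hh h1 u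
    have hx' : x * h * x⁻¹ ∈ Cfsg.sigmaCore M := (Subgroup.mem_normalizer_iff.mp hxN h).mp hh
    refine ⟨fun hu => ?_, fun hu => ?_⟩
    · have := SupportCount.support_cj hG c.coatomM hh h1 x hu
      rwa [hcj] at this
    · have := SupportCount.support_cj hG c.coatomM hx' (fun e => h1 (conj_eq_one_iff.mp e)) x⁻¹ hu
      rw [SigmaFusion.cj_eq_self (Subgroup.le_normalizer (inv_mem (c.le c.mem))),
        show x⁻¹ * (x * h * x⁻¹) * x⁻¹⁻¹ = h by group, show x⁻¹ * (x * u * x⁻¹) * x⁻¹⁻¹ = u by group] at this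
      exact this
  · intro h hh h1 u hu hxu
    have huM : u ∈ M := c.cent (Subgroup.mem_centralizer_singleton_iff.mpr hxu.symm.eq)
    have hc := (SupportCount.support_compl hG c.coatomM hh.1 h1).1
    exact Subgroup.mem_bot.mp (hc.2.2.1.le ⟨⟨huM, hc.2.1 hu⟩, hu⟩)
  · intro h hh h1 hd
    obtain ⟨b, hbR, hb1⟩ : ∃ b ∈ Cfsg.sigmaCore M ⊓ Subgroup.centralizer ({x} : Set G), b ≠ 1 :=
      (Subgroup.bot_or_exists_ne_one _).resolve_left fun e => c.proper (e.le.trans bot_le)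
    have hcop := hdM.coprime h ⟨hh, h1⟩ b ⟨hbR.1, hb1⟩
    have hxb : p ∣ Nat.card ↥(M ⊓ Subgroup.centralizer ({b} : Set G)) :=
      c.order ▸ Subgroup.orderOf_dvd_natCard _ ⟨c.le c.mem,
        Subgroup.mem_centralizer_singleton_iff.mpr (Subgroup.mem_centralizer_singleton_iff.mp hbR.2).symm⟩
    exact c.prime.ne_one (Nat.eq_one_of_dvd_coprimes hcop hd hxb)

open scoped Classical in
/-- The bound on the family. -/
theorem bound [Fintype G] [Fintype L] (hG : Cfsg.IsMinSimpleOddOrder G) (c : Cfg M L A x p)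
    (Θ : Finset (L → ℂ)) (hirr : ∀ φ ∈ Θ, Cfsg.IsIrrCharacter L φ)
    (hcoh : Cfsg.IsCoherent (↑Θ : Set (L → ℂ)) {1}ᶜ
      (Cfsg.dadeIsometry ((Cfsg.sigmaCore L : Set G) \ {1}) L (Cfsg.supportR L)))
    (e : ℕ) (a : (L → ℂ) → ℕ) (φ₁ : L → ℂ) (hφ₁ : φ₁ ∈ Θ) (ha₁ : a φ₁ = 1)
    (hdeg : ∀ φ ∈ Θ, φ 1 = (a φ : ℂ) * e)
    (hΦ : ∀ k ∈ Finset.Ico 1 p, ∑ φ ∈ Θ, (a φ : ℂ) * φ (⟨x, c.A_le_L c.mem⟩ ^ k) = -1)
    (hN : 2 * (p - 1) ≤ ∑ φ ∈ Θ, a φ ^ 2) :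
    ((∑ φ ∈ Θ, a φ ^ 2 : ℕ) : ℝ) * ((4 / 5 : ℝ) * (TypeOneBound.dist p e : ℝ) ^ 2) ≤ Nat.card ↥(L ⊓ M) := by
  obtain ⟨s, hsx, hsinj, hsne, -, hs⟩ := exists_family hG c
  obtain ⟨α, m, d, b, hcong, -, h⟩ := ineq hG c s hsx hsinj hsne Θ hirr hcoh e a φ₁ hφ₁ ha₁ hdeg hΦ ∅
    (by simp) (by simp) (by simp) (by simp) (fun _ => 0) (fun _ _ _ _ => by simp)
  refine le_trans (mul_le_mul_of_nonneg_left ?_ (Nat.cast_nonneg _)) h
  rw [mul_zero, add_zero]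
  exact TypeOneBound.main c.prime (c.odd hG) hN hs s rfl α e d b hcong

end CfsgLib.OddOrder.TypeOneSetup
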