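import Cfsg.Agent.Lib.OddOrder.TypeOneKappa
import Cfsg.Agent.Lib.OddOrder.TypeOneLine
import Cfsg.Agent.Lib.OddOrder.TypeOneFrobenius
import Cfsg.Agent.Lib.OddOrder.CoreStructure
import Cfsg.Agent.Lib.OddOrder.FrobeniusFixed
import Cfsg.Agent.S1423
import Mathlib

set_option autoImplicit false
set_option linter.style.haveILetI false
set_option linter.unusedSectionVars false

/-!
The configuration of `TypeOneConfig` with a non-nilpotent `L_σ = Q D`.
-/

namespace CfsgLib.OddOrder.TypeOneSplit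

open scoped commutatorElement
open TypeOneConfig (Cfg)
open TypeOneKappa (Kap)
open CoreStructure (Split Facts)
open SigmaFusion (cj)
open StarPartner (Dstar)

variable {G : Type*} [Group G] {M L A K Q D : Subgroup G} {x : G} {p q : ℕ}

/-- Conjugating `K` by an element of `L_σ`. -/
theorem Split.conj [Finite G] {g : G} (hg : g ∈ Cfsg.sigmaCore L) (h : Split L K Q q) : Split L (cj g K) Q q := by
  have hgL := SigmaTools.sigmaCore_le L hg
  have hLfix : cj g L = L := SigmaFusion.cj_eq_self (Subgroup.le_normalizer hgL)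
  have hSfix : cj g (Cfsg.sigmaCore L) = Cfsg.sigmaCore L := SigmaFusion.cj_eq_self (Subgroup.le_normalizer hg)
  have hQfix : cj g Q = Q := SigmaFusion.cj_eq_self (h.normal hgL)
  have hstar : Dstar L (cj g K) = cj g (Dstar L K) := by
    show Cfsg.sigmaCore L ⊓ Subgroup.centralizer _ = (Cfsg.sigmaCore L ⊓ Subgroup.centralizer _).map _
    rw [Subgroup.map_inf _ _ _ (MulAut.conj g).injective]
    exact congrArg₂ (fun a b => a ⊓ b) hSfix.symm (CoreStructure.map_centralizer g K).symm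
  have hcard : ∀ H : Subgroup G, Nat.card (cj g H) = Nat.card H := fun H => SupportCount.card_cj g H
  refine ⟨h.coatom, h.prime, h.derived, fun e => h.ne (Subgroup.eq_bot_of_card_eq _ (by
      rw [← hcard K, e, Subgroup.card_bot])), (Subgroup.map_mono h.K_le).trans hLfix.le, ?_,
    by rw [hcard]; exact h.coprime, ?_, fun k hk hk1 => ?_, hstar.le.trans ((Subgroup.map_mono h.star).trans hQfix.le),
    by rw [hstar, hcard, h.star_card], h.le, h.normal, h.pgroup, h.not_dvd, h.le_fittingHall, h.compl_nilpotent,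
    h.not_nilpotent⟩
  · conv_rhs => rw [← hLfix, ← h.sup]
    show _ = (Cfsg.sigmaCore L ⊔ K).map _
    rw [Subgroup.map_sup]
    exact congrArg (· ⊔ cj g K) hSfix.symm
  · haveI := h.cyclic
    exact isCyclic_of_surjective ((K.equivMapOfInjective _ (MulAut.conj g).injective)) (MulEquiv.surjective _)
  · obtain ⟨k', hk', rfl⟩ := hk
    have hf := h.fix k' hk' fun e => hk1 (by rw [e, map_one])
    rw [hstar, ← hf]
    show _ = (Cfsg.sigmaCore L ⊓ Subgroup.centralizer _).map _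
    rw [Subgroup.map_inf _ _ _ (MulAut.conj g).injective]
    refine congrArg₂ (fun a b => a ⊓ b) hSfix.symm ?_
    rw [← SigmaTools.centralizer_zpowers, ← SigmaTools.centralizer_zpowers k', CoreStructure.map_centralizer,
      MonoidHom.map_zpowers]

/-- The system. -/
structure Sys (M L A : Subgroup G) (x : G) (p : ℕ) (K Q D : Subgroup G) (q : ℕ) : Prop where
  split : Split L K Q q
  compl : Cfsg.IsComplIn Q D (Cfsg.sigmaCore L)
  A_le_D : A ≤ D
  K_norm : K ≤ Subgroup.normalizer (D : Set G)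
  facts : Facts L K Q D q
  kap : Kap L K (Dstar L K)
  ne_q : p ≠ q
  E_le : L ⊓ M ≤ Cfsg.sigmaCore L

variable [Finite G]

theorem exists_sys (hG : Cfsg.IsMinSimpleOddOrder G) (c : Cfg M L A x p) (hκ : Cfsg.kappa L ≠ ∅)
    (hn : ¬ Group.IsNilpotent (Cfsg.sigmaCore L)) : ∃ (K Q D : Subgroup G) (q : ℕ), Sys M L A x p K Q D q := by
  haveI := Fact.mk c.prime
  obtain ⟨K₀, hd, hK₀, hk₀⟩ := TypeOneKappa.exists_kap hG c hκ
  obtain ⟨q, Q, h₀⟩ := CoreStructure.exists_split hG c.coatomL hd hn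
  obtain ⟨D₀, hD₀, hKD₀⟩ := h₀.exists_compl hG
  have hpq : p ≠ q := fun e => by
    obtain ⟨A₀, hexc⟩ := TauTwoStructure.exists_exc hG c.coatomM c.tau2.2.1 c.le c.ea c.card
    exact SigmaNeighbour.not_beta_of_plane (hexc.maxPlane hG) (e ▸ (h₀.facts_of_invariant hG hD₀ hKD₀).beta)
  have hsol : Group.IsSolvable (Cfsg.sigmaCore L) :=
    hG.2.2.2 _ fun e => c.coatomL.1 (top_le_iff.mp (e ▸ SigmaTools.sigmaCore_le L))
  obtain ⟨D, hD, hAD⟩ := Coprime.exists_hall_ge {t | t ≠ q} hsol (c.A_le_S hG) fun t ht hd => by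
    rw [PrimeAction.pGroup_dvd c.pgroup ht hd]
    exact hpq
  obtain ⟨g, hg, e⟩ := Coprime.hall_conj hsol (h₀.hall_of_compl hD₀) hD
  have hsp := Split.conj hg h₀
  have hKD : cj g K₀ ≤ Subgroup.normalizer (D : Set G) := by
    rintro _ ⟨k, hk, rfl⟩
    refine NormalizerFusion.mem_normalizer_of_conj fun d hd => ?_
    rw [← e] at hd ⊢
    obtain ⟨d₀, hd₀, rfl⟩ := hd
    refine ⟨k * d₀ * k⁻¹, (Subgroup.mem_normalizer_iff.mp (hKD₀ hk) d₀).mp hd₀, ?_⟩
    simp only [MulEquiv.toMonoidHom_eq_coe, MonoidHom.coe_coe, MulAut.conj_apply]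
    group
  have hcompl := hsp.compl_of_hall hD
  refine ⟨cj g K₀, Q, D, q, hsp, hcompl, hAD, hKD, hsp.facts_of_invariant hG hcompl hKD,
    ⟨hsp.K_le, hsp.ne, hsp.cyclic, hsp.sup, hsp.coprime, inf_le_left, hsp.fix,
      hsp.star_card.symm ▸ hsp.prime, ?_⟩, hpq, TypeOneNeighbour.inter_le hG c fun y hy hyS hyp => ?_⟩
  · intro w hw
    have hgL := SigmaTools.sigmaCore_le L hg
    obtain ⟨h1, h2⟩ := hw
    have hw0 : g⁻¹ * w * g ∈ Dstar L K₀ := by
      refine ⟨((Subgroup.mem_normalizer_iff'' (H := Cfsg.sigmaCore L)).mp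
        (SigmaTools.le_normalizer_sigmaCore L hgL) w).mp h1, ?_⟩
      rw [SetLike.mem_coe] at h2
      show g⁻¹ * w * g ∈ Subgroup.centralizer (K₀ : Set G)
      rw [Subgroup.mem_centralizer_iff]
      intro k hk
      have h3 := Subgroup.mem_centralizer_iff.mp h2 _ (show MulAut.conj g k ∈ cj g K₀ from ⟨k, hk, rfl⟩)
      simp only [MulAut.conj_apply] at h3
      calc k * (g⁻¹ * w * g) = g⁻¹ * (g * k * g⁻¹ * w) * g := by group
        _ = g⁻¹ * (w * (g * k * g⁻¹)) * g := by rw [h3]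
        _ = g⁻¹ * w * g * k := by group
    have h4 := hk₀.W_der hw0
    have := (Subgroup.mem_normalizer_iff.mp (CoreStructure.le_normalizer_commutator
      (SigmaTools.le_normalizer_sigmaCore L) (SigmaTools.le_normalizer_sigmaCore L) hgL) _).mp h4
    simpa [mul_assoc] using this
  · exact hpq ((hk₀.W_eq_p hG c hy hyS hyp).symm.trans h₀.star_card)

namespace Sys

variable (s : Sys M L A x p K Q D q)

include s

theorem Q_le : Q ≤ Cfsg.sigmaCore L := s.split.le

theorem D_le : D ≤ Cfsg.sigmaCore L := s.compl.2.1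

theorem QD : Q ⊔ D = Cfsg.sigmaCore L := (Basic.IsComplIn.eq_sup s.compl).symm

theorem disj : Q ⊓ D = ⊥ := s.compl.2.2.1

theorem L_norm : L ≤ Subgroup.normalizer (Q : Set G) := s.split.normal

theorem D_normQ : D ≤ Subgroup.normalizer (Q : Set G) :=
  s.D_le.trans ((SigmaTools.sigmaCore_le L).trans s.L_norm)

theorem cop : (Nat.card Q).Coprime (Nat.card D) := by
  haveI := Fact.mk s.split.prime
  obtain ⟨j, hj⟩ := s.split.pgroup.exists_card_eq
  rw [hj]
  exact (s.split.prime.coprime_iff_not_dvd.mpr fun hd =>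
    (s.split.hall_of_compl s.compl).2.1 q s.split.prime hd rfl).pow_left j

theorem nilD : Group.IsNilpotent D := s.split.compl_nilpotent D s.D_le s.disj

theorem card_S : Nat.card (Cfsg.sigmaCore L) = Nat.card Q * Nat.card D := by
  rw [← Coprime.card_mul_relIndex_eq s.Q_le, Basic.IsComplIn.relIndex_left s.compl]

theorem x_mem (c : Cfg M L A x p) : x ∈ D := s.A_le_D c.mem

theorem K_fix {k : G} (hk : k ∈ K) (hk1 : k ≠ 1) {d : G} (hd : d ∈ D) (hkd : Commute k d) : d = 1 := by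
  have h1 : d ∈ Q ⊓ D := ⟨s.split.star ((s.split.fix k hk hk1).le
    ⟨s.D_le hd, Subgroup.mem_centralizer_singleton_iff.mpr hkd.eq.symm⟩), hd⟩
  rwa [s.disj, Subgroup.mem_bot] at h1

theorem inter_Q (hG : Cfsg.IsMinSimpleOddOrder G) (c : Cfg M L A x p) :
    Q ⊓ M ≤ Subgroup.centralizer (A : Set G) := fun u hu => by
  have huE : u ∈ L ⊓ M := ⟨SigmaTools.sigmaCore_le L (s.Q_le hu.1), hu.2⟩
  refine Subgroup.mem_centralizer_iff.mpr fun a ha => ?_
  have h1 : ⁅u, a⁆ ∈ Q ⊓ D := by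
    refine ⟨?_, s.A_le_D ?_⟩
    · rw [commutatorElement_def, mul_assoc, mul_assoc]
      refine mul_mem hu.1 ?_
      rw [← mul_assoc]
      exact (Subgroup.mem_normalizer_iff.mp (s.D_normQ (s.A_le_D ha)) _).mp (inv_mem hu.1)
    · rw [commutatorElement_def]
      exact mul_mem ((Subgroup.mem_normalizer_iff.mp (c.le_normalizer_A hG huE) a).mp ha) (inv_mem ha)
  rw [s.disj, Subgroup.mem_bot, commutatorElement_eq_one_iff_mul_comm] at h1
  exact h1.symm

theorem centralizer_le_M (hG : Cfsg.IsMinSimpleOddOrder G) (c : Cfg M L A x p) :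
    Q ⊓ Subgroup.centralizer ({x} : Set G) ≤ Q ⊓ M := le_inf inf_le_left (inf_le_right.trans c.cent)

/-- `Q ∩ M` is cyclic. -/
theorem Cx_cyclic (hG : Cfsg.IsMinSimpleOddOrder G) (c : Cfg M L A x p) : IsCyclic ↥(Q ⊓ M) := by
  haveI := Fact.mk s.split.prime
  have hXE : Q ⊓ M ≤ L ⊓ M := inf_le_inf_right _ (s.Q_le.trans (SigmaTools.sigmaCore_le L))
  have hXq : IsPGroup q ↥(Q ⊓ M) := s.split.pgroup.to_le inf_le_left
  haveI : Group.IsNilpotent ↥(Q ⊓ M) := hXq.isNilpotent
  rcases hXq.card_eq_or_dvd with h1 | hd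
  · exact @isCyclic_of_subsingleton _ _ (Nat.card_eq_one_iff_unique.mp h1).1
  haveI := TypeOneNeighbour.abelian_E hG c hXE inferInstance
  refine SigmaComplement.isCyclic_of_rank_one hG.1 (inf_le_right : Q ⊓ M ≤ M) hXq ?_
  by_contra hr
  have hτ := StarNormalizer.tau2_of hG c.coatomM (TypeOneNeighbour.sigma'_E hG c hXE s.split.prime hd) hr
  obtain ⟨B, hB, hBe, hBc⟩ := TauTwoAbelian.exists_plane c.ovr.compl hτ
  obtain ⟨B₀, hexc⟩ := TauTwoStructure.exists_exc hG c.coatomM hτ.2.1 (hB.trans inf_le_right) hBe hBc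
  exact SigmaNeighbour.not_beta_of_plane (hexc.maxPlane hG) s.facts.beta

theorem card_E (hG : Cfsg.IsMinSimpleOddOrder G) :
    Nat.card ↥(L ⊓ M) ≤ Nat.card ↥(Q ⊓ M) * Nat.card D := by
  have h1 : Q ⊓ M ≤ L ⊓ M := inf_le_inf_right _ (s.Q_le.trans (SigmaTools.sigmaCore_le L))
  rw [← Coprime.card_mul_relIndex_eq h1]
  refine Nat.mul_le_mul_left _ ?_
  have h2 : (Q ⊓ M).relIndex (L ⊓ M) = Q.relIndex (L ⊓ M) := by
    rw [← Subgroup.inf_relIndex_right Q (L ⊓ M)]
    congr 1
    exact le_antisymm (le_inf inf_le_left h1) (inf_le_inf_left _ inf_le_right)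
  rw [h2, ← Basic.IsComplIn.relIndex_left s.compl]
  refine Subgroup.relIndex_le_of_le_right s.E_le ?_
  rw [Basic.IsComplIn.relIndex_left s.compl]
  exact Nat.card_pos.ne'

theorem sq_le_D (c : Cfg M L A x p) : p ^ 2 ≤ Nat.card D := c.card ▸ Subgroup.card_le_of_le s.A_le_D

theorem derived_D : ⁅D, D⁆ ≤ Subgroup.centralizer (Q : Set G) := s.facts.derived

theorem C0_le : Q ⊓ Subgroup.centralizer (D : Set G) ≤ Q := inf_le_left

theorem C0_le_Cx (c : Cfg M L A x p) :
    Q ⊓ Subgroup.centralizer (D : Set G) ≤ Q ⊓ M := le_inf inf_le_left fun u hu =>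
  c.cent (Subgroup.mem_centralizer_singleton_iff.mpr (Subgroup.mem_centralizer_iff.mp hu.2 x (s.x_mem c)).symm)

/-- `L_σ` centralises `C_Q(D)`. -/
theorem central (hG : Cfsg.IsMinSimpleOddOrder G) (c : Cfg M L A x p) :
    Cfsg.sigmaCore L ≤ Subgroup.centralizer ((Q ⊓ Subgroup.centralizer (D : Set G) : Subgroup G) : Set G) := by
  set C₀ := Q ⊓ Subgroup.centralizer (D : Set G)
  haveI := s.Cx_cyclic hG c
  haveI : IsCyclic C₀ :=
    isCyclic_of_surjective (Subgroup.subgroupOfEquivOfLe (s.C0_le_Cx c)) (MulEquiv.surjective _)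
  rw [← s.split.derived]
  refine Subgroup.commutator_le.mpr fun a ha b hb => Subgroup.mem_centralizer_iff.mpr fun u hu => ?_
  let φ := Coprime.conjHom s.facts.normal
  have hcomm : ∀ f g : MulAut C₀, f * g = g * f := by
    intro f g
    obtain ⟨i, hi⟩ := MonoidHom.map_cyclic (f : C₀ →* C₀)
    obtain ⟨j, hj⟩ := MonoidHom.map_cyclic (g : C₀ →* C₀)
    refine MulEquiv.ext fun v => ?_
    show f (g v) = g (f v)
    simp only [MonoidHom.coe_coe] at hi hj
    rw [hi, hj, hi, hj, ← zpow_mul, ← zpow_mul, mul_comm]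
  have h1 : φ ⁅(⟨a, ha⟩ : L), ⟨b, hb⟩⁆ = 1 := by
    rw [map_commutatorElement, commutatorElement_eq_one_iff_mul_comm]
    exact hcomm _ _
  have h2 := congrArg Subtype.val (DFunLike.congr_fun h1 (⟨u, hu⟩ : C₀))
  rw [Coprime.conjHom_apply, MulAut.one_apply] at h2
  have h3 : ((⁅(⟨a, ha⟩ : L), ⟨b, hb⟩⁆ : L) : G) = ⁅a, b⁆ := map_commutatorElement L.subtype _ _
  rw [h3] at h2
  exact (mul_inv_eq_iff_eq_mul.mp h2).symm

theorem fix_prime : (Nat.card K).Prime := s.facts.K_prime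

/-- `Q` is abelian. -/
theorem Q_comm (hG : Cfsg.IsMinSimpleOddOrder G) (c : Cfg M L A x p) : IsMulCommutative Q := by
  by_contra hQ
  haveI := Fact.mk s.split.prime
  set C₀ := Q ⊓ Subgroup.centralizer (D : Set G) with hC₀
  haveI := s.Cx_cyclic hG c
  haveI hC₀c : IsCyclic C₀ :=
    isCyclic_of_surjective (Subgroup.subgroupOfEquivOfLe (s.C0_le_Cx c)) (MulEquiv.surjective _)
  set Z := Q ⊓ Subgroup.centralizer (Q : Set G) with hZ
  have hC₀Z : C₀ ≤ Z := le_inf inf_le_left (Subgroup.le_centralizer_iff.mp (s.Q_le.trans (s.central hG c)))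
  have hZn : L ≤ Subgroup.normalizer (Z : Set G) :=
    (le_inf s.L_norm (CoreStructure.le_normalizer_centralizer s.L_norm)).trans
      Subgroup.inf_normalizer_le_normalizer_inf
  have hZQ : Z < Q := lt_of_le_of_ne inf_le_left fun e => hQ ⟨⟨fun a b => Subtype.ext
    (Subgroup.mem_centralizer_iff.mp ((e.ge a.2).2 : (a : G) ∈ Subgroup.centralizer (Q : Set G)) b b.2).symm⟩⟩
  have hZeq : C₀ = Z := by
    rcases eq_or_lt_of_le hC₀Z with h | h
    · exact h
    · exact absurd hZn (s.facts.chief Z h hZQ)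
  -- a maximal abelian subgroup above the centre
  haveI := Fintype.ofFinite (Subgroup G)
  classical
  obtain ⟨B, hBmem, hBmax⟩ := (Finset.univ.filter fun B : Subgroup G =>
      C₀ ≤ B ∧ B ≤ Q ∧ ∀ a ∈ B, ∀ b ∈ B, a * b = b * a).exists_maximal
    ⟨C₀, Finset.mem_filter.mpr ⟨Finset.mem_univ _, le_rfl, inf_le_left, fun a ha b hb =>
      (Subgroup.mem_centralizer_iff.mp (hC₀Z ha).2 b hb.1).symm⟩⟩
  obtain ⟨-, hC₀B, hBQ, hBc⟩ := Finset.mem_filter.mp hBmem
  have hBsc : ∀ a ∈ Q, (∀ b ∈ B, a * b = b * a) → a ∈ B := by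
    intro a ha hab
    have hle : B ⊔ Subgroup.zpowers a ≤ Q := sup_le hBQ (Subgroup.zpowers_le.mpr ha)
    have hc2 : B ⊔ Subgroup.zpowers a ≤ Subgroup.centralizer ((B ⊔ Subgroup.zpowers a : Subgroup G) : Set G) := by
      refine sup_le (Subgroup.le_centralizer_iff.mp (sup_le (fun b hb => ?_) (Subgroup.zpowers_le.mpr ?_)))
        (Subgroup.le_centralizer_iff.mp (sup_le (fun b hb => ?_) (Subgroup.zpowers_le.mpr ?_)))
      · exact Subgroup.mem_centralizer_iff.mpr fun b' hb' => hBc b' hb' b hb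
      · exact Subgroup.mem_centralizer_iff.mpr fun b' hb' => (hab b' hb').symm
      · rw [SigmaTools.centralizer_zpowers]
        exact Subgroup.mem_centralizer_singleton_iff.mpr (hab b hb).symm
      · rw [SigmaTools.centralizer_zpowers]
        exact Subgroup.mem_centralizer_singleton_iff.mpr rfl
    exact hBmax (Finset.mem_filter.mpr ⟨Finset.mem_univ _, hC₀B.trans le_sup_left, hle, fun u hu v hv =>
      (Subgroup.mem_centralizer_iff.mp (hc2 hv) u hu)⟩) le_sup_left (Subgroup.mem_sup_right (Subgroup.mem_zpowers a))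
  -- the commutator pairing
  obtain ⟨ι, hι⟩ : ∃ ι : C₀ →* ℂˣ, Function.Injective ι := by
    haveI : NeZero (Nat.card C₀) := ⟨Nat.card_pos.ne'⟩
    have e : C₀ ≃* rootsOfUnity (Nat.card C₀) ℂ :=
      mulEquivOfCyclicCardEq (HasEnoughRootsOfUnity.natCard_rootsOfUnity ℂ (Nat.card C₀)).symm
    exact ⟨(rootsOfUnity _ ℂ).subtype.comp e.toMonoidHom, Subtype.val_injective.comp e.injective⟩
  have hcen : ∀ u v : Q, ⁅(u : G), (v : G)⁆ ∈ C₀ := fun u v => (s.facts.elem u u.2 v v.2).2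
  have hcz : ∀ z ∈ C₀, ∀ u ∈ Q, Commute z u := fun z hz u hu =>
    (Subgroup.mem_centralizer_iff.mp (hC₀Z hz).2 u hu).symm
  have hmulL : ∀ u v w : Q, ⁅((u * v : Q) : G), (w : G)⁆ = ⁅(u : G), (w : G)⁆ * ⁅(v : G), (w : G)⁆ := by
    intro u v w
    have h1 := hcz _ (hcen v w) _ u.2
    have h2 : ⁅((u * v : Q) : G), (w : G)⁆ = (u : G) * ⁅(v : G), (w : G)⁆ * (u : G)⁻¹ * ⁅(u : G), (w : G)⁆ := by
      rw [Subgroup.coe_mul, commutatorElement_def, commutatorElement_def, commutatorElement_def]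
      group
    rw [h2, ← h1.eq, mul_inv_cancel_right, (hcz _ (hcen v w) _ (hC₀Z (hcen u w)).1).eq]
  have hmulR : ∀ u v w : Q, ⁅(u : G), ((v * w : Q) : G)⁆ = ⁅(u : G), (v : G)⁆ * ⁅(u : G), (w : G)⁆ := by
    intro u v w
    have h1 := hcz _ (hcen u w) _ v.2
    have h2 : ⁅(u : G), ((v * w : Q) : G)⁆ = ⁅(u : G), (v : G)⁆ * ((v : G) * ⁅(u : G), (w : G)⁆ * (v : G)⁻¹) := by
      rw [Subgroup.coe_mul, commutatorElement_def, commutatorElement_def, commutatorElement_def]
      group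
    rw [h2, ← h1.eq, mul_inv_cancel_right]
  let pair : Q →* (Q →* ℂˣ) := MonoidHom.mk' (fun u => MonoidHom.mk' (fun v => ι ⟨_, hcen u v⟩) fun v w => by
      rw [← map_mul]; exact congrArg ι (Subtype.ext (hmulR u v w))) fun u v => MonoidHom.ext fun w => by
    rw [MonoidHom.mul_apply]
    simp only [MonoidHom.mk'_apply]
    rw [← map_mul]; exact congrArg ι (Subtype.ext (hmulL u v w))
  have hpair : ∀ u v : Q, pair u v = 1 ↔ (u : G) * v = v * u := fun u v => by
    show ι ⟨_, hcen u v⟩ = 1 ↔ _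
    rw [map_eq_one_iff _ hι, ← commutatorElement_eq_one_iff_mul_comm]
    exact ⟨fun e => congrArg Subtype.val e, fun e => Subtype.ext e⟩
  set B' := B.subgroupOf Q
  set C' := C₀.subgroupOf Q
  -- `Q / B` embeds in the dual of `B / C₀`, and conversely
  have hBn : B'.Normal := ⟨fun b hb u => Subgroup.mem_subgroupOf.mpr (by
    have h1 := hC₀B (hcen u b)
    rw [commutatorElement_def] at h1
    have h2 := mul_mem h1 (Subgroup.mem_subgroupOf.mp hb)
    rw [inv_mul_cancel_right] at h2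
    simpa using h2)⟩
  have hCn : C'.Normal := ⟨fun z hz u => Subgroup.mem_subgroupOf.mpr (by
    have h1 : ((u * z * u⁻¹ : Q) : G) = z := by
      rw [Subgroup.coe_mul, Subgroup.coe_mul, ← (hcz _ (Subgroup.mem_subgroupOf.mp hz) _ u.2).eq,
        Subgroup.coe_inv, mul_inv_cancel_right]
    rw [h1]; exact Subgroup.mem_subgroupOf.mp hz)⟩
  have hCB : C' ≤ B' := fun z hz => Subgroup.mem_subgroupOf.mpr (hC₀B (Subgroup.mem_subgroupOf.mp hz))
  set C'' := C'.subgroupOf B'
  haveI : C''.Normal := Subgroup.Normal.subgroupOf hCn _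
  have hC''index : C''.index = C'.relIndex B' := rfl
  have hdual : ∀ (X : Type _) [CommGroup X] [Finite X], Nat.card (X →* ℂˣ) = Nat.card X := fun X _ _ =>
    CommGroup.card_monoidHom_of_hasEnoughRootsOfUnity X ℂ
  letI : CommGroup B' := { (inferInstance : Group B') with
    mul_comm := fun a b => Subtype.ext (Subtype.ext (hBc _ a.2 _ b.2)) }
  have h1 : B'.index ≤ C''.index := by
    let φ : Q →* (B' ⧸ C'' →* ℂˣ) := MonoidHom.mk' (fun u => QuotientGroup.lift C'' ((pair u).comp B'.subtype)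
      fun z hz => (hpair u z).mpr (hcz _ (Subgroup.mem_subgroupOf.mp (Subgroup.mem_subgroupOf.mp hz)) _ u.2).eq.symm)
      fun u v => by
        ext z
        simp
        rfl
    have hker : φ.ker ≤ B' := fun u hu => Subgroup.mem_subgroupOf.mpr (hBsc u u.2 fun b hb => by
      have h := DFunLike.congr_fun hu ((⟨⟨b, hBQ hb⟩, Subgroup.mem_subgroupOf.mpr hb⟩ : B') : B' ⧸ C'')
      exact (hpair u ⟨b, hBQ hb⟩).mp h)
    calc B'.index ≤ φ.ker.index := Nat.le_of_dvd (Nat.pos_of_ne_zero Subgroup.index_ne_zero_of_finite)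
          (Subgroup.index_dvd_of_le hker)
      _ ≤ Nat.card (B' ⧸ C'' →* ℂˣ) := by rw [Subgroup.index_ker]; exact Subgroup.card_le_card_group _
      _ = C''.index := by rw [hdual, C''.index_eq_card]
  have h2 : C''.index ≤ B'.index := by
    have hQB : ∀ u v : Q, ⁅(u : G), (v : G)⁆ ∈ B := fun u v => hC₀B (hcen u v)
    letI : CommGroup (Q ⧸ B') := { (inferInstance : Group (Q ⧸ B')) with
      mul_comm := fun a b => by
        obtain ⟨a, rfl⟩ := QuotientGroup.mk_surjective a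
        obtain ⟨b, rfl⟩ := QuotientGroup.mk_surjective b
        rw [← QuotientGroup.mk_mul, ← QuotientGroup.mk_mul, QuotientGroup.eq, Subgroup.mem_subgroupOf]
        have := hQB b⁻¹ a⁻¹
        rw [commutatorElement_def] at this
        simpa [mul_assoc] using this }
    let ψ : B' →* (Q ⧸ B' →* ℂˣ) := MonoidHom.mk' (fun b => QuotientGroup.lift B' (pair (b : Q))
      fun v hv => (hpair b v).mpr (hBc _ b.2 _ hv)) fun a b => by
        ext z
        simp
        rfl
    have hker : ψ.ker ≤ C'' := fun b hb => Subgroup.mem_subgroupOf.mpr (Subgroup.mem_subgroupOf.mpr (hZeq.ge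
      ⟨(b : Q).2, Subgroup.mem_centralizer_iff.mpr fun u hu => by
        have h := DFunLike.congr_fun hb ((⟨u, hu⟩ : Q) : Q ⧸ B')
        exact ((hpair b ⟨u, hu⟩).mp h).symm⟩))
    calc C''.index ≤ ψ.ker.index := Nat.le_of_dvd (Nat.pos_of_ne_zero Subgroup.index_ne_zero_of_finite)
          (Subgroup.index_dvd_of_le hker)
      _ ≤ Nat.card (Q ⧸ B' →* ℂˣ) := by rw [Subgroup.index_ker]; exact Subgroup.card_le_card_group _
      _ = B'.index := by rw [hdual, B'.index_eq_card]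
  have hidx : C'.index = B'.index * B'.index := by
    rw [← Subgroup.relIndex_mul_index hCB, ← hC''index, le_antisymm h2 h1]
  have hC'c : C'.index = q ^ Nat.card K := by
    have h3 := C'.index_mul_card
    rw [Nat.card_congr (Subgroup.subgroupOfEquivOfLe (inf_le_left : C₀ ≤ Q)).toEquiv, s.facts.card, mul_comm] at h3
    exact Nat.eq_of_mul_eq_mul_left Nat.card_pos h3
  obtain ⟨i, -, hi⟩ := (Nat.dvd_prime_pow s.split.prime).mp (hC'c ▸ (Dvd.intro _ hidx.symm : B'.index ∣ C'.index))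
  rw [hC'c, hi, ← pow_add] at hidx
  have hK2 := Nat.pow_right_injective s.split.prime.two_le hidx
  have hKodd : Odd (Nat.card K) := hG.1.of_dvd_nat (Subgroup.card_subgroup_dvd_card K)
  exact Nat.not_even_iff_odd.mpr hKodd ⟨i, hK2⟩

end Sys

end CfsgLib.OddOrder.TypeOneSplit
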