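import Cfsg.Agent.Lib.OddOrder.TypeOneSplitFacts
import Mathlib

set_option autoImplicit false
set_option linter.style.haveILetI false
set_option linter.unusedSectionVars false

/-!
The non-nilpotent configuration with `D` abelian.
-/

namespace CfsgLib.OddOrder.TypeOneSplit

open scoped commutatorElement Classical
open CfsgLib.Char
open CfsgLib.Char.Coherence (natDeg)
open TypeOneConfig (Cfg)
open TypeOneInduced (core ind)
open TypeOneAbove (above mem_above)
open StarPartner (Dstar)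

/-- The commutator subgroup of a product. -/
theorem derived_le_of {G : Type*} [Group G] {S Q D N : Subgroup G} (hS : Q ⊔ D = S)
    (hDQ : D ≤ Subgroup.normalizer (Q : Set G)) (hSN : S ≤ Subgroup.normalizer (N : Set G))
    (hQQ : ⁅Q, Q⁆ ≤ N) (hQD : ⁅Q, D⁆ ≤ N) (hDD : ⁅D, D⁆ ≤ N) : ⁅S, S⁆ ≤ N := by
  have hdec : ∀ a ∈ S, ∃ u ∈ Q, ∃ d ∈ D, a = u * d := fun a ha => by
    rw [← hS, ← SetLike.mem_coe, Subgroup.coe_mul_of_right_le_normalizer_left Q D hDQ] at ha
    obtain ⟨u, hu, d, hd, rfl⟩ := Set.mem_mul.mp ha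
    exact ⟨u, hu, d, hd, rfl⟩
  have hQS : Q ≤ S := hS ▸ le_sup_left
  have hDS : D ≤ S := hS ▸ le_sup_right
  have hconj : ∀ s ∈ S, ∀ n ∈ N, s * n * s⁻¹ ∈ N := fun s hs n hn => (Subgroup.mem_normalizer_iff.mp (hSN hs) n).mp hn
  have hright : ∀ u ∈ S, (∀ v ∈ Q, ⁅u, v⁆ ∈ N) → (∀ v ∈ D, ⁅u, v⁆ ∈ N) → ∀ b ∈ S, ⁅u, b⁆ ∈ N := by
    intro u _ h1 h2 b hb
    obtain ⟨v, hv, e, he, rfl⟩ := hdec b hb
    rw [show ⁅u, v * e⁆ = ⁅u, v⁆ * (v * ⁅u, e⁆ * v⁻¹) by simp only [commutatorElement_def]; group]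
    exact mul_mem (h1 v hv) (hconj v (hQS hv) _ (h2 e he))
  refine Subgroup.commutator_le.mpr fun a ha b hb => ?_
  obtain ⟨u, hu, d, hd, rfl⟩ := hdec a ha
  rw [show ⁅u * d, b⁆ = u * ⁅d, b⁆ * u⁻¹ * ⁅u, b⁆ by simp only [commutatorElement_def]; group]
  refine mul_mem (hconj u (hQS hu) _ (hright d (hDS hd) (fun v hv => ?_) (fun v hv =>
    hDD (Subgroup.commutator_mem_commutator hd hv)) b hb))
    (hright u (hQS hu) (fun v hv => hQQ (Subgroup.commutator_mem_commutator hu hv))
      (fun v hv => hQD (Subgroup.commutator_mem_commutator hu hv)) b hb)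
  rw [← commutatorElement_inv]
  exact inv_mem (hQD (Subgroup.commutator_mem_commutator hv hd))

variable {G : Type*} [Group G] [Fintype G] {M L A K Q D : Subgroup G} {x : G} {p q : ℕ} [Fintype L] [Fintype (core L)]

theorem Sys.main_abelian (s : Sys M L A x p K Q D q) (hG : Cfsg.IsMinSimpleOddOrder G) (c : Cfg M L A x p)
    (hD : IsMulCommutative D) : False := by
  haveI := s.Q_comm hG c
  have hoddL : Odd (Nat.card L) := hG.1.of_dvd_nat (Subgroup.card_subgroup_dvd_card _)
  have hodd := TypeOneNeighbour.core_odd (L := L) hG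
  have hk := s.kap
  have he1 := hk.index_ne_one
  have hep : 2 * (core L).index ≤ p + 1 := by
    rw [hk.index_eq]
    exact TypeOneFrobenius.two_mul_le c.prime (c.odd hG) (hk.index_eq ▸ hodd) (s.dvd_of_abelian hG c hD)
  set R := ⁅Q, D⁆ with hR
  have hRn : L ≤ Subgroup.normalizer (R : Set G) := s.L_le (Subgroup.normalizer_commutator_ge_left Q D)
    (Subgroup.normalizer_commutator_ge_right Q D)
    (CoreStructure.le_normalizer_commutator (s.split.K_le.trans s.L_norm) s.K_norm)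
  have hRS : R ≤ Cfsg.sigmaCore L := s.R_le.trans s.Q_le
  set RL : Subgroup L := R.subgroupOf L with hRL
  haveI : RL.Normal := (Subgroup.normal_subgroupOf_iff_le_normalizer (hRS.trans (SigmaTools.sigmaCore_le L))).mpr hRn
  have hRLle : RL ≤ core L := fun z hz => Subgroup.mem_subgroupOf.mpr (hRS (Subgroup.mem_subgroupOf.mp hz))
  have hder : ⁅Cfsg.sigmaCore L, Cfsg.sigmaCore L⁆ ≤ R := by
    refine derived_le_of s.QD s.D_normQ ((SigmaTools.sigmaCore_le L).trans hRn) ?_ le_rfl ?_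
    · rw [Subgroup.commutator_self_eq_bot_iff.mpr inferInstance]; exact bot_le
    · rw [Subgroup.commutator_self_eq_bot_iff.mpr hD]; exact bot_le
  have hxR : x ∉ R := fun h => c.x_ne_one
    (Subgroup.mem_bot.mp (s.disj.le ⟨s.R_le h, s.x_mem c⟩))
  -- the index
  have hidx : (RL.subgroupOf (core L)).index = Nat.card ↥(Q ⊓ Subgroup.centralizer (D : Set G)) * Nat.card D := by
    have h1 := (RL.subgroupOf (core L)).index_mul_card
    rw [Nat.card_congr (Subgroup.subgroupOfEquivOfLe hRLle).toEquiv,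
      Nat.card_congr (Subgroup.subgroupOfEquivOfLe (hRS.trans (SigmaTools.sigmaCore_le L))).toEquiv,
      TypeOneKappa.card_core, s.card_S] at h1
    have h2 := Coprime.card_sup_of_le_normalizer (N := R) (H := Q ⊓ Subgroup.centralizer (D : Set G))
      (s.Q_normalizes hG c s.R_le |> fun h => inf_le_left.trans h)
      (disjoint_iff.mpr (by rw [inf_comm]; exact s.inf_R hG c))
    rw [s.sup_R hG] at h2
    refine Nat.eq_of_mul_eq_mul_right (Nat.card_pos (α := R)) ?_
    rw [h1, h2]; ring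
  have hbig : p ^ 2 ≤ (RL.subgroupOf (core L)).index := by
    rw [hidx]
    exact (s.sq_le_D c).trans (Nat.le_mul_of_pos_left _ Nat.card_pos)
  have hlt : RL < core L := by
    refine lt_of_le_of_ne hRLle fun e => hxR ?_
    have hm : (⟨x, c.A_le_L c.mem⟩ : L) ∈ RL := by
      rw [e]; exact Subgroup.mem_subgroupOf.mpr (c.x_mem_S hG)
    exact Subgroup.mem_subgroupOf.mp hm
  -- the characters
  obtain ⟨k₀, hk₀, hk₀1⟩ := (Subgroup.bot_or_exists_ne_one (K.subgroupOf L)).resolve_left fun eK =>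
    hk.ne (Subgroup.eq_bot_of_card_eq _ (by rw [← hk.card_K, eK, Subgroup.card_bot]))
  obtain ⟨hfixall, -⟩ := hk.chars hoddL
  have hirr : ∀ θ ∈ above L RL, Cfsg.IsIrrCharacter L (ind (core L) θ) := fun θ hθ => by
    by_contra hni
    obtain ⟨h1, h2⟩ := mem_above.mp hθ
    exact (DegreeTools.ne_oneChar_iff θ).mp h1 (TypeOneKappa.eq_one_of_fixed (core L) RL (hk.coprime_orderOf hk₀)
      ((hk.fix_L hk₀ hk₀1).le.trans fun z hz => Subgroup.mem_subgroupOf.mpr
        (s.W_le_R hG c (Subgroup.mem_subgroupOf.mp hz))) hRLle θ.2 h2 (hfixall θ hni k₀ hk₀))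
  have hlin : ∀ θ ∈ above L RL, natDeg (θ : core L → ℂ) = 1 := fun θ hθ => by
    refine (Feit.trivOn_commutator_iff _ θ.2).mp fun a ha => (mem_above.mp hθ).2 a ?_
    rw [← TypeOneLine.comm_core] at ha
    exact Subgroup.mem_subgroupOf.mpr (hder (Subgroup.mem_subgroupOf.mp ha))
  have hsol : Group.IsSolvable (core L) :=
    haveI := hG.2.2.2 L c.coatomL.1
    inferInstance
  have hcount := TypeOneAbove.index_lt_linear RL hlt hsol hoddL hirr
  have hst := TypeOneAbove.stable (L := L) RL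
  have hcoh := TypeOneInduced.coherent hG c.coatomL (above L RL) hirr hst hcount
    fun θ hθ hd => absurd (hlin θ hθ) hd
  obtain ⟨θ₁, hθ₁⟩ := Finset.card_pos.mp (lt_of_le_of_lt (Nat.zero_le _) hcount)
  have hsq := TypeOneAbove.sum_sq (L := L) RL
  have hb := TypeOneInduced.contra hG c (above L RL) hirr hst hcoh
    ⟨θ₁, (Finset.mem_filter.mp hθ₁).1, (Finset.mem_filter.mp hθ₁).2⟩
    (fun g hg hg1 => TypeOneAbove.sum_mul RL fun hgR => hxR ?_) (X := (RL.subgroupOf (core L)).index - 1) (by omega) ?_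
  · rw [Nat.cast_sub (le_trans (Nat.one_le_pow _ _ c.prime.pos) hbig), Nat.cast_one] at hb
    refine TypeOneNeighbour.no_small c.prime hodd he1 hep hbig ?_ hb
    rw [hidx]
    exact (s.card_E hG).trans (Nat.mul_le_mul_right _ (Subgroup.card_le_of_le (le_inf inf_le_left (s.Cx_eq hG c hD))))
  · have hzp : Subgroup.zpowers ((g : L) : G) = Subgroup.zpowers x :=
      Subgroup.eq_of_le_of_card_ge (Subgroup.zpowers_le.mpr hg) (by
        rw [Nat.card_zpowers, Nat.card_zpowers, c.order]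
        refine le_of_eq (Eq.symm ?_)
        refine ((c.prime.eq_one_or_self_of_dvd _ ?_).resolve_left fun h1 => hg1 (orderOf_eq_one_iff.mp h1))
        rw [← c.order, ← Nat.card_zpowers x]
        exact Subgroup.orderOf_dvd_natCard _ hg)
    exact Subgroup.zpowers_le.mp (hzp ▸ Subgroup.zpowers_le.mpr (Subgroup.mem_subgroupOf.mp hgR))
  · have h1 := Nat.mul_le_mul_left (p - 1) hep
    have h2 : (p - 1) * (p + 1) + 1 = p ^ 2 := by
      obtain ⟨i, rfl⟩ : ∃ i, p = i + 1 := ⟨p - 1, by have := c.prime.one_lt; omega⟩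
      simp only [Nat.add_sub_cancel]; ring
    rw [mul_assoc, mul_comm 2, mul_assoc, mul_comm _ 2]
    omega

end CfsgLib.OddOrder.TypeOneSplit
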