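import Cfsg.Agent.Lib.OddOrder.TypeOneSplit
import Cfsg.Agent.Lib.Coprime.Abelian
import Mathlib

set_option autoImplicit false
set_option linter.style.haveILetI false
set_option linter.unusedSectionVars false

/-!
The action of `D K` on the abelian group `Q`.
-/

namespace CfsgLib.OddOrder.TypeOneSplit

open scoped commutatorElement
open TypeOneConfig (Cfg)
open StarPartner (Dstar)

variable {G : Type*} [Group G] [Finite G] {M L A K Q D : Subgroup G} {x : G} {p q : ℕ}

namespace Sys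

variable (s : Sys M L A x p K Q D q)

include s

theorem sup_R (hG : Cfsg.IsMinSimpleOddOrder G) :
    ⁅Q, D⁆ ⊔ (Q ⊓ Subgroup.centralizer (D : Set G)) = Q :=
  Coprime.commutator_sup_centralizer s.D_normQ s.cop.symm (.inl (hG.2.2.2 _ fun e => s.split.coatom.1
    (top_le_iff.mp (e ▸ s.D_le.trans (SigmaTools.sigmaCore_le L)))))

theorem R_le : ⁅Q, D⁆ ≤ Q := Subgroup.le_normalizer_iff_commutator_le_left.mp s.D_normQ

theorem inf_R (hG : Cfsg.IsMinSimpleOddOrder G) (c : Cfg M L A x p) :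
    (Q ⊓ Subgroup.centralizer (D : Set G)) ⊓ ⁅Q, D⁆ = ⊥ := by
  haveI := s.Q_comm hG c
  exact Coprime.centralizer_inf_commutator_eq_bot s.D_normQ s.cop.symm

theorem Q_ne_bot : Q ≠ ⊥ := fun e => s.facts.lt.ne (le_antisymm inf_le_left (e.le.trans bot_le))

/-- `Q` is not cyclic. -/
theorem not_cyclic : ¬ IsCyclic Q := by
  intro hc
  haveI := hc
  haveI := Fact.mk s.split.prime
  set C₀ := Q ⊓ Subgroup.centralizer (D : Set G)
  have h1 : ∀ a : Q, (a : G) ^ q ∈ C₀ := fun a => (s.facts.elem a a.2 a a.2).1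
  haveI : (C₀.subgroupOf Q).Normal := by
    letI := IsCyclic.commGroup (α := Q)
    infer_instance
  have h2 : Monoid.exponent (Q ⧸ C₀.subgroupOf Q) ∣ q := Monoid.exponent_dvd_of_forall_pow_eq_one fun v => by
    obtain ⟨a, rfl⟩ := QuotientGroup.mk_surjective v
    rw [← QuotientGroup.mk_pow, QuotientGroup.eq_one_iff, Subgroup.mem_subgroupOf, SubgroupClass.coe_pow]
    exact h1 a
  haveI : IsCyclic (Q ⧸ C₀.subgroupOf Q) := isCyclic_of_surjective (QuotientGroup.mk' _) (QuotientGroup.mk'_surjective _)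
  rw [IsCyclic.exponent_eq_card, ← Subgroup.index_eq_card] at h2
  have h3 := (C₀.subgroupOf Q).index_mul_card
  rw [Nat.card_congr (Subgroup.subgroupOfEquivOfLe (inf_le_left : C₀ ≤ Q)).toEquiv, s.facts.card, mul_comm] at h3
  rw [Nat.eq_of_mul_eq_mul_left Nat.card_pos h3] at h2
  have h4 : q ^ Nat.card K ∣ q ^ 1 := by rwa [pow_one]
  have h5 := (Nat.pow_dvd_pow_iff_le_right s.split.prime.one_lt).mp h4
  have := s.fix_prime.two_le
  omega

theorem Kfix_Q {k : G} (hk : k ∈ K) (hk1 : k ≠ 1) : Q ⊓ Subgroup.centralizer ({k} : Set G) = Dstar L K := by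
  refine le_antisymm ((inf_le_inf_right _ s.Q_le).trans (s.split.fix k hk hk1).le) (le_inf s.split.star ?_)
  exact (s.split.fix k hk hk1).ge.trans inf_le_right

/-- `C_{L_σ}(K) ≤ [Q, D]`. -/
theorem W_le_R (hG : Cfsg.IsMinSimpleOddOrder G) (c : Cfg M L A x p) : Dstar L K ≤ ⁅Q, D⁆ := by
  haveI := s.Q_comm hG c
  set R := ⁅Q, D⁆ with hR
  obtain ⟨k, hk, hkp⟩ := KappaHall.exists_prime_elem s.split.ne
  have hk1 : k ≠ 1 := fun e => hkp.ne_one (e ▸ orderOf_one)
  have hKQ : K ≤ Subgroup.normalizer (Q : Set G) := s.split.K_le.trans s.L_norm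
  have hKR : K ≤ Subgroup.normalizer (R : Set G) := CoreStructure.le_normalizer_commutator hKQ s.K_norm
  have hDR : D ≤ Subgroup.normalizer (R : Set G) := Subgroup.normalizer_commutator_ge_right Q D
  haveI : IsMulCommutative R := ⟨⟨fun a b => Subtype.ext (by
    simpa using congrArg Subtype.val ((s.Q_comm hG c).is_comm.comm (⟨a, s.R_le a.2⟩ : Q) ⟨b, s.R_le b.2⟩))⟩⟩
  have hcop : (Nat.card R).Coprime (Nat.card D) := s.cop.coprime_dvd_left (Subgroup.card_dvd_of_le s.R_le)
  have hne : R ⊓ Subgroup.centralizer ({k} : Set G) ≠ ⊥ := by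
    refine FrobeniusFixed.inf_centralizer_ne_bot (A := D) inferInstance hkp (pow_orderOf_eq_one k) (hKR hk) hDR
      (s.K_norm hk) (le_bot_iff.mp fun d hd => Subgroup.mem_bot.mpr ?_) hcop fun hc => ?_
    · exact s.K_fix hk hk1 hd.1 (Subgroup.mem_centralizer_singleton_iff.mp hd.2).symm
    · refine s.split.not_central s.compl (Subgroup.le_centralizer_iff.mp ?_)
      conv_lhs => rw [← s.sup_R hG]
      exact sup_le (Subgroup.le_centralizer_iff.mp hc) inf_le_right
  have hle : R ⊓ Subgroup.centralizer ({k} : Set G) ≤ Dstar L K :=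
    (inf_le_inf_right _ s.R_le).trans (s.Kfix_Q hk hk1).le
  refine le_trans ?_ (inf_le_left : R ⊓ Subgroup.centralizer ({k} : Set G) ≤ R)
  refine (Subgroup.eq_of_le_of_card_ge hle ?_).ge
  rcases (Nat.dvd_prime s.split.prime).mp (s.split.star_card ▸ Subgroup.card_dvd_of_le hle) with h1 | h1
  · exact absurd (Subgroup.card_eq_one.mp h1) hne
  · rw [h1, s.split.star_card]

theorem C0_fix (hG : Cfsg.IsMinSimpleOddOrder G) (c : Cfg M L A x p) {k : G} (hk : k ∈ K) (hk1 : k ≠ 1)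
    {u : G} (hu : u ∈ Q ⊓ Subgroup.centralizer (D : Set G)) (hku : Commute k u) : u = 1 := by
  have h1 : u ∈ Dstar L K := (s.Kfix_Q hk hk1).le ⟨hu.1, Subgroup.mem_centralizer_singleton_iff.mpr hku.eq.symm⟩
  exact Subgroup.mem_bot.mp ((s.inf_R hG c).le ⟨hu, s.W_le_R hG c h1⟩)

/-- The normal subgroups of `L` between `C_Q(D)` and `Q`. -/
theorem chief_eq {N : Subgroup G} (h1 : Q ⊓ Subgroup.centralizer (D : Set G) ≤ N) (h2 : N ≤ Q)
    (hn : L ≤ Subgroup.normalizer (N : Set G)) : N = Q ⊓ Subgroup.centralizer (D : Set G) ∨ N = Q := by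
  rcases eq_or_lt_of_le h1 with h | h
  · exact Or.inl h.symm
  rcases eq_or_lt_of_le h2 with h' | h'
  · exact Or.inr h'
  · exact absurd hn (s.facts.chief N h h')

theorem L_le {H : Subgroup G} (hQ : Q ≤ H) (hD : D ≤ H) (hK : K ≤ H) : L ≤ H := by
  rw [← s.split.sup, ← s.QD]
  exact sup_le (sup_le hQ hD) hK

theorem Q_normalizes (hG : Cfsg.IsMinSimpleOddOrder G) (c : Cfg M L A x p) {N : Subgroup G} (hN : N ≤ Q) :
    Q ≤ Subgroup.normalizer (N : Set G) := by
  haveI := s.Q_comm hG c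
  exact fun u hu => Subgroup.centralizer_le_normalizer _ (Subgroup.mem_centralizer_iff.mpr fun v hv =>
    congrArg Subtype.val ((s.Q_comm hG c).is_comm.comm (⟨v, hN hv⟩ : Q) ⟨u, hu⟩))

/-- `Q = [Q, K] [Q, x]`. -/
theorem gen (hG : Cfsg.IsMinSimpleOddOrder G) (c : Cfg M L A x p) :
    Q ≤ ⁅Q, K⁆ ⊔ ⁅Q, Subgroup.zpowers x⁆ := by
  haveI hQc := s.Q_comm hG c
  set X₁ := ⁅Q, K⁆ with hX₁
  set T := ⁅Q, Subgroup.zpowers x⁆ with hT
  set C₀ := Q ⊓ Subgroup.centralizer (D : Set G) with hC₀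
  have hKQ : K ≤ Subgroup.normalizer (Q : Set G) := s.split.K_le.trans s.L_norm
  have hcopK : (Nat.card K).Coprime (Nat.card Q) :=
    s.split.coprime.coprime_dvd_right (Subgroup.card_dvd_of_le s.Q_le)
  have hKs : Group.IsSolvable K := hG.2.2.2 K fun e => c.coatomL.1 (top_le_iff.mp (e ▸ s.split.K_le))
  have hX₁Q : X₁ ≤ Q := Subgroup.le_normalizer_iff_commutator_le_left.mp hKQ
  have hsupK := Coprime.commutator_sup_centralizer hKQ hcopK (.inl hKs)
  have hinfK := Coprime.centralizer_inf_commutator_eq_bot (V := Q) hKQ hcopK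
  obtain ⟨k, hk, hk1⟩ := (Subgroup.bot_or_exists_ne_one K).resolve_left s.split.ne
  have hCK : Q ⊓ Subgroup.centralizer (K : Set G) = Dstar L K :=
    le_antisymm (inf_le_inf_right _ s.Q_le) (le_inf s.split.star inf_le_right)
  rw [hCK] at hsupK hinfK
  have hC₀X : C₀ ≤ X₁ := by
    have hKC : K ≤ Subgroup.normalizer (C₀ : Set G) := s.split.K_le.trans s.facts.normal
    have h := Coprime.commutator_sup_centralizer hKC
      (hcopK.coprime_dvd_right (Subgroup.card_dvd_of_le inf_le_left)) (.inl hKs)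
    rw [show C₀ ⊓ Subgroup.centralizer (K : Set G) = ⊥ from le_bot_iff.mp fun u hu => Subgroup.mem_bot.mpr
      (s.C0_fix hG c hk hk1 hu.1 (Subgroup.mem_centralizer_iff.mp hu.2 k hk)), sup_bot_eq] at h
    rw [← h]
    exact Subgroup.commutator_mono inf_le_left le_rfl
  have hxN : Subgroup.zpowers x ≤ Subgroup.normalizer (Q : Set G) :=
    Subgroup.zpowers_le.mpr (s.D_normQ (s.x_mem c))
  have hTQ : T ≤ Q := Subgroup.le_normalizer_iff_commutator_le_left.mp hxN
  by_cases hTX : T ≤ X₁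
  swap
  · -- `X₁` has prime index
    have hlt : X₁ < X₁ ⊔ T := lt_of_le_of_ne le_sup_left fun e => hTX (le_sup_right.trans e.ge)
    conv_lhs => rw [← hsupK]
    refine sup_le le_sup_left ?_
    have hW : Dstar L K ⊓ (X₁ ⊔ T) ≠ ⊥ := by
      intro hb
      refine hlt.not_ge fun v hv => ?_
      have hvQ : v ∈ X₁ ⊔ Dstar L K := by rw [hsupK]; exact sup_le hX₁Q hTQ hv
      rw [← SetLike.mem_coe, Subgroup.coe_mul_of_right_le_normalizer_left _ _
        (s.split.star.trans (s.Q_normalizes hG c hX₁Q))] at hvQ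
      obtain ⟨a, ha, w, hw, rfl⟩ := Set.mem_mul.mp hvQ
      have hwT : w ∈ Dstar L K ⊓ (X₁ ⊔ T) := ⟨hw, by
        have := mul_mem (inv_mem (Subgroup.mem_sup_left ha : a ∈ X₁ ⊔ T)) hv
        rwa [inv_mul_cancel_left] at this⟩
      rw [hb, Subgroup.mem_bot] at hwT
      rw [hwT, mul_one]; exact ha
    refine le_trans ?_ (inf_le_right : Dstar L K ⊓ (X₁ ⊔ T) ≤ X₁ ⊔ T)
    refine (Subgroup.eq_of_le_of_card_ge inf_le_left ?_).ge
    rcases (Nat.dvd_prime s.split.prime).mp
        (s.split.star_card ▸ Subgroup.card_dvd_of_le (inf_le_left : Dstar L K ⊓ (X₁ ⊔ T) ≤ Dstar L K)) with h1 | h1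
    · exact absurd (Subgroup.card_eq_one.mp h1) hW
    · rw [h1, s.split.star_card]
  exfalso
  have hDT : D ≤ Subgroup.normalizer (T : Set G) := fun d hd => by
    refine NormalizerFusion.mem_normalizer_of_conj fun v hv => ?_
    have hgen : T ≤ (T.comap (MulAut.conj d).toMonoidHom) := by
      refine Subgroup.commutator_le.mpr fun u hu z hz => ?_
      obtain ⟨i, rfl⟩ := Subgroup.mem_zpowers_iff.mp hz
      show d * ⁅u, x ^ i⁆ * d⁻¹ ∈ T
      set w := d * x ^ i * d⁻¹ * (x ^ i)⁻¹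
      have hxiD : x ^ i ∈ D := zpow_mem (s.x_mem c) i
      have hw : w ∈ Subgroup.centralizer (Q : Set G) := by
        refine s.derived_D ?_
        have := Subgroup.commutator_mem_commutator hd hxiD
        rwa [commutatorElement_def] at this
      have hu' : d * u * d⁻¹ ∈ Q := (Subgroup.mem_normalizer_iff.mp (s.D_normQ hd) u).mp hu
      have he : d * ⁅u, x ^ i⁆ * d⁻¹ = ⁅d * u * d⁻¹, x ^ i⁆ := by
        have h2 : Commute w ((x ^ i) * (d * u * d⁻¹)⁻¹ * (x ^ i)⁻¹) :=
          (Subgroup.mem_centralizer_iff.mp hw _ ((Subgroup.mem_normalizer_iff.mp (s.D_normQ hxiD) _).mp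
            (inv_mem hu'))).symm
        calc d * ⁅u, x ^ i⁆ * d⁻¹
            = d * u * d⁻¹ * (w * (x ^ i * (d * u * d⁻¹)⁻¹ * (x ^ i)⁻¹) * w⁻¹) := by
              simp only [w, commutatorElement_def]; group
          _ = d * u * d⁻¹ * (x ^ i * (d * u * d⁻¹)⁻¹ * (x ^ i)⁻¹) := by rw [h2.eq, mul_inv_cancel_right]
          _ = _ := by rw [commutatorElement_def]; group
      rw [he]
      exact Subgroup.commutator_mem_commutator hu' (zpow_mem (Subgroup.mem_zpowers x) i)
    exact hgen hv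
  set M₀ := ⨆ (k : G) (_ : k ∈ K), T.map (MulAut.conj k).toMonoidHom with hM₀
  have hM₀X : M₀ ≤ X₁ := iSup₂_le fun k hk => by
    rintro _ ⟨v, hv, rfl⟩
    exact (Subgroup.mem_normalizer_iff.mp (CoreStructure.le_normalizer_commutator hKQ Subgroup.le_normalizer hk) v).mp
      (hTX hv)
  have hTM : T ≤ M₀ := fun v hv => Subgroup.mem_iSup_of_mem 1 (Subgroup.mem_iSup_of_mem (one_mem K) ⟨v, hv, by simp⟩)
  have hnM : ∀ g : G, (∀ k ∈ K, ∃ k' ∈ K, ∀ v ∈ T, ∃ v' ∈ T, g * (k * v * k⁻¹) * g⁻¹ = k' * v' * k'⁻¹) →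
      ∀ v ∈ M₀, g * v * g⁻¹ ∈ M₀ := by
    intro g hg v hv
    have : M₀ ≤ M₀.comap (MulAut.conj g).toMonoidHom := iSup₂_le fun k hk => by
      rintro _ ⟨t, ht, rfl⟩
      obtain ⟨k', hk', hall⟩ := hg k hk
      obtain ⟨t', ht', e⟩ := hall t ht
      show g * (k * t * k⁻¹) * g⁻¹ ∈ M₀
      rw [e]
      exact Subgroup.mem_iSup_of_mem k' (Subgroup.mem_iSup_of_mem hk' ⟨t', ht', rfl⟩)
    exact this hv
  have hN : L ≤ Subgroup.normalizer ((C₀ ⊔ M₀ : Subgroup G) : Set G) := by
    refine s.L_le (s.Q_normalizes hG c (sup_le inf_le_left (hM₀X.trans hX₁Q))) (fun d hd => ?_) fun g hg => ?_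
    · refine Subgroup.normalizer_inf_normalizer_le_normalizer_sup _ _ ⟨s.facts.normal (SigmaTools.sigmaCore_le L (s.D_le hd)),
        NormalizerFusion.mem_normalizer_of_conj (hnM d fun k hk => ⟨k, hk, fun t ht => ?_⟩)⟩
      have hd' : k⁻¹ * d * k ∈ D := ((Subgroup.mem_normalizer_iff'' (H := D)).mp (s.K_norm hk) d).mp hd
      exact ⟨_, (Subgroup.mem_normalizer_iff.mp (hDT hd') t).mp ht, by group⟩
    · refine Subgroup.normalizer_inf_normalizer_le_normalizer_sup _ _ ⟨s.facts.normal (s.split.K_le hg),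
        NormalizerFusion.mem_normalizer_of_conj (hnM g fun k hk => ⟨g * k, mul_mem hg hk, fun t ht => ?_⟩)⟩
      exact ⟨t, ht, by group⟩
  rcases s.chief_eq le_sup_left (sup_le inf_le_left (hM₀X.trans hX₁Q)) hN with h | h
  · have hTC : T ≤ C₀ := hTM.trans (le_sup_right.trans h.le)
    have hxQ : Q ≤ Subgroup.centralizer ({x} : Set G) := by
      have hcopx : (Nat.card (Subgroup.zpowers x)).Coprime (Nat.card Q) :=
        s.cop.symm.coprime_dvd_left (Subgroup.card_dvd_of_le (Subgroup.zpowers_le.mpr (s.x_mem c)))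
      have hself := Coprime.commutator_commutator_self hxN hcopx (.inl (Coprime.isSolvable_zpowers x))
      have hT1 : T = ⊥ := by
        rw [← hT] at hself
        rw [← hself, Subgroup.commutator_eq_bot_iff_le_centralizer]
        exact fun v hv => Subgroup.mem_centralizer_iff.mpr fun z hz =>
          (Subgroup.mem_centralizer_iff.mp (hTC hv).2 z (Subgroup.zpowers_le.mpr (s.x_mem c) hz))
      rw [← SigmaTools.centralizer_zpowers, ← Subgroup.commutator_eq_bot_iff_le_centralizer]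
      exact hT1
    refine s.not_cyclic ?_
    haveI := s.Cx_cyclic hG c
    exact isCyclic_of_surjective (Subgroup.subgroupOfEquivOfLe ((le_inf le_rfl hxQ).trans (s.centralizer_le_M hG c)))
      (MulEquiv.surjective _)
  · have : Q ≤ X₁ := h ▸ sup_le hC₀X hM₀X
    refine s.split.prime.ne_one ?_
    rw [← s.split.star_card]
    refine Subgroup.card_eq_one.mpr (le_bot_iff.mp fun w hw => ?_)
    exact hinfK.le ⟨hw, this (s.split.star hw)⟩

/-- The plane is normalised by `K`, and fixed point freely, when `D` is abelian. -/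
theorem K_norm_A (hG : Cfsg.IsMinSimpleOddOrder G) (c : Cfg M L A x p) (hD : IsMulCommutative D) :
    K ≤ Subgroup.normalizer (A : Set G) := fun k hk =>
  NormalizerFusion.mem_normalizer_of_conj fun a ha => by
    have hkd : k * a * k⁻¹ ∈ D := (Subgroup.mem_normalizer_iff.mp (s.K_norm hk) a).mp (s.A_le_D ha)
    refine c.mem_A hG ⟨SigmaTools.sigmaCore_le L (s.D_le hkd), c.cent (Subgroup.mem_centralizer_singleton_iff.mpr ?_)⟩ ?_
    · exact congrArg Subtype.val (hD.is_comm.comm (⟨_, hkd⟩ : D) ⟨x, s.x_mem c⟩)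
    · rw [conj_pow, c.ea.2 a ha, mul_one, mul_inv_cancel]

/-- With `D` abelian the fixed points of the plane on `Q` are central. -/
theorem Cx_eq (hG : Cfsg.IsMinSimpleOddOrder G) (c : Cfg M L A x p) (hD : IsMulCommutative D) :
    Q ⊓ M ≤ Subgroup.centralizer (D : Set G) := by
  set C := Q ⊓ Subgroup.centralizer (A : Set G) with hC
  have hle : Q ⊓ M ≤ C := le_inf inf_le_left (s.inter_Q hG c)
  have hC₀ : Q ⊓ Subgroup.centralizer (D : Set G) ≤ C := inf_le_inf_left _ (Subgroup.centralizer_le s.A_le_D)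
  have hn : L ≤ Subgroup.normalizer (C : Set G) := by
    refine s.L_le (s.Q_normalizes hG c inf_le_left) ?_ ?_
    · refine (le_inf s.D_normQ (CoreStructure.le_normalizer_centralizer fun d hd =>
        Subgroup.centralizer_le_normalizer _ (Subgroup.mem_centralizer_iff.mpr fun a ha =>
          congrArg Subtype.val (hD.is_comm.comm (⟨a, s.A_le_D ha⟩ : D) ⟨d, hd⟩)))).trans
        Subgroup.inf_normalizer_le_normalizer_inf
    · exact (le_inf (s.split.K_le.trans s.L_norm)
        (CoreStructure.le_normalizer_centralizer (s.K_norm_A hG c hD))).trans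
        Subgroup.inf_normalizer_le_normalizer_inf
  rcases s.chief_eq hC₀ inf_le_left hn with h | h
  · exact hle.trans (h.le.trans inf_le_right)
  · exfalso
    refine s.not_cyclic ?_
    haveI := s.Cx_cyclic hG c
    have hQ : Q ≤ Q ⊓ Subgroup.centralizer ({x} : Set G) := le_inf le_rfl fun u hu =>
      Subgroup.mem_centralizer_singleton_iff.mpr
        (Subgroup.mem_centralizer_iff.mp (h.ge hu).2 x c.mem).symm
    exact isCyclic_of_surjective (Subgroup.subgroupOfEquivOfLe (hQ.trans (s.centralizer_le_M hG c)))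
      (MulEquiv.surjective _)

theorem dvd_of_abelian (hG : Cfsg.IsMinSimpleOddOrder G) (c : Cfg M L A x p) (hD : IsMulCommutative D) :
    Nat.card K ∣ p - 1 ∨ Nat.card K ∣ p + 1 := by
  refine TypeOneFrobenius.card_dvd_plane hG c s.E_le s.split.K_le (s.K_norm_A hG c hD)
    (by rw [inf_comm]; exact Subgroup.inf_eq_bot_of_coprime s.split.coprime.symm) s.split.cyclic
    fun k hk hk1 a ha hka => s.K_fix hk hk1 (s.A_le_D ha) hka

/-- A non-abelian `D` has a central line normalised by `K`. -/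
theorem dvd_of_nonabelian (hG : Cfsg.IsMinSimpleOddOrder G) (c : Cfg M L A x p) (hD : ¬ IsMulCommutative D) :
    Nat.card K ∣ p - 1 := by
  haveI := Fact.mk c.prime
  haveI hDn := s.nilD
  set Z : Subgroup G :=
    { carrier := {z | z ∈ D ∧ z ∈ Subgroup.centralizer (D : Set G) ∧ z ^ p = 1}
      one_mem' := ⟨one_mem _, one_mem _, one_pow p⟩
      mul_mem' := fun {a b} ha hb => ⟨mul_mem ha.1 hb.1, mul_mem ha.2.1 hb.2.1, by
        rw [Commute.mul_pow (Subgroup.mem_centralizer_iff.mp hb.2.1 a ha.1) p, ha.2.2, hb.2.2, one_mul]⟩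
      inv_mem' := fun {a} ha => ⟨inv_mem ha.1, inv_mem ha.2.1, by rw [inv_pow, ha.2.2, inv_one]⟩ }
  have hZA : Z ≤ A := fun z hz => c.mem_A hG
    ⟨SigmaTools.sigmaCore_le L (s.D_le hz.1), c.cent (Subgroup.mem_centralizer_singleton_iff.mpr
      (Subgroup.mem_centralizer_iff.mp hz.2.1 x (s.x_mem c)).symm)⟩ hz.2.2
  have hne : Z ≠ ⊥ := by
    obtain ⟨P⟩ : Nonempty (Sylow p D) := inferInstance
    have hPne : (P : Subgroup D) ≠ ⊥ := Sylow.ne_bot_of_dvd_card P
      (c.order ▸ Subgroup.orderOf_dvd_natCard _ (s.x_mem c))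
    have h2 := Solvable.FrattiniFitting.inf_center_ne_bot (P : Subgroup D) hPne
    obtain ⟨z, hz⟩ := exists_prime_orderOf_dvd_card' (G := ↥((P : Subgroup D) ⊓ Subgroup.center D)) p
      ((P.isPGroup'.to_le inf_le_left).card_eq_or_dvd.resolve_left fun e => h2 (Subgroup.eq_bot_of_card_eq _ e))
    intro hb
    have hm : ((z : D) : G) ∈ Z := ⟨(z : D).2, Subgroup.mem_centralizer_iff.mpr fun a ha =>
      congrArg Subtype.val (Subgroup.mem_center_iff.mp z.2.2 ⟨a, ha⟩), by
        rw [← Subgroup.coe_pow, ← Subgroup.coe_pow, orderOf_dvd_iff_pow_eq_one.mp hz.dvd]; rfl⟩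
    rw [hb, Subgroup.mem_bot] at hm
    rw [show z = 1 from Subtype.ext (Subtype.ext hm), orderOf_one] at hz
    exact c.prime.ne_one hz.symm
  have hZc : Nat.card Z = p := by
    obtain ⟨j, hj2, hj⟩ := (Nat.dvd_prime_pow c.prime).mp (c.card ▸ Subgroup.card_dvd_of_le hZA)
    interval_cases j
    · exact absurd (Subgroup.eq_bot_of_card_eq _ (by rw [hj, pow_zero])) hne
    · rw [hj, pow_one]
    · exfalso
      have hAZ : Z = A := Subgroup.eq_of_le_of_card_ge hZA (by rw [hj, c.card])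
      refine hD (TypeOneNeighbour.abelian_E hG c (le_trans (fun d hd => ?_) (c.centralizer_A hG)) hDn)
      exact Subgroup.mem_centralizer_iff.mpr fun a ha => (Subgroup.mem_centralizer_iff.mp (hAZ.ge ha).2.1 d hd).symm
  refine FittingNonTI.card_dvd_sub_one c.prime hZc (fun k hk => NormalizerFusion.mem_normalizer_of_conj fun z hz =>
    ⟨(Subgroup.mem_normalizer_iff.mp (s.K_norm hk) z).mp hz.1,
      (Subgroup.mem_normalizer_iff.mp (CoreStructure.le_normalizer_centralizer s.K_norm hk) z).mp hz.2.1,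
      by rw [conj_pow, hz.2.2, mul_one, mul_inv_cancel]⟩) (le_bot_iff.mp fun k hk => Subgroup.mem_bot.mpr ?_)
  by_contra hk1
  obtain ⟨z, hz, hz1⟩ := (Subgroup.bot_or_exists_ne_one Z).resolve_left hne
  exact hz1 (s.K_fix hk.1 hk1 hz.1 (Subgroup.mem_centralizer_iff.mp hk.2 z hz).symm)

end Sys

end CfsgLib.OddOrder.TypeOneSplit
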