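import Cfsg.Agent.Lib.OddOrder.SCNUniqueMain
import Cfsg.Agent.S1399

set_option autoImplicit false

/-!
The uniqueness theorem: elementary abelian subgroups of rank three are contained in a unique maximal subgroup.
-/

namespace CfsgLib.OddOrder.UniquenessTheorem

variable {G : Type*} [Group G] [Finite G]

theorem rank_three {q : ℕ} [hq : Fact q.Prime] (hG : Cfsg.IsMinSimpleOddOrder G) {E : Subgroup G}
    (hEe : Cfsg.IsElementaryAbelian q E) (hE3 : q ^ 3 ≤ Nat.card E) : Cfsg.InUniqueMaximal E := by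
  have hr : ¬ Cfsg.PRankLE q 2 E := UniqueTools.not_pRankLE_of_isEA hEe hE3 le_rfl
  have hq2 := UniqueTools.ne_two hG.1 hr
  obtain ⟨S, hS⟩ := (Fusion.Thompson.isPGroup_isEA hEe).exists_le_sylow
  obtain ⟨A, hA, hA3⟩ := SCN3.exists_isSCN_three hq2 _ S.isPGroup'
    (UniqueTools.not_pRankLE_of_isEA hEe hE3 hS)
  exact UniqueTools.rank_three_unique hG hq2 (S.isPGroup'.to_le hA.1) (SCNTransitivity.isMulCommutative_of_scn hA)
    hA3 (SCNUnique.unique hG hA hA3) hEe hE3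

theorem main (hG : Cfsg.IsMinSimpleOddOrder G) {K : Subgroup G} (hK : K ≠ ⊤) (hK2 : ¬ Cfsg.RankLE 1 K)
    (hK3 : ¬ Cfsg.RankLE 2 K ∨ ¬ Cfsg.RankLE 2 (Subgroup.centralizer (K : Set G))) :
    Cfsg.InUniqueMaximal K := by
  have key : ∀ X : Subgroup G, ¬ Cfsg.RankLE 2 X → ∃ E : Subgroup G, E ≤ X ∧ Cfsg.InUniqueMaximal E := by
    intro X hX
    rw [Cfsg.RankLE] at hX
    push Not at hX
    obtain ⟨q, hq, hX⟩ := hX
    haveI := Fact.mk hq
    obtain ⟨E, hEX, hEe, hE3⟩ := UniqueTools.exists_isEA_of_not_rankLE hX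
    exact ⟨E, hEX, rank_three hG hEe hE3⟩
  rcases hK3 with h | h
  · obtain ⟨E, hEK, hEU⟩ := key K h
    exact UniqueTools.unique_mono hEU hEK hK
  · obtain ⟨E, hEC, hEU⟩ := key _ h
    exact Cfsg.Agent.S1399.result hG E K hEU (Subgroup.le_centralizer_iff.mp hEC) hK2

end CfsgLib.OddOrder.UniquenessTheorem
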